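import Groth.Agent.Lib.Helper3.Henselian2

/-!
# Étale-local algebras with trivial residue extension (helper3)

* `exists_elem_of_unramified_section`: the "separability element" of an unramified algebra,
  pushed forward along an `R`-algebra map `σ : T → K`.
* `exists_quotient_pow_bijective_of_etale_local`: if `S` is a local ring of an étale `R`-algebra
  (`R` local) with trivial residue field extension, then `R/tⁿ ≅ S/tⁿS` for some `t ∈ 𝔪_R`.
-/

set_option autoImplicit false
set_option linter.style.haveILetI false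
set_option linter.unusedSectionVars false

universe u

namespace Groth.Agent.Lib.Helper3

open TensorProduct Polynomial

section Sep

variable {R T K : Type u} [CommRing R] [CommRing T] [Algebra R T]
  [Algebra.FormallyUnramified R T] [Algebra.EssFiniteType R T] [CommRing K] [Algebra R K]

/-- Push-forward of the separability element along `σ : T → K`. -/
theorem exists_elem_of_unramified_section (σ : T →ₐ[R] K) :
    ∃ ε : T ⊗[R] K, (∀ s : T, ((1 : T) ⊗ₜ[R] σ s - s ⊗ₜ[R] (1 : K)) * ε = 0) ∧
      Algebra.TensorProduct.lift σ (AlgHom.id R K) (fun _ _ => Commute.all _ _) ε = 1 := by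
  let φ : T ⊗[R] T →ₐ[R] T ⊗[R] K := Algebra.TensorProduct.map (AlgHom.id R T) σ
  refine ⟨φ (Algebra.FormallyUnramified.elem R T), fun s => ?_, ?_⟩
  · have h := Algebra.FormallyUnramified.one_tmul_sub_tmul_one_mul_elem (R := R) (S := T) s
    have h2 := congrArg φ h
    rw [map_mul, map_zero, map_sub] at h2
    simpa [φ] using h2
  · have hcomp : (Algebra.TensorProduct.lift σ (AlgHom.id R K) (fun _ _ => Commute.all _ _)).comp φ
        = σ.comp (Algebra.TensorProduct.lmul' R) := by
      apply Algebra.TensorProduct.ext'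
      intro a b
      simp [φ]
    have := DFunLike.congr_fun hcomp (Algebra.FormallyUnramified.elem R T)
    simp only [AlgHom.comp_apply] at this
    rw [this, Algebra.FormallyUnramified.lmul_elem, map_one]

end Sep

section Main

open IsLocalRing

/-- congruence of polynomial values modulo an ideal. -/
theorem aeval_sub_aeval_mem {R S : Type*} [CommRing R] [CommRing S] [Algebra R S] (J : Ideal S)
    (p : R[X]) {x y : S} (h : x - y ∈ J) : aeval x p - aeval y p ∈ J := by
  have hdvd : x - y ∣ aeval x p - aeval y p := by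
    rw [aeval_def, aeval_def, ← eval_map, ← eval_map]
    exact sub_dvd_eval_sub _ _ _
  obtain ⟨c, hc⟩ := hdvd
  rw [hc]
  exact J.mul_mem_right _ h

theorem exists_quotient_pow_bijective_of_etale_local
    (R : Type u) [CommRing R] [IsLocalRing R] (T : Type u) [CommRing T] [Algebra R T]
    [Algebra.Etale R T] (q : Ideal T) [q.IsPrime] (S : Type u) [CommRing S] [IsLocalRing S]
    [Algebra T S] [IsLocalization.AtPrime S q] [Algebra R S] [IsScalarTower R T S]
    [IsLocalHom (algebraMap R S)]
    (hres : Function.Bijective (IsLocalRing.ResidueField.map (algebraMap R S))) :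
    ∃ t ∈ IsLocalRing.maximalIdeal R, ∀ n : ℕ, 1 ≤ n →
      Function.Bijective (Ideal.quotientMap ((Ideal.span {t ^ n}).map (algebraMap R S))
        (algebraMap R S) Ideal.le_comap_map) := by
  classical
  -- Step 1: a standard étale neighbourhood
  obtain ⟨g₀, hg₀, hstd⟩ := Algebra.IsEtaleAt.exists_isStandardEtale (R := R) q
  let T' := Localization.Away g₀
  let P : StandardEtalePresentation R T' := hstd.nonempty_standardEtalePresentation.some
  have hunit₀ : ∀ y : Submonoid.powers g₀, IsUnit ((IsScalarTower.toAlgHom R T S) y) := by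
    rintro ⟨_, k, rfl⟩
    rw [map_pow]
    refine IsUnit.pow _ ?_
    exact IsLocalization.map_units S (⟨g₀, hg₀⟩ : q.primeCompl)
  let lam : T' →ₐ[R] S := IsLocalization.liftAlgHom (M := Submonoid.powers g₀)
    (f := IsScalarTower.toAlgHom R T S) hunit₀
  have hlam : ∀ x : T, lam (algebraMap T T' x) = algebraMap T S x := by
    intro x
    simp [lam]
  -- Step 2: the point `a`
  set xS : S := lam P.x with hxS
  obtain ⟨abar, habar⟩ := hres.2 (residue S xS)
  obtain ⟨a, rfl⟩ := residue_surjective abar
  have hxa : xS - algebraMap R S a ∈ maximalIdeal S := by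
    rw [← residue_eq_zero_iff, map_sub, sub_eq_zero, ← habar]
    rfl
  have hpoly : ∀ p : R[X], lam (aeval P.x p) - algebraMap R S (p.eval a) ∈ maximalIdeal S := by
    intro p
    have h1 : lam (aeval P.x p) = aeval xS p := by
      rw [← Polynomial.aeval_algHom_apply]
    have h2 : algebraMap R S (p.eval a) = aeval (algebraMap R S a) p := by
      rw [aeval_algebraMap_apply, coe_aeval_eq_eval]
    rw [h1, h2]
    exact aeval_sub_aeval_mem _ p hxa
  have hunit_of : ∀ p : R[X], IsUnit (aeval P.x p) → IsUnit (p.eval a) := by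
    intro p hp
    have h1 : IsUnit (lam (aeval P.x p)) := hp.map lam
    have h2 : IsUnit (algebraMap R S (p.eval a)) := by
      by_contra hcon
      have h3 : algebraMap R S (p.eval a) ∈ maximalIdeal S := (mem_maximalIdeal _).mpr hcon
      have h4 := (maximalIdeal S).add_mem (hpoly p) h3
      rw [sub_add_cancel] at h4
      exact (mem_maximalIdeal _).mp h4 h1
    exact (isUnit_map_iff (algebraMap R S) _).mp h2
  set t : R := P.f.eval a with ht
  have htm : t ∈ maximalIdeal R := by
    rw [mem_maximalIdeal, mem_nonunits_iff]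
    intro hu
    have h1 := hpoly P.f
    rw [P.hasMap.1, map_zero, zero_sub, neg_mem_iff] at h1
    exact (mem_maximalIdeal _).mp h1 (hu.map (algebraMap R S))
  have hgu : IsUnit (P.g.eval a) := hunit_of _ P.hasMap.2
  have hfu : IsUnit (P.f.derivative.eval a) := hunit_of _ P.hasMap.isUnit_derivative_f
  refine ⟨t, htm, fun n hn => ?_⟩
  -- Step 3: the root in `K = R/tⁿ`
  set In : Ideal R := Ideal.span {t ^ n} with hIn
  let K := R ⧸ In
  let mkK : R →+* K := Ideal.Quotient.mk In
  set IK : Ideal K := Ideal.span {mkK t} with hIK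
  have hIKnil : ∀ x ∈ IK, IsNilpotent x := by
    intro x hx
    obtain ⟨c, rfl⟩ := Ideal.mem_span_singleton'.mp hx
    refine ⟨n, ?_⟩
    rw [mul_pow, ← map_pow]
    have : mkK (t ^ n) = 0 :=
      Ideal.Quotient.eq_zero_iff_mem.mpr (Ideal.subset_span (Set.mem_singleton _))
    rw [this, mul_zero]
  haveI hHK : HenselianRing K IK := henselianRing_of_nil IK hIKnil
  have hevalK : ∀ p : R[X], (p.map mkK).eval (mkK a) = mkK (p.eval a) := by
    intro p
    rw [eval_map, eval₂_at_apply]
  obtain ⟨an, han, hana⟩ := HenselianRing.is_henselian (R := K) (I := IK) (P.f.map mkK)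
    (P.monic_f.map _) (mkK a)
    (by rw [hevalK]; exact Ideal.subset_span (Set.mem_singleton _))
    (by
      rw [derivative_map, hevalK]
      exact (hfu.map mkK).map _)
  have haevalK : ∀ (p : R[X]) (y : K), aeval y p = (p.map mkK).eval y := by
    intro p y
    rw [aeval_def, eval_map]
    rfl
  have hmapan : P.HasMap an := by
    refine ⟨?_, ?_⟩
    · rw [haevalK]; exact han
    · have h1 : aeval an P.g - aeval (mkK a) P.g ∈ IK := aeval_sub_aeval_mem IK P.g hana
      have h2 : IsUnit (aeval (mkK a) P.g) := by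
        rw [haevalK, hevalK]; exact hgu.map mkK
      have h3 := isUnit_add_of_mem_jacobson_bot h2 (hHK.jac h1)
      rwa [add_sub_cancel] at h3
  let σ : T' →ₐ[R] K := (P.lift an hmapan).comp P.equivRing.toAlgHom
  have hσx : σ P.x = an := by
    simp [σ]
  -- Step 4: compatibility with residue fields
  let κS := ResidueField S
  set Jn : Ideal S := In.map (algebraMap R S) with hJn
  let Q := S ⧸ Jn
  have hInm : In ≤ maximalIdeal R := by
    rw [hIn, Ideal.span_le, Set.singleton_subset_iff]
    exact Ideal.pow_mem_of_mem _ htm n hn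
  have hmS : ∀ r ∈ maximalIdeal R, algebraMap R S r ∈ maximalIdeal S := by
    intro r hr
    rw [mem_maximalIdeal, mem_nonunits_iff]
    intro hu
    exact (mem_maximalIdeal r).mp hr ((isUnit_map_iff _ _).mp hu)
  have hJnm : Jn ≤ maximalIdeal S := by
    rw [hJn, Ideal.map_le_iff_le_comap]
    intro r hr
    exact hmS r (hInm hr)
  have halgκ : ∀ r : R, algebraMap R κS r = residue S (algebraMap R S r) := fun r => rfl
  let ρK : K →ₐ[R] κS := Ideal.Quotient.liftₐ In (Algebra.ofId R κS) (by
    intro r hr
    change algebraMap R κS r = 0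
    rw [halgκ, residue_eq_zero_iff]
    exact hmS r (hInm hr))
  have hρK : ∀ r : R, ρK (mkK r) = residue S (algebraMap R S r) := fun r => rfl
  have hρKIK : ∀ z ∈ IK, ρK z = 0 := by
    intro z hz
    obtain ⟨c, rfl⟩ := Ideal.mem_span_singleton'.mp hz
    rw [map_mul, hρK, (residue_eq_zero_iff _).mpr (hmS t htm), mul_zero]
  have hα : (IsScalarTower.toAlgHom R S κS).comp lam = ρK.comp σ := by
    apply P.hom_ext
    change residue S xS = ρK (σ P.x)
    rw [hσx]
    have h1 : ρK an = ρK (mkK a) := by
      rw [← sub_eq_zero, ← map_sub]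
      exact hρKIK _ hana
    rw [h1, hρK, ← sub_eq_zero, ← map_sub, residue_eq_zero_iff]
    exact hxa
  have hα' : ∀ x : T', residue S (lam x) = ρK (σ x) := fun x => DFunLike.congr_fun hα x
  -- Step 5: the kernel of `σ` dies in `S/tⁿS`
  let κr : K →+* Q := Ideal.quotientMap Jn (algebraMap R S) Ideal.le_comap_map
  let κ0 : K →ₐ[R] Q := { κr with commutes' := fun r => rfl }
  have hκ0 : ∀ r : R, κ0 (mkK r) = Ideal.Quotient.mk Jn (algebraMap R S r) := fun r => rfl
  let ρQ : Q →ₐ[R] κS := Ideal.Quotient.liftₐ Jn (IsScalarTower.toAlgHom R S κS) (by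
    intro s hs
    change residue S s = 0
    rw [residue_eq_zero_iff]
    exact hJnm hs)
  have hρQ : ∀ s : S, ρQ (Ideal.Quotient.mk Jn s) = residue S s := fun s => rfl
  haveI : Algebra.Etale R T' := inferInstance
  let ψ : T' ⊗[R] K →ₐ[R] Q :=
    Algebra.TensorProduct.lift ((Ideal.Quotient.mkₐ R Jn).comp lam) κ0 (fun _ _ => Commute.all _ _)
  obtain ⟨ε, hε1, hε2⟩ := exists_elem_of_unramified_section σ
  have hcomp : ρQ.comp ψ = ρK.comp
      (Algebra.TensorProduct.lift σ (AlgHom.id R K) (fun _ _ => Commute.all _ _)) := by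
    apply Algebra.TensorProduct.ext'
    intro x b
    obtain ⟨r, rfl⟩ := Ideal.Quotient.mk_surjective b
    simp only [AlgHom.comp_apply, ψ, Algebra.TensorProduct.lift_tmul, map_mul, AlgHom.id_apply]
    congr 1
    exact hα' x
  have hψε : IsUnit (ψ ε) := by
    obtain ⟨su, hsu⟩ := Ideal.Quotient.mk_surjective (ψ ε)
    have h1 : ρQ (ψ ε) = 1 := by
      have := DFunLike.congr_fun hcomp ε
      simp only [AlgHom.comp_apply] at this
      rw [this, hε2, map_one]
    rw [← hsu, hρQ] at h1
    have h2 : IsUnit su := by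
      rw [← residue_ne_zero_iff_isUnit, h1]
      exact one_ne_zero
    rw [← hsu]
    exact h2.map _
  have hker : ∀ y : T', σ y = 0 → lam y ∈ Jn := by
    intro y hy
    have h1 := congrArg ψ (hε1 y)
    rw [hy, map_mul, map_zero, map_sub] at h1
    simp only [ψ, Algebra.TensorProduct.lift_tmul, map_zero, map_one, mul_one, mul_zero,
      zero_sub, AlgHom.comp_apply] at h1
    have h2 := (hψε.mul_left_eq_zero).mp h1
    rw [neg_eq_zero] at h2
    exact Ideal.Quotient.eq_zero_iff_mem.mp h2
  have hT' : ∀ x' : T', ∃ r : R, lam x' - algebraMap R S r ∈ Jn := by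
    intro x'
    obtain ⟨r, hr⟩ := Ideal.Quotient.mk_surjective (σ x')
    refine ⟨r, ?_⟩
    have h1 : σ (x' - algebraMap R T' r) = 0 := by
      rw [map_sub, AlgHom.commutes, ← hr]
      exact sub_self _
    have h2 := hker _ h1
    rwa [map_sub, AlgHom.commutes] at h2
  refine ⟨?_, ?_⟩
  · -- injectivity: faithful flatness
    haveI : Module.Flat R T := inferInstance
    haveI : Module.Flat T S := IsLocalization.flat S q.primeCompl
    haveI : Module.Flat R S := Module.Flat.trans R T S
    haveI : Module.FaithfullyFlat R S := Module.FaithfullyFlat.of_flat_of_isLocalHom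
    apply Ideal.quotientMap_injective'
    rw [Ideal.comap_map_eq_self_of_faithfullyFlat]
  · -- surjectivity
    intro z
    obtain ⟨s, rfl⟩ := Ideal.Quotient.mk_surjective z
    obtain ⟨x, u, rfl⟩ := IsLocalization.exists_mk'_eq q.primeCompl s
    obtain ⟨rx, hrx⟩ := hT' (algebraMap T T' x)
    obtain ⟨ru, hru⟩ := hT' (algebraMap T T' (u : T))
    rw [hlam] at hrx hru
    have huS : IsUnit (algebraMap T S (u : T)) := IsLocalization.map_units S u
    have hruS : IsUnit (algebraMap R S ru) := by
      by_contra hcon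
      have h3 : algebraMap R S ru ∈ maximalIdeal S := (mem_maximalIdeal _).mpr hcon
      have h4 := (maximalIdeal S).add_mem (hJnm hru) h3
      rw [sub_add_cancel] at h4
      exact (mem_maximalIdeal _).mp h4 huS
    have hruR : IsUnit ru := (isUnit_map_iff (algebraMap R S) _).mp hruS
    obtain ⟨v, hv⟩ := hruR
    refine ⟨mkK (rx * ↑v⁻¹), ?_⟩
    change Ideal.Quotient.mk Jn (algebraMap R S (rx * ↑v⁻¹)) = _
    have h5 : Ideal.Quotient.mk Jn (algebraMap T S x) = Ideal.Quotient.mk Jn (algebraMap R S rx) :=
      Ideal.Quotient.eq.mpr hrx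
    have h6 : Ideal.Quotient.mk Jn (algebraMap T S (u : T)) =
        Ideal.Quotient.mk Jn (algebraMap R S ru) := Ideal.Quotient.eq.mpr hru
    have h7 : IsLocalization.mk' S x u * algebraMap T S (u : T) = algebraMap T S x :=
      IsLocalization.mk'_spec S x u
    have h8 := congrArg (Ideal.Quotient.mk Jn) h7
    rw [map_mul, h5, h6] at h8
    have h9 : algebraMap R S ru * algebraMap R S (↑v⁻¹ : R) = 1 := by
      rw [← map_mul, ← hv, Units.mul_inv, map_one]
    rw [map_mul, map_mul, ← h8, mul_assoc, ← map_mul (Ideal.Quotient.mk Jn), h9, map_one, mul_one]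

end Main

end Groth.Agent.Lib.Helper3
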