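import Mathlib

/-!
# Étale algebras lift along surjections (Stacks 04D1) (helper3)

`exists_etale_lift_of_quotient`: for an ideal `I` of `A` and an étale `A/I`-algebra `C` there is an
étale `A`-algebra `B` with a surjection `B → C` with kernel `IB`, compatible with `A → A/I`.
The algebra `B` is `A[X_ι]/(v_σ)` localized at its Jacobian (`JacLoc`), where the `v_σ` lift the
relations of a submersive presentation of `C` of relative dimension zero.
-/

set_option autoImplicit false

open MvPolynomial

namespace Groth.Agent.Lib.Helper3

universe u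

section

variable {A : Type u} [CommRing A] {ι σ : Type} [Finite ι] [Finite σ]
  (v : σ → MvPolynomial ι A) (a : σ → ι) (ha : Function.Injective a)

/-- The naive pre-submersive presentation of `A[X_ι]/(v)`. -/
noncomputable abbrev naivePres :
    Algebra.PreSubmersivePresentation A (MvPolynomial ι A ⧸ Ideal.span (Set.range v)) ι σ :=
  Algebra.PreSubmersivePresentation.naive a ha

/-- The localization of `A[X_ι]/(v)` at the Jacobian. -/
abbrev JacLoc : Type u := Localization.Away (naivePres v a ha).jacobian

/-- `A[X_ι]/(v_σ)` localized at the Jacobian determinant w.r.t. the variables `a` is standard smooth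
of relative dimension `card ι - card σ`. -/
noncomputable def jacLocPres :
    Algebra.SubmersivePresentation A (JacLoc v a ha) (Unit ⊕ ι) (Unit ⊕ σ) where
  toPreSubmersivePresentation :=
    .comp (.localizationAway (JacLoc v a ha) (naivePres v a ha).jacobian) (naivePres v a ha)
  jacobian_isUnit := by
    rw [Algebra.PreSubmersivePresentation.comp_jacobian_eq_jacobian_smul_jacobian,
      Algebra.PreSubmersivePresentation.localizationAway_jacobian, Algebra.smul_def]
    have h := IsLocalization.Away.algebraMap_isUnit (S := JacLoc v a ha)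
      (naivePres v a ha).jacobian
    exact h.mul h

theorem etale_jacLoc (hcard : Nat.card ι = Nat.card σ) : Algebra.Etale A (JacLoc v a ha) := by
  have hdim : (jacLocPres v a ha).dimension = 0 := by
    simp [Algebra.Presentation.dimension, Nat.card_sum, hcard]
  have : Algebra.IsStandardSmoothOfRelativeDimension 0 A (JacLoc v a ha) :=
    (jacLocPres v a ha).isStandardSmoothOfRelativeDimension hdim
  infer_instance

end

/-- **Étale algebras lift along surjections** (Stacks 04D1): every étale `A/I`-algebra `C` is
`B/IB` for some étale `A`-algebra `B`. -/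
theorem exists_etale_lift_of_quotient {A : Type u} [CommRing A] (I : Ideal A) (C : Type u)
    [CommRing C] [Algebra (A ⧸ I) C] [Algebra.Etale (A ⧸ I) C] :
    ∃ (B : Type u) (_ : CommRing B) (_ : Algebra A B), Algebra.Etale A B ∧
      ∃ ψ : B →+* C, Function.Surjective ψ ∧ RingHom.ker ψ = I.map (algebraMap A B) ∧
        ∀ x, ψ (algebraMap A B x) = algebraMap (A ⧸ I) C (Ideal.Quotient.mk I x) := by
  classical
  obtain ⟨ι, σ, hσ, hι, P, hdim⟩ :=
    (Algebra.Etale.iff_isStandardSmoothOfRelativeDimension_zero.mp
      (inferInstance : Algebra.Etale (A ⧸ I) C)).out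
  have := Fintype.ofFinite σ
  have hcard : Nat.card ι = Nat.card σ := by
    have h1 := P.card_relations_le_card_vars_of_isFinite
    have h2 : Nat.card ι - Nat.card σ = 0 := hdim
    omega
  choose v hv using fun j => MvPolynomial.map_surjective (Ideal.Quotient.mk I)
    Ideal.Quotient.mk_surjective (P.relation j)
  let a := P.map
  have ha := P.map_inj
  let mapI : MvPolynomial ι A →+* MvPolynomial ι (A ⧸ I) := MvPolynomial.map (Ideal.Quotient.mk I)
  let φ : MvPolynomial ι A →+* C := (aeval P.val : MvPolynomial ι (A ⧸ I) →ₐ[A ⧸ I] C).toRingHom.comp mapI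
  have hφv : ∀ j, φ (v j) = 0 := by
    intro j
    change aeval P.val (MvPolynomial.map (Ideal.Quotient.mk I) (v j)) = 0
    rw [hv, P.aeval_val_relation]
  let φD : (MvPolynomial ι A ⧸ Ideal.span (Set.range v)) →+* C :=
    Ideal.Quotient.lift _ φ (by
      intro x hx
      have : Ideal.span (Set.range v) ≤ RingHom.ker φ := by
        rw [Ideal.span_le]
        rintro _ ⟨j, rfl⟩
        exact hφv j
      exact this hx)
  have hφD : ∀ p, φD (Ideal.Quotient.mk _ p) = φ p := fun p => rfl
  -- the Jacobian maps to the Jacobian
  have hjac : φD (naivePres v a ha).jacobian = P.jacobian := by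
    rw [Algebra.PreSubmersivePresentation.jacobian_eq_jacobiMatrix_det,
      Algebra.PreSubmersivePresentation.jacobian_eq_jacobiMatrix_det]
    have h0 : algebraMap (naivePres v a ha).Ring
        (MvPolynomial ι A ⧸ Ideal.span (Set.range v)) (naivePres v a ha).jacobiMatrix.det =
        Ideal.Quotient.mk _ (naivePres v a ha).jacobiMatrix.det := rfl
    rw [h0, hφD, Algebra.Generators.algebraMap_apply]
    rw [RingHom.map_det]
    change _ = (aeval P.val : MvPolynomial ι (A ⧸ I) →ₐ[A ⧸ I] C).toRingHom P.jacobiMatrix.det
    rw [RingHom.map_det]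
    congr 1
    ext i j
    simp only [RingHom.mapMatrix_apply, Matrix.map_apply,
      Algebra.PreSubmersivePresentation.jacobiMatrix_apply]
    change aeval P.val (MvPolynomial.map (Ideal.Quotient.mk I) (pderiv (a i) (v j))) = _
    rw [← MvPolynomial.pderiv_map, hv]
    rfl
  have hunit : IsUnit (φD (naivePres v a ha).jacobian) := hjac ▸ P.jacobian_isUnit
  let ψ : JacLoc v a ha →+* C := IsLocalization.Away.lift (naivePres v a ha).jacobian hunit
  have hψ : ∀ d, ψ (algebraMap _ (JacLoc v a ha) d) = φD d := fun d =>
    IsLocalization.Away.lift_eq _ hunit d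
  have hetale : Algebra.Etale A (JacLoc v a ha) := etale_jacLoc v a ha hcard
  have halg : ∀ x : A, algebraMap A (JacLoc v a ha) x =
      algebraMap (MvPolynomial ι A ⧸ Ideal.span (Set.range v)) (JacLoc v a ha)
        (Ideal.Quotient.mk (Ideal.span (Set.range v)) (MvPolynomial.C x)) := fun x => by
    rw [IsScalarTower.algebraMap_apply A (MvPolynomial ι A ⧸ Ideal.span (Set.range v))
      (JacLoc v a ha)]
    rfl
  have hφC : ∀ x : A, φ (MvPolynomial.C x) = algebraMap (A ⧸ I) C (Ideal.Quotient.mk I x) := by
    intro x
    change aeval P.val (MvPolynomial.map (Ideal.Quotient.mk I) (MvPolynomial.C x)) = _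
    rw [MvPolynomial.map_C, aeval_C]
  refine ⟨JacLoc v a ha, inferInstance, inferInstance, hetale, ψ, ?_, ?_, ?_⟩
  · -- surjective
    intro c
    obtain ⟨p, rfl⟩ := P.aeval_val_surjective c
    obtain ⟨p', rfl⟩ := MvPolynomial.map_surjective (Ideal.Quotient.mk I)
      Ideal.Quotient.mk_surjective p
    exact ⟨algebraMap _ (JacLoc v a ha) (Ideal.Quotient.mk _ p'), by rw [hψ, hφD]; rfl⟩
  · -- kernel
    apply le_antisymm
    · intro x hx
      obtain ⟨d, ⟨_, k, rfl⟩, rfl⟩ :=
        IsLocalization.exists_mk'_eq (Submonoid.powers (naivePres v a ha).jacobian) x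
      rw [RingHom.mem_ker] at hx
      have h1 := IsLocalization.mk'_spec (JacLoc v a ha) d
        (⟨(naivePres v a ha).jacobian ^ k, k, rfl⟩ :
          Submonoid.powers (naivePres v a ha).jacobian)
      have h2 : φD d = 0 := by
        rw [← hψ, ← h1, map_mul, hx, zero_mul]
      obtain ⟨p, rfl⟩ := Ideal.Quotient.mk_surjective d
      rw [hφD] at h2
      -- `map p ∈ span (range relation)`
      have h3 : mapI p ∈ Ideal.span (Set.range P.relation) := by
        rw [P.span_range_relation_eq_ker, P.ker_eq_ker_aeval_val]
        exact h2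
      obtain ⟨c, hc⟩ := Ideal.mem_span_range_iff_exists_fun.mp h3
      choose c' hc' using fun j => MvPolynomial.map_surjective (Ideal.Quotient.mk I)
        Ideal.Quotient.mk_surjective (c j)
      have h4 : p - ∑ j, c' j * v j ∈ RingHom.ker mapI := by
        rw [RingHom.mem_ker, map_sub, map_sum, ← hc, sub_eq_zero]
        refine (Finset.sum_congr rfl fun j _ => ?_).symm
        rw [map_mul]
        change MvPolynomial.map _ (c' j) * MvPolynomial.map _ (v j) = _
        rw [hc', hv]
      rw [MvPolynomial.ker_map, Ideal.mk_ker] at h4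
      -- so the class of `p` lies in `I D`
      have h5 : Ideal.Quotient.mk (Ideal.span (Set.range v)) p ∈
          I.map (algebraMap A (MvPolynomial ι A ⧸ Ideal.span (Set.range v))) := by
        have h6 : Ideal.Quotient.mk (Ideal.span (Set.range v)) p =
            Ideal.Quotient.mk (Ideal.span (Set.range v)) (p - ∑ j, c' j * v j) := by
          rw [eq_comm, Ideal.Quotient.eq]
          have : p - ∑ j, c' j * v j - p = -∑ j, c' j * v j := by ring
          rw [this]
          apply neg_mem
          exact Ideal.sum_mem _ fun j _ => Ideal.mul_mem_left _ _ (Ideal.subset_span ⟨j, rfl⟩)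
        rw [h6]
        have h7 : I.map (algebraMap A (MvPolynomial ι A ⧸ Ideal.span (Set.range v))) =
            (I.map (MvPolynomial.C : A →+* MvPolynomial ι A)).map (Ideal.Quotient.mk _) := by
          rw [Ideal.map_map]; rfl
        rw [h7]
        exact Ideal.mem_map_of_mem _ h4
      have h8 : I.map (algebraMap A (JacLoc v a ha)) =
          (I.map (algebraMap A (MvPolynomial ι A ⧸ Ideal.span (Set.range v)))).map
            (algebraMap _ (JacLoc v a ha)) := by
        rw [Ideal.map_map]; rfl
      rw [IsLocalization.mk'_eq_mul_mk'_one, h8]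
      exact Ideal.mul_mem_right _ _ (Ideal.mem_map_of_mem _ h5)
    · rw [Ideal.map_le_iff_le_comap]
      intro x hx
      rw [Ideal.mem_comap, RingHom.mem_ker, halg, hψ, hφD, hφC,
        Ideal.Quotient.eq_zero_iff_mem.mpr hx, map_zero]
  · intro x
    rw [halg, hψ, hφD, hφC]

end Groth.Agent.Lib.Helper3
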