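import Groth.Agent.Lib.Helper3.EtaleSection

/-!
# Sections of étale algebras over Henselian pairs (helper3)

* `exists_algHom_section_of_finite_of_away`: variant of `exists_algHom_lift_of_finite_of_away`
  where only `R[1/Δ]` is assumed finitely presented, and the section is defined on `R[1/Δ]`.
* `exists_algHom_lift_of_etale`: if `A` is Henselian at `I`, every `A`-algebra map from an étale
  `A`-algebra to `A/I` lifts to `A` (Stacks 09XI).
-/

set_option autoImplicit false

namespace Groth.Agent.Lib.Helper3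

section

variable {A : Type*} [CommRing A] (I : Ideal A)
  {R : Type*} [CommRing R] [Algebra A R]
  {R' : Type*} [CommRing R'] [Algebra A R'] [Algebra R R'] [IsScalarTower A R R']

theorem exists_algHom_section_of_finite_of_away [HenselianRing A I] (Δ : R)
    [IsLocalization.Away Δ R'] [Module.Finite A R] [Algebra.FinitePresentation A R']
    [Algebra.FormallyEtale A R'] (s' : R' →ₐ[A] A ⧸ I) :
    ∃ τ : R' →ₐ[A] A, (Ideal.Quotient.mkₐ A I).comp τ = s' := by
  classical
  have hjac : I ≤ Ideal.jacobson ⊥ := HenselianRing.jac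
  set s : R →ₐ[A] A ⧸ I := s'.comp (IsScalarTower.toAlgHom A R R') with hs
  set J₀ := RingHom.ker s.toRingHom with hJ₀
  set IU := I.map (algebraMap A R) with hIU
  have hsmk : ∀ a : A, s (algebraMap A R a) = Ideal.Quotient.mk I a := fun a => s.commutes a
  have hmemJ : ∀ x, x ∈ J₀ ↔ s x = 0 := fun x => Iff.rfl
  have hIUJ : IU ≤ J₀ := by
    rw [hIU, Ideal.map_le_iff_le_comap]
    intro a ha
    rw [Ideal.mem_comap, hmemJ, hsmk]
    exact Ideal.Quotient.eq_zero_iff_mem.mpr ha
  have hP2 : J₀ ≤ J₀ * J₀ ⊔ IU := ker_le_sq_sup_map I Δ s'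
  obtain ⟨e₀, he₀1, he₀J⟩ := exists_elem_of_ker_le_sq_sup_map I s hP2
  have hlift : ∀ u : R, ∃ a : A, u - algebraMap A R a ∈ J₀ := by
    intro u
    obtain ⟨a, ha⟩ := Ideal.Quotient.mk_surjective (s u)
    exact ⟨a, by rw [hmemJ, map_sub, hsmk, ha, sub_self]⟩
  obtain ⟨e, he, hee₀⟩ := exists_idempotent_of_cyclic (I := I) e₀
    (by
      have : e₀ * e₀ - e₀ = e₀ * (e₀ - 1) := by ring
      rw [this]; exact he₀J _ he₀1)
    (by
      intro u
      obtain ⟨a, ha⟩ := hlift u
      refine ⟨a, ?_⟩
      have : e₀ * u - a • e₀ = e₀ * (u - algebraMap A R a) := by rw [Algebra.smul_def]; ring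
      rw [this]; exact he₀J _ ha)
  have he1 : e - 1 ∈ J₀ := by
    have : e - 1 = (e - e₀) + (e₀ - 1) := by ring
    rw [this]; exact J₀.add_mem (hIUJ hee₀) he₀1
  have hse : s e = 1 := by
    have := (hmemJ _).mp he1
    rwa [map_sub, map_one, sub_eq_zero] at this
  have heJ : ∀ j ∈ J₀, e * j ∈ IU := by
    intro j hj
    have : e * j = e₀ * j + (e - e₀) * j := by ring
    rw [this]; exact IU.add_mem (he₀J j hj) (IU.mul_mem_right _ hee₀)
  -- the quotient `E = R ⧸ (1 - e)`
  set L : Ideal R := Ideal.span {1 - e} with hL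
  have hmkE : Function.Surjective (Ideal.Quotient.mk L) := Ideal.Quotient.mk_surjective
  have hEfin : Module.Finite A (R ⧸ L) :=
    Module.Finite.of_surjective (Ideal.Quotient.mkₐ A L).toLinearMap hmkE
  have hmke : Ideal.Quotient.mk L e = 1 := by
    rw [← map_one (Ideal.Quotient.mk L), eq_comm, Ideal.Quotient.eq]
    exact Ideal.subset_span rfl
  have hIE : ∀ x ∈ IU, Ideal.Quotient.mk L x ∈ I.map (algebraMap A (R ⧸ L)) := by
    intro x hx
    have : I.map (algebraMap A (R ⧸ L)) = IU.map (Ideal.Quotient.mk L) := by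
      rw [hIU, Ideal.map_map]; rfl
    rw [this]; exact Ideal.mem_map_of_mem _ hx
  have hkey : ∀ u : R, ∀ a : A, u - algebraMap A R a ∈ J₀ →
      Ideal.Quotient.mk L u - algebraMap A (R ⧸ L) a ∈ I.map (algebraMap A (R ⧸ L)) := by
    intro u a h
    have : Ideal.Quotient.mk L u - algebraMap A (R ⧸ L) a =
        Ideal.Quotient.mk L (e * (u - algebraMap A R a)) := by
      rw [map_mul, hmke, one_mul, map_sub]; rfl
    rw [this]; exact hIE _ (heJ _ h)
  have hsurj : Function.Surjective (algebraMap A (R ⧸ L)) := by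
    have hle : (⊤ : Submodule A (R ⧸ L)) ≤ LinearMap.range (Algebra.linearMap A (R ⧸ L)) := by
      apply Submodule.le_of_le_smul_of_le_jacobson_bot Module.Finite.fg_top hjac
      intro y _
      obtain ⟨u, rfl⟩ := hmkE y
      obtain ⟨a, ha⟩ := hlift u
      have : Ideal.Quotient.mk L u = algebraMap A (R ⧸ L) a +
          (Ideal.Quotient.mk L u - algebraMap A (R ⧸ L) a) := by ring
      rw [this]
      refine Submodule.add_mem_sup ⟨a, rfl⟩ ?_
      rw [Ideal.smul_top_eq_map]
      exact hkey u a ha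
    intro y
    obtain ⟨a, ha⟩ := hle (Submodule.mem_top (x := y))
    exact ⟨a, ha⟩
  let sE : (R ⧸ L) →ₐ[A] A ⧸ I := Ideal.Quotient.liftₐ L s (by
    intro x hx
    rw [hL, Ideal.mem_span_singleton] at hx
    obtain ⟨y, rfl⟩ := hx
    rw [map_mul, map_sub, map_one, hse, sub_self, zero_mul])
  have hsE : ∀ u, sE (Ideal.Quotient.mk L u) = s u := fun u => rfl
  have hker : RingHom.ker (algebraMap A (R ⧸ L)) ≤ I := by
    intro a ha
    have : sE (algebraMap A (R ⧸ L) a) = 0 := by rw [RingHom.mem_ker.mp ha, map_zero]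
    rw [AlgHom.commutes] at this
    exact Ideal.Quotient.eq_zero_iff_mem.mp this
  have hint : Algebra.IsIntegral A (R ⧸ L) := Algebra.IsIntegral.of_finite A (R ⧸ L)
  have hΔE : IsUnit (Ideal.Quotient.mkₐ A L Δ) := by
    have hΔ' : IsUnit (s Δ) := ((IsLocalization.Away.algebraMap_isUnit Δ).map s')
    obtain ⟨c, hc⟩ := hΔ'.exists_right_inv
    obtain ⟨c₀, rfl⟩ := Ideal.Quotient.mk_surjective c
    have hx : Δ * algebraMap A R c₀ - algebraMap A R 1 ∈ J₀ := by
      rw [hmemJ, map_sub, map_mul, hsmk, hsmk, hc, map_one, sub_self]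
    have h1 := hkey _ 1 hx
    have hjE := map_le_jacobson_bot_of_isIntegral (B := R ⧸ L) hjac h1
    have h2 := isUnit_add_of_mem_jacobson_bot isUnit_one hjE
    rw [map_one, add_sub_cancel, map_mul] at h2
    exact isUnit_of_mul_isUnit_left h2
  let ρ : R' →ₐ[A] R ⧸ L := IsLocalization.Away.liftAlgHom Δ (f := Ideal.Quotient.mkₐ A L) hΔE
  have hρ : ∀ x : R, ρ (algebraMap R R' x) = Ideal.Quotient.mk L x := fun x => by
    simp [ρ, IsLocalization.Away.liftAlgHom_apply, IsLocalization.Away.lift_eq]
  let algR'E : Algebra R' (R ⧸ L) := ρ.toRingHom.toAlgebra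
  have hst1 : IsScalarTower R R' (R ⧸ L) :=
    IsScalarTower.of_algebraMap_eq (fun x => (hρ x).symm)
  have hst2 : IsScalarTower A R' (R ⧸ L) :=
    IsScalarTower.of_algebraMap_eq (fun a => (ρ.commutes a).symm)
  have hlocE : IsLocalization.Away e (R ⧸ L) :=
    IsLocalization.away_of_isIdempotentElem he
      (by rw [Ideal.Quotient.algebraMap_eq, Ideal.mk_ker]) hmkE
  let Nm : Submonoid R := Submonoid.powers e ⊔ Submonoid.powers Δ
  have hlocN : IsLocalization Nm (R ⧸ L) := by
    apply IsLocalization.of_le (Submonoid.powers e) Nm le_sup_left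
    intro r hr
    obtain ⟨y, ⟨m, rfl⟩, z, ⟨k, rfl⟩, rfl⟩ := Submonoid.mem_sup.mp hr
    rw [map_mul, map_pow, map_pow]
    have hue : IsUnit (algebraMap R (R ⧸ L) e) := by
      rw [Ideal.Quotient.algebraMap_eq, hmke]; exact isUnit_one
    exact (hue.pow m).mul (hΔE.pow k)
  have hloc' : IsLocalization (Nm.map (algebraMap R R')) (R ⧸ L) :=
    IsLocalization.isLocalization_of_submonoid_le R' (R ⧸ L) (Submonoid.powers Δ) Nm le_sup_right
  have hfe1 : Algebra.FormallyEtale R' (R ⧸ L) :=
    Algebra.FormallyEtale.of_isLocalization (Nm.map (algebraMap R R'))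
  have hfe : Algebra.FormallyEtale A (R ⧸ L) := Algebra.FormallyEtale.comp A R' (R ⧸ L)
  have hKidem := (Algebra.FormallyEtale.iff_of_surjective hsurj).mp hfe
  have hlocAway : IsLocalization.Away (algebraMap R R' e) (R ⧸ L) := by
    refine (IsLocalization.iff_of_le_of_exists_dvd (Submonoid.powers (algebraMap R R' e))
      (Nm.map (algebraMap R R')) ?_ ?_).mpr hloc'
    · rw [Submonoid.powers_le]
      exact Submonoid.mem_map_of_mem _ ((le_sup_left : Submonoid.powers e ≤ Nm)
        (Submonoid.mem_powers e))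
    · rintro _ ⟨r, hr, rfl⟩
      obtain ⟨y, ⟨m, rfl⟩, z, ⟨k, rfl⟩, rfl⟩ := Submonoid.mem_sup.mp hr
      refine ⟨algebraMap R R' e ^ m, ⟨m, rfl⟩, ?_⟩
      have hu : IsUnit (algebraMap R R' Δ ^ k) :=
        (IsLocalization.Away.algebraMap_isUnit Δ).pow k
      obtain ⟨v, hv⟩ := hu.exists_right_inv
      refine ⟨v, ?_⟩
      change algebraMap R R' e ^ m = algebraMap R R' (e ^ m * Δ ^ k) * v
      rw [map_mul, map_pow, map_pow, mul_assoc, hv, mul_one]
  have hfp1 : Algebra.FinitePresentation R' (R ⧸ L) :=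
    IsLocalization.Away.finitePresentation (algebraMap R R' e)
  have hfp : Algebra.FinitePresentation A (R ⧸ L) :=
    Algebra.FinitePresentation.trans A R' (R ⧸ L)
  have hKfg : (RingHom.ker (algebraMap A (R ⧸ L))).FG :=
    Algebra.FinitePresentation.ker_fG_of_surjective (Algebra.ofId A (R ⧸ L)) hsurj
  obtain ⟨ε, hε, hKε⟩ := (Ideal.isIdempotentElem_iff_of_fg _ hKfg).mp hKidem
  have hε0 : ε = 0 := eq_zero_of_isIdempotentElem_of_mem_jacobson hε
    (hjac (hker (hKε ▸ Ideal.subset_span rfl)))
  have hinj : Function.Injective (algebraMap A (R ⧸ L)) := by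
    rw [RingHom.injective_iff_ker_eq_bot, hKε, hε0]; simp
  let eqv : A ≃ₐ[A] (R ⧸ L) := AlgEquiv.ofBijective (Algebra.ofId A (R ⧸ L)) ⟨hinj, hsurj⟩
  have hsEρ : sE.comp ρ = s' := by
    have h0 : (sE.comp ρ).toRingHom = s'.toRingHom := by
      apply IsLocalization.ringHom_ext (Submonoid.powers Δ)
      ext x
      change sE (ρ (algebraMap R R' x)) = s' (algebraMap R R' x)
      rw [hρ, hsE]
      rfl
    exact AlgHom.ext fun x => congrArg (fun f : R' →+* A ⧸ I => f x) h0
  have hmkeqv : ∀ y : R ⧸ L, Ideal.Quotient.mk I (eqv.symm y) = sE y := by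
    intro y
    obtain ⟨a, rfl⟩ := hsurj y
    have h1 : eqv.symm (algebraMap A (R ⧸ L) a) = a := eqv.symm_apply_apply a
    rw [h1, AlgHom.commutes]; rfl
  refine ⟨eqv.symm.toAlgHom.comp ρ, ?_⟩
  ext x
  change Ideal.Quotient.mk I (eqv.symm (ρ x)) = s' x
  rw [hmkeqv, ← hsEρ]
  rfl

end

section ZMT

variable {R S : Type*} [CommRing R] [CommRing S] [Algebra R S]

/-- The ideal of the integral closure `B` of `R` in `S` of those `b` with `b * x ∈ B`. -/
def condIdeal (R : Type*) {S : Type*} [CommRing R] [CommRing S] [Algebra R S] (x : S) :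
    Ideal (integralClosure R S) where
  carrier := {b | (b : S) * x ∈ integralClosure R S}
  zero_mem' := by
    change ((0 : integralClosure R S) : S) * x ∈ integralClosure R S
    rw [ZeroMemClass.coe_zero, zero_mul]
    exact zero_mem _
  add_mem' := by
    intro a b ha hb
    change ((a + b : integralClosure R S) : S) * x ∈ integralClosure R S
    rw [Subalgebra.coe_add, add_mul]
    exact add_mem ha hb
  smul_mem' := by
    intro c b hb
    change ((c * b : integralClosure R S) : S) * x ∈ integralClosure R S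
    rw [Subalgebra.coe_mul, mul_assoc]
    exact mul_mem c.2 hb

theorem mem_condIdeal {x : S} {b : integralClosure R S} :
    b ∈ condIdeal R x ↔ IsIntegral R ((b : S) * x) := Iff.rfl

/-- The ideal of the integral closure consisting of the `r` such that `S[1/r]` is integral. -/
def zmtIdeal (R S : Type*) [CommRing R] [CommRing S] [Algebra R S] : Ideal (integralClosure R S) :=
  ⨅ x : S, (condIdeal R x).radical

theorem mem_zmtIdeal {b : integralClosure R S} :
    b ∈ zmtIdeal R S ↔ ∀ x : S, ∃ m : ℕ, IsIntegral R ((b : S) ^ m * x) := by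
  simp only [zmtIdeal, Ideal.mem_iInf, Ideal.mem_radical_iff, mem_condIdeal, Subalgebra.coe_pow]

/-- Global form of Zariski's main theorem along a closed subset `V(ker σ)` on which `σ` restricted
to `R` is surjective: there is a single `r`, integral over `R`, with `σ r = 1` and `S[1/r]` integral
over `R` (in the sense that each `x` becomes integral after multiplying by a power of `r`). -/
theorem exists_isIntegral_map_eq_one {T : Type*} [CommRing T] (σ : S →+* T)
    (hσ : Function.Surjective (σ.comp (algebraMap R S)))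
    (hqf : ∀ p : Ideal S, p.IsPrime → RingHom.ker σ ≤ p → Algebra.ZariskisMainProperty R p) :
    ∃ r : S, σ r = 1 ∧ IsIntegral R r ∧ ∀ x : S, ∃ m : ℕ, IsIntegral R (r ^ m * x) := by
  let f : integralClosure R S →+* T := σ.comp (integralClosure R S).val.toRingHom
  have hf : Function.Surjective f := by
    intro t
    obtain ⟨a, rfl⟩ := hσ t
    exact ⟨algebraMap R _ a, rfl⟩
  suffices h : (zmtIdeal R S).map f = ⊤ by
    have h1 : (1 : T) ∈ (zmtIdeal R S).map f := h ▸ Submodule.mem_top
    obtain ⟨b, hb, hb1⟩ := (Ideal.mem_map_iff_of_surjective f hf).mp h1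
    exact ⟨b, hb1, b.2, mem_zmtIdeal.mp hb⟩
  by_contra hne
  obtain ⟨𝔫, h𝔫, hle⟩ := Ideal.exists_le_maximal _ hne
  have hp : (𝔫.comap σ).IsPrime := Ideal.comap_isPrime σ 𝔫
  have hker : RingHom.ker σ ≤ 𝔫.comap σ := by
    intro x hx
    rw [Ideal.mem_comap, RingHom.mem_ker.mp hx]
    exact zero_mem _
  obtain ⟨r, hrp, hr, hm⟩ := Algebra.zariskisMainProperty_iff.mp (hqf _ hp hker)
  apply hrp
  rw [Ideal.mem_comap]
  apply hle
  have : (⟨r, hr⟩ : integralClosure R S) ∈ zmtIdeal R S := mem_zmtIdeal.mpr hm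
  exact Ideal.mem_map_of_mem f this

set_option backward.isDefEq.respectTransparency false in
/-- Copy of Mathlib's `ZariskisMainProperty.exists_fg_and_exists_notMem_and_awayMap_bijective`
keeping track of the element `r`. -/
theorem exists_fg_and_awayMap_bijective [Algebra.FiniteType R S] (r : S) (hr : IsIntegral R r)
    (hm : ∀ x : S, ∃ m : ℕ, IsIntegral R (r ^ m * x)) :
    ∃ S' : Subalgebra R S, S'.toSubmodule.FG ∧ ∃ r' : S',
      r'.1 = r ∧ Function.Bijective (Localization.awayMap S'.val.toRingHom r') := by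
  obtain ⟨s, hs⟩ := Algebra.FiniteType.out (R := R) (A := S)
  choose m hm using hm
  let t := insert r { r ^ m x * x | x ∈ s }
  let r' : Algebra.adjoin R t := ⟨r, Algebra.subset_adjoin (by simp [t])⟩
  refine ⟨Algebra.adjoin R t, fg_adjoin_of_finite ?_ ?_, ?_⟩
  · simp only [t, Set.finite_insert]
    exact s.finite_toSet.image (fun x ↦ r ^ m x * x)
  · rintro a (rfl | ⟨x, hx, rfl⟩); exacts [hr, hm _]
  refine ⟨r', rfl,
    IsLocalization.map_injective_of_injective _ _ _ Subtype.val_injective, ?_⟩
  have : (IsScalarTower.toAlgHom R S _).range ≤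
      (Localization.awayMapₐ (Algebra.adjoin R t).val r').range := by
    rw [← Algebra.map_top, ← hs, Subalgebra.map_le, Algebra.adjoin_le_iff]
    intro x hx
    suffices ∃ a ∈ Algebra.adjoin R t, ∃ n, r ^ n ∈ Algebra.adjoin R t ∧
        ∃ k, r ^ k * a = r ^ k * (x * r ^ n) by
      simpa [(IsLocalization.mk'_surjective (.powers r')).exists,
        (IsLocalization.mk'_surjective (.powers r)).forall, Localization.awayMapₐ,
        IsLocalization.Away.map, IsLocalization.map_mk', Submonoid.mem_powers_iff,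
        Subtype.ext_iff, IsLocalization.mk'_eq_iff_eq_mul, ← map_mul, ← map_pow,
        IsLocalization.eq_iff_exists (.powers r), Subalgebra.val]
    exact ⟨_, Algebra.subset_adjoin (Set.mem_insert_of_mem _ ⟨x, hx, mul_comm _ _⟩),
      m x, pow_mem r'.2 _, 1, rfl⟩
  intro x
  obtain ⟨x, ⟨_, n, rfl⟩, rfl⟩ := IsLocalization.exists_mk'_eq
    (.powers ((Algebra.adjoin R t).val.toRingHom r')) x
  obtain ⟨y, hy : Localization.awayMap _ _ _ = _⟩ := this ⟨x, rfl⟩
  refine ⟨y * Localization.Away.invSelf _ ^ n, ?_⟩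
  simp only [map_mul, map_pow, hy]
  simp [Localization.Away.invSelf, Localization.awayMap, ← Algebra.smul_def,
    IsLocalization.Away.map, IsLocalization.map_mk', Localization.mk_eq_mk',
    ← IsLocalization.mk'_pow]

end ZMT

universe u

/-- **Étale lifting for Henselian pairs** (Stacks 09XI): if `A` is Henselian at `I`, every
`A`-algebra map from an étale `A`-algebra to `A ⧸ I` lifts to `A`. -/
theorem exists_algHom_lift_of_etale {A : Type u} [CommRing A] (I : Ideal A) [HenselianRing A I]
    (A' : Type u) [CommRing A'] [Algebra A A'] [Algebra.Etale A A'] (σ : A' →ₐ[A] A ⧸ I) :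
    ∃ τ : A' →ₐ[A] A, (Ideal.Quotient.mkₐ A I).comp τ = σ := by
  have hσ : Function.Surjective (σ.toRingHom.comp (algebraMap A A')) := by
    intro t
    obtain ⟨a, rfl⟩ := Ideal.Quotient.mk_surjective t
    exact ⟨a, σ.commutes a⟩
  obtain ⟨Δ, hΔ1, hΔint, hΔm⟩ := exists_isIntegral_map_eq_one (R := A) σ.toRingHom hσ
    (fun p hp _ => Algebra.ZariskisMainProperty.of_finiteType p)
  obtain ⟨S', hfg, r', rfl, hbij⟩ := exists_fg_and_awayMap_bijective Δ hΔint hΔm
  have hfin : Module.Finite A S' := ⟨(Submodule.fg_top _).mpr hfg⟩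
  -- `Localization.Away r'.1` is the localization of `S'` at `r'`
  let φ : Localization.Away r' →ₐ[S'] Localization.Away (r' : A') :=
    { toRingHom := Localization.awayMap S'.val.toRingHom r'
      commutes' := by
        intro x
        change IsLocalization.Away.map (Localization.Away r')
          (Localization.Away (S'.val.toRingHom r')) S'.val.toRingHom r' (algebraMap S' _ x) = _
        rw [IsLocalization.Away.map, IsLocalization.map_eq]
        rfl }
  have hloc : IsLocalization.Away r' (Localization.Away (r' : A')) :=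
    IsLocalization.isLocalization_of_algEquiv (Submonoid.powers r')
      (AlgEquiv.ofBijective φ hbij)
  have hfe1 : Algebra.FormallyEtale A' (Localization.Away (r' : A')) :=
    Algebra.FormallyEtale.of_isLocalization (Submonoid.powers (r' : A'))
  have hfe : Algebra.FormallyEtale A (Localization.Away (r' : A')) :=
    Algebra.FormallyEtale.comp A A' _
  have hfp1 : Algebra.FinitePresentation A' (Localization.Away (r' : A')) :=
    IsLocalization.Away.finitePresentation (r' : A')
  have hfp : Algebra.FinitePresentation A (Localization.Away (r' : A')) :=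
    Algebra.FinitePresentation.trans A A' _
  have hunit : IsUnit (σ (r' : A')) := by
    have : σ (r' : A') = 1 := hΔ1
    rw [this]; exact isUnit_one
  let s' : Localization.Away (r' : A') →ₐ[A] A ⧸ I :=
    IsLocalization.Away.liftAlgHom (r' : A') (f := σ) hunit
  obtain ⟨τ', hτ'⟩ := exists_algHom_section_of_finite_of_away I (R := S')
    (R' := Localization.Away (r' : A')) r' s'
  refine ⟨τ'.comp (IsScalarTower.toAlgHom A A' (Localization.Away (r' : A'))), ?_⟩
  rw [← AlgHom.comp_assoc, hτ']
  ext x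
  simp [s', IsLocalization.Away.lift_eq]

end Groth.Agent.Lib.Helper3
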