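import Groth.Agent.Lib.Helper3.QFLocal

/-!
# Finite algebras over complete Noetherian local rings (helper3)

`finite_algebra_over_complete_local`: a module-finite algebra `S` over a complete Noetherian local
ring `R` has finitely many maximal ideals, `S → ∏ S_m` is bijective, and each `S_m` is a complete
Noetherian local ring.
-/

set_option autoImplicit false
set_option linter.style.haveILetI false
set_option linter.unusedSectionVars false

universe u

namespace Groth.Agent.Lib.Helper3

open IsLocalRing

/-- A Henselian pair `(R, 𝔪)` with `R` local is a Henselian local ring. -/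
theorem henselianLocalRing_of_henselianRing_maximalIdeal (R : Type*) [CommRing R] [IsLocalRing R]
    [HenselianRing R (maximalIdeal R)] : HenselianLocalRing R where
  is_henselian := by
    intro f hf a₀ h₁ h₂
    exact HenselianRing.is_henselian f hf a₀ h₁ (h₂.map _)

/-- A finite module over an `I`-adically precomplete ring is `I`-adically precomplete. -/
theorem isPrecomplete_of_finite {R : Type*} [CommRing R] (I : Ideal R) [IsPrecomplete I R]
    (M : Type*) [AddCommGroup M] [Module R M] [Module.Finite R M] : IsPrecomplete I M := by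
  rw [← AdicCompletion.of_surjective_iff]
  intro y
  obtain ⟨t, rfl⟩ := AdicCompletion.ofTensorProduct_surjective_of_finite I M y
  induction t using TensorProduct.induction_on with
  | zero => exact ⟨0, by simp⟩
  | tmul r x =>
    obtain ⟨r, rfl⟩ := AdicCompletion.of_surjective I R r
    refine ⟨r • x, ?_⟩
    rw [AdicCompletion.ofTensorProduct_tmul, map_smul]
    have h1 : AdicCompletion.of I R r = r • (1 : AdicCompletion I R) := by
      rw [← Algebra.algebraMap_eq_smul_one, AdicCompletion.algebraMap_apply,
        Algebra.algebraMap_self, RingHom.id_apply]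
    rw [h1, smul_assoc, one_smul]
  | add a b ha hb =>
    obtain ⟨a', ha'⟩ := ha
    obtain ⟨b', hb'⟩ := hb
    exact ⟨a' + b', by rw [map_add, ha', hb', map_add]⟩

/-- Precompleteness passes from `J` to a larger ideal `𝔫` with `𝔫 ^ k ≤ J`. -/
theorem isPrecomplete_of_pow_le {A : Type*} [CommRing A] {M : Type*} [AddCommGroup M] [Module A M]
    (J 𝔫 : Ideal A) (hJ : J ≤ 𝔫) (k : ℕ) (hk : 𝔫 ^ k ≤ J) [IsPrecomplete J M] :
    IsPrecomplete 𝔫 M := by
  refine ⟨fun f hf => ?_⟩
  have hmono : ∀ {a b : ℕ}, a ≤ b →
      (𝔫 ^ b • ⊤ : Submodule A M) ≤ (𝔫 ^ a • ⊤ : Submodule A M) := fun hab =>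
    Submodule.smul_mono_left (Ideal.pow_le_pow_right hab)
  have hJn : ∀ i : ℕ, (𝔫 ^ ((k + 1) * i) • ⊤ : Submodule A M) ≤ (J ^ i • ⊤ : Submodule A M) := by
    intro i
    apply Submodule.smul_mono_left
    rw [pow_mul]
    exact Ideal.pow_right_mono ((Ideal.pow_le_pow_right (Nat.le_succ k)).trans hk) i
  have hnJ : ∀ i : ℕ, (J ^ i • ⊤ : Submodule A M) ≤ (𝔫 ^ i • ⊤ : Submodule A M) := fun i =>
    Submodule.smul_mono_left (Ideal.pow_right_mono hJ i)
  obtain ⟨L, hL⟩ := IsPrecomplete.prec' (I := J) (fun i => f ((k + 1) * i)) (by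
    intro a b hab
    have h1 := hf (Nat.mul_le_mul_left (k + 1) hab)
    rw [SModEq.sub_mem] at h1 ⊢
    exact hJn a h1)
  refine ⟨L, fun i => ?_⟩
  have hi : i ≤ (k + 1) * i := Nat.le_mul_of_pos_left i (Nat.succ_pos k)
  have h1 := hf hi
  have h2 := hL i
  rw [SModEq.sub_mem] at h1 h2 ⊢
  have := (𝔫 ^ i • ⊤ : Submodule A M).add_mem h1 (hnJ i h2)
  rwa [sub_add_sub_cancel] at this

/-- A finite algebra over a local ring is semilocal. -/
theorem finite_maximalSpectrum_of_finite_local (R : Type*) [CommRing R] [IsLocalRing R]
    (S : Type*) [CommRing S] [Algebra R S] [Module.Finite R S] : Finite (MaximalSpectrum S) := by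
  have hfin : ((maximalIdeal R).primesOver S).Finite := Algebra.QuasiFinite.finite_primesOver _
  have : Finite ((maximalIdeal R).primesOver S) := hfin.to_subtype
  refine Finite.of_injective (fun m : MaximalSpectrum S =>
    (⟨m.asIdeal, m.isMaximal.isPrime,
      ⟨(eq_maximalIdeal (Ideal.isMaximal_comap_of_isIntegral_of_isMaximal m.asIdeal)).symm⟩⟩ :
      (maximalIdeal R).primesOver S)) ?_
  intro m m' h
  exact MaximalSpectrum.ext (congrArg Subtype.val h)

section Main

theorem finite_algebra_over_complete_local (R : Type u) [CommRing R] [IsLocalRing R]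
    [IsNoetherianRing R] [IsAdicComplete (maximalIdeal R) R] (S : Type u) [CommRing S]
    [Algebra R S] [Module.Finite R S] :
    Finite (MaximalSpectrum S) ∧
      Function.Bijective
        (algebraMap S ((m : MaximalSpectrum S) → Localization.AtPrime m.asIdeal)) ∧
      ∀ m : MaximalSpectrum S, IsNoetherianRing (Localization.AtPrime m.asIdeal) ∧
        IsAdicComplete (maximalIdeal (Localization.AtPrime m.asIdeal))
          (Localization.AtPrime m.asIdeal) := by
  haveI : HenselianLocalRing R := henselianLocalRing_of_henselianRing_maximalIdeal R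
  haveI hfinMax : Finite (MaximalSpectrum S) := finite_maximalSpectrum_of_finite_local R S
  haveI : IsNoetherianRing S := IsNoetherianRing.of_finite R S
  have hsurj : ∀ m : MaximalSpectrum S,
      Function.Surjective (algebraMap S (Localization.AtPrime m.asIdeal)) := fun m =>
    algebraMap_localization_surjective_of_finite R S m.asIdeal (hq := m.isMaximal)
  refine ⟨hfinMax, ⟨MaximalSpectrum.toPiLocalization_injective S, ?_⟩,
    fun m => ⟨inferInstance, ?_⟩⟩
  · -- surjective
    intro x
    let K : MaximalSpectrum S → Ideal S := fun m =>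
      RingHom.ker (algebraMap S (Localization.AtPrime m.asIdeal))
    have hK : ∀ (m : MaximalSpectrum S) (𝔮 : Ideal S), 𝔮.IsMaximal → K m ≤ 𝔮 →
        𝔮 = m.asIdeal := by
      intro m 𝔮 h𝔮 hle
      refine h𝔮.eq_of_le m.isMaximal.ne_top ?_
      intro t ht
      by_contra htm
      have hunit : IsUnit (algebraMap S (Localization.AtPrime m.asIdeal) t) :=
        IsLocalization.map_units (Localization.AtPrime m.asIdeal)
          (⟨t, htm⟩ : m.asIdeal.primeCompl)
      obtain ⟨v, hv⟩ := hunit.exists_right_inv
      obtain ⟨u, rfl⟩ := hsurj m v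
      have h1 : t * u - 1 ∈ K m := by
        rw [RingHom.mem_ker, map_sub, map_mul, hv, map_one, sub_self]
      have h2 : t * u - 1 ∈ 𝔮 := hle h1
      apply h𝔮.ne_top
      rw [Ideal.eq_top_iff_one]
      have := 𝔮.sub_mem (𝔮.mul_mem_right u ht) h2
      rwa [sub_sub_cancel] at this
    have hcop : Pairwise (Function.onFun IsCoprime K) := by
      intro m m' hne
      rw [Function.onFun, Ideal.isCoprime_iff_sup_eq]
      by_contra hne'
      obtain ⟨𝔮, h𝔮, hle⟩ := Ideal.exists_le_maximal _ hne'
      have h1 := hK m 𝔮 h𝔮 (le_sup_left.trans hle)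
      have h2 := hK m' 𝔮 h𝔮 (le_sup_right.trans hle)
      exact hne (MaximalSpectrum.ext (h1.symm.trans h2))
    choose g hg using fun m => hsurj m (x m)
    obtain ⟨r, hr⟩ := Ideal.exists_forall_sub_mem_ideal hcop g
    refine ⟨r, funext fun m => ?_⟩
    have := hr m
    rw [RingHom.mem_ker, map_sub, sub_eq_zero] at this
    change algebraMap S _ r = x m
    rw [this, hg]
  · -- complete
    set L := Localization.AtPrime m.asIdeal with hL
    haveI : Module.Finite R L :=
      Module.Finite.of_surjective (IsScalarTower.toAlgHom R S L).toLinearMap (hsurj m)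
    haveI : IsPrecomplete (maximalIdeal R) L := isPrecomplete_of_finite (maximalIdeal R) L
    set J : Ideal L := (maximalIdeal R).map (algebraMap R L) with hJ
    haveI : IsPrecomplete J L := IsPrecomplete.map_algebraMap_iff.mpr inferInstance
    haveI : IsHausdorff J L := IsHausdorff.map_algebraMap_iff.mpr inferInstance
    have hJtop : J ≠ ⊤ := by
      intro h
      have h0 : (1 : L) = 0 := by
        apply IsHausdorff.haus' (I := J) (1 : L)
        intro n
        rw [SModEq.zero, h, Ideal.top_pow, Submodule.top_smul]
        trivial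
      exact one_ne_zero h0
    have hJn : J ≤ maximalIdeal L := le_maximalIdeal hJtop
    have hrad : maximalIdeal L ≤ J.radical := by
      rw [Ideal.radical_eq_sInf]
      refine le_sInf ?_
      rintro P ⟨hJP, hP⟩
      have hPm : (P.comap (algebraMap R L)).IsMaximal := by
        have : P.comap (algebraMap R L) = maximalIdeal R := by
          have hle : maximalIdeal R ≤ P.comap (algebraMap R L) := by
            rw [← Ideal.map_le_iff_le_comap]; exact hJP
          exact ((maximalIdeal.isMaximal R).eq_of_le (Ideal.comap_ne_top _ hP.ne_top) hle).symm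
        rw [this]; infer_instance
      haveI : P.IsMaximal := Ideal.isMaximal_of_isIntegral_of_isMaximal_comap P hPm
      exact (eq_maximalIdeal ‹P.IsMaximal›).ge
    obtain ⟨k, hk⟩ := Ideal.exists_pow_le_of_le_radical_of_fg hrad
      (IsNoetherian.noetherian (maximalIdeal L))
    haveI := isPrecomplete_of_pow_le (M := L) J (maximalIdeal L) hJn k hk
    exact { }

end Main

end Groth.Agent.Lib.Helper3
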