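import Mathlib

/-!
# Henselian local rings and étale algebras (helper3)

Main result: `exists_algHom_of_etale`: for a Henselian local ring `R`, an étale `R`-algebra `A` and
an `R`-algebra map `φ₀ : A → κ(R)`, there is an `R`-algebra map `σ : A → R` lifting `φ₀`.
-/

set_option autoImplicit false
universe u

namespace Groth.Agent.Lib.Helper3

open Polynomial IsLocalRing

/-- The residue map of a local ring as an algebra map. -/
noncomputable def residueAlgHom (R : Type*) [CommRing R] [IsLocalRing R] :
    R →ₐ[R] ResidueField R :=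
  Algebra.ofId R (ResidueField R)

@[simp] theorem residueAlgHom_apply (R : Type*) [CommRing R] [IsLocalRing R] (x : R) :
    residueAlgHom R x = residue R x := rfl

/-- Root lifting in the form convenient for us. -/
theorem exists_root_of_henselian {R : Type u} [CommRing R] [HenselianLocalRing R]
    (f : R[X]) (hf : f.Monic) (a₀ : ResidueField R) (h₁ : aeval a₀ f = 0)
    (h₂ : IsUnit (aeval a₀ (derivative f))) : ∃ a : R, f.IsRoot a ∧ residue R a = a₀ := by
  have h := ((HenselianLocalRing.TFAE R).out 0 1).mp ‹HenselianLocalRing R›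
  exact h f hf a₀ h₁ h₂.ne_zero

/-- Over a Henselian local ring, a standard étale algebra with a `κ`-point has an `R`-point
lifting it. -/
theorem exists_algHom_of_standardEtalePresentation {R : Type u} [CommRing R]
    [HenselianLocalRing R] {A : Type*} [CommRing A] [Algebra R A]
    (P : StandardEtalePresentation R A) (φ : A →ₐ[R] ResidueField R) :
    ∃ σ : A →ₐ[R] R, (residueAlgHom R).comp σ = φ := by
  have hmap : P.HasMap (φ P.x) := P.hasMap.map φ
  obtain ⟨t, ht, ht'⟩ := exists_root_of_henselian P.f P.monic_f (φ P.x) hmap.1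
    hmap.isUnit_derivative_f
  have hres : ∀ p : R[X], residue R (p.eval t) = aeval (φ P.x) p := by
    intro p
    rw [← ht', ← residueAlgHom_apply, ← coe_aeval_eq_eval, ← aeval_algHom_apply]
    rfl
  have hmap' : P.HasMap t := by
    refine ⟨by simpa using ht, ?_⟩
    have : IsUnit (residue R (P.g.eval t)) := by rw [hres]; exact hmap.2
    simpa using this
  refine ⟨(P.lift t hmap').comp P.equivRing.toAlgHom, ?_⟩
  apply P.hom_ext
  simp [ht']

/-- **Étale lifting for Henselian local rings.** -/
theorem exists_algHom_of_etale {R : Type u} [CommRing R] [HenselianLocalRing R]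
    {A : Type u} [CommRing A] [Algebra R A] [Algebra.Etale R A] (φ : A →ₐ[R] ResidueField R) :
    ∃ σ : A →ₐ[R] R, (residueAlgHom R).comp σ = φ := by
  let q : Ideal A := RingHom.ker φ.toRingHom
  have hq : q.IsPrime := RingHom.ker_isPrime _
  obtain ⟨f, hfq, hf⟩ := Algebra.IsEtaleAt.exists_isStandardEtale (R := R) q
  have hfu : IsUnit (φ f) := by
    rw [isUnit_iff_ne_zero]
    exact fun h => hfq h
  let φ₁ : Localization.Away f →ₐ[R] ResidueField R := IsLocalization.Away.liftAlgHom f hfu
  obtain ⟨P⟩ := hf.nonempty_standardEtalePresentation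
  obtain ⟨σ₁, hσ₁⟩ := exists_algHom_of_standardEtalePresentation P φ₁
  refine ⟨σ₁.comp (IsScalarTower.toAlgHom R A (Localization.Away f)), ?_⟩
  rw [← AlgHom.comp_assoc, hσ₁]
  ext x
  simp [φ₁, IsLocalization.Away.liftAlgHom]

end Groth.Agent.Lib.Helper3

namespace Groth.Agent.Lib.Helper3

open Polynomial IsLocalRing

/-- Uniqueness of lifts along étale algebras over a local ring: two `R`-algebra maps `A → R`
which agree modulo the maximal ideal are equal. (No Henselian hypothesis needed.) -/
theorem algHom_ext_of_etale {R : Type u} [CommRing R] [IsLocalRing R]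
    {A : Type u} [CommRing A] [Algebra R A] [Algebra.Etale R A] (σ₁ σ₂ : A →ₐ[R] R)
    (h : (residueAlgHom R).comp σ₁ = (residueAlgHom R).comp σ₂) : σ₁ = σ₂ := by
  let φ : A →ₐ[R] ResidueField R := (residueAlgHom R).comp σ₁
  let q : Ideal A := RingHom.ker φ.toRingHom
  have hq : q.IsPrime := RingHom.ker_isPrime _
  obtain ⟨f, hfq, hf⟩ := Algebra.IsEtaleAt.exists_isStandardEtale (R := R) q
  have hfu₁ : IsUnit (σ₁ f) := by
    have : residue R (σ₁ f) ≠ 0 := fun h => hfq h
    rwa [ne_eq, residue_eq_zero_iff, mem_maximalIdeal, mem_nonunits_iff, not_not] at this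
  have hfu₂ : IsUnit (σ₂ f) := by
    have : residue R (σ₂ f) ≠ 0 := by
      have e : residue R (σ₂ f) = residue R (σ₁ f) := (congr($h f)).symm
      rw [e]
      exact fun h => hfq h
    rwa [ne_eq, residue_eq_zero_iff, mem_maximalIdeal, mem_nonunits_iff, not_not] at this
  let τ₁ : Localization.Away f →ₐ[R] R := IsLocalization.Away.liftAlgHom f hfu₁
  let τ₂ : Localization.Away f →ₐ[R] R := IsLocalization.Away.liftAlgHom f hfu₂
  have hτ₁ : ∀ a, τ₁ (algebraMap A _ a) = σ₁ a := fun a => by
    simp [τ₁, IsLocalization.Away.liftAlgHom]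
  have hτ₂ : ∀ a, τ₂ (algebraMap A _ a) = σ₂ a := fun a => by
    simp [τ₂, IsLocalization.Away.liftAlgHom]
  have hres : ∀ x, residue R (τ₁ x) = residue R (τ₂ x) := by
    have : ((residueAlgHom R).comp τ₁).toRingHom = ((residueAlgHom R).comp τ₂).toRingHom := by
      apply IsLocalization.ringHom_ext (Submonoid.powers f)
      ext a
      simp only [AlgHom.toRingHom_eq_coe, RingHom.coe_comp, RingHom.coe_coe, AlgHom.coe_comp,
        Function.comp_apply, hτ₁, hτ₂]
      exact congr($h a)
    intro x
    exact congr($this x)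
  obtain ⟨P⟩ := hf.nonempty_standardEtalePresentation
  have hm₁ : P.HasMap (τ₁ P.x) := P.hasMap.map τ₁
  have hm₂ : P.HasMap (τ₂ P.x) := P.hasMap.map τ₂
  have hx : τ₁ P.x = τ₂ P.x := by
    apply IsLocalRing.eq_of_eval_eq_zero_of_not_isUnit_sub (f := P.f)
    · simpa using hm₁.1
    · simpa using hm₂.1
    · rw [← mem_nonunits_iff, ← mem_maximalIdeal, ← residue_eq_zero_iff, map_sub, hres, sub_self]
    · simpa using hm₁.isUnit_derivative_f
  have hτ : τ₁ = τ₂ := P.hom_ext hx
  ext a
  rw [← hτ₁, ← hτ₂, hτ]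

end Groth.Agent.Lib.Helper3

namespace Groth.Agent.Lib.Helper3

open Polynomial IsLocalRing

/-- Over a Henselian local ring `R`, an étale `R`-algebra `R'` with a prime `P` over the maximal
ideal with trivial residue field extension has a retraction `τ : R' → R` with `τ⁻¹(𝔪) = P`. -/
theorem exists_algHom_comap_eq_of_etale {R : Type u} [CommRing R] [HenselianLocalRing R]
    {R' : Type u} [CommRing R'] [Algebra R R'] [Algebra.Etale R R'] (P : Ideal R') [P.IsPrime]
    [P.LiesOver (maximalIdeal R)]
    (hP : Function.Surjective (algebraMap R P.ResidueField)) :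
    ∃ τ : R' →ₐ[R] R, Ideal.comap τ.toRingHom (maximalIdeal R) = P := by
  have hker : ∀ a ∈ maximalIdeal R, (Algebra.ofId R P.ResidueField) a = 0 := by
    intro a ha
    show algebraMap R P.ResidueField a = 0
    rw [IsScalarTower.algebraMap_apply R R' P.ResidueField, Ideal.algebraMap_residueField_eq_zero]
    have := P.over_def (maximalIdeal R)
    rw [this] at ha
    exact ha
  let ψ : ResidueField R →ₐ[R] P.ResidueField :=
    Ideal.Quotient.liftₐ (maximalIdeal R) (Algebra.ofId R P.ResidueField) hker
  have hψ : ∀ r, ψ (residue R r) = algebraMap R P.ResidueField r := fun r => rfl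
  have hψbij : Function.Bijective ψ := by
    refine ⟨ψ.toRingHom.injective, fun x => ?_⟩
    obtain ⟨r, rfl⟩ := hP x
    exact ⟨residue R r, hψ r⟩
  let e : ResidueField R ≃ₐ[R] P.ResidueField := AlgEquiv.ofBijective ψ hψbij
  let φ₀ : R' →ₐ[R] ResidueField R :=
    e.symm.toAlgHom.comp (IsScalarTower.toAlgHom R R' P.ResidueField)
  obtain ⟨τ, hτ⟩ := exists_algHom_of_etale φ₀
  refine ⟨τ, ?_⟩
  ext x
  rw [Ideal.mem_comap]
  show τ x ∈ maximalIdeal R ↔ x ∈ P
  rw [← residue_eq_zero_iff]
  have h1 : residue R (τ x) = φ₀ x := congr($hτ x)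
  rw [h1]
  simp only [φ₀, AlgHom.comp_apply, IsScalarTower.coe_toAlgHom']
  rw [← Ideal.algebraMap_residueField_eq_zero (I := P)]
  exact EmbeddingLike.map_eq_zero_iff (f := e.symm)

end Groth.Agent.Lib.Helper3
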