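import Groth.Agent.Lib.Helper3.Henselian3

/-!
# Basic theory of Henselian pairs, IV (helper3): radical, sups
-/

set_option autoImplicit false
universe u

namespace Groth.Agent.Lib.Helper3

open Polynomial

theorem henselianRing_iff_of_le {A : Type*} [CommRing A] (I J : Ideal A) (hIJ : I ≤ J) :
    HenselianRing A J ↔
      (HenselianRing A I ∧ HenselianRing (A ⧸ I) (Ideal.map (Ideal.Quotient.mk I) J)) :=
  ⟨fun _ => ⟨henselianRing_of_le hIJ, henselianRing_quotient_map J I⟩,
    fun ⟨_, _⟩ => henselianRing_of_quotient hIJ⟩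

theorem henselianRing_radical_iff {A : Type*} [CommRing A] (I : Ideal A) :
    HenselianRing A I.radical ↔ HenselianRing A I := by
  rw [henselianRing_iff_of_le I I.radical Ideal.le_radical]
  refine and_iff_left ?_
  apply henselianRing_of_nil
  intro x hx
  rw [Ideal.mem_map_iff_of_surjective _ Ideal.Quotient.mk_surjective] at hx
  obtain ⟨y, ⟨n, hn⟩, rfl⟩ := hx
  exact ⟨n, by rw [← map_pow, Ideal.Quotient.eq_zero_iff_mem]; exact hn⟩

theorem henselianRing_iff_of_radical_eq {A : Type*} [CommRing A] (I J : Ideal A)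
    (h : I.radical = J.radical) : HenselianRing A I ↔ HenselianRing A J := by
  rw [← henselianRing_radical_iff I, h, henselianRing_radical_iff]

theorem henselianRing_bot (A : Type*) [CommRing A] : HenselianRing A (⊥ : Ideal A) :=
  henselianRing_of_nil _ (fun x hx => by rw [Ideal.mem_bot] at hx; rw [hx]; exact IsNilpotent.zero)

theorem henselianRing_sup {A : Type*} [CommRing A] (I J : Ideal A) [HenselianRing A I]
    [HenselianRing A J] : HenselianRing A (I ⊔ J) := by
  have : HenselianRing (A ⧸ I) (Ideal.map (Ideal.Quotient.mk I) (I ⊔ J)) := by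
    rw [Ideal.map_sup, Ideal.map_quotient_self, bot_sup_eq]
    exact henselianRing_quotient_map J I
  exact henselianRing_of_quotient le_sup_left

theorem henselianRing_sSup {A : Type*} [CommRing A] :
    HenselianRing A (sSup {I : Ideal A | HenselianRing A I}) := by
  set S := {I : Ideal A | HenselianRing A I} with hS
  have hne : S.Nonempty := ⟨⊥, henselianRing_bot A⟩
  have hdir : DirectedOn (· ≤ ·) S := by
    intro I hI J hJ
    have : HenselianRing A I := hI
    have : HenselianRing A J := hJ
    exact ⟨I ⊔ J, henselianRing_sup I J, le_sup_left, le_sup_right⟩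
  have hjac : sSup S ≤ Ideal.jacobson ⊥ := sSup_le (fun I hI => (hI : HenselianRing A I).jac)
  refine ⟨hjac, ?_⟩
  intro f hf a₀ h₁ h₂
  have hloc := isLocalHom_of_le_jacobson_bot _ hjac
  have hu : IsUnit (f.derivative.eval a₀) := IsUnit.of_map (Ideal.Quotient.mk _) _ h₂
  rw [Submodule.mem_sSup_of_directed hne hdir] at h₁
  obtain ⟨I, hI, h₁⟩ := h₁
  have : HenselianRing A I := hI
  obtain ⟨a, ha, ha'⟩ := HenselianRing.is_henselian (I := I) f hf a₀ h₁ (hu.map _)
  exact ⟨a, ha, (le_sSup hI : I ≤ sSup S) ha'⟩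

end Groth.Agent.Lib.Helper3
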