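import Mathlib.Topology.Sober
import Mathlib.AlgebraicGeometry.Stalk
import Mathlib.AlgebraicGeometry.Properties
import Mathlib.RingTheory.Spectrum.Prime.Topology
import Mathlib.Data.Set.Card
import Mathlib.SetTheory.Cardinal.Finite

/-!
# Irreducible components through a point versus minimal primes of the local ring
-/

set_option linter.style.haveILetI false
set_option linter.unusedSectionVars false
set_option autoImplicit false

namespace Groth.Agent.Lib.Helper3.IrrCompStalk

open TopologicalSpace Topology

section Top

variable {T : Type*} [TopologicalSpace T]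

theorem specializes_of_mem_genericPoints {η y : T} (hη : η ∈ genericPoints T) (h : y ⤳ η) :
    η ⤳ y := by
  have h1 : closure ({η} : Set T) ⊆ closure {y} := h.closure_subset  
  have h2 : IsIrreducible (closure ({y} : Set T)) := isIrreducible_singleton.closure
  have h3 : closure ({y} : Set T) ⊆ closure {η} := hη.2 h2 h1
  rw [specializes_iff_mem_closure]
  exact h3 (subset_closure rfl)

theorem mem_genericPoints_iff [QuasiSober T] {η : T} :
    η ∈ genericPoints T ↔ ∀ y, y ⤳ η → η ⤳ y := by
  refine ⟨fun h y hy => specializes_of_mem_genericPoints h hy, fun h => ?_⟩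
  refine ⟨isIrreducible_singleton.closure, ?_⟩
  intro Z hZ hle
  have hZc : IsIrreducible (closure Z) := hZ.closure
  have hgen := hZc.isGenericPoint_genericPoint isClosed_closure
  have h1 : hZc.genericPoint ⤳ η := by
    rw [specializes_iff_mem_closure, hgen.def]
    exact subset_closure (hle (subset_closure rfl))
  have h2 := h _ h1
  intro z hz
  have h3 : z ∈ closure ({hZc.genericPoint} : Set T) := by
    rw [hgen.def]
    exact subset_closure hz
  exact h2.closure_subset h3

theorem encard_components_through [QuasiSober T] [T0Space T] (u : T) :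
    {Z : Set T | Z ∈ irreducibleComponents T ∧ u ∈ Z}.encard =
      {η : T | η ∈ genericPoints T ∧ η ⤳ u}.encard := by
  have himg : {Z : Set T | Z ∈ irreducibleComponents T ∧ u ∈ Z} =
      (fun η : T => closure ({η} : Set T)) '' {η : T | η ∈ genericPoints T ∧ η ⤳ u} := by
    ext Z
    constructor
    · rintro ⟨hZ, hu⟩
      have hgen := genericPoints.isGenericPoint_ofComponent ⟨Z, hZ⟩
      refine ⟨(genericPoints.ofComponent ⟨Z, hZ⟩).1, ⟨(genericPoints.ofComponent ⟨Z, hZ⟩).2, ?_⟩,
        hgen.def⟩
      exact hgen.specializes hu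
    · rintro ⟨η, ⟨hη, hηu⟩, rfl⟩
      exact ⟨hη, specializes_iff_mem_closure.mp hηu⟩
  rw [himg]
  apply Set.InjOn.encard_image
  intro a _ b _ hab
  have hab' : closure ({a} : Set T) = closure {b} := hab
  exact (inseparable_iff_closure_eq.mpr hab').eq

theorem image_genericPoints_of_isInducing {S : Type*} [TopologicalSpace S] [QuasiSober S]
    [QuasiSober T] (j : S → T) (hj : IsInducing j) (u : T) (hr : Set.range j = {y | y ⤳ u}) :
    j '' genericPoints S = {η | η ∈ genericPoints T ∧ η ⤳ u} := by
  ext η
  constructor
  · rintro ⟨ξ, hξ, rfl⟩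
    have hju : j ξ ⤳ u := by
      have : j ξ ∈ Set.range j := ⟨ξ, rfl⟩
      rw [hr] at this
      exact this
    refine ⟨mem_genericPoints_iff.mpr fun y hy => ?_, hju⟩
    have hyu : y ⤳ u := hy.trans hju
    obtain ⟨ξ', rfl⟩ : y ∈ Set.range j := by rw [hr]; exact hyu
    rw [hj.specializes_iff] at hy ⊢
    exact specializes_of_mem_genericPoints hξ hy
  · rintro ⟨hη, hηu⟩
    obtain ⟨ξ, rfl⟩ : η ∈ Set.range j := by rw [hr]; exact hηu
    refine ⟨ξ, mem_genericPoints_iff.mpr fun y hy => ?_, rfl⟩
    rw [← hj.specializes_iff] at hy ⊢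
    exact specializes_of_mem_genericPoints hη hy

end Top

section Spec

variable (A : Type*) [CommRing A]

theorem minimalPrimes_eq_image_genericPoints :
    minimalPrimes A = PrimeSpectrum.asIdeal '' genericPoints (PrimeSpectrum A) := by
  ext I
  constructor
  · intro hI
    have hIp : I.IsPrime := hI.1.1
    refine ⟨⟨I, hIp⟩, ?_, rfl⟩
    change closure {(⟨I, hIp⟩ : PrimeSpectrum A)} ∈ irreducibleComponents (PrimeSpectrum A)
    rw [← PrimeSpectrum.vanishingIdeal_mem_minimalPrimes, PrimeSpectrum.vanishingIdeal_singleton]
    exact hI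
  · rintro ⟨ξ, hξ, rfl⟩
    have h : closure {ξ} ∈ irreducibleComponents (PrimeSpectrum A) := hξ
    rw [← PrimeSpectrum.vanishingIdeal_mem_minimalPrimes,
      PrimeSpectrum.vanishingIdeal_singleton] at h
    exact h

theorem encard_genericPoints_primeSpectrum :
    (genericPoints (PrimeSpectrum A)).encard = ENat.card (minimalPrimes A) := by
  rw [ENat.card_coe_set_eq, minimalPrimes_eq_image_genericPoints]
  symm
  apply Set.InjOn.encard_image
  intro a _ b _ hab
  exact PrimeSpectrum.ext hab

end Spec

section Scheme

open AlgebraicGeometry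

universe u

theorem encard_irreducibleComponents_through (U : Scheme.{u}) (x : U) :
    {Z : Set U | Z ∈ irreducibleComponents U ∧ x ∈ Z}.encard =
      ENat.card (minimalPrimes (U.presheaf.stalk x)) := by
  rw [encard_components_through x, ← encard_genericPoints_primeSpectrum,
    ← image_genericPoints_of_isInducing (U.fromSpecStalk x)
      (U.fromSpecStalk x).isEmbedding.isInducing x Scheme.range_fromSpecStalk]
  apply Set.InjOn.encard_image
  exact (U.fromSpecStalk x).isEmbedding.injective.injOn

end Scheme

end Groth.Agent.Lib.Helper3.IrrCompStalk
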