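import Mathlib

set_option autoImplicit false
set_option linter.style.haveILetI false
set_option linter.unusedSectionVars false
universe u

namespace Groth.Agent.Lib.Helper3

open Polynomial

theorem faithfullyFlat_adjoinRoot {R : Type u} [CommRing R] {f : R[X]} (hf : f.Monic)
    (hd : f.natDegree ≠ 0) : Module.FaithfullyFlat R (AdjoinRoot f) := by
  have : Nonempty (Fin (AdjoinRoot.powerBasis' hf).dim) := by
    rw [AdjoinRoot.powerBasis'_dim]
    exact ⟨⟨0, Nat.pos_of_ne_zero hd⟩⟩
  exact Module.FaithfullyFlat.of_linearEquiv R _ (AdjoinRoot.powerBasis' hf).basis.repr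

theorem exists_splitting_algebra : ∀ (n : ℕ) (R : Type u) [CommRing R] (f : R[X]), f.Monic →
    f.natDegree = n →
    ∃ (S' : Type u) (_ : CommRing S') (_ : Algebra R S'), Module.Finite R S' ∧
      Algebra.FinitePresentation R S' ∧ Module.FaithfullyFlat R S' ∧
      ∃ α : Fin n → S', f.map (algebraMap R S') = ∏ i, (X - C (α i)) := by
  intro n
  induction n with
  | zero =>
    intro R _ f hf hn
    refine ⟨R, inferInstance, inferInstance, inferInstance, inferInstance, inferInstance,
      Fin.elim0, ?_⟩
    have : f = 1 := hf.natDegree_eq_zero.mp hn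
    simp [this]
  | succ n ih =>
    intro R _ f hf hn
    have hRnt : Nontrivial R := by
      by_contra h
      rw [not_nontrivial_iff_subsingleton] at h
      have : f = 0 := Subsingleton.elim _ _
      simp [this] at hn
    haveI : Module.Finite R (AdjoinRoot f) := hf.finite_adjoinRoot
    haveI : Module.FaithfullyFlat R (AdjoinRoot f) := faithfullyFlat_adjoinRoot hf (by omega)
    have hpu : ¬ IsUnit f := fun h => by
      have := hf.eq_one_of_isUnit h
      simp [this] at hn
    haveI : Nontrivial (AdjoinRoot f) := Ideal.Quotient.nontrivial_iff.mpr (by simpa)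
    have hroot : ((f.map (algebraMap R (AdjoinRoot f)))).IsRoot (AdjoinRoot.root f) := by
      rw [IsRoot.def, eval_map, ← aeval_def]
      exact AdjoinRoot.aeval_eq f ▸ AdjoinRoot.mk_self
    have hmul := (Polynomial.mul_divByMonic_eq_iff_isRoot).mpr hroot
    set f₁ := (f.map (algebraMap R (AdjoinRoot f))) /ₘ (X - C (AdjoinRoot.root f)) with hf₁
    have hfm : (f.map (algebraMap R (AdjoinRoot f))).Monic := hf.map _
    have hf₁m : f₁.Monic := by
      have := hfm
      rw [← hmul] at this
      exact Monic.of_mul_monic_left (monic_X_sub_C _) this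
    have hf₁d : f₁.natDegree = n := by
      have h1 := congrArg natDegree hmul
      rw [Monic.natDegree_mul (monic_X_sub_C _) hf₁m, natDegree_X_sub_C,
        hf.natDegree_map, hn] at h1
      omega
    obtain ⟨S', _, _, hfin, hfp, hff, α, hα⟩ := ih (AdjoinRoot f) f₁ hf₁m hf₁d
    letI : Algebra R S' := ((algebraMap (AdjoinRoot f) S').comp (algebraMap R (AdjoinRoot f))).toAlgebra
    haveI : IsScalarTower R (AdjoinRoot f) S' := IsScalarTower.of_algebraMap_eq fun _ => rfl
    refine ⟨S', inferInstance, inferInstance, Module.Finite.trans (AdjoinRoot f) S',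
      Algebra.FinitePresentation.trans R (AdjoinRoot f) S',
      Module.FaithfullyFlat.trans R (AdjoinRoot f) S',
      Fin.cons (algebraMap (AdjoinRoot f) S' (AdjoinRoot.root f)) α, ?_⟩
    rw [Fin.prod_univ_succ]
    simp only [Fin.cons_zero, Fin.cons_succ]
    rw [← hα, IsScalarTower.algebraMap_eq R (AdjoinRoot f) S', ← Polynomial.map_map, ← hmul]
    simp
  

open TensorProduct

theorem exists_prime_tensorProduct_comap_eq {R S S' : Type*} [CommRing R] [CommRing S]
    [CommRing S'] [Algebra R S] [Algebra R S'] (q : Ideal S) [q.IsPrime] (q' : Ideal S')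
    [q'.IsPrime] (h : q'.under R = q.under R) :
    ∃ Q : Ideal (S ⊗[R] S'), Q.IsPrime ∧
      Q.comap (Algebra.TensorProduct.includeLeft : S →ₐ[R] S ⊗[R] S') = q ∧
      Q.comap (Algebra.TensorProduct.includeRight : S' →ₐ[R] S ⊗[R] S') = q' := by
  let φ : (q.under R).ResidueField →+* q.ResidueField :=
    Ideal.ResidueField.map (q.under R) q (algebraMap R S) rfl
  let φ' : (q.under R).ResidueField →+* q'.ResidueField :=
    Ideal.ResidueField.map (q.under R) q' (algebraMap R S') h.symm
  letI : Algebra (q.under R).ResidueField q.ResidueField := φ.toAlgebra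
  letI : Algebra (q.under R).ResidueField q'.ResidueField := φ'.toAlgebra
  obtain ⟨M, hM⟩ := Ideal.exists_maximal (q.ResidueField ⊗[(q.under R).ResidueField] q'.ResidueField)
  let ψ₁ : S →+* q.ResidueField ⊗[(q.under R).ResidueField] q'.ResidueField :=
    (Algebra.TensorProduct.includeLeftRingHom).comp (algebraMap S q.ResidueField)
  let ψ₂ : S' →+* q.ResidueField ⊗[(q.under R).ResidueField] q'.ResidueField :=
    (Algebra.TensorProduct.includeRight.toRingHom).comp (algebraMap S' q'.ResidueField)
  have hψ : ∀ r : R, ψ₁ (algebraMap R S r) = ψ₂ (algebraMap R S' r) := by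
    intro r
    have h1 : algebraMap S q.ResidueField (algebraMap R S r) =
        algebraMap (q.under R).ResidueField q.ResidueField
          (algebraMap R (q.under R).ResidueField r) :=
      (Ideal.ResidueField.map_algebraMap (q.under R) q (algebraMap R S) rfl r).symm
    have h2 : algebraMap S' q'.ResidueField (algebraMap R S' r) =
        algebraMap (q.under R).ResidueField q'.ResidueField
          (algebraMap R (q.under R).ResidueField r) :=
      (Ideal.ResidueField.map_algebraMap (q.under R) q' (algebraMap R S') h.symm r).symm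
    simp only [ψ₁, ψ₂, RingHom.comp_apply, h1, h2]
    simp only [Algebra.TensorProduct.includeLeftRingHom_apply, AlgHom.toRingHom_eq_coe,
      RingHom.coe_coe, Algebra.TensorProduct.includeRight_apply]
    generalize algebraMap R (q.under R).ResidueField r = c
    rw [Algebra.algebraMap_eq_smul_one, Algebra.algebraMap_eq_smul_one, TensorProduct.smul_tmul]
  letI : Algebra R (q.ResidueField ⊗[(q.under R).ResidueField] q'.ResidueField) :=
    (ψ₁.comp (algebraMap R S)).toAlgebra
  let f₁ : S →ₐ[R] q.ResidueField ⊗[(q.under R).ResidueField] q'.ResidueField :=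
    { ψ₁ with commutes' := fun r => rfl }
  let f₂ : S' →ₐ[R] q.ResidueField ⊗[(q.under R).ResidueField] q'.ResidueField :=
    { ψ₂ with commutes' := fun r => (hψ r).symm }
  let Φ := Algebra.TensorProduct.productMap f₁ f₂
  refine ⟨M.comap Φ, inferInstance, ?_, ?_⟩
  · have : (M.comap Φ).comap (Algebra.TensorProduct.includeLeft : S →ₐ[R] S ⊗[R] S') =
        (M.comap (Algebra.TensorProduct.includeLeftRingHom :
          q.ResidueField →+* q.ResidueField ⊗[(q.under R).ResidueField] q'.ResidueField)).comap
          (algebraMap S q.ResidueField) := by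
      ext x
      simp [Φ, f₁, ψ₁]
    rw [this, Ideal.eq_bot_of_prime (M.comap _), ← RingHom.ker_eq_comap_bot,
      Ideal.ker_algebraMap_residueField]
  · have : (M.comap Φ).comap (Algebra.TensorProduct.includeRight : S' →ₐ[R] S ⊗[R] S') =
        (M.comap (Algebra.TensorProduct.includeRight.toRingHom :
          q'.ResidueField →+* q.ResidueField ⊗[(q.under R).ResidueField] q'.ResidueField)).comap
          (algebraMap S' q'.ResidueField) := by
      ext x
      simp [Φ, f₂, ψ₂]
    rw [this, Ideal.eq_bot_of_prime (M.comap _), ← RingHom.ker_eq_comap_bot,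
      Ideal.ker_algebraMap_residueField]


theorem exists_algHom_away_of_standardEtale_of_split {R S S' : Type u} [CommRing R] [CommRing S]
    [CommRing S'] [Algebra R S] [Algebra R S'] (P : StandardEtalePresentation R S) {n : ℕ}
    (α : Fin n → S') (hα : P.f.map (algebraMap R S') = ∏ i, (X - C (α i)))
    (q : Ideal S) [q.IsPrime] (q' : Ideal S') [q'.IsPrime] (h : q'.under R = q.under R) :
    ∃ (g' : S') (_ : g' ∉ q') (φ : S →ₐ[R] Localization.Away g'),
      (q'.map (algebraMap S' (Localization.Away g'))).comap φ = q := by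
  obtain ⟨Q, hQ, hQl, hQr⟩ := exists_prime_tensorProduct_comap_eq q q' h
  -- the product vanishes
  have hprod : ∏ i, ((P.x ⊗ₜ[R] (1 : S')) - (1 : S) ⊗ₜ[R] α i) = 0 := by
    have h1 : aeval (P.x ⊗ₜ[R] (1 : S')) P.f = 0 := by
      have := P.hasMap.1
      have h2 : aeval ((Algebra.TensorProduct.includeLeft : S →ₐ[R] S ⊗[R] S') P.x) P.f = 0 := by
        rw [aeval_algHom_apply, this, map_zero]
      simpa using h2
    have h3 : aeval (P.x ⊗ₜ[R] (1 : S')) P.f =
        eval (P.x ⊗ₜ[R] (1 : S')) ((P.f.map (algebraMap R S')).map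
          (Algebra.TensorProduct.includeRight : S' →ₐ[R] S ⊗[R] S').toRingHom) := by
      rw [Polynomial.map_map, aeval_def, eval_map]
      congr 1
      ext r
      simp [Algebra.algebraMap_eq_smul_one]
    rw [h3, hα, Polynomial.map_prod, eval_prod] at h1
    simpa using h1
  obtain ⟨i, -, hi⟩ := (Ideal.IsPrime.prod_mem_iff).mp (hprod ▸ Q.zero_mem)
  -- the two maps to the domain `D = C ⧸ Q`
  let ψ : S →ₐ[R] (S ⊗[R] S') ⧸ Q :=
    (Ideal.Quotient.mkₐ R Q).comp Algebra.TensorProduct.includeLeft
  let χ₀ : S' →ₐ[R] (S ⊗[R] S') ⧸ Q :=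
    (Ideal.Quotient.mkₐ R Q).comp Algebra.TensorProduct.includeRight
  have hψker : RingHom.ker ψ = q := by
    rw [← hQl]
    ext x
    simp [ψ, RingHom.mem_ker, Ideal.Quotient.eq_zero_iff_mem]
  have hχ₀ker : RingHom.ker χ₀ = q' := by
    rw [← hQr]
    ext x
    simp [χ₀, RingHom.mem_ker, Ideal.Quotient.eq_zero_iff_mem]
  have hxα : ψ P.x = χ₀ (α i) := by
    simp only [ψ, χ₀, AlgHom.comp_apply, Ideal.Quotient.mkₐ_eq_mk,
      Algebra.TensorProduct.includeLeft_apply, Algebra.TensorProduct.includeRight_apply]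
    exact (Ideal.Quotient.mk_eq_mk_iff_sub_mem _ _).mpr hi
  have hg' : aeval (α i) P.g ∉ q' := by
    intro hmem
    have h1 : χ₀ (aeval (α i) P.g) = 0 := by
      rw [← RingHom.mem_ker, hχ₀ker]; exact hmem
    rw [← aeval_algHom_apply, ← hxα, aeval_algHom_apply] at h1
    have h2 : IsUnit (ψ (aeval P.x P.g)) := P.hasMap.2.map ψ
    rw [h1] at h2
    exact not_isUnit_zero h2
  refine ⟨aeval (α i) P.g, hg', ?_⟩
  have hy : P.HasMap (algebraMap S' (Localization.Away (aeval (α i) P.g)) (α i)) := by
    constructor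
    · rw [aeval_algebraMap_apply]
      have : aeval (α i) P.f = 0 := by
        rw [aeval_def, ← eval_map, hα, eval_prod]
        exact Finset.prod_eq_zero (Finset.mem_univ i) (by simp)
      rw [this, map_zero]
    · rw [aeval_algebraMap_apply]
      exact IsLocalization.Away.algebraMap_isUnit _
  let φ : S →ₐ[R] Localization.Away (aeval (α i) P.g) :=
    (P.lift _ hy).comp P.equivRing.toAlgHom
  refine ⟨φ, ?_⟩
  -- the map to the fraction field
  have hunit : IsUnit ((algebraMap ((S ⊗[R] S') ⧸ Q) (FractionRing ((S ⊗[R] S') ⧸ Q))).comp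
      χ₀.toRingHom (aeval (α i) P.g)) := by
    rw [RingHom.comp_apply]
    refine IsUnit.mk0 _ ?_
    rw [Ne, FaithfulSMul.algebraMap_eq_zero_iff]
    intro h0
    exact hg' (hχ₀ker ▸ (RingHom.mem_ker.mpr h0))
  let χ : Localization.Away (aeval (α i) P.g) →+* FractionRing ((S ⊗[R] S') ⧸ Q) :=
    IsLocalization.Away.lift (aeval (α i) P.g) hunit
  have hχ : ∀ s : S', χ (algebraMap S' _ s) = algebraMap _ _ (χ₀ s) := fun s => by
    simp [χ, IsLocalization.Away.lift_eq]
  let χA : Localization.Away (aeval (α i) P.g) →ₐ[R] FractionRing ((S ⊗[R] S') ⧸ Q) :=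
    { χ with
      commutes' := fun r => by
        change χ (algebraMap R _ r) = _
        rw [IsScalarTower.algebraMap_apply R S' (Localization.Away (aeval (α i) P.g)), hχ,
          AlgHom.commutes, ← IsScalarTower.algebraMap_apply] }
  have hcomp : ∀ s : S, χ (φ s) = algebraMap _ _ (ψ s) := by
    have hF : χA.comp φ =
        (IsScalarTower.toAlgHom R ((S ⊗[R] S') ⧸ Q) (FractionRing ((S ⊗[R] S') ⧸ Q))).comp
          ψ := by
      apply P.hom_ext
      have e1 : φ P.x = algebraMap S' _ (α i) := by
        change P.lift _ hy (P.equivRing P.x) = _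
        rw [P.equivRing_x, StandardEtalePair.lift_X]
      change χ (φ P.x) = algebraMap _ _ (ψ P.x)
      rw [e1, hχ, hxα]
    intro s
    exact congrArg (fun F => F s) hF
  have hkerχ : RingHom.ker χ = q'.map (algebraMap S' (Localization.Away (aeval (α i) P.g))) := by
    rw [← IsLocalization.map_under (Submonoid.powers (aeval (α i) P.g))
      (Localization.Away (aeval (α i) P.g)) (RingHom.ker χ)]
    congr 1
    ext s
    rw [Ideal.mem_comap, RingHom.mem_ker, hχ, FaithfulSMul.algebraMap_eq_zero_iff,
      ← RingHom.mem_ker, hχ₀ker]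
  rw [← hkerχ]
  ext s
  rw [Ideal.mem_comap, RingHom.mem_ker, hcomp, FaithfulSMul.algebraMap_eq_zero_iff,
    ← RingHom.mem_ker, hψker]

end Groth.Agent.Lib.Helper3
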