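import Groth.Agent.Lib.Helper3.FiniteEtaleHom

/-!
# Étale algebras over (strictly) Henselian local rings: rational points (helper3)
-/

set_option autoImplicit false
universe u

namespace Groth.Agent.Lib.Helper3

open TensorProduct

/-- Two algebra maps from an unramified algebra of finite type which agree modulo an ideal
contained in the Jacobson radical are equal. -/
theorem algHom_ext_of_comp_mk_eq {A : Type*} [CommRing A] {B₁ B₂ : Type*} [CommRing B₁]
    [CommRing B₂] [Algebra A B₁] [Algebra A B₂] [Algebra.FormallyUnramified A B₁]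
    [Algebra.EssFiniteType A B₁] (J : Ideal B₂) (hJ : J ≤ Ideal.jacobson ⊥) (φ ψ : B₁ →ₐ[A] B₂)
    (h : (Ideal.Quotient.mkₐ A J).comp φ = (Ideal.Quotient.mkₐ A J).comp ψ) : φ = ψ := by
  have h' : ∀ b, φ b - ψ b ∈ J := fun b => Ideal.Quotient.eq.mp congr($h b)
  let Φ : B₁ ⊗[A] B₁ →ₐ[A] B₂ := Algebra.TensorProduct.productMap φ ψ
  let Ψ : B₁ ⊗[A] B₁ →ₐ[A] B₂ := φ.comp (Algebra.TensorProduct.lmul' A)
  have hΦΨ : ∀ t, Φ t - Ψ t ∈ J := by
    intro t
    induction t using TensorProduct.induction_on with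
    | zero => simp
    | tmul x y =>
      have : Φ (x ⊗ₜ y) - Ψ (x ⊗ₜ y) = - (φ x * (φ y - ψ y)) := by
        simp [Φ, Ψ]; ring
      rw [this]
      exact J.neg_mem (J.mul_mem_left _ (h' y))
    | add x y hx hy =>
      rw [map_add, map_add, add_sub_add_comm]
      exact J.add_mem hx hy
  set t := Algebra.FormallyUnramified.elem A B₁ with ht
  have hε : IsUnit (Φ t) := by
    have h1 : Ψ t = 1 := by
      show φ (Algebra.TensorProduct.lmul' A t) = 1
      rw [ht, Algebra.FormallyUnramified.lmul_elem, map_one]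
    have h2 := hΦΨ t
    rw [h1] at h2
    have := isUnit_add_of_mem_jacobson_bot isUnit_one (hJ h2)
    simpa using this
  ext s
  have h0 : (ψ s - φ s) * Φ t = 0 := by
    have := congrArg Φ (Algebra.FormallyUnramified.one_tmul_sub_tmul_one_mul_elem (R := A) s)
    rw [map_mul, map_zero, map_sub] at this
    simpa [Φ] using this
  have := (hε.mul_left_eq_zero).mp h0
  exact (sub_eq_zero.mp this).symm

/-- An algebra map from a finite power `X → K` of a field `K` to a domain factors through the
evaluation at a point. -/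
theorem exists_eval_of_algHom_pi {K L : Type*} [Field K] [CommRing L] [IsDomain L] [Algebra K L]
    {X : Type*} [Finite X] (χ : (X → K) →ₐ[K] L) :
    ∃ x₀ : X, ∀ v : X → K, χ v = algebraMap K L (v x₀) := by
  classical
  cases nonempty_fintype X
  have hsum : ∑ x : X, χ (Pi.single x 1) = 1 := by
    rw [← map_sum, Finset.univ_sum_single]
    exact map_one χ
  obtain ⟨x₀, hx₀⟩ : ∃ x, χ (Pi.single x 1) ≠ 0 := by
    by_contra hcon
    push Not at hcon
    rw [Finset.sum_eq_zero (fun x _ => hcon x)] at hsum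
    exact zero_ne_one hsum
  have hidem : χ (Pi.single x₀ 1) * χ (Pi.single x₀ 1) = χ (Pi.single x₀ 1) := by
    rw [← map_mul]
    congr 1
    ext j
    by_cases hj : j = x₀
    · subst hj; simp
    · simp [Pi.single_eq_of_ne hj]
  have hone : χ (Pi.single x₀ 1) = 1 := by
    have : χ (Pi.single x₀ 1) * (χ (Pi.single x₀ 1) - 1) = 0 := by
      rw [mul_sub, hidem, mul_one, sub_self]
    rcases mul_eq_zero.mp this with h | h
    · exact absurd h hx₀
    · exact sub_eq_zero.mp h
  refine ⟨x₀, fun v => ?_⟩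
  have h1 : v * Pi.single x₀ 1 = (v x₀) • (Pi.single x₀ 1 : X → K) := by
    ext j
    by_cases hj : j = x₀
    · subst hj; simp
    · simp [Pi.single_eq_of_ne hj]
  calc χ v = χ v * χ (Pi.single x₀ 1) := by rw [hone, mul_one]
    _ = χ ((v x₀) • (Pi.single x₀ 1 : X → K)) := by rw [← map_mul, h1]
    _ = algebraMap K L (v x₀) := by rw [map_smul, hone, Algebra.smul_def, mul_one]

/-- Over a strictly Henselian local ring `R`, every point of an étale `R`-algebra with values in a
field extension of the residue field comes from an `R`-point. -/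
theorem exists_algHom_of_etale_of_isSepClosed {R : Type u} [CommRing R] [HenselianLocalRing R]
    [IsSepClosed (IsLocalRing.ResidueField R)] {A : Type u} [CommRing A] [Algebra R A]
    [Algebra.Etale R A] {L : Type*} [Field L] [Algebra R L]
    [Algebra (IsLocalRing.ResidueField R) L] [IsScalarTower R (IsLocalRing.ResidueField R) L]
    (ψ : A →ₐ[R] L) :
    ∃ σ : A →ₐ[R] R, ∀ a, ψ a =
      algebraMap (IsLocalRing.ResidueField R) L (IsLocalRing.residue R (σ a)) := by
  let ψb : (IsLocalRing.ResidueField R) ⊗[R] A →ₐ[IsLocalRing.ResidueField R] L :=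
    Algebra.TensorProduct.lift (Algebra.ofId (IsLocalRing.ResidueField R) L) ψ
      (fun _ _ => Commute.all _ _)
  have := Algebra.FormallyUnramified.finite_of_free (IsLocalRing.ResidueField R)
    ((IsLocalRing.ResidueField R) ⊗[R] A)
  have : IsArtinianRing ((IsLocalRing.ResidueField R) ⊗[R] A) :=
    isArtinian_of_tower (IsLocalRing.ResidueField R) inferInstance
  let Θ := Algebra.FormallyEtale.equivPiOfIsSepClosed (IsLocalRing.ResidueField R)
    ((IsLocalRing.ResidueField R) ⊗[R] A)
  obtain ⟨x₀, hx₀⟩ := exists_eval_of_algHom_pi (ψb.comp Θ.symm.toAlgHom)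
  let ρb : (IsLocalRing.ResidueField R) ⊗[R] A →ₐ[IsLocalRing.ResidueField R]
      IsLocalRing.ResidueField R :=
    (Pi.evalAlgHom (IsLocalRing.ResidueField R) (fun _ => IsLocalRing.ResidueField R) x₀).comp
      Θ.toAlgHom
  have hρb : ∀ a, ψb a = algebraMap (IsLocalRing.ResidueField R) L (ρb a) := by
    intro a
    have := hx₀ (Θ a)
    simpa [ρb] using this
  let ρ₀ : A →ₐ[R] IsLocalRing.ResidueField R :=
    (ρb.restrictScalars R).comp Algebra.TensorProduct.includeRight
  obtain ⟨σ, hσ⟩ := exists_algHom_of_etale ρ₀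
  refine ⟨σ, fun a => ?_⟩
  have h1 : IsLocalRing.residue R (σ a) = ρ₀ a := congr($hσ a)
  rw [h1]
  show ψ a = algebraMap _ L (ρb (1 ⊗ₜ a))
  rw [← hρb]
  simp [ψb]

end Groth.Agent.Lib.Helper3
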