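import Groth.Agent.Lib.Helper3.EtaleSection2
import Groth.Agent.Lib.Helper3.StrictHens

/-!
# Relative étale lifting for Henselian pairs (helper3)

`existsUnique_algHom_lift_of_etale`: for an `A`-algebra `C` Henselian at `J` and an étale `A`-algebra
`E`, the map `Hom_A(E, C) → Hom_A(E, C ⧸ J)` is bijective.
-/

set_option autoImplicit false

open TensorProduct

namespace Groth.Agent.Lib.Helper3

universe u

/-- Relative étale lifting: if `C` is an `A`-algebra Henselian at `J` and `E` is an étale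
`A`-algebra, every `A`-algebra map `E → C ⧸ J` lifts uniquely to `E → C`. -/
theorem exists_algHom_lift_of_etale_of_algebra {A : Type u} [CommRing A] (E : Type u) [CommRing E]
    [Algebra A E] [Algebra.Etale A E] (C : Type u) [CommRing C] [Algebra A C] (J : Ideal C)
    [HenselianRing C J] (τ : E →ₐ[A] C ⧸ J) :
    ∃ g : E →ₐ[A] C, (Ideal.Quotient.mkₐ A J).comp g = τ := by
  let σ' : C ⊗[A] E →ₐ[C] C ⧸ J :=
    Algebra.TensorProduct.lift (Algebra.ofId C (C ⧸ J)) τ (fun _ _ => Commute.all _ _)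
  obtain ⟨τ', hτ'⟩ := exists_algHom_lift_of_etale J (C ⊗[A] E) σ'
  refine ⟨(τ'.restrictScalars A).comp Algebra.TensorProduct.includeRight, ?_⟩
  ext x
  have := congrArg (fun f => f ((1 : C) ⊗ₜ[A] x)) hτ'
  simpa [σ'] using this

theorem existsUnique_algHom_lift_of_etale {A : Type u} [CommRing A] (E : Type u) [CommRing E]
    [Algebra A E] [Algebra.Etale A E] (C : Type u) [CommRing C] [Algebra A C] (J : Ideal C)
    [HenselianRing C J] (τ : E →ₐ[A] C ⧸ J) :
    ∃! g : E →ₐ[A] C, (Ideal.Quotient.mkₐ A J).comp g = τ := by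
  obtain ⟨g, hg⟩ := exists_algHom_lift_of_etale_of_algebra E C J τ
  refine ⟨g, hg, fun g' hg' => ?_⟩
  exact algHom_ext_of_comp_mk_eq J HenselianRing.jac g' g (hg'.trans hg.symm)

end Groth.Agent.Lib.Helper3
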