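import Groth.Agent.Lib.Helper3.IdemRoot

/-!
# Henselian pairs and idempotents of finite/integral algebras (helper3)
-/

set_option autoImplicit false
universe u

namespace Groth.Agent.Lib.Helper3

open Polynomial

/-- Over a Henselian pair `(A, I)`, for an integral `A`-algebra `B`, reduction modulo `IB` is a
bijection on idempotents. -/
theorem bijOn_idempotents_of_henselianRing {A : Type u} [CommRing A] (I : Ideal A)
    [HenselianRing A I] {B : Type*} [CommRing B] [Algebra A B] [Algebra.IsIntegral A B]
    (J : Ideal B) (hJ : J = I.map (algebraMap A B)) :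
    Set.BijOn (Ideal.Quotient.mk J) {e : B | IsIdempotentElem e} {e | IsIdempotentElem e} := by
  subst hJ
  have hjac : I ≤ Ideal.jacobson ⊥ := HenselianRing.jac
  refine ⟨fun e he => he.map _, ?_, ?_⟩
  · intro e he e' he' hee'
    apply eq_of_isIdempotentElem_of_sub_mem_jacobson he he'
    exact map_le_jacobson_bot_of_isIntegral hjac (Ideal.Quotient.eq.mp hee')
  · intro eb heb
    obtain ⟨b, rfl⟩ := Ideal.Quotient.mk_surjective eb
    have hb : b * b - b ∈ I.map (algebraMap A B) := by
      rw [← Ideal.Quotient.eq, map_mul]; exact heb.eq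
    obtain ⟨e, he, heb'⟩ := exists_idempotent_lift_of_isIntegral I b hb
    exact ⟨e, he, Ideal.Quotient.eq.mpr heb'⟩

/-- If reduction modulo `IB` is a bijection on idempotents for all finite `A`-algebras `B`, then
`A` is Henselian at `I`. -/
theorem henselianRing_of_bijOn_idempotents {A : Type u} [CommRing A] (I : Ideal A)
    (h : ∀ (B : Type u) [CommRing B] [Algebra A B], Module.Finite A B →
      Set.BijOn (Ideal.Quotient.mk (Ideal.map (algebraMap A B) I))
        {e : B | IsIdempotentElem e} {e | IsIdempotentElem e}) :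
    HenselianRing A I := by
  have hjac : I ≤ Ideal.jacobson ⊥ := by
    rw [Ideal.jacobson, le_sInf_iff]
    rintro 𝔪 ⟨-, h𝔪⟩
    intro a ha
    by_contra hna
    obtain ⟨y, i, hi, hyi⟩ := h𝔪.exists_inv hna
    have hB := h (A ⧸ 𝔪) inferInstance
    have htop : Ideal.map (algebraMap A (A ⧸ 𝔪)) I = ⊤ := by
      rw [Ideal.eq_top_iff_one]
      have h1 : (1 : A ⧸ 𝔪) = Ideal.Quotient.mk 𝔪 y * algebraMap A (A ⧸ 𝔪) a := by
        rw [Ideal.Quotient.algebraMap_eq, ← map_mul, ← map_one (Ideal.Quotient.mk 𝔪),
          Ideal.Quotient.eq, ← hyi]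
        simpa using hi
      rw [h1]
      exact Ideal.mul_mem_left _ _ (Ideal.mem_map_of_mem _ ha)
    have hsub : Subsingleton ((A ⧸ 𝔪) ⧸ Ideal.map (algebraMap A (A ⧸ 𝔪)) I) :=
      Ideal.Quotient.subsingleton_iff.mpr htop
    have h01 : (0 : A ⧸ 𝔪) = 1 :=
      hB.injOn IsIdempotentElem.zero IsIdempotentElem.one (Subsingleton.elim _ _)
    have : Nontrivial (A ⧸ 𝔪) := Ideal.Quotient.nontrivial_iff.mpr h𝔪.ne_top
    exact zero_ne_one h01
  refine ⟨hjac, ?_⟩
  intro f hf a₀ h₁ h₂
  have hloc := isLocalHom_of_le_jacobson_bot I hjac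
  have hu : IsUnit (f.derivative.eval a₀) := IsUnit.of_map (Ideal.Quotient.mk I) _ h₂
  have hfin : Module.Finite A (AdjoinRoot f) := hf.finite_adjoinRoot
  have hB := h (AdjoinRoot f) hfin
  apply exists_root_of_idempotent_lift hjac f hf a₀ h₁ hu
  intro e₀ he₀
  have hidem : IsIdempotentElem (Ideal.Quotient.mk (Ideal.map (algebraMap A (AdjoinRoot f)) I) e₀) := by
    show _ * _ = _
    rw [← map_mul, Ideal.Quotient.eq]; exact he₀
  obtain ⟨e, he, hee⟩ := hB.surjOn hidem
  exact ⟨e, he, Ideal.Quotient.eq.mp hee⟩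

/-- An integral algebra over a Henselian pair is Henselian (at the extended ideal). -/
theorem henselianRing_map_of_isIntegral {A : Type u} [CommRing A] (I : Ideal A)
    [HenselianRing A I] (B : Type u) [CommRing B] [Algebra A B] [Algebra.IsIntegral A B] :
    HenselianRing B (Ideal.map (algebraMap A B) I) := by
  apply henselianRing_of_bijOn_idempotents
  intro C _ _ hfin
  let algAC : Algebra A C := ((algebraMap B C).comp (algebraMap A B)).toAlgebra
  have hst : IsScalarTower A B C := IsScalarTower.of_algebraMap_eq (fun _ => rfl)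
  have hintBC : Algebra.IsIntegral B C := Algebra.IsIntegral.of_finite B C
  have hint : Algebra.IsIntegral A C := Algebra.IsIntegral.trans B
  refine bijOn_idempotents_of_henselianRing I _ ?_
  rw [Ideal.map_map]
  rfl

end Groth.Agent.Lib.Helper3
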