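import Groth.Agent.Lib.Helper9.Hens.LocalFlat
import Groth.Agent.Lib.Helper3.IdemBij
import Groth.Agent.Lib.Helper3.Henselian4

/-!
# Henselization of an integral local extension (helper3)

If `A → B` is a local homomorphism of local rings with `B` integral over `A` and `S` is a
henselization of `A`, then `B ⊗[A] S` is a henselization of `B`.
-/

set_option autoImplicit false
set_option linter.unusedSectionVars false
set_option linter.style.haveILetI false

namespace Groth.Agent.Lib.Helper3

universe u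

open Groth.Agent.Lib.Helper9 Groth.Agent.Lib.Helper9.Hens TensorProduct IsLocalRing

attribute [local instance] Algebra.TensorProduct.rightAlgebra

section

variable (A B S : Type u) [CommRing A] [IsLocalRing A]
  [CommRing B] [IsLocalRing B] [Algebra A B] [IsLocalHom (algebraMap A B)]
  [CommRing S] [IsLocalRing S] [Algebra A S] [IsLocalHom (algebraMap A S)]

/-- `B ⊗[A] S` is integral over `S` when `B` is integral over `A`. -/
theorem isIntegral_tensor_right [Algebra.IsIntegral A B] : Algebra.IsIntegral S (B ⊗[A] S) := by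
  constructor
  intro x
  induction x using TensorProduct.induction_on with
  | zero => exact isIntegral_zero
  | tmul b s =>
    have h1 : IsIntegral A (b ⊗ₜ[A] (1 : S)) :=
      (Algebra.IsIntegral.isIntegral (R := A) b).map
        (Algebra.TensorProduct.includeLeft : B →ₐ[A] B ⊗[A] S)
    have h2 : IsIntegral S (b ⊗ₜ[A] (1 : S)) := h1.tower_top
    have h3 : b ⊗ₜ[A] s = s • (b ⊗ₜ[A] (1 : S)) := by
      rw [Algebra.smul_def, Algebra.TensorProduct.right_algebraMap_apply,
        Algebra.TensorProduct.tmul_mul_tmul, one_mul, mul_one]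
    rw [h3]
    exact h2.smul s
  | add x y hx hy => exact hx.add hy

end

section Main

variable (A B S : Type u) [CommRing A] [IsLocalRing A]
  [CommRing B] [IsLocalRing B] [Algebra A B] [IsLocalHom (algebraMap A B)] [Algebra.IsIntegral A B]
  [CommRing S] [IsLocalRing S] [Algebra A S] [IsLocalHom (algebraMap A S)]
  [Hensel.IsHenselization A S]

/-- Every element of `B ⊗ S` is congruent to some `b ⊗ 1` modulo `𝔪_S (B ⊗ S)`. -/
theorem exists_sub_tmul_one_mem (x : B ⊗[A] S) :
    ∃ b : B, x - b ⊗ₜ[A] (1 : S) ∈ (maximalIdeal S).map (algebraMap S (B ⊗[A] S)) := by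
  induction x using TensorProduct.induction_on with
  | zero => exact ⟨0, by simp⟩
  | tmul b s =>
    obtain ⟨a, ha⟩ := exists_sub_mem_maximalIdeal_of_isHenselization A S s
    refine ⟨a • b, ?_⟩
    have h1 : b ⊗ₜ[A] s - (a • b) ⊗ₜ[A] (1 : S) =
        algebraMap S (B ⊗[A] S) (s - algebraMap A S a) * (b ⊗ₜ[A] (1 : S)) := by
      rw [Algebra.TensorProduct.right_algebraMap_apply, Algebra.TensorProduct.tmul_mul_tmul,
        one_mul, mul_one, TensorProduct.tmul_sub, TensorProduct.smul_tmul,
        Algebra.algebraMap_eq_smul_one]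
    rw [h1]
    exact Ideal.mul_mem_right _ _ (Ideal.mem_map_of_mem _ ha)
  | add x y hx hy =>
    obtain ⟨b, hb⟩ := hx
    obtain ⟨c, hc⟩ := hy
    refine ⟨b + c, ?_⟩
    have : x + y - (b + c) ⊗ₜ[A] (1 : S) = (x - b ⊗ₜ[A] (1 : S)) + (y - c ⊗ₜ[A] (1 : S)) := by
      rw [TensorProduct.add_tmul]; ring
    rw [this]
    exact Ideal.add_mem _ hb hc

/-- The candidate maximal ideal of `B ⊗ S`. -/
def tensorMax : Ideal (B ⊗[A] S) :=
  (maximalIdeal B).map (algebraMap B (B ⊗[A] S)) ⊔
    (maximalIdeal S).map (algebraMap S (B ⊗[A] S))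

theorem eq_tensorMax_of_isMaximal (M : Ideal (B ⊗[A] S)) (hM : M.IsMaximal) :
    M = tensorMax A B S := by
  haveI := isIntegral_tensor_right A B S
  -- `𝔫 ≤ M`
  have hn : (maximalIdeal S).map (algebraMap S (B ⊗[A] S)) ≤ M := by
    rw [Ideal.map_le_iff_le_comap]
    have h1 : (M.comap (algebraMap S (B ⊗[A] S))).IsMaximal :=
      Ideal.isMaximal_comap_of_isIntegral_of_isMaximal M
    rw [IsLocalRing.eq_maximalIdeal h1]
  -- `b ⊗ 1 ∈ M` for `b ∈ 𝔪_B`
  have hb : ∀ b ∈ maximalIdeal B, b ⊗ₜ[A] (1 : S) ∈ M := by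
    intro b hb
    by_contra hbM
    obtain ⟨t, m, hm, htm⟩ := hM.exists_inv hbM
    obtain ⟨b', hb'⟩ := exists_sub_tmul_one_mem A B S t
    have h1 : (1 - b' * b) ⊗ₜ[A] (1 : S) ∈ M := by
      have h2 : (1 - b' * b) ⊗ₜ[A] (1 : S) =
          m + (t - b' ⊗ₜ[A] (1 : S)) * (b ⊗ₜ[A] (1 : S)) := by
        rw [sub_mul, Algebra.TensorProduct.tmul_mul_tmul, mul_one, TensorProduct.sub_tmul,
          ← Algebra.TensorProduct.one_def, ← htm]
        ring
      rw [h2]
      exact M.add_mem hm (M.mul_mem_right _ (hn hb'))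
    have hu : IsUnit (1 - b' * b) := by
      have : b' * b ∈ maximalIdeal B := Ideal.mul_mem_left _ _ hb
      have h3 : 1 - b' * b ∉ maximalIdeal B := by
        intro h4
        have := Ideal.add_mem _ h4 this
        rw [sub_add_cancel] at this
        exact (Ideal.ne_top_iff_one _).mp (maximalIdeal.isMaximal B).ne_top this
      rwa [mem_maximalIdeal, mem_nonunits_iff, not_not] at h3
    have hu' : IsUnit ((1 - b' * b) ⊗ₜ[A] (1 : S)) :=
      hu.map (Algebra.TensorProduct.includeLeft : B →ₐ[A] B ⊗[A] S)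
    exact hM.ne_top (Ideal.eq_top_of_isUnit_mem _ h1 hu')
  apply le_antisymm
  · intro x hx
    obtain ⟨b, hbx⟩ := exists_sub_tmul_one_mem A B S x
    have h1 : b ⊗ₜ[A] (1 : S) ∈ M := by
      have := M.sub_mem hx (hn hbx)
      rwa [sub_sub_cancel] at this
    have h2 : b ∈ maximalIdeal B := by
      rw [mem_maximalIdeal, mem_nonunits_iff]
      intro hu
      have hu' : IsUnit (b ⊗ₜ[A] (1 : S)) :=
        hu.map (Algebra.TensorProduct.includeLeft : B →ₐ[A] B ⊗[A] S)
      exact hM.ne_top (Ideal.eq_top_of_isUnit_mem _ h1 hu')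
    have h3 : x = b ⊗ₜ[A] (1 : S) + (x - b ⊗ₜ[A] (1 : S)) := by ring
    rw [h3]
    exact Ideal.add_mem _ (Ideal.mem_sup_left (Ideal.mem_map_of_mem _ h2))
      (Ideal.mem_sup_right hbx)
  · apply sup_le
    · rw [Ideal.map_le_iff_le_comap]
      intro b hb'
      exact hb b hb'
    · exact hn

instance tensor_nontrivial : Nontrivial (B ⊗[A] S) := by
  haveI := faithfullyFlat_of_isHenselization A S
  exact Module.FaithfullyFlat.rTensor_nontrivial A S B

theorem isLocalRing_tensor : IsLocalRing (B ⊗[A] S) := by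
  obtain ⟨M, hM⟩ := Ideal.exists_maximal (B ⊗[A] S)
  refine IsLocalRing.of_unique_max_ideal ⟨M, hM, fun M' hM' => ?_⟩
  rw [eq_tensorMax_of_isMaximal A B S M hM, eq_tensorMax_of_isMaximal A B S M' hM']

theorem henselianLocalRing_of_henselianRing_maximalIdeal (T : Type u) [CommRing T] [IsLocalRing T]
    [h : HenselianRing T (maximalIdeal T)] : HenselianLocalRing T where
  is_henselian f hf a₀ h₁ h₂ := h.is_henselian f hf a₀ h₁ (h₂.map _)

/-- **S2801.** -/
theorem isHenselization_tensor :
    ∃ (_ : IsLocalRing (B ⊗[A] S)) (_ : IsLocalHom (algebraMap B (B ⊗[A] S))),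
      Hensel.IsHenselization B (B ⊗[A] S) := by
  haveI hloc : IsLocalRing (B ⊗[A] S) := isLocalRing_tensor A B S
  haveI hint := isIntegral_tensor_right A B S
  have hmax : maximalIdeal (B ⊗[A] S) = tensorMax A B S :=
    eq_tensorMax_of_isMaximal A B S _ (maximalIdeal.isMaximal _)
  haveI hlochom : IsLocalHom (algebraMap B (B ⊗[A] S)) := by
    constructor
    intro b hb
    by_contra hnu
    have h1 : b ∈ maximalIdeal B := by rwa [mem_maximalIdeal, mem_nonunits_iff]
    have h2 : algebraMap B (B ⊗[A] S) b ∈ maximalIdeal (B ⊗[A] S) := by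
      rw [hmax]
      exact Ideal.mem_sup_left (Ideal.mem_map_of_mem _ h1)
    exact ((mem_maximalIdeal _).mp h2) hb
  -- Henselian
  haveI hShens : HenselianLocalRing S := Hensel.IsHenselization.henselian A
  have hH1 : HenselianRing (B ⊗[A] S) ((maximalIdeal S).map (algebraMap S (B ⊗[A] S))) :=
    henselianRing_map_of_isIntegral (maximalIdeal S) (B ⊗[A] S)
  have hrad : ((maximalIdeal S).map (algebraMap S (B ⊗[A] S))).radical =
      (maximalIdeal (B ⊗[A] S)).radical := by
    apply le_antisymm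
    · apply Ideal.radical_mono
      rw [hmax]
      exact le_sup_right
    · rw [Ideal.radical_eq_sInf ((maximalIdeal S).map (algebraMap S (B ⊗[A] S)))]
      apply le_sInf
      rintro q ⟨hq1, hq2⟩
      have h1 : (q.comap (algebraMap S (B ⊗[A] S))).IsMaximal := by
        have h2 : maximalIdeal S ≤ q.comap (algebraMap S (B ⊗[A] S)) :=
          Ideal.map_le_iff_le_comap.mp hq1
        have h3 : q.comap (algebraMap S (B ⊗[A] S)) ≠ ⊤ := (Ideal.comap_isPrime _ q).ne_top
        rw [← (maximalIdeal.isMaximal S).eq_of_le h3 h2]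
        exact maximalIdeal.isMaximal S
      have h4 : q.IsMaximal := Ideal.isMaximal_of_isIntegral_of_isMaximal_comap q h1
      rw [IsLocalRing.eq_maximalIdeal h4, (maximalIdeal.isMaximal _).isPrime.radical]
  haveI hH2 : HenselianRing (B ⊗[A] S) (maximalIdeal (B ⊗[A] S)) :=
    (henselianRing_iff_of_radical_eq _ _ hrad).mp hH1
  have hH3 : HenselianLocalRing (B ⊗[A] S) :=
    henselianLocalRing_of_henselianRing_maximalIdeal (B ⊗[A] S)
  refine ⟨hloc, hlochom, ⟨hH3, ?_⟩⟩
  -- universal property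
  intro C _ _ f hf
  haveI : IsLocalHom (f.comp (algebraMap A B)) := by
    constructor
    intro a ha
    have h1 : IsUnit (algebraMap A B a) := hf.map_nonunit _ ha
    exact isUnit_of_map_unit (algebraMap A B) a h1
  obtain ⟨g₀, hg₀, hg₀uniq⟩ := Hensel.IsHenselization.universal (R := A) (S := S) C
    (f.comp (algebraMap A B)) inferInstance
  letI algAC : Algebra A C := (f.comp (algebraMap A B)).toAlgebra
  let F : B →ₐ[A] C := { f with commutes' := fun _ => rfl }
  let G₀ : S →ₐ[A] C := { g₀ with commutes' := fun a => DFunLike.congr_fun hg₀ a }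
  let G : B ⊗[A] S →ₐ[A] C := Algebra.TensorProduct.lift F G₀ (fun _ _ => Commute.all _ _)
  refine ⟨(G : B ⊗[A] S →+* C), ?_, ?_⟩
  · ext b
    change G (b ⊗ₜ[A] (1 : S)) = f b
    rw [Algebra.TensorProduct.lift_tmul, map_one, mul_one]
    rfl
  · intro g' hg'
    have h1 : g'.comp (Algebra.TensorProduct.includeRight : S →ₐ[A] B ⊗[A] S).toRingHom = g₀ := by
      apply hg₀uniq
      ext a
      change g' ((1 : B) ⊗ₜ[A] algebraMap A S a) = f (algebraMap A B a)
      rw [← DFunLike.congr_fun hg' (algebraMap A B a)]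
      change _ = g' (algebraMap A B a ⊗ₜ[A] (1 : S))
      rw [Algebra.algebraMap_eq_smul_one, Algebra.algebraMap_eq_smul_one, TensorProduct.smul_tmul]
    refine RingHom.ext (fun x => ?_)
    induction x using TensorProduct.induction_on with
    | zero => simp
    | tmul b s =>
      have h2 : b ⊗ₜ[A] s = (b ⊗ₜ[A] (1 : S)) * ((1 : B) ⊗ₜ[A] s) := by
        rw [Algebra.TensorProduct.tmul_mul_tmul, mul_one, one_mul]
      change g' (b ⊗ₜ[A] s) = G (b ⊗ₜ[A] s)
      rw [Algebra.TensorProduct.lift_tmul, h2, map_mul]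
      have h3 : g' (b ⊗ₜ[A] (1 : S)) = f b := DFunLike.congr_fun hg' b
      have h4 : g' ((1 : B) ⊗ₜ[A] s) = g₀ s := DFunLike.congr_fun h1 s
      rw [h3, h4]
      rfl
    | add x y hx hy => rw [map_add, map_add, hx, hy]

end Main

end Groth.Agent.Lib.Helper3
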