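import Groth.Agent.Lib.Helper3.Gabber

/-!
# Gabber's trick: lifting "rank one" idempotents in finite algebras over a Henselian pair (helper3)

`exists_idempotent_of_cyclic`: let `A` be Henselian at `I`, `U` a finite `A`-algebra, `e₀ ∈ U`
idempotent modulo `IU` such that `e₀ U ⊆ A e₀ + IU`. Then `e₀` lifts to an idempotent of `U`.
-/

set_option autoImplicit false

namespace Groth.Agent.Lib.Helper3

open Polynomial

section

variable {A : Type*} [CommRing A] {I : Ideal A}

theorem aeval_mem_map_of_coeff_mem {U : Type*} [CommRing U] [Algebra A U] (D : A[X])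
    (hD : ∀ i, D.coeff i ∈ I) (x : U) : aeval x D ∈ I.map (algebraMap A U) := by
  rw [aeval_eq_sum_range]
  refine Ideal.sum_mem _ fun i _ => ?_
  rw [Algebra.smul_def]
  exact Ideal.mul_mem_right _ _ (Ideal.mem_map_of_mem _ (hD i))

theorem coeff_mem_of_map_eq_zero (D : A[X]) (h : D.map (Ideal.Quotient.mk I) = 0) (i : ℕ) :
    D.coeff i ∈ I := by
  have := congrArg (fun p => p.coeff i) h
  simpa [Ideal.Quotient.eq_zero_iff_mem] using this

theorem mk_eval_eq (p : A[X]) (x : A) :
    Ideal.Quotient.mk I (p.eval x) = (p.map (Ideal.Quotient.mk I)).eval (Ideal.Quotient.mk I x) := by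
  rw [eval_map, eval₂_at_apply]

theorem pow_succ_sub_mem_of_sq_sub_mem {U : Type*} [CommRing U] (J : Ideal U) (x : U)
    (hx : x * x - x ∈ J) (m : ℕ) : x ^ (m + 1) - x ∈ J := by
  induction m with
  | zero => simp
  | succ m ih =>
    have : x ^ (m + 1 + 1) - x = x * (x ^ (m + 1) - x) + (x * x - x) := by ring
    rw [this]
    exact J.add_mem (J.mul_mem_left _ ih) hx

/-- **Gabber's trick.** -/
theorem exists_idempotent_of_cyclic [HenselianRing A I]
    {U : Type*} [CommRing U] [Algebra A U] [Module.Finite A U] (e₀ : U)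
    (he₀ : e₀ * e₀ - e₀ ∈ I.map (algebraMap A U))
    (hcyc : ∀ u : U, ∃ a : A, e₀ * u - a • e₀ ∈ I.map (algebraMap A U)) :
    ∃ e : U, IsIdempotentElem e ∧ e - e₀ ∈ I.map (algebraMap A U) := by
  classical
  have hjac : I ≤ Ideal.jacobson ⊥ := HenselianRing.jac
  have hloc := isLocalHom_of_le_jacobson_bot I hjac
  set IU := I.map (algebraMap A U) with hIU
  have hsmul : ∀ x : U, x ∈ (I • ⊤ : Submodule A U) ↔ x ∈ IU := by
    intro x; rw [Ideal.smul_top_eq_map]; rfl
  obtain ⟨n, s₀, hs₀⟩ := Module.Finite.exists_fin (R := A) (M := U)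
  let s : Fin (n + 1) → U := Fin.cons 1 s₀
  have hs : Submodule.span A (Set.range s) = ⊤ := by
    rw [eq_top_iff, ← hs₀]
    apply Submodule.span_mono
    rintro _ ⟨j, rfl⟩
    exact ⟨j.succ, by simp [s]⟩
  set θ : U := 1 - e₀ with hθ
  let b : Option (Fin (n + 1)) → U := fun o => o.elim e₀ (fun j => θ * s j)
  have hθmul : ∀ u ∈ Submodule.span A (Set.range s),
      θ * u ∈ Submodule.span A (Set.range b) := by
    intro u hu
    induction hu using Submodule.span_induction with
    | mem x hx => obtain ⟨j, rfl⟩ := hx; exact Submodule.subset_span ⟨some j, rfl⟩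
    | zero => simp
    | add x y _ _ hx hy => rw [mul_add]; exact Submodule.add_mem _ hx hy
    | smul a x _ hx => rw [mul_smul_comm]; exact Submodule.smul_mem _ a hx
  have hb : Submodule.span A (Set.range b) = ⊤ := by
    rw [eq_top_iff]
    apply Submodule.le_of_le_smul_of_le_jacobson_bot Module.Finite.fg_top hjac
    intro u _
    obtain ⟨a, ha⟩ := hcyc u
    have hu : u = (a • e₀ + θ * u) + (e₀ * u - a • e₀) := by
      rw [hθ, sub_mul, one_mul]; abel
    rw [hu]
    refine Submodule.add_mem_sup (Submodule.add_mem _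
      (Submodule.smul_mem _ a (Submodule.subset_span ⟨none, rfl⟩))
      (hθmul u (hs ▸ Submodule.mem_top))) ((hsmul _).mpr ha)
  let d : Option (Fin (n + 1)) → A := fun o => o.elim 0 (fun _ => 1)
  have hrel : ∀ o, θ * b o - d o • b o ∈
      (I • Submodule.span A (Set.range b) : Submodule A U) := by
    intro o
    rw [hb, hsmul]
    cases o with
    | none =>
      show θ * e₀ - (0 : A) • e₀ ∈ IU
      have : θ * e₀ - (0 : A) • e₀ = -(e₀ * e₀ - e₀) := by rw [zero_smul, hθ]; ring
      rw [this]; exact IU.neg_mem he₀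
    | some j =>
      show θ * (θ * s j) - (1 : A) • (θ * s j) ∈ IU
      have : θ * (θ * s j) - (1 : A) • (θ * s j) = (e₀ * e₀ - e₀) * s j := by
        rw [one_smul, hθ]; ring
      rw [this]; exact IU.mul_mem_right _ he₀
  choose a haI ha using fun o =>
    (Submodule.mem_ideal_smul_span_iff_exists_sum I b _).mp (hrel o)
  let M : Matrix (Option (Fin (n + 1))) (Option (Fin (n + 1))) A :=
    Matrix.diagonal d + Matrix.of (fun i j => a j i)
  have hrep : M.Represents b (Algebra.lmul A U θ) := by
    rw [Matrix.represents_iff']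
    intro j
    simp only [M, Matrix.add_apply, Matrix.diagonal_apply, Matrix.of_apply, add_smul,
      Finset.sum_add_distrib]
    have h1 : ∑ i, (if i = j then d i else 0) • b i = d j • b j := by
      rw [Finset.sum_eq_single j]
      · simp
      · intro i _ hij; simp [hij]
      · intro h; exact absurd (Finset.mem_univ j) h
    have h2 : ∑ i, a j i • b i = θ * b j - d j • b j := by
      rw [← ha j, Finsupp.sum_fintype]
      intro i; exact zero_smul _ _
    rw [h1, h2]
    simp
  set P := M.charpoly with hP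
  have hPθ : aeval θ P = 0 := by
    let Cs : Matrix.isRepresentation A b := ⟨M, Algebra.lmul A U θ, hrep⟩
    have h1 : Matrix.isRepresentation.toEnd A b hb Cs = Algebra.lmul A U θ :=
      Matrix.isRepresentation.eq_toEnd_of_represents A b hb Cs hrep
    have h2 : aeval (Algebra.lmul A U θ) P = 0 := by
      rw [← h1, aeval_algHom_apply, ← map_zero (Matrix.isRepresentation.toEnd A b hb)]
      congr 1
      ext1
      rw [aeval_subalgebra_coe, hP]
      exact Matrix.aeval_self_charpoly M
    rw [aeval_algHom_apply] at h2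
    have := congrArg (fun f => f 1) h2
    simpa using this
  have hPmap : P.map (Ideal.Quotient.mk I) = X * (X - 1) ^ (n + 1) := by
    rw [hP, ← Matrix.charpoly_map]
    have hCm : M.map (Ideal.Quotient.mk I) =
        Matrix.diagonal (fun o => Ideal.Quotient.mk I (d o)) := by
      ext i j
      simp only [M, Matrix.map_apply, Matrix.add_apply, Matrix.diagonal_apply, Matrix.of_apply,
        map_add]
      rw [Ideal.Quotient.eq_zero_iff_mem.mpr (haI j i), add_zero]
      split_ifs <;> simp
    rw [hCm, Matrix.charpoly_diagonal, Fintype.prod_option]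
    simp [d]
  have hPmonic : P.Monic := Matrix.charpoly_monic M
  have hP0 : P.eval 0 ∈ I := by
    rw [← Ideal.Quotient.eq_zero_iff_mem, mk_eval_eq, hPmap]
    simp
  have hP1 : IsUnit (Ideal.Quotient.mk I (P.derivative.eval 0)) := by
    rw [mk_eval_eq, ← derivative_map, hPmap]
    simp [derivative_mul]
  obtain ⟨t, htroot, htI⟩ := HenselianRing.is_henselian P hPmonic 0 hP0 hP1
  rw [sub_zero] at htI
  set Q := P /ₘ (X - C t) with hQ
  have hPQ : (X - C t) * Q = P := (mul_divByMonic_eq_iff_isRoot).mpr htroot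
  have hmkt : Ideal.Quotient.mk I t = 0 := Ideal.Quotient.eq_zero_iff_mem.mpr htI
  have hQmap : Q.map (Ideal.Quotient.mk I) = (X - 1) ^ (n + 1) := by
    have h1 := congrArg (Polynomial.map (Ideal.Quotient.mk I)) hPQ
    rw [Polynomial.map_mul, Polynomial.map_sub, map_X, map_C, hmkt, C_0, sub_zero, hPmap] at h1
    exact isRegular_X.left h1
  set q := Q.eval t with hq
  have hqmk : Ideal.Quotient.mk I q = (-1) ^ (n + 1) := by
    rw [hq, mk_eval_eq, hQmap, hmkt]; simp
  have hqu : IsUnit q := by
    apply IsUnit.of_map (Ideal.Quotient.mk I)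
    rw [hqmk]; exact (isUnit_one.neg).pow _
  obtain ⟨qu, hqu'⟩ := hqu
  have h1 : (θ - algebraMap A U t) * aeval θ Q = 0 := by
    have := congrArg (aeval θ) hPQ
    rw [map_mul, map_sub, aeval_X, aeval_C, hPθ] at this
    exact this
  have h2 : aeval θ Q * aeval θ Q = algebraMap A U q * aeval θ Q := by
    have hdiv : Q = (X - C t) * (Q /ₘ (X - C t)) + C q := by
      have := modByMonic_add_div Q (X - C t)
      rw [modByMonic_X_sub_C_eq_C_eval] at this
      rw [hq]; exact (this.symm.trans (by ring))
    have := congrArg (aeval θ) hdiv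
    rw [map_add, map_mul, map_sub, aeval_X, aeval_C, aeval_C] at this
    calc aeval θ Q * aeval θ Q
        = ((θ - algebraMap A U t) * aeval θ (Q /ₘ (X - C t)) + algebraMap A U q) * aeval θ Q := by
          rw [← this]
      _ = aeval θ (Q /ₘ (X - C t)) * ((θ - algebraMap A U t) * aeval θ Q)
            + algebraMap A U q * aeval θ Q := by ring
      _ = _ := by rw [h1, mul_zero, zero_add]
  let e : U := algebraMap A U ↑qu⁻¹ * aeval θ Q
  have hqq : algebraMap A U ↑qu⁻¹ * algebraMap A U q = 1 := by
    rw [← map_mul, ← hqu', Units.inv_mul, map_one]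
  refine ⟨e, ?_, ?_⟩
  · show e * e = e
    simp only [e]
    calc _ = algebraMap A U ↑qu⁻¹ * algebraMap A U ↑qu⁻¹ * (aeval θ Q * aeval θ Q) := by ring
      _ = algebraMap A U ↑qu⁻¹ * (algebraMap A U ↑qu⁻¹ * algebraMap A U q) * aeval θ Q := by
          rw [h2]; ring
      _ = _ := by rw [hqq, mul_one]
  · have hD : ∀ i, (Q - (X - 1) ^ (n + 1)).coeff i ∈ I := by
      apply coeff_mem_of_map_eq_zero
      rw [Polynomial.map_sub, hQmap]; simp
    have h3 : aeval θ Q - (θ - 1) ^ (n + 1) ∈ IU := by
      have := aeval_mem_map_of_coeff_mem (U := U) _ hD θ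
      simpa using this
    have h4 : q - (-1) ^ (n + 1) ∈ I := by
      rw [← Ideal.Quotient.eq_zero_iff_mem, map_sub, hqmk]; simp
    have h5 : (θ - 1) ^ (n + 1) = (-1) ^ (n + 1) * e₀ ^ (n + 1) := by
      rw [hθ, ← mul_pow]; congr 1; ring
    have h6 := pow_succ_sub_mem_of_sq_sub_mem IU e₀ he₀ n
    have h7 : aeval θ Q - algebraMap A U q * e₀ ∈ IU := by
      have : aeval θ Q - algebraMap A U q * e₀ = (aeval θ Q - (θ - 1) ^ (n + 1))
          + (-1) ^ (n + 1) * (e₀ ^ (n + 1) - e₀)
          - algebraMap A U (q - (-1) ^ (n + 1)) * e₀ := by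
        rw [h5, map_sub, map_pow, map_neg, map_one]; ring
      rw [this]
      exact IU.sub_mem (IU.add_mem h3 (IU.mul_mem_left _ h6))
        (IU.mul_mem_right _ (Ideal.mem_map_of_mem _ h4))
    have : e - e₀ = algebraMap A U ↑qu⁻¹ * (aeval θ Q - algebraMap A U q * e₀) := by
      simp only [e]
      linear_combination e₀ * hqq
    rw [this]
    exact IU.mul_mem_left _ h7

end

end Groth.Agent.Lib.Helper3
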