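import Groth.Agent.Lib.Helper3.Gabber
import Groth.Agent.Lib.Helper3.GabberTrick

/-!
# Converse criteria for Henselian local rings via Gabber polynomials (helper3)

For a local ring `R` and a Gabber polynomial `F = Xⁿ(X - 1) + p` (`p` with coefficients in `𝔪`)
consider `T = (R[X]/F)[1/x]`. It is a flat, quasi-finite `R`-algebra of finite type with
`T/𝔪T = κ`. If some finite flat `T`-algebra `T'` (a direct factor, or a local ring of `T`) is
finite over `R`, then `R → T'` is bijective and `F` has a root in `1 + 𝔪`.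
-/

set_option autoImplicit false

namespace Groth.Agent.Lib.Helper3

universe u

open Polynomial IsLocalRing

/-- **Lemma H.** A nontrivial finite flat algebra `T'` over a local ring `R` with
`T' = R·1 + 𝔪T'` is isomorphic to `R`. -/
theorem algebraMap_bijective_of_finite_flat {R : Type*} [CommRing R] [IsLocalRing R]
    {T' : Type*} [CommRing T'] [Algebra R T'] [Module.Finite R T'] [Module.Flat R T']
    [Nontrivial T']
    (hgen : ∀ t : T', ∃ r : R, t - algebraMap R T' r ∈ (maximalIdeal R).map (algebraMap R T')) :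
    Function.Bijective (algebraMap R T') := by
  have hfree : Module.Free R T' := Module.free_of_flat_of_isLocalRing
  have hfaith : FaithfulSMul R T' := Module.Free.instFaithfulSMulOfNontrivial R T'
  refine ⟨FaithfulSMul.algebraMap_injective R T', ?_⟩
  have hle : (⊤ : Submodule R T') ≤ LinearMap.range (Algebra.linearMap R T') := by
    apply Submodule.le_of_le_smul_of_le_jacobson_bot Module.Finite.fg_top
      (IsLocalRing.maximalIdeal_le_jacobson ⊥)
    intro t _
    obtain ⟨r, hr⟩ := hgen t
    have : t = algebraMap R T' r + (t - algebraMap R T' r) := by ring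
    rw [this]
    refine Submodule.add_mem_sup ⟨r, rfl⟩ ?_
    rw [Ideal.smul_top_eq_map]
    exact hr
  intro t
  obtain ⟨r, hr⟩ := hle (Submodule.mem_top (x := t))
  exact ⟨r, hr⟩

/-- In the situation of Lemma H, an element of `R` whose image lies in `𝔪T'` lies in `𝔪`. -/
theorem mem_maximalIdeal_of_algebraMap_mem {R : Type*} [CommRing R] [IsLocalRing R]
    {T' : Type*} [CommRing T'] [Algebra R T'] [Module.Finite R T'] [Nontrivial T'] (r : R)
    (hr : algebraMap R T' r ∈ (maximalIdeal R).map (algebraMap R T')) : r ∈ maximalIdeal R := by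
  by_contra hnot
  have hu : IsUnit r := by
    rwa [mem_maximalIdeal, mem_nonunits_iff, not_not] at hnot
  have htop : (maximalIdeal R).map (algebraMap R T') = ⊤ :=
    Ideal.eq_top_of_isUnit_mem _ hr (hu.map _)
  have hbot : (⊤ : Submodule R T') = ⊥ := by
    apply Submodule.eq_bot_of_le_smul_of_le_jacobson_bot (maximalIdeal R) ⊤ Module.Finite.fg_top
    · rw [Ideal.smul_top_eq_map, htop]
      exact le_of_eq rfl
    · exact IsLocalRing.maximalIdeal_le_jacobson ⊥
  have : (1 : T') ∈ (⊥ : Submodule R T') := hbot ▸ Submodule.mem_top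
  exact one_ne_zero ((Submodule.mem_bot R).mp this)

section Gabber

variable {R : Type u} [CommRing R] [IsLocalRing R] (n : ℕ) (p : R[X])

/-- The Gabber polynomial `Xⁿ(X - 1) + p`. -/
noncomputable abbrev gabberPoly : R[X] := X ^ n * (X - 1) + p

/-- The algebra `T = (R[X]/F)[1/x]`. -/
abbrev GabberAlg : Type u := Localization.Away (AdjoinRoot.root (gabberPoly n p))

variable {n p}

/-- The image of `x` in `T`. -/
noncomputable abbrev gabberX : GabberAlg n p :=
  algebraMap (AdjoinRoot (gabberPoly n p)) (GabberAlg n p) (AdjoinRoot.root (gabberPoly n p))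

omit [IsLocalRing R] in
theorem isUnit_gabberX : IsUnit (gabberX (n := n) (p := p)) :=
  IsLocalization.Away.algebraMap_isUnit _

omit [IsLocalRing R] in
theorem aeval_gabberX : aeval (gabberX (n := n) (p := p)) (gabberPoly n p) = 0 := by
  rw [gabberX, aeval_algebraMap_apply, AdjoinRoot.aeval_eq, AdjoinRoot.mk_self, map_zero]

theorem gabberX_sub_one_mem (hp : ∀ i, p.coeff i ∈ maximalIdeal R) :
    gabberX (n := n) (p := p) - 1 ∈ (maximalIdeal R).map (algebraMap R (GabberAlg n p)) := by
  have h0 : aeval (gabberX (n := n) (p := p)) (X ^ n * (X - 1) + p) = 0 :=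
    aeval_gabberX (n := n) (p := p)
  rw [map_add, map_mul, map_pow, map_sub, aeval_X, map_one] at h0
  have h1 : gabberX (n := n) (p := p) ^ n * (gabberX - 1) = -aeval gabberX p := by
    linear_combination h0
  have h2 : aeval (gabberX (n := n) (p := p)) p ∈
      (maximalIdeal R).map (algebraMap R (GabberAlg n p)) := aeval_mem_map_of_coeff_mem p hp _
  obtain ⟨v, hv⟩ := (isUnit_gabberX (n := n) (p := p)).pow n
  have h3 : gabberX (n := n) (p := p) - 1 =
      ((v⁻¹ : (GabberAlg n p)ˣ) : GabberAlg n p) * (-aeval (gabberX (n := n) (p := p)) p) := by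
    rw [← h1, ← hv, ← mul_assoc, Units.inv_mul, one_mul]
  rw [h3]
  exact Ideal.mul_mem_left _ _ (neg_mem h2)

/-- `T = R·1 + 𝔪T`. -/
theorem gabberAlg_exists_sub_mem (hp : ∀ i, p.coeff i ∈ maximalIdeal R) (t : GabberAlg n p) :
    ∃ r : R, t - algebraMap R (GabberAlg n p) r ∈
      (maximalIdeal R).map (algebraMap R (GabberAlg n p)) := by
  set J := (maximalIdeal R).map (algebraMap R (GabberAlg n p)) with hJ
  have hx1 : Ideal.Quotient.mk J (gabberX (n := n) (p := p)) = 1 := by
    rw [← map_one (Ideal.Quotient.mk J), Ideal.Quotient.eq]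
    exact gabberX_sub_one_mem hp
  obtain ⟨b, ⟨_, k, rfl⟩, rfl⟩ :=
    IsLocalization.exists_mk'_eq (Submonoid.powers (AdjoinRoot.root (gabberPoly n p))) t
  obtain ⟨q, rfl⟩ := AdjoinRoot.mk_surjective b
  refine ⟨q.eval 1, ?_⟩
  rw [← Ideal.Quotient.eq]
  have h1 := IsLocalization.mk'_spec (GabberAlg n p) (AdjoinRoot.mk (gabberPoly n p) q)
    (⟨AdjoinRoot.root (gabberPoly n p) ^ k, k, rfl⟩ :
      Submonoid.powers (AdjoinRoot.root (gabberPoly n p)))
  have h2 := congrArg (Ideal.Quotient.mk J) h1
  simp only [map_mul, map_pow] at h2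
  rw [show algebraMap (AdjoinRoot (gabberPoly n p)) (GabberAlg n p)
    (AdjoinRoot.root (gabberPoly n p)) = gabberX from rfl, hx1, one_pow, mul_one] at h2
  rw [h2, ← AdjoinRoot.aeval_eq, ← aeval_algebraMap_apply]
  change (Ideal.Quotient.mkₐ R J) (aeval gabberX q) = _
  rw [← aeval_algHom_apply]
  change aeval (Ideal.Quotient.mk J gabberX) q = _
  rw [hx1, ← map_one (algebraMap R (GabberAlg n p ⧸ J)), aeval_algebraMap_apply,
    coe_aeval_eq_eval]
  rfl

/-- The point `T → κ`, `x ↦ 1`. -/
theorem exists_gabberAlg_point (hp : ∀ i, p.coeff i ∈ maximalIdeal R) :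
    ∃ χ : GabberAlg n p →ₐ[R] ResidueField R, χ gabberX = 1 := by
  have h0 : aeval (1 : ResidueField R) (gabberPoly n p) = 0 := by
    change aeval (1 : ResidueField R) (X ^ n * (X - 1) + p) = 0
    rw [map_add, map_mul, map_pow, map_sub, aeval_X, map_one, sub_self, mul_zero,
      zero_add, ← map_one (algebraMap R (ResidueField R)), aeval_algebraMap_apply,
      coe_aeval_eq_eval]
    have : p.eval 1 ∈ maximalIdeal R := by
      rw [eval_eq_sum_range]
      exact Ideal.sum_mem _ fun i _ => Ideal.mul_mem_right _ _ (hp i)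
    exact (residue_eq_zero_iff _).mpr this
  let χ₀ : AdjoinRoot (gabberPoly n p) →ₐ[R] ResidueField R :=
    AdjoinRoot.liftAlgHom _ (Algebra.ofId R (ResidueField R)) 1 (by
      rw [← h0, aeval_def]; rfl)
  have hχ₀ : χ₀ (AdjoinRoot.root _) = 1 := AdjoinRoot.liftAlgHom_root _ _ _ _
  refine ⟨IsLocalization.Away.liftAlgHom (AdjoinRoot.root (gabberPoly n p)) (f := χ₀)
    (by rw [hχ₀]; exact isUnit_one), ?_⟩
  simp [gabberX, IsLocalization.Away.lift_eq, hχ₀]

end Gabber

/-- Abstract core: suppose for every Gabber algebra `T` there is a nontrivial finite flat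
`R`-algebra `T'` with `T' = R + 𝔪T'` receiving an `R`-algebra map from `T`. Then `R` is Henselian. -/
theorem henselianLocalRing_of_gabberAlg_finite_flat (R : Type u) [CommRing R] [IsLocalRing R]
    (H : ∀ (n : ℕ) (p : R[X]), 0 < n → p.natDegree ≤ n → (∀ i, p.coeff i ∈ maximalIdeal R) →
      ∃ (T' : Type u) (_ : CommRing T') (_ : Algebra R T') (_ : Module.Finite R T')
        (_ : Module.Flat R T') (_ : Nontrivial T') (_ : GabberAlg n p →ₐ[R] T'),
        ∀ t : T', ∃ r : R, t - algebraMap R T' r ∈ (maximalIdeal R).map (algebraMap R T')) :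
    HenselianLocalRing R := by
  have hH : HenselianRing R (maximalIdeal R) := by
    apply henselianRing_of_gabber (IsLocalRing.maximalIdeal_le_jacobson ⊥)
    intro n hn p hpdeg hp
    obtain ⟨T', _, _, _, _, _, φ, hgen⟩ := H n p hn hpdeg hp
    have hbij := algebraMap_bijective_of_finite_flat hgen
    obtain ⟨a, ha⟩ := hbij.2 (φ gabberX)
    refine ⟨a, ?_, ?_⟩
    · apply mem_maximalIdeal_of_algebraMap_mem (T' := T')
      rw [map_sub, ha, map_one, ← map_one φ, ← map_sub]
      have h1 := gabberX_sub_one_mem (n := n) hp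
      have h2 : (maximalIdeal R).map (algebraMap R T') =
          ((maximalIdeal R).map (algebraMap R (GabberAlg n p))).map φ.toRingHom := by
        rw [Ideal.map_map]
        congr 1
        ext r
        exact (φ.commutes r).symm
      rw [h2]
      exact Ideal.mem_map_of_mem φ.toRingHom h1
    · apply hbij.1
      rw [map_zero]
      change algebraMap R T' ((gabberPoly n p).eval a) = 0
      rw [← coe_aeval_eq_eval, ← aeval_algebraMap_apply, ha, aeval_algHom_apply, aeval_gabberX,
        map_zero]
  exact ⟨fun f hf a₀ h₁ h₂ => HenselianRing.is_henselian f hf a₀ h₁ (h₂.map _)⟩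

theorem henselianLocalRing_of_finiteType_split (R : Type u) [CommRing R] [IsLocalRing R]
    (h : ∀ (S : Type u) [CommRing S] [Algebra R S] [Algebra.FiniteType R S],
      ∃ e : S, IsIdempotentElem e ∧ Module.Finite R (S ⧸ Ideal.span ({1 - e} : Set S)) ∧
        ∀ (q : Ideal (S ⧸ Ideal.span ({e} : Set S))) [q.IsPrime],
          q.LiesOver (maximalIdeal R) → ¬ Algebra.QuasiFiniteAt R q) :
    HenselianLocalRing R := by
  apply henselianLocalRing_of_gabberAlg_finite_flat
  intro n p hn hpdeg hp
  have hmonic : (gabberPoly n p).Monic := gabber_monic p hpdeg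
  have hBfin := hmonic.finite_adjoinRoot
  have hBfree := hmonic.free_adjoinRoot
  have hft : Algebra.FiniteType R (GabberAlg n p) :=
    Algebra.FiniteType.trans (S := AdjoinRoot (gabberPoly n p)) inferInstance inferInstance
  have hflatBT : Module.Flat (AdjoinRoot (gabberPoly n p)) (GabberAlg n p) :=
    IsLocalization.flat _ (Submonoid.powers (AdjoinRoot.root (gabberPoly n p)))
  have hflatT : Module.Flat R (GabberAlg n p) :=
    Module.Flat.trans R (AdjoinRoot (gabberPoly n p)) _
  obtain ⟨e, he, hfin, hq⟩ := h (GabberAlg n p)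
  obtain ⟨χ, hχ⟩ := exists_gabberAlg_point (n := n) hp
  have hkerχ : ∀ r : R, χ (algebraMap R _ r) = 0 ↔ r ∈ maximalIdeal R := by
    intro r
    rw [χ.commutes]
    exact residue_eq_zero_iff r
  -- `χ e = 1`
  have hχe : χ e = 1 := by
    have hid : χ e * χ e = χ e := by rw [← map_mul, he.eq]
    have hid' : χ e * (χ e - 1) = 0 := by rw [mul_sub, hid, mul_one, sub_self]
    rcases mul_eq_zero.mp hid' with h0 | h1
    rotate_left
    · exact sub_eq_zero.mp h1
    · exfalso
      let χ' : (GabberAlg n p ⧸ Ideal.span ({e} : Set (GabberAlg n p))) →ₐ[R] ResidueField R :=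
        Ideal.Quotient.liftₐ _ χ (by
          intro a ha
          obtain ⟨c, rfl⟩ := Ideal.mem_span_singleton'.mp ha
          rw [map_mul, h0, mul_zero])
      have hprime : (RingHom.ker χ'.toRingHom).IsPrime := RingHom.ker_isPrime _
      have hover : (RingHom.ker χ'.toRingHom).LiesOver (maximalIdeal R) := by
        constructor
        ext r
        rw [Ideal.under_def, Ideal.mem_comap, RingHom.mem_ker]
        change _ ↔ χ' (algebraMap R _ r) = 0
        rw [χ'.commutes]
        exact (residue_eq_zero_iff r).symm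
      exact hq _ hover inferInstance
  -- the finite factor
  let L : Ideal (GabberAlg n p) := Ideal.span ({1 - e} : Set (GabberAlg n p))
  have hloc : IsLocalization.Away e (GabberAlg n p ⧸ L) :=
    IsLocalization.away_of_isIdempotentElem he
      (by rw [Ideal.Quotient.algebraMap_eq, Ideal.mk_ker]) Ideal.Quotient.mk_surjective
  have hflat1 : Module.Flat (GabberAlg n p) (GabberAlg n p ⧸ L) :=
    IsLocalization.flat _ (Submonoid.powers e)
  have hflat : Module.Flat R (GabberAlg n p ⧸ L) := Module.Flat.trans R (GabberAlg n p) _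
  let χ'' : (GabberAlg n p ⧸ L) →ₐ[R] ResidueField R :=
    Ideal.Quotient.liftₐ _ χ (by
      intro a ha
      obtain ⟨c, rfl⟩ := Ideal.mem_span_singleton'.mp ha
      rw [map_mul, map_sub, map_one, hχe, sub_self, mul_zero])
  have hnontriv : Nontrivial (GabberAlg n p ⧸ L) := χ''.toRingHom.domain_nontrivial
  refine ⟨GabberAlg n p ⧸ L, inferInstance, inferInstance, hfin, hflat, hnontriv,
    Ideal.Quotient.mkₐ R L, ?_⟩
  intro t
  obtain ⟨t, rfl⟩ := Ideal.Quotient.mk_surjective t
  obtain ⟨r, hr⟩ := gabberAlg_exists_sub_mem hp t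
  refine ⟨r, ?_⟩
  have h2 : (maximalIdeal R).map (algebraMap R (GabberAlg n p ⧸ L)) =
      ((maximalIdeal R).map (algebraMap R (GabberAlg n p))).map (Ideal.Quotient.mk L) := by
    rw [Ideal.map_map]
    rfl
  rw [h2]
  have := Ideal.mem_map_of_mem (Ideal.Quotient.mk L) hr
  rwa [map_sub] at this

end Groth.Agent.Lib.Helper3
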