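import Groth.Agent.Lib.Helper3.HenselFinite

/-!
# Producing roots from idempotents in finite free monogenic algebras (helper3)
-/

set_option autoImplicit false
universe u

namespace Groth.Agent.Lib.Helper3

open Polynomial IsLocalRing

/-- If `e` is a nonzero idempotent of `S` such that at most one maximal ideal of `S` does not
contain `e`, then `S ⧸ (1 - e)` is a local ring. -/
theorem isLocalRing_quotient_of_unique {S : Type*} [CommRing S] (e : S)
    (hidem : IsIdempotentElem e) (hne : e ≠ 0)
    (h : ∀ 𝔮 𝔮' : Ideal S, 𝔮.IsMaximal → 𝔮'.IsMaximal → e ∉ 𝔮 → e ∉ 𝔮' → 𝔮 = 𝔮') :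
    IsLocalRing (S ⧸ Ideal.span {1 - e}) := by
  have hnontriv : Nontrivial (S ⧸ Ideal.span {1 - e}) := by
    rw [Ideal.Quotient.nontrivial_iff]
    intro htop
    rw [Ideal.span_singleton_eq_top] at htop
    apply hne
    have : e * (1 - e) = 0 := by
      have := hidem.eq; linear_combination -this
    exact (htop.mul_left_eq_zero).mp this
  obtain ⟨M, hM⟩ := Ideal.exists_maximal (S ⧸ Ideal.span {1 - e})
  refine IsLocalRing.of_unique_max_ideal ⟨M, hM, fun M' hM' => ?_⟩
  have key : ∀ N : Ideal (S ⧸ Ideal.span {1 - e}), N.IsMaximal →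
      (Ideal.comap (Ideal.Quotient.mk (Ideal.span {1 - e})) N).IsMaximal ∧
        e ∉ Ideal.comap (Ideal.Quotient.mk (Ideal.span {1 - e})) N := by
    intro N hN
    have hmax := Ideal.comap_isMaximal_of_surjective (Ideal.Quotient.mk (Ideal.span {1 - e}))
      Ideal.Quotient.mk_surjective (K := N)
    refine ⟨hmax, fun hmem => ?_⟩
    have h1 : (1 - e) ∈ Ideal.comap (Ideal.Quotient.mk (Ideal.span {1 - e})) N := by
      have h0 : Ideal.Quotient.mk (Ideal.span {1 - e}) (1 - e) = 0 :=
        Ideal.Quotient.eq_zero_iff_mem.mpr (Ideal.subset_span rfl)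
      rw [Ideal.mem_comap, h0]
      exact N.zero_mem
    have h2 := Ideal.add_mem _ hmem h1
    rw [add_sub_cancel] at h2
    exact hmax.ne_top ((Ideal.eq_top_iff_one _).mpr h2)
  have h3 := h _ _ (key M hM).1 (key M' hM').1 (key M hM).2 (key M' hM').2
  exact (Ideal.comap_injective_of_surjective _ Ideal.Quotient.mk_surjective h3).symm

/-- For an integral algebra `B` over a local ring `R`, the extension of the maximal ideal lies in
the Jacobson radical of `B`. -/
theorem map_maximalIdeal_le_jacobson_bot {R : Type*} [CommRing R] [IsLocalRing R]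
    {B : Type*} [CommRing B] [Algebra R B] [Algebra.IsIntegral R B] :
    Ideal.map (algebraMap R B) (maximalIdeal R) ≤ Ideal.jacobson ⊥ := by
  rw [Ideal.jacobson, le_sInf_iff]
  rintro 𝔮 ⟨-, h𝔮⟩
  rw [Ideal.map_le_iff_le_comap]
  have : 𝔮.under R = maximalIdeal R :=
    eq_maximalIdeal (Ideal.isMaximal_comap_of_isIntegral_of_isMaximal 𝔮)
  exact this.ge

theorem aeval_residue {R : Type*} [CommRing R] [IsLocalRing R] (a : R) (p : R[X]) :
    aeval (residue R a) p = residue R (p.eval a) := by
  rw [← residueAlgHom_apply, aeval_algHom_apply, coe_aeval_eq_eval]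
  rfl

/-- **Roots from idempotents.** Let `R` be a local ring, `B` a finite free `R`-algebra generated
by `x`, `f` a polynomial killing `x`, `a₀` an approximate simple root of `f`, `ev : B → κ` the
point `x ↦ ā₀`. If `e` is an idempotent with `ev e ≠ 0` such that `ker ev` is the only maximal
ideal of `B` not containing `e`, then `f` has a root in `R` lifting `ā₀`. -/
theorem exists_root_of_idempotent {R : Type u} [CommRing R] [IsLocalRing R] {B : Type u}
    [CommRing B] [Algebra R B] [Module.Finite R B] [Module.Free R B]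
    (x : B) (hx : Algebra.adjoin R {x} = ⊤) (f : R[X]) (hfx : aeval x f = 0) (a₀ : R)
    (h₁ : f.eval a₀ ∈ maximalIdeal R) (h₂ : IsUnit (f.derivative.eval a₀))
    (ev : B →ₐ[R] ResidueField R) (hev : ev x = residue R a₀)
    (e : B) (he : IsIdempotentElem e) (hee : ev e ≠ 0)
    (hloc : ∀ 𝔮 : Ideal B, 𝔮.IsMaximal → e ∉ 𝔮 → 𝔮 = RingHom.ker ev.toRingHom) :
    ∃ t : R, f.IsRoot t ∧ residue R t = residue R a₀ := by
  classical
  have hne : e ≠ 0 := fun h => hee (by rw [h, map_zero])
  have hev_e : ev e = 1 := by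
    have := congrArg ev he.eq
    rw [map_mul] at this
    exact (mul_eq_left₀ hee).mp this
  have hlocal : IsLocalRing (B ⧸ Ideal.span {1 - e}) :=
    isLocalRing_quotient_of_unique e he hne
      (fun 𝔮 𝔮' h𝔮 h𝔮' h1 h2 => (hloc 𝔮 h𝔮 h1).trans (hloc 𝔮' h𝔮' h2).symm)
  let ev₁ : (B ⧸ Ideal.span {1 - e}) →ₐ[R] ResidueField R :=
    Ideal.Quotient.liftₐ (Ideal.span {1 - e}) ev (by
      intro b hb
      rw [Ideal.mem_span_singleton] at hb
      obtain ⟨c, rfl⟩ := hb
      simp [hev_e])
  have hev₁ : ∀ b, ev₁ (Ideal.Quotient.mk _ b) = ev b := fun b => rfl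
  have hev₁surj : Function.Surjective ev₁ := by
    intro y
    obtain ⟨r, rfl⟩ := residue_surjective y
    exact ⟨algebraMap R _ r, by rw [AlgHom.commutes]; rfl⟩
  have hmax : maximalIdeal (B ⧸ Ideal.span {1 - e}) = RingHom.ker ev₁.toRingHom :=
    (eq_maximalIdeal (RingHom.ker_isMaximal_of_surjective ev₁.toRingHom hev₁surj)).symm
  -- division of `f` by `X - a₀`
  obtain ⟨c, hc⟩ : ∃ c, c = f.eval a₀ := ⟨_, rfl⟩
  obtain ⟨h, hdiv⟩ : ∃ h : R[X], f = (X - C a₀) * h + C c := by
    refine ⟨f /ₘ (X - C a₀), ?_⟩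
    have := modByMonic_add_div f (X - C a₀)
    rw [modByMonic_X_sub_C_eq_C_eval, ← hc] at this
    exact this.symm.trans (by ring)
  have hh : h.eval a₀ = f.derivative.eval a₀ := by
    rw [hdiv]
    simp [derivative_mul]
  set x₁ : B ⧸ Ideal.span {1 - e} := Ideal.Quotient.mk _ x with hx₁
  have hev₁x : ev₁ x₁ = residue R a₀ := hev
  have hu : IsUnit (aeval x₁ h) := by
    rw [← not_not (a := IsUnit _), ← mem_nonunits_iff, ← mem_maximalIdeal, hmax, RingHom.mem_ker]
    show ¬ ev₁ (aeval x₁ h) = 0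
    rw [← aeval_algHom_apply, hev₁x, aeval_residue, hh]
    exact (h₂.map (residue R)).ne_zero
  have hrel : (x₁ - algebraMap R _ a₀) * aeval x₁ h = - algebraMap R _ c := by
    have h0 : aeval x₁ f = 0 := by
      rw [hx₁, ← Ideal.Quotient.mkₐ_eq_mk R, aeval_algHom_apply, hfx, map_zero]
    rw [hdiv] at h0
    simp only [map_add, map_mul, map_sub, aeval_X, aeval_C] at h0
    linear_combination h0
  have hc' : c ∈ maximalIdeal R := hc ▸ h₁
  have hmem : x₁ - algebraMap R _ a₀ ∈
      Ideal.map (algebraMap R (B ⧸ Ideal.span {1 - e})) (maximalIdeal R) := by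
    obtain ⟨v, hv⟩ := hu
    have : x₁ - algebraMap R _ a₀ = - algebraMap R _ c * ↑v⁻¹ := by
      rw [← hv] at hrel
      calc x₁ - algebraMap R _ a₀ = (x₁ - algebraMap R _ a₀) * ↑v * ↑v⁻¹ := by
            rw [mul_assoc, Units.mul_inv, mul_one]
        _ = _ := by rw [hrel]
    rw [this]
    exact Ideal.mul_mem_right _ _ (neg_mem (Ideal.mem_map_of_mem _ hc'))
  -- Nakayama: `R → B₁` is surjective
  have hsurj : Function.Surjective (algebraMap R (B ⧸ Ideal.span {1 - e})) := by
    have hle : (⊤ : Submodule R (B ⧸ Ideal.span {1 - e})) ≤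
        LinearMap.range (Algebra.linearMap R (B ⧸ Ideal.span {1 - e})) := by
      apply Submodule.le_of_le_smul_of_le_jacobson_bot (I := maximalIdeal R)
        (Module.Finite.fg_top) (maximalIdeal_le_jacobson ⊥)
      intro y _
      obtain ⟨b, rfl⟩ := Ideal.Quotient.mk_surjective y
      have hb : b ∈ Algebra.adjoin R {x} := hx ▸ Algebra.mem_top
      rw [Algebra.adjoin_singleton_eq_range_aeval] at hb
      obtain ⟨p, rfl⟩ := hb
      have e1 : Ideal.Quotient.mk (Ideal.span {1 - e}) (aeval x p) = aeval x₁ p := by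
        rw [hx₁, ← Ideal.Quotient.mkₐ_eq_mk R, aeval_algHom_apply]
      have e2 : aeval x₁ p = algebraMap R _ (p.eval a₀) +
          (aeval x₁ p - aeval (algebraMap R (B ⧸ Ideal.span {1 - e}) a₀) p) := by
        rw [aeval_algebraMap_apply, coe_aeval_eq_eval]; ring
      change Ideal.Quotient.mk (Ideal.span {1 - e}) (aeval x p) ∈ _
      rw [e1, e2]
      refine Submodule.add_mem_sup ⟨p.eval a₀, rfl⟩ ?_
      rw [Ideal.smul_top_eq_map]
      show _ ∈ Ideal.map (algebraMap R (B ⧸ Ideal.span {1 - e})) (maximalIdeal R)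
      have hdvd : x₁ - algebraMap R _ a₀ ∣
          aeval x₁ p - aeval (algebraMap R (B ⧸ Ideal.span {1 - e}) a₀) p := by
        rw [aeval_def, aeval_def, ← eval_map, ← eval_map]
        exact sub_dvd_eval_sub _ _ _
      obtain ⟨w, hw⟩ := hdvd
      rw [hw]
      exact Ideal.mul_mem_right _ _ hmem
    intro y
    obtain ⟨r, hr⟩ := hle (Submodule.mem_top (x := y))
    exact ⟨r, hr⟩
  -- injectivity, using freeness of `B`
  have hinj : Function.Injective (algebraMap R (B ⧸ Ideal.span {1 - e})) := by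
    rw [injective_iff_map_eq_zero]
    intro r hr
    rw [IsScalarTower.algebraMap_apply R B, Ideal.Quotient.algebraMap_eq,
      Ideal.Quotient.eq_zero_iff_mem, Ideal.mem_span_singleton] at hr
    obtain ⟨w, hw⟩ := hr
    have hre : r • e = 0 := by
      rw [Algebra.smul_def, hw]
      have := he.eq
      linear_combination (-w) * this
    let b := Module.Free.chooseBasis R B
    have hcoord : ∀ k, r * b.repr e k = 0 := by
      intro k
      have := congrArg (fun z => b.repr z k) hre
      simpa using this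
    by_cases hex : ∃ k, IsUnit (b.repr e k)
    · obtain ⟨k, hk⟩ := hex
      exact (hk.mul_left_eq_zero).mp (hcoord k)
    · exfalso
      push Not at hex
      apply hne
      apply eq_zero_of_isIdempotentElem_of_mem_jacobson he
      apply map_maximalIdeal_le_jacobson_bot (R := R)
      have hsum := b.sum_repr e
      rw [← hsum]
      refine Ideal.sum_mem _ (fun k _ => ?_)
      rw [Algebra.smul_def]
      exact Ideal.mul_mem_right _ _ (Ideal.mem_map_of_mem _ (by
        rw [mem_maximalIdeal, mem_nonunits_iff]; exact hex k))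
  obtain ⟨t, ht⟩ := hsurj x₁
  refine ⟨t, ?_, ?_⟩
  · apply hinj
    rw [map_zero, ← coe_aeval_eq_eval, ← aeval_algebraMap_apply, ht, hx₁,
      ← Ideal.Quotient.mkₐ_eq_mk R, aeval_algHom_apply, hfx, map_zero]
  · have := congrArg ev₁ ht
    rw [AlgHom.commutes, hev₁x] at this
    exact this

end Groth.Agent.Lib.Helper3
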