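import Groth.Agent.Lib.Helper3.QFSplit
import Groth.Agent.Lib.Helper3.HenselConverse
import Groth.Agent.S0500

/-!
# Local rings of finite type algebras over Henselian local rings at quasi-finite points (helper3)
-/

set_option autoImplicit false

namespace Groth.Agent.Lib.Helper3

universe u

open IsLocalRing Polynomial

/-- For an idempotent `e` and a prime `q'` of `S ⧸ (e)` with preimage `q` in `S`, there is a
surjective algebra map `(S ⧸ (e))_{q'} → S_q`. -/
theorem exists_surjective_algHom_localization_of_quotient_idempotent {R S : Type*} [CommRing R]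
    [CommRing S] [Algebra R S] {e : S} (he : IsIdempotentElem e)
    (q' : Ideal (S ⧸ Ideal.span ({e} : Set S))) [q'.IsPrime] (q : Ideal S) [q.IsPrime]
    (hq : q = q'.comap (Ideal.Quotient.mk (Ideal.span ({e} : Set S)))) :
    ∃ f : Localization.AtPrime q' →ₐ[R] Localization.AtPrime q, Function.Surjective f := by
  have hmk0 : Ideal.Quotient.mk (Ideal.span ({e} : Set S)) e = 0 :=
    Ideal.Quotient.eq_zero_iff_mem.mpr (Ideal.subset_span rfl)
  have heq : e ∈ q := by
    rw [hq, Ideal.mem_comap, hmk0]
    exact zero_mem _
  have h1e : 1 - e ∉ q := by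
    intro h
    apply (‹q.IsPrime›).ne_top
    rw [Ideal.eq_top_iff_one]
    have := q.add_mem heq h
    simpa using this
  have he0 : algebraMap S (Localization.AtPrime q) e = 0 := by
    have hu : IsUnit (algebraMap S (Localization.AtPrime q) (1 - e)) :=
      IsLocalization.map_units (Localization.AtPrime q) (⟨1 - e, h1e⟩ : q.primeCompl)
    have : algebraMap S (Localization.AtPrime q) e *
        algebraMap S (Localization.AtPrime q) (1 - e) = 0 := by
      rw [← map_mul, mul_sub, mul_one, he.eq, sub_self, map_zero]
    exact (hu.mul_left_eq_zero).mp this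
  let g : S ⧸ Ideal.span ({e} : Set S) →ₐ[R] Localization.AtPrime q :=
    Ideal.Quotient.liftₐ (Ideal.span ({e} : Set S))
      (IsScalarTower.toAlgHom R S (Localization.AtPrime q)) (by
        intro a ha
        obtain ⟨c, rfl⟩ := Ideal.mem_span_singleton'.mp ha
        simp [he0])
  have hgmk : ∀ y : S, g (Ideal.Quotient.mk _ y) = algebraMap S (Localization.AtPrime q) y :=
    fun y => rfl
  have hg : ∀ y : q'.primeCompl, IsUnit (g y) := by
    rintro ⟨y, hy⟩
    obtain ⟨y, rfl⟩ := Ideal.Quotient.mk_surjective y
    rw [hgmk]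
    refine IsLocalization.map_units (Localization.AtPrime q) (⟨y, ?_⟩ : q.primeCompl)
    intro hyq
    rw [hq] at hyq
    exact hy hyq
  let f : Localization.AtPrime q' →ₐ[R] Localization.AtPrime q :=
    IsLocalization.liftAlgHom (M := q'.primeCompl) (f := g) hg
  refine ⟨f, ?_⟩
  intro x
  obtain ⟨a, s, rfl⟩ := IsLocalization.exists_mk'_eq q.primeCompl x
  have hs : Ideal.Quotient.mk (Ideal.span ({e} : Set S)) s.1 ∈ q'.primeCompl := by
    intro h
    apply s.2
    have : s.1 ∈ q'.comap (Ideal.Quotient.mk (Ideal.span ({e} : Set S))) := h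
    exact hq ▸ this
  refine ⟨IsLocalization.mk' (Localization.AtPrime q')
    (Ideal.Quotient.mk (Ideal.span ({e} : Set S)) a) ⟨_, hs⟩, ?_⟩
  rw [IsLocalization.eq_mk'_iff_mul_eq]
  have h1 : algebraMap S (Localization.AtPrime q) s.1 =
      f (algebraMap _ (Localization.AtPrime q')
        (Ideal.Quotient.mk (Ideal.span ({e} : Set S)) s.1)) := by
    simp [f, hgmk]
  have h2 : algebraMap S (Localization.AtPrime q) a =
      f (algebraMap _ (Localization.AtPrime q')
        (Ideal.Quotient.mk (Ideal.span ({e} : Set S)) a)) := by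
    simp [f, hgmk]
  rw [h1, h2, ← map_mul]
  congr 1
  exact IsLocalization.mk'_spec _ _ _

/-- For a finite algebra `B` over a Henselian local ring, the localization at a maximal ideal is a
quotient of `B`. -/
theorem algebraMap_localization_surjective_of_finite (R : Type u) [CommRing R]
    [HenselianLocalRing R] (B : Type u) [CommRing B] [Algebra R B] [Module.Finite R B]
    (q : Ideal B) [hq : q.IsMaximal] :
    Function.Surjective (algebraMap B (Localization.AtPrime q)) := by
  obtain ⟨ι, _, A, _, hA, ⟨φ⟩⟩ := exists_ringEquiv_pi_isLocalRing_of_finite R B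
  obtain ⟨ε, hε, hεq, hloc⟩ := Groth.Agent.S0500.exists_idempotent_of_pi_local φ q hq
  have hεu : IsUnit (algebraMap B (Localization.AtPrime q) ε) :=
    IsLocalization.map_units (Localization.AtPrime q) (⟨ε, hεq⟩ : q.primeCompl)
  intro x
  obtain ⟨a, s, rfl⟩ := IsLocalization.exists_mk'_eq q.primeCompl x
  -- `(s) + (1 - ε) = ⊤`
  have htop : Ideal.span ({s.1, 1 - ε} : Set B) = ⊤ := by
    by_contra hne
    obtain ⟨M, hM, hle⟩ := Ideal.exists_le_maximal _ hne
    have h1 : 1 - ε ∈ M := hle (Ideal.subset_span (by simp))
    have h2 : ε ∉ M := by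
      intro h
      apply hM.ne_top
      rw [Ideal.eq_top_iff_one]
      have := M.add_mem h h1
      simpa using this
    have h3 : M = q := hloc M hM h2
    exact s.2 (h3 ▸ hle (Ideal.subset_span (by simp)))
  have h1 : (1 : B) ∈ Ideal.span ({s.1, 1 - ε} : Set B) := htop ▸ Submodule.mem_top
  obtain ⟨u, c, huc⟩ := Ideal.mem_span_pair.mp h1
  refine ⟨a * u, ?_⟩
  rw [IsLocalization.eq_mk'_iff_mul_eq, ← map_mul]
  -- `a * u * s = a` in the localization since `ε * (u * s - 1) = 0`
  have h2 : ε * (a * u * s.1) = ε * a := by
    have : ε * (1 - ε) = 0 := by rw [mul_sub, mul_one, hε.eq, sub_self]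
    linear_combination (a * ε) * huc - a * c * this
  have h3 : algebraMap B (Localization.AtPrime q) ε *
      algebraMap B (Localization.AtPrime q) (a * u * s.1) =
      algebraMap B (Localization.AtPrime q) ε * algebraMap B (Localization.AtPrime q) a := by
    rw [← map_mul, ← map_mul, h2]
  exact hεu.mul_left_cancel h3

theorem finite_localization_of_quasiFiniteAt (R : Type u) [CommRing R] [HenselianLocalRing R]
    (S : Type u) [CommRing S] [Algebra R S] [Algebra.FiniteType R S] (q : Ideal S) [q.IsPrime]
    (hover : q.LiesOver (maximalIdeal R)) (hqf : Algebra.QuasiFiniteAt R q) :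
    Module.Finite R (Localization.AtPrime q) := by
  obtain ⟨e, he, hfin, hno⟩ := exists_idempotent_split_of_finiteType R S
  have hee : e * (1 - e) = 0 := by rw [mul_sub, mul_one, he.eq, sub_self]
  -- `e ∉ q`
  have heq : e ∉ q := by
    intro heq
    have hker : RingHom.ker (Ideal.Quotient.mk (Ideal.span ({e} : Set S))) ≤ q := by
      rw [Ideal.mk_ker, Ideal.span_le]
      simpa using heq
    let q' : Ideal (S ⧸ Ideal.span ({e} : Set S)) := q.map (Ideal.Quotient.mk _)
    have hq'p : q'.IsPrime :=
      Ideal.map_isPrime_of_surjective Ideal.Quotient.mk_surjective hker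
    have hcomap : q = q'.comap (Ideal.Quotient.mk (Ideal.span ({e} : Set S))) := by
      rw [Ideal.comap_map_of_surjective _ Ideal.Quotient.mk_surjective, ← RingHom.ker_eq_comap_bot,
        sup_eq_left.mpr hker]
    have hover' : q'.LiesOver (maximalIdeal R) := by
      constructor
      have h1 : q'.under R = q.under R := by
        change Ideal.comap (algebraMap R (S ⧸ Ideal.span ({e} : Set S))) q' = _
        rw [show algebraMap R (S ⧸ Ideal.span ({e} : Set S)) =
          (Ideal.Quotient.mk _).comp (algebraMap R S) from rfl, ← Ideal.comap_comap, ← hcomap]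
      rw [h1]
      exact hover.over
    have hqf' : Algebra.QuasiFiniteAt R q' :=
      Algebra.QuasiFiniteAt.of_surjectiveOnStalks q (Ideal.Quotient.mkₐ R _)
        (RingHom.surjectiveOnStalks_of_surjective Ideal.Quotient.mk_surjective) q' hcomap
    exact hno q' hover' hqf'
  have h1eq : 1 - e ∈ q := by
    have : e * (1 - e) ∈ q := hee ▸ zero_mem _
    exact ((‹q.IsPrime›).mem_or_mem this).resolve_left heq
  -- pass to `S₁ = S ⧸ (1 - e)`
  have he' : IsIdempotentElem (1 - e) := he.one_sub
  have hker : RingHom.ker (Ideal.Quotient.mk (Ideal.span ({1 - e} : Set S))) ≤ q := by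
    rw [Ideal.mk_ker, Ideal.span_le]
    simpa using h1eq
  let q₁ : Ideal (S ⧸ Ideal.span ({1 - e} : Set S)) := q.map (Ideal.Quotient.mk _)
  have hq₁p : q₁.IsPrime := Ideal.map_isPrime_of_surjective Ideal.Quotient.mk_surjective hker
  have hcomap : q = q₁.comap (Ideal.Quotient.mk (Ideal.span ({1 - e} : Set S))) := by
    rw [Ideal.comap_map_of_surjective _ Ideal.Quotient.mk_surjective, ← RingHom.ker_eq_comap_bot,
      sup_eq_left.mpr hker]
  have hint : Algebra.IsIntegral R (S ⧸ Ideal.span ({1 - e} : Set S)) :=
    Algebra.IsIntegral.of_finite R _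
  have hq₁max : q₁.IsMaximal := by
    apply Ideal.isMaximal_of_isIntegral_of_isMaximal_comap (R := R) q₁
    have h1 : q₁.comap (algebraMap R (S ⧸ Ideal.span ({1 - e} : Set S))) = q.under R := by
      rw [show algebraMap R (S ⧸ Ideal.span ({1 - e} : Set S)) =
        (Ideal.Quotient.mk _).comp (algebraMap R S) from rfl, ← Ideal.comap_comap, ← hcomap]
    rw [h1, ← hover.over]
    exact maximalIdeal.isMaximal R
  obtain ⟨f, hf⟩ := exists_surjective_algHom_localization_of_quotient_idempotent (R := R) he'
    q₁ q hcomap
  have hsurj := algebraMap_localization_surjective_of_finite R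
    (S ⧸ Ideal.span ({1 - e} : Set S)) q₁
  have hfin₁ : Module.Finite R (Localization.AtPrime q₁) :=
    Module.Finite.of_surjective
      (IsScalarTower.toAlgHom R (S ⧸ Ideal.span ({1 - e} : Set S))
        (Localization.AtPrime q₁)).toLinearMap hsurj
  exact Module.Finite.of_surjective f.toLinearMap hf

theorem henselianLocalRing_of_finite_localization (R : Type u) [CommRing R] [IsLocalRing R]
    (H : ∀ (S : Type u) [CommRing S] [Algebra R S] [Algebra.FiniteType R S] (q : Ideal S)
      [q.IsPrime], q.LiesOver (maximalIdeal R) → Algebra.QuasiFiniteAt R q →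
        Module.Finite R (Localization.AtPrime q)) :
    HenselianLocalRing R := by
  apply henselianLocalRing_of_gabberAlg_finite_flat
  intro n p hn hpdeg hp
  have hmonic : (gabberPoly n p).Monic := gabber_monic p hpdeg
  have hBfin := hmonic.finite_adjoinRoot
  have hBfree := hmonic.free_adjoinRoot
  have hft : Algebra.FiniteType R (GabberAlg n p) :=
    Algebra.FiniteType.trans (S := AdjoinRoot (gabberPoly n p)) inferInstance inferInstance
  have hflatBT : Module.Flat (AdjoinRoot (gabberPoly n p)) (GabberAlg n p) :=
    IsLocalization.flat _ (Submonoid.powers (AdjoinRoot.root (gabberPoly n p)))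
  have hflatT : Module.Flat R (GabberAlg n p) :=
    Module.Flat.trans R (AdjoinRoot (gabberPoly n p)) _
  obtain ⟨χ, hχ⟩ := exists_gabberAlg_point (n := n) hp
  let q : Ideal (GabberAlg n p) := RingHom.ker χ.toRingHom
  have hqp : q.IsPrime := RingHom.ker_isPrime _
  have hover : q.LiesOver (maximalIdeal R) := by
    constructor
    ext r
    rw [Ideal.under_def, Ideal.mem_comap, RingHom.mem_ker]
    change _ ↔ χ (algebraMap R _ r) = 0
    rw [χ.commutes]
    exact (residue_eq_zero_iff r).symm
  have hfin : Module.Finite R (Localization.AtPrime q) := H (GabberAlg n p) q hover inferInstance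
  have hflat1 : Module.Flat (GabberAlg n p) (Localization.AtPrime q) :=
    IsLocalization.flat _ q.primeCompl
  have hflat : Module.Flat R (Localization.AtPrime q) := Module.Flat.trans R (GabberAlg n p) _
  refine ⟨Localization.AtPrime q, inferInstance, inferInstance, hfin, hflat, inferInstance,
    IsScalarTower.toAlgHom R (GabberAlg n p) (Localization.AtPrime q), ?_⟩
  intro z
  set J := (maximalIdeal R).map (algebraMap R (GabberAlg n p)) with hJ
  set Jq := (maximalIdeal R).map (algebraMap R (Localization.AtPrime q)) with hJq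
  have hJJq : ∀ t ∈ J, algebraMap (GabberAlg n p) (Localization.AtPrime q) t ∈ Jq := by
    intro t ht
    have h2 : Jq = J.map (algebraMap (GabberAlg n p) (Localization.AtPrime q)) := by
      rw [hJq, hJ, Ideal.map_map, ← IsScalarTower.algebraMap_eq]
    rw [h2]
    exact Ideal.mem_map_of_mem _ ht
  have hJq' : J ≤ q := by
    rw [hJ, Ideal.map_le_iff_le_comap]
    intro a ha
    exact (hover.over ▸ ha : a ∈ q.under R)
  obtain ⟨t, s, rfl⟩ := IsLocalization.exists_mk'_eq q.primeCompl z
  obtain ⟨rt, hrt⟩ := gabberAlg_exists_sub_mem hp t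
  obtain ⟨rs, hrs⟩ := gabberAlg_exists_sub_mem hp s.1
  have hrsu : IsUnit rs := by
    by_contra hnu
    have hm : rs ∈ maximalIdeal R := by rwa [mem_maximalIdeal, mem_nonunits_iff]
    apply s.2
    have h1 : algebraMap R (GabberAlg n p) rs ∈ q := hJq' (Ideal.mem_map_of_mem _ hm)
    have : s.1 = (s.1 - algebraMap R (GabberAlg n p) rs) + algebraMap R (GabberAlg n p) rs := by
      ring
    rw [this]
    exact q.add_mem (hJq' hrs) h1
  obtain ⟨u, hu⟩ := hrsu.exists_right_inv
  refine ⟨rt * u, ?_⟩
  set z := IsLocalization.mk' (Localization.AtPrime q) t s with hz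
  have hzs : z * algebraMap (GabberAlg n p) (Localization.AtPrime q) s.1 =
      algebraMap (GabberAlg n p) (Localization.AtPrime q) t := IsLocalization.mk'_spec _ _ _
  have halg : ∀ r : R, algebraMap R (Localization.AtPrime q) r =
      algebraMap (GabberAlg n p) (Localization.AtPrime q) (algebraMap R (GabberAlg n p) r) :=
    fun r => IsScalarTower.algebraMap_apply R (GabberAlg n p) (Localization.AtPrime q) r
  have key : z - algebraMap R (Localization.AtPrime q) (rt * u) =
      (z * algebraMap (GabberAlg n p) (Localization.AtPrime q)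
          (algebraMap R (GabberAlg n p) rs - s.1) +
        algebraMap (GabberAlg n p) (Localization.AtPrime q)
          (t - algebraMap R (GabberAlg n p) rt)) * algebraMap R (Localization.AtPrime q) u := by
    have hu' : algebraMap R (Localization.AtPrime q) rs * algebraMap R (Localization.AtPrime q) u
        = 1 := by rw [← map_mul, hu, map_one]
    rw [map_sub, map_sub, map_mul, ← halg, ← halg]
    linear_combination (-z) * hu' + (algebraMap R (Localization.AtPrime q) u) * hzs
  rw [key]
  apply Ideal.mul_mem_right
  apply Ideal.add_mem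
  · apply Ideal.mul_mem_left
    apply hJJq
    have := J.neg_mem hrs
    simpa using this
  · exact hJJq _ hrt

end Groth.Agent.Lib.Helper3
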