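import Groth.Agent.Lib.Helper3.HenselEtale

/-!
# Finite algebras over Henselian local rings (helper3)
-/

set_option autoImplicit false
universe u

namespace Groth.Agent.Lib.Helper3

open Polynomial IsLocalRing TensorProduct

/-- An idempotent in the Jacobson radical is zero. -/
theorem eq_zero_of_isIdempotentElem_of_mem_jacobson {S : Type*} [CommRing S] {e : S}
    (he : IsIdempotentElem e) (hj : e ∈ Ideal.jacobson (⊥ : Ideal S)) : e = 0 := by
  have h1 : IsUnit (e * (-1) + 1) := Ideal.mem_jacobson_bot.mp hj (-1)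
  have h2 : e * (e * (-1) + 1) = 0 := by
    have := he.eq
    linear_combination -this
  exact (h1.mul_left_eq_zero).mp h2

/-- A family of complete orthogonal idempotents in a commutative ring such that every quotient
`S ⧸ (1 - e i)` with `e i ≠ 0` has at most one maximal ideal gives a decomposition into a finite
product of local rings. -/
theorem exists_ringEquiv_pi_of_completeOrthogonalIdempotents {S : Type u} [CommRing S]
    {n : ℕ} (e : Fin n → S) (he : CompleteOrthogonalIdempotents e)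
    (h : ∀ i, ∀ 𝔮 𝔮' : Ideal S, 𝔮.IsMaximal → 𝔮'.IsMaximal → e i ∉ 𝔮 → e i ∉ 𝔮' → 𝔮 = 𝔮') :
    ∃ (ι : Type u) (_ : Fintype ι) (A : ι → Type u) (_ : ∀ i, CommRing (A i)),
      (∀ i, IsLocalRing (A i)) ∧ Nonempty (S ≃+* (∀ i, A i)) := by
  classical
  let J := {i : Fin n // e i ≠ 0}
  let e' : ULift.{u} J → S := fun j => e j.down.1
  have he' : CompleteOrthogonalIdempotents e' := by
    refine ⟨⟨fun j => he.idem _, ?_⟩, ?_⟩
    · intro j j' hjj'
      apply he.ortho
      intro h
      apply hjj'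
      exact ULift.ext _ _ (Subtype.ext h)
    · have h1 : ∑ j : ULift.{u} J, e' j = ∑ j : J, e j.1 :=
        Fintype.sum_equiv Equiv.ulift _ _ (fun _ => rfl)
      rw [h1, ← he.complete]
      rw [← Finset.sum_subtype (Finset.univ.filter (fun i => e i ≠ 0)) (by simp) e]
      rw [Finset.sum_filter_ne_zero]
  refine ⟨ULift.{u} J, inferInstance, fun j => S ⧸ Ideal.span {1 - e' j}, fun _ => inferInstance,
    ?_, ⟨RingEquiv.ofBijective _ he'.bijective_pi⟩⟩
  intro j
  have hne : e' j ≠ 0 := j.down.2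
  have hidem : IsIdempotentElem (e' j) := he'.idem j
  have hnontriv : Nontrivial (S ⧸ Ideal.span {1 - e' j}) := by
    rw [Ideal.Quotient.nontrivial_iff]
    intro htop
    rw [Ideal.span_singleton_eq_top] at htop
    apply hne
    have : e' j * (1 - e' j) = 0 := by
      have := hidem.eq; linear_combination -this
    exact (htop.mul_left_eq_zero).mp this
  obtain ⟨M, hM⟩ := Ideal.exists_maximal (S ⧸ Ideal.span {1 - e' j})
  refine IsLocalRing.of_unique_max_ideal ⟨M, hM, fun M' hM' => ?_⟩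
  -- both `M`, `M'` pull back to maximal ideals of `S` not containing `e' j`
  have key : ∀ N : Ideal (S ⧸ Ideal.span {1 - e' j}), N.IsMaximal →
      (Ideal.comap (Ideal.Quotient.mk (Ideal.span {1 - e' j})) N).IsMaximal ∧
        e' j ∉ Ideal.comap (Ideal.Quotient.mk (Ideal.span {1 - e' j})) N := by
    intro N hN
    have hmax := Ideal.comap_isMaximal_of_surjective (Ideal.Quotient.mk (Ideal.span {1 - e' j}))
      Ideal.Quotient.mk_surjective (K := N)
    refine ⟨hmax, fun hmem => ?_⟩
    have h1 : (1 - e' j) ∈ Ideal.comap (Ideal.Quotient.mk (Ideal.span {1 - e' j})) N := by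
      have h0 : Ideal.Quotient.mk (Ideal.span {1 - e' j}) (1 - e' j) = 0 :=
        Ideal.Quotient.eq_zero_iff_mem.mpr (Ideal.subset_span rfl)
      rw [Ideal.mem_comap, h0]
      exact N.zero_mem
    have h2 := Ideal.add_mem _ hmem h1
    rw [add_sub_cancel] at h2
    exact hmax.ne_top ((Ideal.eq_top_iff_one _).mpr h2)
  have h3 := h j.down.1 _ _ (key M hM).1 (key M' hM').1 (key M hM).2 (key M' hM').2
  exact (Ideal.comap_injective_of_surjective _ Ideal.Quotient.mk_surjective h3).symm

end Groth.Agent.Lib.Helper3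

namespace Groth.Agent.Lib.Helper3

open Polynomial IsLocalRing TensorProduct

/-- **Finite algebras over a Henselian local ring are finite products of local rings.** -/
theorem exists_ringEquiv_pi_isLocalRing_of_finite (R : Type u) [CommRing R] [HenselianLocalRing R]
    (S : Type u) [CommRing S] [Algebra R S] [Module.Finite R S] :
    ∃ (ι : Type u) (_ : Fintype ι) (A : ι → Type u) (_ : ∀ i, CommRing (A i)),
      (∀ i, IsLocalRing (A i)) ∧ Nonempty (S ≃+* (∀ i, A i)) := by
  obtain ⟨R', _, _, _, P, _, _, n, e, he, P', _, _, hbij, -, H⟩ :=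
    Algebra.exists_etale_completeOrthogonalIdempotents_forall_liesOver_eq (R := R) (S := S)
      (maximalIdeal R)
  have hP : Function.Surjective (algebraMap R P.ResidueField) := by
    intro x
    obtain ⟨y, rfl⟩ := hbij.surjective x
    obtain ⟨r, rfl⟩ := Ideal.algebraMap_residueField_surjective (maximalIdeal R) y
    exact ⟨r, (AlgHom.commutes _ r).symm⟩
  obtain ⟨τ, hτ⟩ := exists_algHom_comap_eq_of_etale P hP
  let σ : R' ⊗[R] S →ₐ[R] S :=
    Algebra.TensorProduct.lift ((Algebra.ofId R S).comp τ) (AlgHom.id R S) (fun _ _ => .all _ _)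
  have hσ : ∀ (r' : R') (s : S), σ (r' ⊗ₜ s) = algebraMap R S (τ r') * s := fun r' s => by
    simp [σ, Algebra.ofId_apply]
  have hσsurj : Function.Surjective σ := fun s => ⟨1 ⊗ₜ s, by simp [hσ]⟩
  have hē : CompleteOrthogonalIdempotents (σ ∘ e) := he.map σ.toRingHom
  -- primes of `S` pull back to primes over `P`
  have hlies : ∀ 𝔮 : Ideal S, 𝔮.IsMaximal → (Ideal.comap σ.toRingHom 𝔮).LiesOver P := by
    intro 𝔮 h𝔮
    have hu : 𝔮.under R = maximalIdeal R :=
      eq_maximalIdeal (Ideal.isMaximal_comap_of_isIntegral_of_isMaximal 𝔮)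
    refine ⟨?_⟩
    ext x
    rw [Ideal.under, Ideal.mem_comap, Ideal.mem_comap, ← hτ, Ideal.mem_comap, ← hu,
      Ideal.under, Ideal.mem_comap]
    show _ ↔ σ (algebraMap R' (R' ⊗[R] S) x) ∈ 𝔮
    rw [Algebra.TensorProduct.algebraMap_apply, hσ, mul_one]
    rfl
  have hprime : ∀ 𝔮 : Ideal S, 𝔮.IsMaximal → (Ideal.comap σ.toRingHom 𝔮).IsPrime :=
    fun 𝔮 h𝔮 => Ideal.comap_isPrime _ _
  -- the last idempotent is zero
  have hlast : σ (e (Fin.last n)) = 0 := by
    apply eq_zero_of_isIdempotentElem_of_mem_jacobson (hē.idem (Fin.last n))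
    rw [Ideal.jacobson, Ideal.mem_sInf]
    rintro 𝔮 ⟨-, h𝔮⟩
    exact (H _ (hprime 𝔮 h𝔮) (hlies 𝔮 h𝔮)).1
  apply exists_ringEquiv_pi_of_completeOrthogonalIdempotents (σ ∘ e) hē
  intro i 𝔮 𝔮' h𝔮 h𝔮' hi hi'
  rcases Fin.eq_castSucc_or_eq_last i with ⟨i, rfl⟩ | rfl
  · have h1 := (H _ (hprime 𝔮 h𝔮) (hlies 𝔮 h𝔮)).2 i hi
    have h2 := (H _ (hprime 𝔮' h𝔮') (hlies 𝔮' h𝔮')).2 i hi'
    exact Ideal.comap_injective_of_surjective σ.toRingHom hσsurj (h1.trans h2.symm)
  · exfalso
    apply hi
    simp only [Function.comp_apply, hlast]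
    exact 𝔮.zero_mem

end Groth.Agent.Lib.Helper3
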