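import Groth.Agent.Lib.Helper3.IdemBij

/-!
# Finite projective modules over a pair `(R, I)` with `I ≤ jac` (helper3)
-/

set_option autoImplicit false
universe u

namespace Groth.Agent.Lib.Helper3

open TensorProduct

section

variable {R : Type*} [CommRing R] (I : Ideal R)

/-- The base change map `P → (R/I) ⊗ P`. -/
noncomputable def redMap (P : Type*) [AddCommGroup P] [Module R P] : P →ₗ[R] (R ⧸ I) ⊗[R] P :=
  TensorProduct.mk R (R ⧸ I) P 1

theorem redMap_apply (P : Type*) [AddCommGroup P] [Module R P] (p : P) :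
    redMap I P p = 1 ⊗ₜ p := rfl

theorem redMap_surjective (P : Type*) [AddCommGroup P] [Module R P] :
    Function.Surjective (redMap I P) := by
  intro x
  induction x using TensorProduct.induction_on with
  | zero => exact ⟨0, map_zero _⟩
  | tmul a p =>
    obtain ⟨r, rfl⟩ := Ideal.Quotient.mk_surjective a
    refine ⟨r • p, ?_⟩
    rw [redMap_apply, ← TensorProduct.smul_tmul]
    congr 1
    rw [← Ideal.Quotient.algebraMap_eq, Algebra.smul_def, mul_one]
  | add x y hx hy =>
    obtain ⟨a, rfl⟩ := hx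
    obtain ⟨b, rfl⟩ := hy
    exact ⟨a + b, map_add _ _ _⟩

theorem mem_smul_top_of_redMap_eq_zero (P : Type*) [AddCommGroup P] [Module R P] (p : P)
    (h : redMap I P p = 0) : p ∈ (I • ⊤ : Submodule R P) := by
  have := congrArg (TensorProduct.quotTensorEquivQuotSMul P I) h
  rw [redMap_apply, TensorProduct.quotTensorEquivQuotSMul_mk_one_tmul, map_zero,
    Submodule.Quotient.mk_eq_zero] at this
  exact this

/-- If `I ≤ jac`, two finite projective modules which are isomorphic modulo `I` are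
isomorphic. -/
theorem nonempty_linearEquiv_of_baseChange (hjac : I ≤ Ideal.jacobson ⊥)
    (P₁ P₂ : Type*) [AddCommGroup P₁] [Module R P₁] [AddCommGroup P₂] [Module R P₂]
    [Module.Finite R P₁] [Module.Projective R P₁] [Module.Finite R P₂] [Module.Projective R P₂]
    (e : (R ⧸ I) ⊗[R] P₁ ≃ₗ[R ⧸ I] (R ⧸ I) ⊗[R] P₂) : Nonempty (P₁ ≃ₗ[R] P₂) := by
  let eR : (R ⧸ I) ⊗[R] P₁ ≃ₗ[R] (R ⧸ I) ⊗[R] P₂ := e.restrictScalars R
  let g : P₁ →ₗ[R] (R ⧸ I) ⊗[R] P₂ := eR.toLinearMap ∘ₗ redMap I P₁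
  obtain ⟨φ, hφ⟩ := Module.projective_lifting_property (redMap I P₂) g (redMap_surjective I P₂)
  have hφ' : ∀ p, redMap I P₂ (φ p) = eR (redMap I P₁ p) := fun p => congr($hφ p)
  -- surjectivity
  have hsurj : Function.Surjective φ := by
    rw [← LinearMap.range_eq_top, eq_top_iff]
    apply Submodule.le_of_le_smul_of_le_jacobson_bot Module.Finite.fg_top hjac
    intro p₂ _
    obtain ⟨x, hx⟩ := eR.surjective (redMap I P₂ p₂)
    obtain ⟨p₁, rfl⟩ := redMap_surjective I P₁ x
    have h0 : redMap I P₂ (p₂ - φ p₁) = 0 := by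
      rw [map_sub, hφ', hx, sub_self]
    have : p₂ = φ p₁ + (p₂ - φ p₁) := by abel
    rw [this]
    exact Submodule.add_mem_sup ⟨p₁, rfl⟩ (mem_smul_top_of_redMap_eq_zero I P₂ _ h0)
  -- splitting
  obtain ⟨s, hs⟩ := Module.projective_lifting_property φ LinearMap.id hsurj
  have hs' : ∀ p, φ (s p) = p := fun p => congr($hs p)
  let ρ : P₁ →ₗ[R] P₁ := LinearMap.id - s ∘ₗ φ
  have hρker : ∀ p, φ (ρ p) = 0 := by
    intro p
    simp [ρ, hs']
  have hρid : ∀ k, φ k = 0 → ρ k = k := by
    intro k hk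
    simp [ρ, hk]
  have hKfg : (LinearMap.ker φ).FG := by
    have : LinearMap.ker φ = LinearMap.range ρ := by
      ext k
      constructor
      · intro hk; exact ⟨k, hρid k hk⟩
      · rintro ⟨p, rfl⟩; exact hρker p
    rw [this, LinearMap.range_eq_map]
    exact Module.Finite.fg_top.map _
  have hK : LinearMap.ker φ ≤ I • LinearMap.ker φ := by
    intro k hk
    have hk0 : φ k = 0 := hk
    have h1 : redMap I P₁ k = 0 := by
      apply eR.injective
      rw [← hφ', hk0, map_zero, map_zero]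
    have h2 := mem_smul_top_of_redMap_eq_zero I P₁ k h1
    rw [← hρid k hk0]
    refine Submodule.smul_induction_on h2 (fun r hr n _ => ?_) (fun x y hx hy => ?_)
    · rw [map_smul]
      exact Submodule.smul_mem_smul hr (hρker n)
    · rw [map_add]
      exact Submodule.add_mem _ hx hy
  have hKbot : LinearMap.ker φ = ⊥ :=
    Submodule.eq_bot_of_le_smul_of_le_jacobson_bot I _ hKfg hK hjac
  exact ⟨LinearEquiv.ofBijective φ ⟨LinearMap.ker_eq_bot.mp hKbot, hsurj⟩⟩

end


section Lift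

open Polynomial

/-- Lifting idempotent endomorphisms of a free module along a Henselian pair. Let `F` be a finite
`R`-module, `ε₀` an endomorphism of `F` such that `ε₀² - ε₀` maps `F` into `I F`. Then there is an
idempotent endomorphism `E` of `F` such that `E - ε₀` maps `F` into `I F`. -/
theorem exists_idempotent_end_lift {R : Type u} [CommRing R] (I : Ideal R) [HenselianRing R I]
    {F : Type*} [AddCommGroup F] [Module R F] [Module.Finite R F] (ε₀ : Module.End R F)
    (hε₀ : LinearMap.range (ε₀ * ε₀ - ε₀) ≤ I • (⊤ : Submodule R F)) :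
    ∃ E : Module.End R F, E * E = E ∧ LinearMap.range (E - ε₀) ≤ I • (⊤ : Submodule R F) := by
  classical
  set φ : Module.End R F := ε₀ * ε₀ - ε₀ with hφ
  obtain ⟨p, hpm, -, hpI, hpφ⟩ :=
    LinearMap.exists_monic_and_natDegree_eq_and_coeff_mem_pow_and_aeval_eq_zero R φ I hε₀
  set d := p.natDegree with hd
  have hpmap : p.map (Ideal.Quotient.mk I) = X ^ d := by
    ext i
    rw [coeff_map, coeff_X_pow]
    split_ifs with h
    · subst h; rw [hpm.coeff_natDegree, map_one]
    · rcases lt_or_gt_of_ne h with hlt | hgt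
      · exact Ideal.Quotient.eq_zero_iff_mem.mpr (Ideal.pow_le_self (by omega) (hpI i))
      · rw [coeff_eq_zero_of_natDegree_lt hgt, map_zero]
  set N := d + 1 with hN
  have hQm : (X * (X - 1) : R[X]).Monic := by
    have := (monic_X (R := R)).mul (monic_X_sub_C (1 : R))
    simpa using this
  let f : R[X] := (p * X).comp (X * (X - 1))
  have hfm : f.Monic := by
    nontriviality R
    have h3 : (X * (X - 1) : R[X]).natDegree ≠ 0 := by
      have := (monic_X (R := R)).natDegree_mul (monic_X_sub_C (1 : R))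
      rw [natDegree_X, natDegree_X_sub_C] at this
      have h4 : (X * (X - 1) : R[X]).natDegree = 1 + 1 := by simpa using this
      omega
    exact (hpm.mul monic_X).comp hQm h3
  have hfε : aeval ε₀ f = 0 := by
    rw [aeval_comp]
    have : aeval ε₀ (X * (X - 1) : R[X]) = φ := by
      simp [hφ, mul_sub]
    rw [this, map_mul, hpφ, zero_mul]
  have hfmap : f.map (Ideal.Quotient.mk I) = X ^ N * (X - 1) ^ N := by
    rw [Polynomial.map_comp, Polynomial.map_mul, hpmap, map_X, Polynomial.map_mul,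
      Polynomial.map_sub, map_X, Polynomial.map_one]
    simp only [mul_comp, X_comp, pow_comp, hN]
    rw [← pow_succ, mul_pow]
  -- the finite commutative algebra `B = R[X]/(f)`
  have hfinB : Module.Finite R (R[X] ⧸ Ideal.span {f}) :=
    show Module.Finite R (AdjoinRoot f) from hfm.finite_adjoinRoot
  let evB : (R[X] ⧸ Ideal.span {f}) →ₐ[R] Module.End R F :=
    Ideal.Quotient.liftₐ (Ideal.span {f}) (aeval ε₀) (by
      intro a ha
      obtain ⟨c, rfl⟩ := Ideal.mem_span_singleton.mp ha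
      rw [map_mul, hfε, zero_mul])
  have hevB : ∀ q : R[X], evB (Ideal.Quotient.mk _ q) = aeval ε₀ q := fun q => rfl
  -- Bezout
  have hcopA0 : IsCoprime (X : R[X]) (X - 1) := ⟨1, -1, by ring⟩
  obtain ⟨u, v, huv⟩ := (hcopA0.pow : IsCoprime ((X : R[X]) ^ N) ((X - 1) ^ N))
  set IB := I.map (algebraMap R (R[X] ⧸ Ideal.span {f})) with hIB
  let b : R[X] ⧸ Ideal.span {f} := Ideal.Quotient.mk _ (u * X ^ N)
  have hmkI : ∀ D : R[X], (∀ i, D.coeff i ∈ I) → Ideal.Quotient.mk (Ideal.span {f}) D ∈ IB := by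
    intro D hD
    have h1 := aeval_mem_map_of_coeff_mem (U := R[X] ⧸ Ideal.span {f}) D hD
      (Ideal.Quotient.mk _ X)
    have h2 : aeval (Ideal.Quotient.mk (Ideal.span {f}) X) D = Ideal.Quotient.mk _ D := by
      rw [← Ideal.Quotient.mkₐ_eq_mk R, aeval_algHom_apply, aeval_X_left_apply]
    rwa [h2] at h1
  have hb : b * b - b ∈ IB := by
    have h1 : (u * X ^ N) * (u * X ^ N) - u * X ^ N
        = (-(u * v)) * (X ^ N * (X - 1) ^ N - f) + (-(u * v)) * f := by
      linear_combination (u * X ^ N) * huv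
    have h2 : b * b - b = Ideal.Quotient.mk _ ((-(u * v)) * (X ^ N * (X - 1) ^ N - f)) := by
      simp only [b]
      rw [← map_mul, ← map_sub, h1, map_add]
      have : Ideal.Quotient.mk (Ideal.span {f}) (-(u * v) * f) = 0 :=
        Ideal.Quotient.eq_zero_iff_mem.mpr (Ideal.mul_mem_left _ _ (Ideal.subset_span rfl))
      rw [this, add_zero]
    rw [h2, map_mul]
    apply Ideal.mul_mem_left
    apply hmkI
    apply coeff_mem_of_map_eq_zero
    rw [Polynomial.map_sub, hfmap, Polynomial.map_mul, Polynomial.map_pow, Polynomial.map_pow,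
      Polynomial.map_sub, map_X, Polynomial.map_one, sub_self]
  obtain ⟨ε, hε, hεb⟩ := exists_idempotent_lift_of_finite I b hb
  refine ⟨evB ε, ?_, ?_⟩
  · rw [← map_mul, hε.eq]
  · -- `evB` maps `IB` into endomorphisms with image in `I F`
    have hIBend : ∀ y ∈ IB, LinearMap.range (evB y) ≤ I • (⊤ : Submodule R F) := by
      intro y hy
      have hy' : y ∈ (I • ⊤ : Submodule R (R[X] ⧸ Ideal.span {f})) := by
        rw [Ideal.smul_top_eq_map]; exact hy
      refine Submodule.smul_induction_on hy' (fun r hr n _ => ?_) (fun x y hx hy => ?_)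
      · rintro _ ⟨z, rfl⟩
        rw [map_smul, LinearMap.smul_apply]
        exact Submodule.smul_mem_smul hr Submodule.mem_top
      · rintro _ ⟨z, rfl⟩
        rw [map_add, LinearMap.add_apply]
        exact Submodule.add_mem _ (hx ⟨z, rfl⟩) (hy ⟨z, rfl⟩)
    have huv' : u * X ^ (d + 1) + v * (X - 1) ^ (d + 1) = 1 := by rw [← hN]; exact huv
    have hc : u * X ^ N - X = (X * X - X) * (-(u * X ^ d + v * (X - 1) ^ d)) := by
      rw [hN]
      linear_combination (X) * huv'
    have h2 : evB b - ε₀ = φ * aeval ε₀ (-(u * X ^ d + v * (X - 1) ^ d)) := by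
      have : evB b - ε₀ = aeval ε₀ (u * X ^ N - X) := by
        rw [map_sub, aeval_X]; rfl
      rw [this, hc, map_mul]
      congr 1
      simp [hφ]
    have h3 : evB ε - ε₀ = evB (ε - b) + φ * aeval ε₀ (-(u * X ^ d + v * (X - 1) ^ d)) := by
      rw [← h2, map_sub]; abel
    rw [h3]
    rintro _ ⟨z, rfl⟩
    rw [LinearMap.add_apply]
    refine Submodule.add_mem _ (hIBend _ hεb ⟨z, rfl⟩) (hε₀ ⟨_, rfl⟩)

end Lift


section LiftProj

theorem redMap_eq_zero_of_mem_smul_top {R : Type*} [CommRing R] (I : Ideal R)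
    (P : Type*) [AddCommGroup P] [Module R P] (p : P) (h : p ∈ (I • ⊤ : Submodule R P)) :
    redMap I P p = 0 := by
  refine Submodule.smul_induction_on h (fun r hr n _ => ?_) (fun x y hx hy => ?_)
  · rw [map_smul, redMap_apply, TensorProduct.smul_tmul']
    have : r • (1 : R ⧸ I) = 0 := by
      rw [Algebra.smul_def, mul_one, Ideal.Quotient.algebraMap_eq]
      exact Ideal.Quotient.eq_zero_iff_mem.mpr hr
    rw [this, TensorProduct.zero_tmul]
  · rw [map_add, hx, hy, add_zero]

/-- Over a Henselian pair, finite projective modules over `R/I` lift to finite projective modules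
over `R`. -/
theorem exists_finite_projective_lift {R : Type u} [CommRing R] (I : Ideal R)
    [HenselianRing R I] (Q : Type u) [AddCommGroup Q] [Module (R ⧸ I) Q]
    [Module.Finite (R ⧸ I) Q] [Module.Projective (R ⧸ I) Q] :
    ∃ (P : Type u) (_ : AddCommGroup P) (_ : Module R P), Module.Finite R P ∧
      Module.Projective R P ∧ Nonempty ((R ⧸ I) ⊗[R] P ≃ₗ[R ⧸ I] Q) := by
  classical
  obtain ⟨n, f₀, hf₀⟩ := Module.Finite.exists_fin' (R ⧸ I) Q
  let θ : (R ⧸ I) ⊗[R] (Fin n → R) ≃ₗ[R ⧸ I] (Fin n → R ⧸ I) :=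
    TensorProduct.piScalarRight R (R ⧸ I) (R ⧸ I) (Fin n)
  let f' : (R ⧸ I) ⊗[R] (Fin n → R) →ₗ[R ⧸ I] Q := f₀ ∘ₗ θ.toLinearMap
  have hf' : Function.Surjective f' := hf₀.comp θ.surjective
  obtain ⟨s', hs'⟩ := Module.projective_lifting_property f' LinearMap.id hf'
  have hs'' : ∀ q, f' (s' q) = q := fun q => congr($hs' q)
  let eb : (R ⧸ I) ⊗[R] (Fin n → R) →ₗ[R ⧸ I] (R ⧸ I) ⊗[R] (Fin n → R) := s' ∘ₗ f'
  obtain ⟨ε₀, hε₀⟩ := Module.projective_lifting_property (redMap I (Fin n → R))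
    ((eb.restrictScalars R) ∘ₗ redMap I (Fin n → R)) (redMap_surjective I (Fin n → R))
  have hε₀' : ∀ x, redMap I (Fin n → R) (ε₀ x) = eb (redMap I (Fin n → R) x) :=
    fun x => congr($hε₀ x)
  have hrange : LinearMap.range (ε₀ * ε₀ - ε₀) ≤ I • (⊤ : Submodule R (Fin n → R)) := by
    rintro _ ⟨x, rfl⟩
    apply mem_smul_top_of_redMap_eq_zero
    rw [LinearMap.sub_apply, Module.End.mul_apply, map_sub, hε₀', hε₀']
    simp [eb, hs'']
  obtain ⟨E, hEE, hEε⟩ := exists_idempotent_end_lift I ε₀ hrange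
  have hE' : ∀ x, redMap I (Fin n → R) (E x) = eb (redMap I (Fin n → R) x) := by
    intro x
    rw [← hε₀']
    have h1 : (E - ε₀) x ∈ (I • ⊤ : Submodule R (Fin n → R)) := hEε ⟨x, rfl⟩
    have h2 := redMap_eq_zero_of_mem_smul_top I _ _ h1
    rw [LinearMap.sub_apply, map_sub, sub_eq_zero] at h2
    exact h2
  have hEEx : ∀ y, E (E y) = E y := fun y => congr($hEE y)
  let P := LinearMap.range E
  let E' : (Fin n → R) →ₗ[R] P := E.rangeRestrict
  let incl : P →ₗ[R] (Fin n → R) := P.subtype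
  have h1 : incl ∘ₗ E' = E := by
    ext x : 1
    rfl
  have h2 : E' ∘ₗ incl = LinearMap.id := by
    ext ⟨_, ⟨y, rfl⟩⟩ : 2
    simp [E', incl, hEEx]
  have hPfin : Module.Finite R P := Module.Finite.range E
  have hPproj : Module.Projective R P := Module.Projective.of_split incl E' h2
  let α : (R ⧸ I) ⊗[R] P →ₗ[R ⧸ I] Q := f' ∘ₗ incl.baseChange (R ⧸ I)
  let β : Q →ₗ[R ⧸ I] (R ⧸ I) ⊗[R] P := E'.baseChange (R ⧸ I) ∘ₗ s'
  have hEb : E.baseChange (R ⧸ I) = eb := by
    apply TensorProduct.AlgebraTensorModule.ext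
    intro a x
    have h3 : a ⊗ₜ[R] x = a • ((1 : R ⧸ I) ⊗ₜ[R] x) := by
      rw [TensorProduct.smul_tmul', smul_eq_mul, mul_one]
    rw [h3, map_smul, map_smul, LinearMap.baseChange_tmul]
    congr 1
    exact hE' x
  refine ⟨P, inferInstance, inferInstance, hPfin, hPproj, ⟨LinearEquiv.ofLinearMap α β ?_ ?_⟩⟩
  · have : α ∘ₗ β = f' ∘ₗ (incl ∘ₗ E').baseChange (R ⧸ I) ∘ₗ s' := by
      rw [LinearMap.baseChange_comp]; rfl
    rw [this, h1, hEb]
    ext q
    simp [eb, hs'']
  · have : β ∘ₗ α = E'.baseChange (R ⧸ I) ∘ₗ eb ∘ₗ incl.baseChange (R ⧸ I) := rfl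
    rw [this, ← hEb, ← LinearMap.baseChange_comp, ← LinearMap.baseChange_comp]
    have h3 : E' ∘ₗ E ∘ₗ incl = LinearMap.id := by
      rw [← h1, LinearMap.comp_assoc, h2, LinearMap.comp_id, h2]
    rw [h3, LinearMap.baseChange_id]

end LiftProj

end Groth.Agent.Lib.Helper3
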