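import Mathlib
import Groth.Agent.Lib.Helper3.HenselRoot
import Groth.Agent.Lib.Helper3.GabberTrick

/-!
# Lifting finite étale algebras from the residue field of a local ring

* `etale_adjoinRoot_of_isUnit` : `R[X]/(g)` is étale when `g` is monic and `g'` is a unit in it.
* `isUnit_mk_derivative_of_separable` : over a local ring, if the reduction of the monic `g` is
  separable then `g'` is a unit in `R[X]/(g)`.
* `nonempty_algEquiv_of_surjective_of_finrank_eq` : dimension count giving `κ ⊗ S ≃ A`.
* `exists_finite_etale_lift_of_local`.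
-/

set_option autoImplicit false

open Polynomial IsLocalRing TensorProduct

namespace Groth.Agent.Lib.Helper3

universe u

theorem etale_adjoinRoot_of_isUnit {R : Type*} [CommRing R] (g : R[X]) (hg : g.Monic)
    (h : IsUnit (AdjoinRoot.mk g (derivative g))) : Algebra.Etale R (AdjoinRoot g) := by
  let P : StandardEtalePair R := ⟨g, hg, derivative g, ⟨1, 0, 1, by simp⟩⟩
  have hM : Submonoid.powers (AdjoinRoot.mk g (derivative g)) ≤ IsUnit.submonoid (AdjoinRoot g) := by
    rintro _ ⟨n, rfl⟩
    exact h.pow n
  let e1 : AdjoinRoot g ≃ₐ[AdjoinRoot g] Localization.Away (AdjoinRoot.mk g (derivative g)) :=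
    IsLocalization.atUnits (AdjoinRoot g) _ hM
  let e2 : AdjoinRoot g ≃ₐ[R] Localization.Away (AdjoinRoot.mk g (derivative g)) :=
    e1.restrictScalars R
  exact Algebra.Etale.of_equiv (P.equivAwayAdjoinRoot.trans e2.symm)

theorem isUnit_mk_derivative_of_separable {R : Type*} [CommRing R] [IsLocalRing R] (g : R[X])
    (hg : g.Monic) (hsep : (g.map (residue R)).Separable) :
    IsUnit (AdjoinRoot.mk g (derivative g)) := by
  obtain ⟨a, b, hab⟩ := hsep
  obtain ⟨a', rfl⟩ := Polynomial.map_surjective (residue R) residue_surjective a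
  obtain ⟨b', rfl⟩ := Polynomial.map_surjective (residue R) residue_surjective b
  have := hg.finite_adjoinRoot
  have hint : Algebra.IsIntegral R (AdjoinRoot g) := inferInstance
  set D : R[X] := a' * g + b' * derivative g - 1 with hD
  have hD0 : D.map (residue R) = 0 := by
    rw [hD, Polynomial.map_sub, Polynomial.map_add, Polynomial.map_mul, Polynomial.map_mul,
      Polynomial.map_one, ← derivative_map, hab, sub_self]
  have hcoef : ∀ i, D.coeff i ∈ maximalIdeal R := by
    intro i
    have := congrArg (fun p => p.coeff i) hD0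
    simpa [residue_eq_zero_iff] using this
  have hmem : AdjoinRoot.mk g D ∈ Ideal.jacobson (⊥ : Ideal (AdjoinRoot g)) := by
    apply map_maximalIdeal_le_jacobson_bot (R := R)
    rw [← AdjoinRoot.aeval_eq]
    exact aeval_mem_map_of_coeff_mem D hcoef _
  have hmk : AdjoinRoot.mk g D = AdjoinRoot.mk g b' * AdjoinRoot.mk g (derivative g) - 1 := by
    rw [hD]
    simp
  have hu : IsUnit (AdjoinRoot.mk g b' * AdjoinRoot.mk g (derivative g)) := by
    have := Ideal.mem_jacobson_bot.mp hmem 1
    rw [hmk] at this
    simpa using this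
  exact isUnit_of_mul_isUnit_right hu

theorem etale_adjoinRoot_of_separable {R : Type*} [CommRing R] [IsLocalRing R] (g : R[X])
    (hg : g.Monic) (hsep : (g.map (residue R)).Separable) : Algebra.Etale R (AdjoinRoot g) :=
  etale_adjoinRoot_of_isUnit g hg (isUnit_mk_derivative_of_separable g hg hsep)

/-- Dimension count: a surjective `R`-algebra map from a finite free `R`-algebra `S` to a finite
`κ`-algebra `A` of the same rank induces `κ ⊗[R] S ≃ A`. -/
theorem nonempty_algEquiv_of_surjective_of_finrank_eq {R : Type u} [CommRing R] [IsLocalRing R]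
    (S : Type u) [CommRing S] [Algebra R S] [Module.Free R S] [Module.Finite R S]
    (A : Type u) [CommRing A] [Algebra (ResidueField R) A] [Module.Finite (ResidueField R) A]
    [Algebra R A] [IsScalarTower R (ResidueField R) A]
    (ψ : S →ₐ[R] A) (hψ : Function.Surjective ψ)
    (hrank : Module.finrank R S = Module.finrank (ResidueField R) A) :
    Nonempty (ResidueField R ⊗[R] S ≃ₐ[ResidueField R] A) := by
  let Ψ : ResidueField R ⊗[R] S →ₐ[ResidueField R] A :=
    Algebra.TensorProduct.lift (Algebra.ofId _ A) ψ (fun _ _ => Commute.all _ _)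
  have hsurj : Function.Surjective Ψ := by
    intro a
    obtain ⟨s, rfl⟩ := hψ a
    exact ⟨1 ⊗ₜ s, by simp [Ψ]⟩
  have hfr : Module.finrank (ResidueField R) (ResidueField R ⊗[R] S) =
      Module.finrank (ResidueField R) A := by
    rw [Module.finrank_baseChange, hrank]
  have hinj : Function.Injective Ψ :=
    (LinearMap.injective_iff_surjective_of_finrank_eq_finrank (f := Ψ.toLinearMap) hfr).mpr hsurj
  exact ⟨AlgEquiv.ofBijective Ψ ⟨hinj, hsurj⟩⟩

theorem exists_finite_etale_lift_of_local (R : Type u) [CommRing R] [IsLocalRing R]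
    (A : Type u) [CommRing A] [Algebra (ResidueField R) A]
    [Module.Finite (ResidueField R) A] [Algebra.Etale (ResidueField R) A] :
    ∃ (S : Type u) (_ : CommRing S) (_ : Algebra R S), Module.Finite R S ∧ Algebra.Etale R S ∧
      Nonempty (ResidueField R ⊗[R] S ≃ₐ[ResidueField R] A) := by
  classical
  obtain ⟨ι, hι, Ai, hF, hAlg, e, hAi⟩ :=
    (Algebra.Etale.iff_exists_algEquiv_prod (ResidueField R) A).mp inferInstance
  have hfin : ∀ i, Module.Finite (ResidueField R) (Ai i) := fun i => (hAi i).1
  have hsep : ∀ i, Algebra.IsSeparable (ResidueField R) (Ai i) := fun i => (hAi i).2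
  have : Fintype ι := Fintype.ofFinite ι
  -- power bases
  let pb : ∀ i, PowerBasis (ResidueField R) (Ai i) :=
    fun i => Field.powerBasisOfFiniteOfSeparable (ResidueField R) (Ai i)
  let α : ∀ i, Ai i := fun i => (pb i).gen
  -- lift the minimal polynomials
  have hlift : ∀ i, ∃ q : R[X], q.map (residue R) = minpoly (ResidueField R) (α i) ∧
      q.natDegree = (minpoly (ResidueField R) (α i)).natDegree ∧ q.Monic := by
    intro i
    apply Polynomial.lifts_and_natDegree_eq_and_monic
    · rw [Polynomial.mem_lifts]
      exact Polynomial.map_surjective _ residue_surjective _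
    · exact minpoly.monic (Algebra.IsIntegral.isIntegral _)
  choose g hgmap hgdeg hgmonic using hlift
  have hS_et : ∀ i, Algebra.Etale R (AdjoinRoot (g i)) := by
    intro i
    apply etale_adjoinRoot_of_separable (g i) (hgmonic i)
    rw [hgmap]
    exact Algebra.IsSeparable.isSeparable (ResidueField R) (α i)
  have hS_fin : ∀ i, Module.Finite R (AdjoinRoot (g i)) := fun i => (hgmonic i).finite_adjoinRoot
  have hS_free : ∀ i, Module.Free R (AdjoinRoot (g i)) := fun i => (hgmonic i).free_adjoinRoot
  refine ⟨Π i, AdjoinRoot (g i), inferInstance, inferInstance, inferInstance, inferInstance, ?_⟩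
  -- the comparison map
  let C := Π i, Ai i
  let algRC : Algebra R C := Algebra.compHom C (algebraMap R (ResidueField R))
  have tower : IsScalarTower R (ResidueField R) C := IsScalarTower.of_algebraMap_eq (fun _ => rfl)
  have hroot : ∀ i, (g i).eval₂ ((algebraMap (ResidueField R) (Ai i)).comp (residue R)) (α i) = 0 := by
    intro i
    rw [← Polynomial.eval₂_map, hgmap, ← Polynomial.aeval_def, minpoly.aeval]
  let ψi : ∀ i, AdjoinRoot (g i) →+* Ai i := fun i => AdjoinRoot.lift _ (α i) (hroot i)
  let ψ : (Π i, AdjoinRoot (g i)) →ₐ[R] C :=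
    { toRingHom := RingHom.pi (fun i => (ψi i).comp (Pi.evalRingHom _ i))
      commutes' := by
        intro r
        funext i
        change ψi i (algebraMap R (AdjoinRoot (g i)) r) =
          algebraMap (ResidueField R) (Ai i) (residue R r)
        rw [AdjoinRoot.algebraMap_eq, AdjoinRoot.lift_of]
        rfl }
  have hψ : Function.Surjective ψ := by
    intro c
    have : ∀ i, ∃ s : AdjoinRoot (g i), ψi i s = c i := by
      intro i
      obtain ⟨p, hp⟩ := (pb i).exists_eq_aeval' (c i)
      obtain ⟨p', rfl⟩ := Polynomial.map_surjective (residue R) residue_surjective p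
      refine ⟨AdjoinRoot.mk (g i) p', ?_⟩
      rw [hp, AdjoinRoot.lift_mk, Polynomial.aeval_def, Polynomial.eval₂_map]
    choose s hs using this
    exact ⟨s, funext hs⟩
  have hrank : Module.finrank R (Π i, AdjoinRoot (g i)) = Module.finrank (ResidueField R) C := by
    rw [Module.finrank_pi_fintype, Module.finrank_pi_fintype]
    refine Finset.sum_congr rfl fun i _ => ?_
    rw [(AdjoinRoot.powerBasis' (hgmonic i)).finrank, (pb i).finrank, AdjoinRoot.powerBasis'_dim,
      hgdeg, ← (pb i).natDegree_minpoly]
  obtain ⟨E⟩ := nonempty_algEquiv_of_surjective_of_finrank_eq (Π i, AdjoinRoot (g i)) C ψ hψ hrank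
  exact ⟨E.trans e.symm⟩

end Groth.Agent.Lib.Helper3
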