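import Groth.Agent.Lib.Helper3.HensTensorAt
import Groth.Agent.Lib.Helper9.HensK.StrictUnique

set_option autoImplicit false
set_option linter.style.haveILetI false
set_option linter.unusedSectionVars false
universe u

open TensorProduct IsLocalRing

namespace Groth.Agent.Lib.Helper3

/-- `Ah` with `ι : A → Ah` is a strict henselization of `A` at the prime `q` (universal property
part only). -/
structure SHensAt (A : Type u) [CommRing A] (q : Ideal A) (Ah : Type u) [CommRing Ah]
    [IsLocalRing Ah] (ι : A →+* Ah) : Prop where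
  henselian : HenselianLocalRing Ah
  comap_eq : (maximalIdeal Ah).comap ι = q
  universal : ∀ (T : Type u) [CommRing T] [HenselianLocalRing T] (f : A →+* T)
    (τ : ResidueField Ah →+* ResidueField T),
    (maximalIdeal T).comap f = q → (∀ a : A, τ (residue Ah (ι a)) = residue T (f a)) →
    ∃! g : Ah →+* T, g.comp ι = f ∧ ∀ x : Ah, residue T (g x) = τ (residue Ah x)

theorem SHensAt.of_isStrictHenselization (A : Type u) [CommRing A] (q : Ideal A) [q.IsPrime]
    (Ah : Type u) [CommRing Ah] [IsLocalRing Ah] [Algebra (Localization.AtPrime q) Ah]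
    [IsLocalHom (algebraMap (Localization.AtPrime q) Ah)]
    [h : Hensel.IsStrictHenselization (Localization.AtPrime q) Ah] :
    SHensAt A q Ah ((algebraMap (Localization.AtPrime q) Ah).comp
      (algebraMap A (Localization.AtPrime q))) := by
  refine ⟨h.henselian, ?_, ?_⟩
  · rw [← Ideal.comap_comap]
    have : (maximalIdeal Ah).comap (algebraMap (Localization.AtPrime q) Ah) =
        maximalIdeal (Localization.AtPrime q) :=
      ((local_hom_TFAE (algebraMap (Localization.AtPrime q) Ah)).out 0 4 rfl rfl).mp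
        inferInstance
    rw [this]
    exact IsLocalization.AtPrime.under_maximalIdeal (Localization.AtPrime q) q
  · intro T _ _ f τ hf hτ
    have hunits : ∀ y : q.primeCompl, IsUnit (f y) := by
      intro y
      by_contra hy
      have : y.1 ∈ (maximalIdeal T).comap f := (mem_maximalIdeal _).mpr hy
      rw [hf] at this
      exact y.2 this
    let f' : Localization.AtPrime q →+* T := IsLocalization.lift hunits
    have hf' : f'.comp (algebraMap A (Localization.AtPrime q)) = f := IsLocalization.lift_comp _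
    haveI hloc : IsLocalHom f' := isLocalHom_of_comap_maximalIdeal_eq q f' (by rw [hf', hf])
    have hcompat : τ.comp (ResidueField.map (algebraMap (Localization.AtPrime q) Ah)) =
        ResidueField.map f' := by
      apply Ideal.ResidueField.ringHom_ext
      ext a
      change τ (ResidueField.map (algebraMap (Localization.AtPrime q) Ah)
        (residue _ (algebraMap A (Localization.AtPrime q) a))) =
        ResidueField.map f' (residue _ (algebraMap A (Localization.AtPrime q) a))
      rw [ResidueField.map_residue, ResidueField.map_residue]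
      have := hτ a
      rw [RingHom.comp_apply] at this
      rw [this, ← hf', RingHom.comp_apply]
    obtain ⟨g, ⟨hg1, hg2⟩, huniq⟩ := h.universal T f' τ hcompat
    refine ⟨g, ⟨?_, hg2⟩, ?_⟩
    · rw [← RingHom.comp_assoc, hg1, hf']
    · rintro g' ⟨hg'1, hg'2⟩
      apply huniq
      refine ⟨?_, hg'2⟩
      apply IsLocalization.ringHom_ext q.primeCompl
      rw [RingHom.comp_assoc, hf']
      exact hg'1

theorem SHensAt.exists_lift {A : Type u} [CommRing A] {Q : Ideal A} [Q.IsPrime] {Sh : Type u}
    [CommRing Sh] [IsLocalRing Sh] {φ : A →+* Sh} (h : SHensAt A Q Sh φ) :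
    ∃ ψ : Localization.AtPrime Q →+* Sh,
      ψ.comp (algebraMap A (Localization.AtPrime Q)) = φ ∧ IsLocalHom ψ := by
  have hunits : ∀ y : Q.primeCompl, IsUnit (φ y) := by
    intro y
    by_contra hy
    have : y.1 ∈ (maximalIdeal Sh).comap φ := (mem_maximalIdeal _).mpr hy
    rw [h.comap_eq] at this
    exact y.2 this
  refine ⟨IsLocalization.lift hunits, IsLocalization.lift_comp _, ?_⟩
  exact isLocalHom_of_comap_maximalIdeal_eq Q _ (by rw [IsLocalization.lift_comp, h.comap_eq])

theorem SHensAt.isStrictHenselization {A : Type u} [CommRing A] {Q : Ideal A} [Q.IsPrime]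
    {Sh : Type u} [CommRing Sh] [IsLocalRing Sh] {φ : A →+* Sh} (h : SHensAt A Q Sh φ)
    [Algebra (Localization.AtPrime Q) Sh]
    (hcomp : (algebraMap (Localization.AtPrime Q) Sh).comp
      (algebraMap A (Localization.AtPrime Q)) = φ)
    [IsLocalHom (algebraMap (Localization.AtPrime Q) Sh)]
    (hsep : IsSepClosure (ResidueField (Localization.AtPrime Q)) (ResidueField Sh)) :
    Hensel.IsStrictHenselization (Localization.AtPrime Q) Sh := by
  refine ⟨h.henselian, hsep, ?_⟩
  intro T _ _ f hf τ hτ
  have hcomap : (maximalIdeal T).comap (f.comp (algebraMap A (Localization.AtPrime Q))) = Q := by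
    rw [← Ideal.comap_comap]
    have : (maximalIdeal T).comap f = maximalIdeal (Localization.AtPrime Q) :=
      ((local_hom_TFAE f).out 0 4 rfl rfl).mp hf
    rw [this]
    exact IsLocalization.AtPrime.under_maximalIdeal (Localization.AtPrime Q) Q
  have hτ' : ∀ a : A, τ (residue Sh (φ a)) =
      residue T ((f.comp (algebraMap A (Localization.AtPrime Q))) a) := by
    intro a
    rw [← hcomp, RingHom.comp_apply, RingHom.comp_apply, ← ResidueField.map_residue,
      ← ResidueField.map_residue f, ← hτ, RingHom.comp_apply]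
  obtain ⟨g, ⟨hg1, hg2⟩, huniq⟩ := h.universal T _ τ hcomap hτ'
  refine ⟨g, ⟨?_, hg2⟩, ?_⟩
  · apply IsLocalization.ringHom_ext Q.primeCompl
    rw [RingHom.comp_assoc, hcomp]
    exact hg1
  · rintro g' ⟨hg'1, hg'2⟩
    apply huniq
    refine ⟨?_, hg'2⟩
    rw [← hcomp, ← RingHom.comp_assoc]
    exact congrArg (fun k => k.comp (algebraMap A (Localization.AtPrime Q))) hg'1

theorem SHensAt.tensor (R : Type u) [CommRing R] (S : Type u) [CommRing S] [Algebra R S]
    (p : Ideal R) (q : Ideal S) (hqp : q.comap (algebraMap R S) = p)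
    (Rh : Type u) [CommRing Rh] [IsLocalRing Rh] [Algebra R Rh]
    (hR : SHensAt R p Rh (algebraMap R Rh))
    (Sh : Type u) [CommRing Sh] [IsLocalRing Sh] (ιS : S →+* Sh) (hS : SHensAt S q Sh ιS)
    (φ : Rh ⊗[R] S →+* Sh) (hφS : ∀ s, φ (1 ⊗ₜ s) = ιS s)
    (v : Rh →+* Sh) [IsLocalHom v] (hv : ∀ y, φ (y ⊗ₜ 1) = v y) :
    SHensAt (Rh ⊗[R] S) ((maximalIdeal Sh).comap φ) Sh φ := by
  have hswap : ∀ r : R, (algebraMap R Rh r) ⊗ₜ[R] (1 : S) = (1 : Rh) ⊗ₜ[R] algebraMap R S r := by
    intro r
    rw [Algebra.algebraMap_eq_smul_one, Algebra.algebraMap_eq_smul_one, TensorProduct.smul_tmul]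
  refine ⟨hS.henselian, rfl, ?_⟩
  intro T _ _ f τ hf hτ
  let fS : S →+* T := f.comp (Algebra.TensorProduct.includeRight : S →ₐ[R] Rh ⊗[R] S).toRingHom
  have hfS : ∀ s, fS s = f (1 ⊗ₜ s) := fun s => rfl
  have hcomapS : (maximalIdeal T).comap fS = q := by
    rw [← hS.comap_eq]
    ext s
    rw [Ideal.mem_comap, Ideal.mem_comap, hfS, ← hφS]
    change (1 : Rh) ⊗ₜ[R] s ∈ (maximalIdeal T).comap f ↔ _
    rw [hf, Ideal.mem_comap]
  have hτS : ∀ s : S, τ (residue Sh (ιS s)) = residue T (fS s) := by
    intro s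
    rw [← hφS, hτ, hfS]
  obtain ⟨g, ⟨hg, hgres⟩, huniq⟩ := hS.universal T fS τ hcomapS hτS
  have hgS : ∀ s, g (ιS s) = fS s := fun s => DFunLike.congr_fun hg s
  refine ⟨g, ⟨?_, hgres⟩, ?_⟩
  · apply ringHom_ext_tensorProduct
    · -- on `Rh`
      let f₀ : R →+* T := fS.comp (algebraMap R S)
      have hf₀ : (maximalIdeal T).comap f₀ = p := by
        rw [← Ideal.comap_comap, hcomapS, hqp]
      let τ₀ : ResidueField Rh →+* ResidueField T := τ.comp (ResidueField.map v)
      have hτ₀ : ∀ y : Rh, τ₀ (residue Rh y) = τ (residue Sh (φ (y ⊗ₜ 1))) := by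
        intro y
        rw [hv]
        rfl
      have hτ₀R : ∀ r : R, τ₀ (residue Rh (algebraMap R Rh r)) = residue T (f₀ r) := by
        intro r
        rw [hτ₀, hτ, hswap]
        rfl
      obtain ⟨k, -, hk⟩ := hR.universal T f₀ τ₀ hf₀ hτ₀R
      let a₁ : Rh →+* T := (g.comp φ).comp Algebra.TensorProduct.includeLeftRingHom
      let a₂ : Rh →+* T := f.comp Algebra.TensorProduct.includeLeftRingHom
      have h1 : a₁ = k := by
        apply hk
        constructor
        · ext r
          change g (φ ((algebraMap R Rh r) ⊗ₜ[R] (1 : S))) = fS (algebraMap R S r)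
          rw [hswap, hφS, hgS]
        · intro y
          change residue T (g (φ (y ⊗ₜ[R] (1 : S)))) = _
          rw [hgres, hτ₀]
      have h2 : a₂ = k := by
        apply hk
        constructor
        · ext r
          change f ((algebraMap R Rh r) ⊗ₜ[R] (1 : S)) = fS (algebraMap R S r)
          rw [hswap, hfS]
        · intro y
          change residue T (f (y ⊗ₜ[R] (1 : S))) = _
          rw [hτ₀, hτ]
      intro a
      exact DFunLike.congr_fun (h1.trans h2.symm) a
    · intro s
      rw [RingHom.comp_apply, hφS, hgS, hfS]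
  · rintro g' ⟨hg', hg'res⟩
    apply huniq
    refine ⟨?_, hg'res⟩
    ext s
    rw [RingHom.comp_apply, ← hφS, hfS, ← hg', RingHom.comp_apply]

theorem isSepClosure_residueField_of_tower (S₀ D Sh : Type u) [CommRing S₀] [CommRing D]
    [CommRing Sh] [IsLocalRing S₀] [IsLocalRing D] [IsLocalRing Sh] [Algebra S₀ D] [Algebra D Sh]
    [Algebra S₀ Sh] [IsScalarTower S₀ D Sh] [IsLocalHom (algebraMap S₀ D)]
    [IsLocalHom (algebraMap D Sh)] [IsLocalHom (algebraMap S₀ Sh)]
    [h : IsSepClosure (ResidueField S₀) (ResidueField Sh)] :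
    IsSepClosure (ResidueField D) (ResidueField Sh) := by
  haveI := h.separable
  exact ⟨h.sep_closed, Algebra.isSeparable_tower_top_of_isSeparable (ResidueField S₀)
    (ResidueField D) (ResidueField Sh)⟩

/-- The strict henselization of `S` at `q` is a strict henselization of the local ring of
`Rh ⊗[R] S` at the induced prime. -/
theorem isStrictHenselization_tensor (R : Type u) [CommRing R] (S : Type u) [CommRing S]
    [Algebra R S] (p : Ideal R) [p.IsPrime] (q : Ideal S) [q.IsPrime]
    (hqp : q.comap (algebraMap R S) = p)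
    (Rh : Type u) [CommRing Rh] [IsLocalRing Rh] [Algebra (Localization.AtPrime p) Rh]
    [IsLocalHom (algebraMap (Localization.AtPrime p) Rh)]
    [Hensel.IsStrictHenselization (Localization.AtPrime p) Rh] [Algebra R Rh]
    [IsScalarTower R (Localization.AtPrime p) Rh]
    (Sh : Type u) [CommRing Sh] [IsLocalRing Sh] [Algebra (Localization.AtPrime q) Sh]
    [IsLocalHom (algebraMap (Localization.AtPrime q) Sh)]
    [hSh : Hensel.IsStrictHenselization (Localization.AtPrime q) Sh] [Algebra S Sh]
    [IsScalarTower S (Localization.AtPrime q) Sh]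
    (φ : Rh ⊗[R] S →+* Sh) (hφS : ∀ s, φ (1 ⊗ₜ s) = algebraMap S Sh s)
    (v : Rh →+* Sh) [IsLocalHom v] (hv : ∀ y, φ (y ⊗ₜ 1) = v y)
    (Q : Ideal (Rh ⊗[R] S)) [Q.IsPrime] (hQ : Q = (maximalIdeal Sh).comap φ) :
    SHensAt (Rh ⊗[R] S) Q Sh φ ∧
    ∀ [Algebra (Localization.AtPrime Q) Sh] [IsLocalHom (algebraMap (Localization.AtPrime Q) Sh)],
      (algebraMap (Localization.AtPrime Q) Sh).comp
        (algebraMap (Rh ⊗[R] S) (Localization.AtPrime Q)) = φ →
      Hensel.IsStrictHenselization (Localization.AtPrime Q) Sh := by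
  have hR : SHensAt R p Rh (algebraMap R Rh) := by
    have := SHensAt.of_isStrictHenselization R p Rh
    rwa [← IsScalarTower.algebraMap_eq R (Localization.AtPrime p) Rh] at this
  have hS : SHensAt S q Sh (algebraMap S Sh) := by
    have := SHensAt.of_isStrictHenselization S q Sh
    rwa [← IsScalarTower.algebraMap_eq S (Localization.AtPrime q) Sh] at this
  have h : SHensAt (Rh ⊗[R] S) Q Sh φ := by
    rw [hQ]
    exact SHensAt.tensor R S p q hqp Rh hR Sh (algebraMap S Sh) hS φ hφS v hv
  refine ⟨h, ?_⟩
  intro _ _ hcomp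
  -- the map `S_q → D`
  have hQS : Q.comap (Algebra.TensorProduct.includeRight : S →ₐ[R] Rh ⊗[R] S).toRingHom = q := by
    rw [← hS.comap_eq, hQ, Ideal.comap_comap]
    congr 1
    ext s
    exact hφS s
  let β₀ : S →+* Localization.AtPrime Q :=
    (algebraMap (Rh ⊗[R] S) (Localization.AtPrime Q)).comp
      (Algebra.TensorProduct.includeRight : S →ₐ[R] Rh ⊗[R] S).toRingHom
  have hβ₀comap : (maximalIdeal (Localization.AtPrime Q)).comap β₀ = q := by
    rw [← Ideal.comap_comap]
    have : (maximalIdeal (Localization.AtPrime Q)).comap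
        (algebraMap (Rh ⊗[R] S) (Localization.AtPrime Q)) = Q :=
      IsLocalization.AtPrime.under_maximalIdeal (Localization.AtPrime Q) Q
    rw [this, hQS]
  have hunits : ∀ y : q.primeCompl, IsUnit (β₀ y) := by
    intro y
    by_contra hy
    have : y.1 ∈ (maximalIdeal (Localization.AtPrime Q)).comap β₀ := (mem_maximalIdeal _).mpr hy
    rw [hβ₀comap] at this
    exact y.2 this
  let β : Localization.AtPrime q →+* Localization.AtPrime Q := IsLocalization.lift hunits
  have hβ : β.comp (algebraMap S (Localization.AtPrime q)) = β₀ := IsLocalization.lift_comp _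
  letI : Algebra (Localization.AtPrime q) (Localization.AtPrime Q) := β.toAlgebra
  haveI : IsLocalHom (algebraMap (Localization.AtPrime q) (Localization.AtPrime Q)) :=
    isLocalHom_of_comap_maximalIdeal_eq q β (by rw [hβ, hβ₀comap])
  haveI : IsScalarTower (Localization.AtPrime q) (Localization.AtPrime Q) Sh := by
    apply IsScalarTower.of_algebraMap_eq'
    apply IsLocalization.ringHom_ext q.primeCompl
    rw [RingHom.comp_assoc]
    change _ = (algebraMap (Localization.AtPrime Q) Sh).comp
      (β.comp (algebraMap S (Localization.AtPrime q)))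
    rw [hβ, ← IsScalarTower.algebraMap_eq S (Localization.AtPrime q) Sh]
    ext s
    change _ = (algebraMap (Localization.AtPrime Q) Sh)
      (algebraMap (Rh ⊗[R] S) (Localization.AtPrime Q) (1 ⊗ₜ s))
    rw [← RingHom.comp_apply, hcomp, hφS]
  haveI := hSh.isSepClosure
  exact h.isStrictHenselization hcomp
    (isSepClosure_residueField_of_tower (Localization.AtPrime q) (Localization.AtPrime Q) Sh)

theorem isLocalHom_algebraMap_of_map_maximalIdeal (R : Type u) [CommRing R] (S : Type u)
    [CommRing S] [Algebra R S] (p : Ideal R) [p.IsPrime] (q : Ideal S)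
    (hqp : q.comap (algebraMap R S) = p)
    (Rh : Type u) [CommRing Rh] [IsLocalRing Rh] [Algebra (Localization.AtPrime p) Rh]
    (hmap : (maximalIdeal (Localization.AtPrime p)).map (algebraMap (Localization.AtPrime p) Rh) =
      maximalIdeal Rh) [Algebra R Rh] [IsScalarTower R (Localization.AtPrime p) Rh]
    (Sh : Type u) [CommRing Sh] [IsLocalRing Sh] [Algebra S Sh]
    (hcomapS : (maximalIdeal Sh).comap (algebraMap S Sh) = q) [Algebra R Sh]
    [IsScalarTower R S Sh] [Algebra Rh Sh] [IsScalarTower R Rh Sh] :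
    IsLocalHom (algebraMap Rh Sh) := by
  have hle : maximalIdeal Rh ≤ (maximalIdeal Sh).comap (algebraMap Rh Sh) := by
    rw [← hmap, ← IsLocalization.AtPrime.map_eq_maximalIdeal p (Localization.AtPrime p),
      Ideal.map_map, ← IsScalarTower.algebraMap_eq R (Localization.AtPrime p) Rh,
      Ideal.map_le_iff_le_comap, Ideal.comap_comap, ← IsScalarTower.algebraMap_eq R Rh Sh,
      IsScalarTower.algebraMap_eq R S Sh, ← Ideal.comap_comap, hcomapS, hqp]
  have hne : (maximalIdeal Sh).comap (algebraMap Rh Sh) ≠ ⊤ := (Ideal.comap_isPrime _ _).ne_top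
  have heq : (maximalIdeal Sh).comap (algebraMap Rh Sh) = maximalIdeal Rh :=
    le_antisymm (le_maximalIdeal hne) hle
  exact ((local_hom_TFAE (algebraMap Rh Sh)).out 0 4 rfl rfl).mpr heq

end Groth.Agent.Lib.Helper3
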