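import Groth.Agent.Lib.Helper9.Hens.Unique
import Groth.Prelude.Def_Hensel

set_option autoImplicit false
set_option linter.style.haveILetI false
set_option linter.unusedSectionVars false
universe u

open TensorProduct IsLocalRing

namespace Groth.Agent.Lib.Helper3

/-- A ring map out of a localization at a prime `q` into a local ring is local as soon as the
maximal ideal pulls back to `q`. -/
theorem isLocalHom_of_comap_maximalIdeal_eq {A Aq T : Type*} [CommRing A] [CommRing Aq]
    [CommRing T] [IsLocalRing T] (q : Ideal A) [q.IsPrime] [Algebra A Aq]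
    [IsLocalization.AtPrime Aq q] (g : Aq →+* T)
    (h : (maximalIdeal T).comap (g.comp (algebraMap A Aq)) = q) : IsLocalHom g := by
  constructor
  intro x hx
  obtain ⟨a, s, rfl⟩ := IsLocalization.exists_mk'_eq q.primeCompl x
  have hs : IsUnit (g (algebraMap A Aq s.1)) := by
    by_contra hns
    have : s.1 ∈ (maximalIdeal T).comap (g.comp (algebraMap A Aq)) := by
      rw [Ideal.mem_comap, RingHom.comp_apply]
      exact (mem_maximalIdeal _).mpr hns
    rw [h] at this
    exact s.2 this
  have hmul : g (IsLocalization.mk' Aq a s) * g (algebraMap A Aq s.1) = g (algebraMap A Aq a) := by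
    rw [← map_mul, IsLocalization.mk'_spec]
  have ha : IsUnit (g (algebraMap A Aq a)) := hmul ▸ hx.mul hs
  have haq : a ∉ q := by
    intro haq
    rw [← h, Ideal.mem_comap, RingHom.comp_apply] at haq
    exact (mem_maximalIdeal _).mp haq ha
  exact (IsLocalization.AtPrime.isUnit_mk'_iff Aq q a s).mpr haq

/-- `Ah` with `ι : A → Ah` is a henselization of `A` at the prime `q`. -/
structure HensAt (A : Type u) [CommRing A] (q : Ideal A) (Ah : Type u) [CommRing Ah]
    [IsLocalRing Ah] (ι : A →+* Ah) : Prop where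
  henselian : HenselianLocalRing Ah
  comap_eq : (maximalIdeal Ah).comap ι = q
  universal : ∀ (T : Type u) [CommRing T] [HenselianLocalRing T] (f : A →+* T),
    (maximalIdeal T).comap f = q → ∃! g : Ah →+* T, g.comp ι = f

theorem HensAt.of_isHenselization (A : Type u) [CommRing A] (q : Ideal A) [q.IsPrime]
    (Ah : Type u) [CommRing Ah] [IsLocalRing Ah] [Algebra (Localization.AtPrime q) Ah]
    [IsLocalHom (algebraMap (Localization.AtPrime q) Ah)]
    [h : Hensel.IsHenselization (Localization.AtPrime q) Ah] :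
    HensAt A q Ah ((algebraMap (Localization.AtPrime q) Ah).comp
      (algebraMap A (Localization.AtPrime q))) := by
  refine ⟨h.henselian, ?_, ?_⟩
  · rw [← Ideal.comap_comap]
    have : (maximalIdeal Ah).comap (algebraMap (Localization.AtPrime q) Ah) =
        maximalIdeal (Localization.AtPrime q) :=
      ((local_hom_TFAE (algebraMap (Localization.AtPrime q) Ah)).out 0 4 rfl rfl).mp
        inferInstance
    rw [this]
    exact IsLocalization.AtPrime.under_maximalIdeal (Localization.AtPrime q) q
  · intro T _ _ f hf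
    have hunits : ∀ y : q.primeCompl, IsUnit (f y) := by
      intro y
      by_contra hy
      have : y.1 ∈ (maximalIdeal T).comap f := (mem_maximalIdeal _).mpr hy
      rw [hf] at this
      exact y.2 this
    let f' : Localization.AtPrime q →+* T := IsLocalization.lift hunits
    have hf' : f'.comp (algebraMap A (Localization.AtPrime q)) = f := IsLocalization.lift_comp _
    have hloc : IsLocalHom f' := isLocalHom_of_comap_maximalIdeal_eq q f' (by rw [hf', hf])
    obtain ⟨g, hg, huniq⟩ := h.universal T f' hloc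
    refine ⟨g, ?_, ?_⟩
    · change g.comp ((algebraMap (Localization.AtPrime q) Ah).comp _) = f
      rw [← RingHom.comp_assoc, hg, hf']
    · intro g' hg'
      apply huniq
      apply IsLocalization.ringHom_ext q.primeCompl
      rw [RingHom.comp_assoc, hf']
      exact hg'

theorem HensAt.exists_lift {A : Type u} [CommRing A] {Q : Ideal A} [Q.IsPrime] {Sh : Type u}
    [CommRing Sh] [IsLocalRing Sh] {φ : A →+* Sh} (h : HensAt A Q Sh φ) :
    ∃ ψ : Localization.AtPrime Q →+* Sh,
      ψ.comp (algebraMap A (Localization.AtPrime Q)) = φ ∧ IsLocalHom ψ := by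
  have hunits : ∀ y : Q.primeCompl, IsUnit (φ y) := by
    intro y
    by_contra hy
    have : y.1 ∈ (maximalIdeal Sh).comap φ := (mem_maximalIdeal _).mpr hy
    rw [h.comap_eq] at this
    exact y.2 this
  refine ⟨IsLocalization.lift hunits, IsLocalization.lift_comp _, ?_⟩
  exact isLocalHom_of_comap_maximalIdeal_eq Q _ (by rw [IsLocalization.lift_comp, h.comap_eq])

theorem HensAt.isHenselization {A : Type u} [CommRing A] {Q : Ideal A} [Q.IsPrime] {Sh : Type u}
    [CommRing Sh] [IsLocalRing Sh] {φ : A →+* Sh} (h : HensAt A Q Sh φ)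
    [Algebra (Localization.AtPrime Q) Sh]
    (hcomp : (algebraMap (Localization.AtPrime Q) Sh).comp
      (algebraMap A (Localization.AtPrime Q)) = φ)
    [IsLocalHom (algebraMap (Localization.AtPrime Q) Sh)] :
    Hensel.IsHenselization (Localization.AtPrime Q) Sh := by
  refine ⟨h.henselian, ?_⟩
  intro T _ _ f hf
  have hcomap : (maximalIdeal T).comap (f.comp (algebraMap A (Localization.AtPrime Q))) = Q := by
    rw [← Ideal.comap_comap]
    have : (maximalIdeal T).comap f = maximalIdeal (Localization.AtPrime Q) :=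
      ((local_hom_TFAE f).out 0 4 rfl rfl).mp hf
    rw [this]
    exact IsLocalization.AtPrime.under_maximalIdeal (Localization.AtPrime Q) Q
  obtain ⟨g, hg, huniq⟩ := h.universal T _ hcomap
  refine ⟨g, ?_, ?_⟩
  · apply IsLocalization.ringHom_ext Q.primeCompl
    rw [RingHom.comp_assoc, hcomp]
    exact hg
  · intro g' hg'
    apply huniq
    rw [← hcomp, ← RingHom.comp_assoc]
    exact congrArg (fun k => k.comp (algebraMap A (Localization.AtPrime Q))) hg'

theorem ringHom_ext_tensorProduct {R A B T : Type*} [CommRing R] [CommRing A] [CommRing B]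
    [Algebra R A] [Algebra R B] [CommRing T] (f₁ f₂ : A ⊗[R] B →+* T)
    (h1 : ∀ a : A, f₁ (a ⊗ₜ 1) = f₂ (a ⊗ₜ 1)) (h2 : ∀ b : B, f₁ (1 ⊗ₜ b) = f₂ (1 ⊗ₜ b)) :
    f₁ = f₂ := by
  refine RingHom.ext fun x => ?_
  induction x using TensorProduct.induction_on with
  | zero => simp
  | tmul a b =>
    have : a ⊗ₜ[R] b = (a ⊗ₜ 1) * (1 ⊗ₜ b) := by
      rw [Algebra.TensorProduct.tmul_mul_tmul, mul_one, one_mul]
    rw [this, map_mul, map_mul, h1, h2]
  | add x y hx hy => rw [map_add, map_add, hx, hy]

theorem HensAt.tensor (R : Type u) [CommRing R] (S : Type u) [CommRing S] [Algebra R S]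
    (p : Ideal R) (q : Ideal S) (hqp : q.comap (algebraMap R S) = p)
    (Rh : Type u) [CommRing Rh] [IsLocalRing Rh] [Algebra R Rh]
    (hR : HensAt R p Rh (algebraMap R Rh))
    (Sh : Type u) [CommRing Sh] [IsLocalRing Sh] (ιS : S →+* Sh) (hS : HensAt S q Sh ιS)
    (φ : Rh ⊗[R] S →+* Sh) (hφS : ∀ s, φ (1 ⊗ₜ s) = ιS s) :
    HensAt (Rh ⊗[R] S) ((maximalIdeal Sh).comap φ) Sh φ := by
  have hswap : ∀ r : R, (algebraMap R Rh r) ⊗ₜ[R] (1 : S) = (1 : Rh) ⊗ₜ[R] algebraMap R S r := by
    intro r
    rw [Algebra.algebraMap_eq_smul_one, Algebra.algebraMap_eq_smul_one, TensorProduct.smul_tmul]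
  refine ⟨hS.henselian, rfl, ?_⟩
  intro T _ _ f hf
  let fS : S →+* T := f.comp (Algebra.TensorProduct.includeRight : S →ₐ[R] Rh ⊗[R] S).toRingHom
  have hfS : ∀ s, fS s = f (1 ⊗ₜ s) := fun s => rfl
  have hcomapS : (maximalIdeal T).comap fS = q := by
    rw [← hS.comap_eq]
    ext s
    rw [Ideal.mem_comap, Ideal.mem_comap, hfS, ← hφS]
    change (1 : Rh) ⊗ₜ[R] s ∈ (maximalIdeal T).comap f ↔ _
    rw [hf, Ideal.mem_comap]
  obtain ⟨g, hg, huniq⟩ := hS.universal T fS hcomapS
  have hgS : ∀ s, g (ιS s) = fS s := fun s => DFunLike.congr_fun hg s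
  refine ⟨g, ?_, ?_⟩
  · apply ringHom_ext_tensorProduct
    · -- on `Rh`
      let f₀ : R →+* T := fS.comp (algebraMap R S)
      have hf₀ : (maximalIdeal T).comap f₀ = p := by
        rw [← Ideal.comap_comap, hcomapS, hqp]
      obtain ⟨k, -, hk⟩ := hR.universal T f₀ hf₀
      let a₁ : Rh →+* T := (g.comp φ).comp Algebra.TensorProduct.includeLeftRingHom
      let a₂ : Rh →+* T := f.comp Algebra.TensorProduct.includeLeftRingHom
      have h1 : a₁ = k := by
        apply hk
        ext r
        change g (φ ((algebraMap R Rh r) ⊗ₜ[R] (1 : S))) = fS (algebraMap R S r)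
        rw [hswap, hφS, hgS]
      have h2 : a₂ = k := by
        apply hk
        ext r
        change f ((algebraMap R Rh r) ⊗ₜ[R] (1 : S)) = fS (algebraMap R S r)
        rw [hswap, hfS]
      intro a
      exact DFunLike.congr_fun (h1.trans h2.symm) a
    · intro s
      rw [RingHom.comp_apply, hφS, hgS, hfS]
  · intro g' hg'
    apply huniq
    ext s
    rw [RingHom.comp_apply, ← hφS, hfS, ← hg', RingHom.comp_apply]

end Groth.Agent.Lib.Helper3
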