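import Mathlib
import Groth.Agent.Lib.Helper3.HensTensorAt
import Groth.Agent.S1964
import Groth.Agent.S0506
import Groth.Agent.S0515
import Groth.Agent.Lib.Helper9.Hens.Unique

/-!
# Minimal primes versus maximal ideals in integral algebras over henselian local rings
-/

set_option autoImplicit false
set_option linter.style.haveILetI false
set_option linter.unusedSectionVars false
universe u

open TensorProduct IsLocalRing

namespace Groth.Agent.Lib.Helper3.Branch

/-- A henselization of a local ring is a henselization at its maximal ideal. -/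
theorem hensAt_of_isHenselization_self (A S : Type u) [CommRing A] [IsLocalRing A] [CommRing S]
    [IsLocalRing S] [Algebra A S] [IsLocalHom (algebraMap A S)] [h : Hensel.IsHenselization A S] :
    HensAt A (maximalIdeal A) S (algebraMap A S) := by
  refine ⟨h.henselian, ?_, ?_⟩
  · exact ((local_hom_TFAE (algebraMap A S)).out 0 4 rfl rfl).mp inferInstance
  · intro T _ _ f hf
    have hloc : IsLocalHom f := ((local_hom_TFAE f).out 0 4 rfl rfl).mpr hf
    exact h.universal T f hloc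

section Integral

variable (S : Type u) [CommRing S] [HenselianLocalRing S] (B : Type u) [CommRing B] [Algebra S B]
  [Algebra.IsIntegral S B]

include S

/-- In an integral algebra over a henselian local ring every prime lies in exactly one maximal
ideal. -/
theorem existsUnique_isMaximal_ge (Q : Ideal B) [hQ : Q.IsPrime] :
    ∃! M : Ideal B, M.IsMaximal ∧ Q ≤ M := by
  obtain ⟨hT, -, -⟩ := Groth.Agent.S1964.result S (B ⧸ Q)
  haveI := hT
  have hsurj : Function.Surjective (Ideal.Quotient.mk Q) := Ideal.Quotient.mk_surjective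
  refine ⟨(maximalIdeal (B ⧸ Q)).comap (Ideal.Quotient.mk Q),
    ⟨Ideal.comap_isMaximal_of_surjective _ hsurj, ?_⟩, ?_⟩
  · intro x hx
    rw [Ideal.mem_comap, Ideal.Quotient.eq_zero_iff_mem.mpr hx]
    exact Ideal.zero_mem _
  · rintro M ⟨hM, hQM⟩
    have hne : M.map (Ideal.Quotient.mk Q) ≠ ⊤ := by
      intro htop
      have h1 : (M.map (Ideal.Quotient.mk Q)).comap (Ideal.Quotient.mk Q) = M := by
        rw [Ideal.comap_map_of_surjective _ hsurj, ← RingHom.ker_eq_comap_bot, Ideal.mk_ker]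
        exact sup_eq_left.mpr hQM
      rw [htop, Ideal.comap_top] at h1
      exact hM.ne_top h1.symm
    have hle : M ≤ (maximalIdeal (B ⧸ Q)).comap (Ideal.Quotient.mk Q) := by
      rw [← Ideal.map_le_iff_le_comap]
      exact IsLocalRing.le_maximalIdeal hne
    exact hM.eq_of_le (Ideal.comap_ne_top _ (Ideal.IsPrime.ne_top inferInstance)) hle

/-- If `D` is a domain that is a henselization of `B` at the maximal ideal `M`, then every prime
below `M` contains the kernel of `B → D`. -/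
theorem ker_le_of_hensAt (M : Ideal B) [hM : M.IsMaximal] (D : Type u) [CommRing D]
    [IsLocalRing D] (φ : B →+* D) (hH : HensAt B M D φ) (Q : Ideal B) [hQ : Q.IsPrime]
    (hQM : Q ≤ M) : RingHom.ker φ ≤ Q := by
  obtain ⟨hT, -, -⟩ := Groth.Agent.S1964.result S (B ⧸ Q)
  haveI := hT
  have hsurj : Function.Surjective (Ideal.Quotient.mk Q) := Ideal.Quotient.mk_surjective
  have hcomap : (maximalIdeal (B ⧸ Q)).comap (Ideal.Quotient.mk Q) = M := by
    obtain ⟨M₀, -, huniq⟩ := existsUnique_isMaximal_ge S B Q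
    have h1 := huniq M ⟨hM, hQM⟩
    have h2 := huniq ((maximalIdeal (B ⧸ Q)).comap (Ideal.Quotient.mk Q))
      ⟨Ideal.comap_isMaximal_of_surjective _ hsurj, by
        intro x hx
        rw [Ideal.mem_comap, Ideal.Quotient.eq_zero_iff_mem.mpr hx]
        exact Ideal.zero_mem _⟩
    rw [h1, h2]
  obtain ⟨g, hg, -⟩ := hH.universal (B ⧸ Q) (Ideal.Quotient.mk Q) hcomap
  intro x hx
  rw [RingHom.mem_ker] at hx
  have : Ideal.Quotient.mk Q x = g (φ x) := (DFunLike.congr_fun hg x).symm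
  rw [hx, map_zero] at this
  exact Ideal.Quotient.eq_zero_iff_mem.mp this

/-- If moreover `D` is a domain, `M` contains exactly one minimal prime. -/
theorem existsUnique_minimalPrimes_le_of_hensAt (M : Ideal B) [hM : M.IsMaximal] (D : Type u)
    [CommRing D] [IsLocalRing D] [IsDomain D] (φ : B →+* D) (hH : HensAt B M D φ) :
    ∃! Q : Ideal B, Q ∈ minimalPrimes B ∧ Q ≤ M := by
  obtain ⟨Q, hQ, hQM⟩ := Ideal.exists_minimalPrimes_le (I := ⊥) (J := M) bot_le
  have hker : (RingHom.ker φ).IsPrime := RingHom.ker_isPrime φ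
  have key : ∀ Q' : Ideal B, Q' ∈ minimalPrimes B → Q' ≤ M → Q' = RingHom.ker φ := by
    intro Q' hQ' hQ'M
    haveI : Q'.IsPrime := hQ'.1.1
    have hle := ker_le_of_hensAt S B M D φ hH Q' hQ'M
    exact le_antisymm (hQ'.2 ⟨hker, bot_le⟩ hle) hle
  refine ⟨Q, ⟨hQ, hQM⟩, ?_⟩
  rintro Q' ⟨hQ', hQ'M⟩
  rw [key Q' hQ' hQ'M, key Q hQ hQM]

end Integral

/-- If every minimal prime lies in exactly one maximal ideal and every maximal ideal contains
exactly one minimal prime, then there are as many minimal primes as maximal ideals. -/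
theorem nonempty_equiv_minimalPrimes_maximalSpectrum (B : Type*) [CommRing B]
    (h1 : ∀ Q ∈ minimalPrimes B, ∃! M : Ideal B, M.IsMaximal ∧ Q ≤ M)
    (h2 : ∀ M : Ideal B, M.IsMaximal → ∃! Q : Ideal B, Q ∈ minimalPrimes B ∧ Q ≤ M) :
    Nonempty (minimalPrimes B ≃ MaximalSpectrum B) := by
  choose f hf hfu using h1
  let F : minimalPrimes B → MaximalSpectrum B := fun Q => ⟨f Q.1 Q.2, (hf Q.1 Q.2).1⟩
  refine ⟨Equiv.ofBijective F ⟨?_, ?_⟩⟩
  · intro Q₁ Q₂ h
    have hM : f Q₁.1 Q₁.2 = f Q₂.1 Q₂.2 := congrArg MaximalSpectrum.asIdeal h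
    obtain ⟨Q, -, hu⟩ := h2 (f Q₁.1 Q₁.2) (hf Q₁.1 Q₁.2).1
    have e1 := hu Q₁.1 ⟨Q₁.2, (hf Q₁.1 Q₁.2).2⟩
    have e2 := hu Q₂.1 ⟨Q₂.2, hM ▸ (hf Q₂.1 Q₂.2).2⟩
    exact Subtype.ext (e1.trans e2.symm)
  · intro M
    obtain ⟨Q, ⟨hQ, hQM⟩, -⟩ := h2 M.asIdeal M.isMaximal
    refine ⟨⟨Q, hQ⟩, ?_⟩
    apply MaximalSpectrum.ext
    exact (hfu Q hQ M.asIdeal ⟨M.isMaximal, hQM⟩).symm

theorem comap_mem_minimalPrimes_of_ringEquiv {C₁ C₂ : Type*} [CommRing C₁] [CommRing C₂]
    (e : C₁ ≃+* C₂) (Q : Ideal C₂) (hQ : Q ∈ minimalPrimes C₂) :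
    Q.comap (e : C₁ →+* C₂) ∈ minimalPrimes C₁ := by
  have := Ideal.minimalPrimes_comap_of_surjective (f := (e : C₁ →+* C₂)) e.surjective
    (I := ⊥) (J := Q) hQ
  have h0 : Ideal.comap (e : C₁ →+* C₂) ⊥ = ⊥ :=
    Ideal.comap_bot_of_injective _ e.injective
  rwa [h0] at this

/-- A ring isomorphism induces a bijection on minimal primes. -/
theorem nonempty_equiv_minimalPrimes_of_ringEquiv {B₁ B₂ : Type*} [CommRing B₁] [CommRing B₂]
    (e : B₁ ≃+* B₂) : Nonempty (minimalPrimes B₁ ≃ minimalPrimes B₂) := by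
  refine ⟨⟨fun Q => ⟨Q.1.comap (e.symm : B₂ →+* B₁),
      comap_mem_minimalPrimes_of_ringEquiv e.symm Q.1 Q.2⟩,
    fun Q => ⟨Q.1.comap (e : B₁ →+* B₂), comap_mem_minimalPrimes_of_ringEquiv e Q.1 Q.2⟩, ?_, ?_⟩⟩
  · intro Q
    apply Subtype.ext
    change (Q.1.comap (e.symm : B₂ →+* B₁)).comap (e : B₁ →+* B₂) = Q.1
    rw [Ideal.comap_comap]
    have : (e.symm : B₂ →+* B₁).comp (e : B₁ →+* B₂) = RingHom.id _ := by
      ext x; simp
    rw [this, Ideal.comap_id]
  · intro Q
    apply Subtype.ext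
    change (Q.1.comap (e : B₁ →+* B₂)).comap (e.symm : B₂ →+* B₁) = Q.1
    rw [Ideal.comap_comap]
    have : (e : B₁ →+* B₂).comp (e.symm : B₂ →+* B₁) = RingHom.id _ := by
      ext x; simp
    rw [this, Ideal.comap_id]

section Hens

variable (A S : Type u) [CommRing A] [IsLocalRing A] [CommRing S] [IsLocalRing S] [Algebra A S]
  [IsLocalHom (algebraMap A S)] [Hensel.IsHenselization A S]
  (A' : Type u) [CommRing A'] [Algebra A A'] [Algebra.IsIntegral A A']

/-- The inclusion of `A'` in `S ⊗[A] A'`. -/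
noncomputable abbrev inclR : A' →+* S ⊗[A] A' :=
  (Algebra.TensorProduct.includeRight : A' →ₐ[A] S ⊗[A] A').toRingHom

theorem comap_algebraMap_of_isMaximal (M : Ideal (S ⊗[A] A')) [hM : M.IsMaximal] :
    M.comap (algebraMap S (S ⊗[A] A')) = maximalIdeal S :=
  IsLocalRing.eq_maximalIdeal (Ideal.isMaximal_comap_of_isIntegral_of_isMaximal M)

theorem isMaximal_comap_inclR (M : Ideal (S ⊗[A] A')) [hM : M.IsMaximal] :
    (M.comap (inclR A S A')).IsMaximal := by
  have hS : (maximalIdeal S).comap (algebraMap A S) = maximalIdeal A :=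
    ((local_hom_TFAE (algebraMap A S)).out 0 4 rfl rfl).mp inferInstance
  have h1 : (M.comap (inclR A S A')).comap (algebraMap A A') = maximalIdeal A := by
    rw [Ideal.comap_comap]
    have : (inclR A S A').comp (algebraMap A A') =
        (algebraMap S (S ⊗[A] A')).comp (algebraMap A S) := by
      ext a
      change (1 : S) ⊗ₜ[A] (algebraMap A A' a) = (algebraMap A S a) ⊗ₜ[A] (1 : A')
      rw [Algebra.algebraMap_eq_smul_one, Algebra.algebraMap_eq_smul_one (A := S),
        TensorProduct.smul_tmul]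
    rw [this, ← Ideal.comap_comap, comap_algebraMap_of_isMaximal A S A' M, hS]
  haveI : (M.comap (inclR A S A')).IsPrime := Ideal.comap_isPrime _ _
  apply Ideal.isMaximal_of_isIntegral_of_isMaximal_comap (R := A)
  rw [h1]
  exact maximalIdeal.isMaximal A

/-- Every element of `S ⊗[A] A'` is congruent to an element of `A'` modulo `m_S`. -/
theorem exists_sub_mem_map_maximalIdeal (b : S ⊗[A] A') :
    ∃ a' : A', b - (1 : S) ⊗ₜ[A] a' ∈
      (maximalIdeal S).map (algebraMap S (S ⊗[A] A')) := by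
  induction b using TensorProduct.induction_on with
  | zero => exact ⟨0, by simp⟩
  | tmul s a' =>
    obtain ⟨a, ha⟩ :=
      Groth.Agent.Lib.Helper9.Hens.exists_sub_mem_maximalIdeal_of_isHenselization A S s
    refine ⟨a • a', ?_⟩
    have h1 : s ⊗ₜ[A] a' - (1 : S) ⊗ₜ[A] (a • a') =
        algebraMap S (S ⊗[A] A') (s - algebraMap A S a) * ((1 : S) ⊗ₜ[A] a') := by
      rw [Algebra.TensorProduct.algebraMap_apply, Algebra.TensorProduct.tmul_mul_tmul, one_mul,
        Algebra.algebraMap_self, RingHom.id_apply, mul_one, TensorProduct.sub_tmul,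
        Algebra.algebraMap_eq_smul_one (A := S), ← TensorProduct.smul_tmul]
    rw [h1]
    exact Ideal.mul_mem_right _ _ (Ideal.mem_map_of_mem _ ha)
  | add x y hx hy =>
    obtain ⟨a₁, h₁⟩ := hx
    obtain ⟨a₂, h₂⟩ := hy
    refine ⟨a₁ + a₂, ?_⟩
    have : x + y - (1 : S) ⊗ₜ[A] (a₁ + a₂) = (x - (1 : S) ⊗ₜ[A] a₁) + (y - (1 : S) ⊗ₜ[A] a₂) := by
      rw [TensorProduct.tmul_add]; ring
    rw [this]
    exact Ideal.add_mem _ h₁ h₂

/-- Maximal ideals of `S ⊗[A] A'` are determined by their contraction to `A'`. -/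
theorem eq_of_comap_inclR_eq (M₁ M₂ : Ideal (S ⊗[A] A')) [hM₁ : M₁.IsMaximal]
    [hM₂ : M₂.IsMaximal] (h : M₁.comap (inclR A S A') = M₂.comap (inclR A S A')) : M₁ = M₂ := by
  have key : ∀ (M M' : Ideal (S ⊗[A] A')) [M.IsMaximal] [M'.IsMaximal],
      M.comap (inclR A S A') = M'.comap (inclR A S A') → M ≤ M' := by
    intro M M' _ _ hMM' b hb
    obtain ⟨a', ha'⟩ := exists_sub_mem_map_maximalIdeal A S A' b
    have hle : ∀ N : Ideal (S ⊗[A] A'), N.IsMaximal →
        (maximalIdeal S).map (algebraMap S (S ⊗[A] A')) ≤ N := by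
      intro N hN
      rw [Ideal.map_le_iff_le_comap, comap_algebraMap_of_isMaximal A S A' N]
    have h1 : (1 : S) ⊗ₜ[A] a' ∈ M := by
      have := M.sub_mem hb (hle M inferInstance ha')
      simpa using this
    have h2 : a' ∈ M.comap (inclR A S A') := h1
    rw [hMM'] at h2
    have h3 : (1 : S) ⊗ₜ[A] a' ∈ M' := h2
    have := M'.add_mem (hle M' inferInstance ha') h3
    simpa using this
  exact le_antisymm (key M₁ M₂ h) (key M₂ M₁ h.symm)

/-- Over each maximal ideal `m'` of `A'` whose local ring is a normal domain there is a maximal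
ideal of `S ⊗[A] A'` containing exactly one minimal prime. -/
theorem exists_isMaximal_comap_eq (m' : Ideal A') [hm' : m'.IsMaximal]
    (hN : IsDomain (Localization.AtPrime m') ∧ IsIntegrallyClosed (Localization.AtPrime m')) :
    ∃ M : Ideal (S ⊗[A] A'), M.IsMaximal ∧ M.comap (inclR A S A') = m' ∧
      ∃! Q : Ideal (S ⊗[A] A'), Q ∈ minimalPrimes (S ⊗[A] A') ∧ Q ≤ M := by
  haveI : HenselianLocalRing S := Hensel.IsHenselization.henselian A
  have hq : m'.comap (algebraMap A A') = maximalIdeal A :=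
    IsLocalRing.eq_maximalIdeal (Ideal.isMaximal_comap_of_isIntegral_of_isMaximal m')
  obtain ⟨Sh', _, _, _, _, hH⟩ := Groth.Agent.S0506.result (Localization.AtPrime m')
  obtain ⟨hdom, -⟩ := (Groth.Agent.S0515.result (Localization.AtPrime m') Sh').mp hN
  let ιS : A' →+* Sh' := (algebraMap (Localization.AtPrime m') Sh').comp
    (algebraMap A' (Localization.AtPrime m'))
  have hS : HensAt A' m' Sh' ιS := HensAt.of_isHenselization A' m' Sh'
  haveI : HenselianLocalRing Sh' := hS.henselian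
  let f₀ : A →+* Sh' := ιS.comp (algebraMap A A')
  have hf₀ : (maximalIdeal Sh').comap f₀ = maximalIdeal A := by
    rw [← Ideal.comap_comap, hS.comap_eq, hq]
  have hloc : IsLocalHom f₀ := ((local_hom_TFAE f₀).out 0 4 rfl rfl).mpr hf₀
  obtain ⟨g, hg, -⟩ := Hensel.IsHenselization.universal (R := A) (S := S) Sh' f₀ hloc
  letI : Algebra A Sh' := f₀.toAlgebra
  let gA : S →ₐ[A] Sh' := { g with commutes' := fun r => DFunLike.congr_fun hg r }
  let ιSA : A' →ₐ[A] Sh' := { ιS with commutes' := fun r => rfl }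
  let φ : S ⊗[A] A' →ₐ[A] Sh' :=
    Algebra.TensorProduct.lift gA ιSA (fun _ _ => Commute.all _ _)
  have hφt : ∀ s r, φ (s ⊗ₜ r) = g s * ιS r := fun s r =>
    Algebra.TensorProduct.lift_tmul _ _ _ s r
  have hφS : ∀ r, (φ : S ⊗[A] A' →+* Sh') (1 ⊗ₜ r) = ιS r := by
    intro r
    change φ (1 ⊗ₜ r) = ιS r
    rw [hφt, map_one, one_mul]
  have hH' := HensAt.tensor A A' (maximalIdeal A) m' hq S (hensAt_of_isHenselization_self A S)
    Sh' ιS hS (φ : S ⊗[A] A' →+* Sh') hφS
  set M : Ideal (S ⊗[A] A') := (maximalIdeal Sh').comap (φ : S ⊗[A] A' →+* Sh') with hM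
  haveI hMp : M.IsPrime := Ideal.comap_isPrime _ _
  have hMS : M.comap (algebraMap S (S ⊗[A] A')) = maximalIdeal S := by
    have hle : maximalIdeal S ≤ M.comap (algebraMap S (S ⊗[A] A')) := by
      rw [← Groth.Agent.Lib.Helper9.Hens.map_maximalIdeal_of_isHenselization (R := A) (S := S),
        Ideal.map_le_iff_le_comap]
      intro a ha
      rw [Ideal.mem_comap, Ideal.mem_comap, hM, Ideal.mem_comap]
      change φ ((algebraMap A S a) ⊗ₜ 1) ∈ maximalIdeal Sh'
      rw [hφt, map_one, mul_one]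
      have : g (algebraMap A S a) = f₀ a := DFunLike.congr_fun hg a
      rw [this]
      have : a ∈ (maximalIdeal Sh').comap f₀ := by rw [hf₀]; exact ha
      exact this
    exact ((maximalIdeal.isMaximal S).eq_of_le
      (Ideal.comap_ne_top _ hMp.ne_top) hle).symm
  haveI hMmax : M.IsMaximal := by
    apply Ideal.isMaximal_of_isIntegral_of_isMaximal_comap (R := S)
    rw [hMS]
    exact maximalIdeal.isMaximal S
  refine ⟨M, hMmax, ?_, ?_⟩
  · rw [← hS.comap_eq]
    ext r
    rw [Ideal.mem_comap, Ideal.mem_comap]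
    change (φ : S ⊗[A] A' →+* Sh') (1 ⊗ₜ r) ∈ _ ↔ _
    rw [hφS, Ideal.mem_comap]
  · exact existsUnique_minimalPrimes_le_of_hensAt S (S ⊗[A] A') M Sh' _ hH'

/-- **Minimal primes and maximal ideals of `S ⊗[A] A'`**, for `S` the henselization of `A` and
`A'` integral over `A` with normal local rings at maximal ideals. -/
theorem minimalPrimes_maximal_unique
    (hN : ∀ (m' : Ideal A') [m'.IsMaximal],
      IsDomain (Localization.AtPrime m') ∧ IsIntegrallyClosed (Localization.AtPrime m')) :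
    (∀ Q ∈ minimalPrimes (S ⊗[A] A'), ∃! M : Ideal (S ⊗[A] A'), M.IsMaximal ∧ Q ≤ M) ∧
    (∀ M : Ideal (S ⊗[A] A'), M.IsMaximal →
      ∃! Q : Ideal (S ⊗[A] A'), Q ∈ minimalPrimes (S ⊗[A] A') ∧ Q ≤ M) := by
  haveI : HenselianLocalRing S := Hensel.IsHenselization.henselian A
  refine ⟨fun Q hQ => ?_, fun M hM => ?_⟩
  · haveI : Q.IsPrime := hQ.1.1
    exact existsUnique_isMaximal_ge S (S ⊗[A] A') Q
  · haveI := hM
    haveI := isMaximal_comap_inclR A S A' M
    obtain ⟨M', hM', hM'c, hu⟩ :=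
      exists_isMaximal_comap_eq A S A' (M.comap (inclR A S A')) (hN _)
    haveI := hM'
    have : M' = M := eq_of_comap_inclR_eq A S A' M' M hM'c
    rwa [this] at hu

/-- The maximal ideals of `S ⊗[A] A'` correspond to those of `A'`. -/
theorem nonempty_equiv_maximalSpectrum
    (hN : ∀ (m' : Ideal A') [m'.IsMaximal],
      IsDomain (Localization.AtPrime m') ∧ IsIntegrallyClosed (Localization.AtPrime m')) :
    Nonempty (MaximalSpectrum (S ⊗[A] A') ≃ MaximalSpectrum A') := by
  let F : MaximalSpectrum (S ⊗[A] A') → MaximalSpectrum A' := fun M =>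
    ⟨M.asIdeal.comap (inclR A S A'),
      haveI := M.isMaximal
      isMaximal_comap_inclR A S A' M.asIdeal⟩
  refine ⟨Equiv.ofBijective F ⟨?_, ?_⟩⟩
  · intro M₁ M₂ h
    haveI := M₁.isMaximal
    haveI := M₂.isMaximal
    apply MaximalSpectrum.ext
    exact eq_of_comap_inclR_eq A S A' _ _ (congrArg MaximalSpectrum.asIdeal h)
  · intro m'
    haveI := m'.isMaximal
    obtain ⟨M, hM, hMc, -⟩ := exists_isMaximal_comap_eq A S A' m'.asIdeal (hN _)
    exact ⟨⟨M, hM⟩, MaximalSpectrum.ext hMc⟩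

theorem card_minimalPrimes_tensor_eq
    (hN : ∀ (m' : Ideal A') [m'.IsMaximal],
      IsDomain (Localization.AtPrime m') ∧ IsIntegrallyClosed (Localization.AtPrime m')) :
    ENat.card (minimalPrimes (S ⊗[A] A')) = ENat.card (MaximalSpectrum A') := by
  obtain ⟨h1, h2⟩ := minimalPrimes_maximal_unique A S A' hN
  obtain ⟨e1⟩ := nonempty_equiv_minimalPrimes_maximalSpectrum (S ⊗[A] A') h1 h2
  obtain ⟨e2⟩ := nonempty_equiv_maximalSpectrum A S A' hN
  exact ENat.card_congr (e1.trans e2)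

end Hens

end Groth.Agent.Lib.Helper3.Branch
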