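import Mathlib
import Groth.Prelude.Def_CAlg2

set_option autoImplicit false
set_option linter.style.haveILetI false
set_option linter.unusedSectionVars false
universe u

open TensorProduct

namespace Groth.Agent.Lib.Helper3

/-- If `ι : R → B` has nilpotent kernel and every element of `B` becomes an element of `ι R`
after multiplication by some `ι s` which is a nonzerodivisor of `B`, then contraction along `ι` is a
bijection between the minimal primes of `B` and those of `R`. -/
theorem bijOn_minimalPrimes_comap_of_denominators {R B : Type*} [CommRing R] [CommRing B]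
    (ι : R →+* B) (hker : RingHom.ker ι ≤ nilradical R)
    (hden : ∀ b : B, ∃ s r : R, ι s ∈ nonZeroDivisors B ∧ ι s * b = ι r) :
    Set.BijOn (fun P : Ideal B => P.comap ι) (minimalPrimes B) (minimalPrimes R) := by
  have key : ∀ P P' : Ideal B, P'.IsPrime → P.comap ι ≤ P'.comap ι →
      (∀ s, ι s ∈ nonZeroDivisors B → ι s ∉ P') → P ≤ P' := by
    intro P P' hP' hle havoid b hb
    obtain ⟨s, r, hs, hsr⟩ := hden b
    have h1 : ι r ∈ P := hsr ▸ P.mul_mem_left _ hb
    have h2 : r ∈ P'.comap ι := hle h1
    have h3 : ι s * b ∈ P' := hsr ▸ h2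
    exact (hP'.mem_or_mem h3).resolve_left (havoid s hs)
  have avoid : ∀ P ∈ minimalPrimes B, ∀ s, ι s ∈ nonZeroDivisors B → ι s ∉ P :=
    fun P hP s hs hmem =>
      Set.disjoint_left.mp (Ideal.disjoint_nonZeroDivisors_of_mem_minimalPrimes hP) hmem hs
  have hmin : (RingHom.ker ι).minimalPrimes = minimalPrimes R := by
    rw [← Ideal.radical_minimalPrimes]
    have : (RingHom.ker ι).radical = (⊥ : Ideal R).radical := by
      apply le_antisymm
      · rw [Ideal.radical_le_radical_iff]
        exact hker
      · exact Ideal.radical_mono bot_le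
    rw [this, Ideal.radical_minimalPrimes]
  have surj : ∀ p ∈ minimalPrimes R, ∃ P ∈ minimalPrimes B, P.comap ι = p := by
    intro p hp
    apply Ideal.exists_minimalPrimes_comap_eq (I := ⊥) ι p
    rw [← RingHom.ker_eq_comap_bot, hmin]
    exact hp
  refine ⟨?_, ?_, ?_⟩
  · intro P hP
    have hPprime : P.IsPrime := hP.1.1
    have hpprime : (P.comap ι).IsPrime := Ideal.comap_isPrime ι P
    obtain ⟨p₀, hp₀, hp₀le⟩ := Ideal.exists_minimalPrimes_le (I := ⊥) (J := P.comap ι) bot_le
    obtain ⟨P₀, hP₀, hP₀c⟩ := surj p₀ hp₀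
    have hle : P₀ ≤ P := key P₀ P hPprime (by rw [hP₀c]; exact hp₀le) (avoid P hP)
    have heq : P₀ = P := le_antisymm hle (hP.2 ⟨hP₀.1.1, bot_le⟩ hle)
    change P.comap ι ∈ minimalPrimes R
    rw [← heq, hP₀c]
    exact hp₀
  · intro P hP P' hP' heq
    have heq' : P.comap ι = P'.comap ι := heq
    exact le_antisymm (key P P' hP'.1.1 heq'.le (avoid P' hP'))
      (key P' P hP.1.1 heq'.ge (avoid P hP))
  · intro p hp
    obtain ⟨P, hP, hPc⟩ := surj p hp
    exact ⟨P, hP, hPc⟩

theorem exists_denominator_add {R B : Type*} [CommRing R] [CommRing B] (ι : R →+* B) (b₁ b₂ : B)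
    (h₁ : ∃ s r : R, ι s ∈ nonZeroDivisors B ∧ ι s * b₁ = ι r)
    (h₂ : ∃ s r : R, ι s ∈ nonZeroDivisors B ∧ ι s * b₂ = ι r) :
    ∃ s r : R, ι s ∈ nonZeroDivisors B ∧ ι s * (b₁ + b₂) = ι r := by
  obtain ⟨s₁, r₁, hs₁, hr₁⟩ := h₁
  obtain ⟨s₂, r₂, hs₂, hr₂⟩ := h₂
  refine ⟨s₁ * s₂, s₂ * r₁ + s₁ * r₂, ?_, ?_⟩
  · rw [map_mul]
    exact mul_mem hs₁ hs₂
  · rw [map_mul, map_add, map_mul, map_mul, ← hr₁, ← hr₂]
    ring

/-- For a flat `A`-algebra `Ah`, contraction along `Ah → normRed A ⊗[A] Ah` is a bijection on
minimal primes. -/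
theorem bijOn_minimalPrimes_normRed_tensor (A Ah : Type u) [CommRing A] [CommRing Ah]
    [Algebra A Ah] [Module.Flat A Ah] :
    Set.BijOn (fun P : Ideal ((CAlg2.normRed A) ⊗[A] Ah) =>
        P.comap (Algebra.TensorProduct.includeRight.toRingHom :
          Ah →+* (CAlg2.normRed A) ⊗[A] Ah))
      (minimalPrimes ((CAlg2.normRed A) ⊗[A] Ah)) (minimalPrimes Ah) := by
  have hι : ∀ x : Ah, (Algebra.TensorProduct.includeRight.toRingHom :
      Ah →+* (CAlg2.normRed A) ⊗[A] Ah) x = (1 : CAlg2.normRed A) ⊗ₜ[A] x := fun x => rfl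
  have hK : Function.Injective (algebraMap (CAlg2.red A) (FractionRing (CAlg2.red A))) :=
    IsFractionRing.injective _ _
  refine bijOn_minimalPrimes_comap_of_denominators (R := Ah) (B := (CAlg2.normRed A) ⊗[A] Ah)
    (Algebra.TensorProduct.includeRight.toRingHom : Ah →+* (CAlg2.normRed A) ⊗[A] Ah) ?_ ?_
  · -- the kernel is nilpotent
    intro x hx
    rw [RingHom.mem_ker, hι] at hx
    let j : CAlg2.red A →ₗ[A] CAlg2.normRed A :=
      (IsScalarTower.toAlgHom A (CAlg2.red A) (CAlg2.normRed A)).toLinearMap
    have hj : Function.Injective j := by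
      intro y z hyz
      apply hK
      have := congrArg (algebraMap (CAlg2.normRed A) (FractionRing (CAlg2.red A))) hyz
      simpa [j, ← IsScalarTower.algebraMap_apply] using this
    have hjT : Function.Injective (j.rTensor Ah) :=
      Module.Flat.rTensor_preserves_injective_linearMap j hj
    have h1 : (1 : CAlg2.red A) ⊗ₜ[A] x = 0 := by
      apply hjT
      rw [LinearMap.rTensor_tmul, map_zero]
      have : j 1 = 1 := map_one (IsScalarTower.toAlgHom A (CAlg2.red A) (CAlg2.normRed A))
      rw [this, hx]
    have h2 := congrArg (TensorProduct.quotTensorEquivQuotSMul Ah (nilradical A)) h1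
    rw [map_zero] at h2
    change (TensorProduct.quotTensorEquivQuotSMul Ah (nilradical A))
      ((Ideal.Quotient.mk (nilradical A) 1) ⊗ₜ[A] x) = 0 at h2
    rw [TensorProduct.quotTensorEquivQuotSMul_mk_tmul, one_smul,
      Submodule.Quotient.mk_eq_zero] at h2
    have hle : (nilradical A) • (⊤ : Submodule A Ah) ≤ (nilradical Ah).restrictScalars A := by
      rw [Submodule.smul_le]
      intro r hr n _
      change r • n ∈ nilradical Ah
      rw [Algebra.smul_def]
      apply Ideal.mul_mem_right
      exact (mem_nilradical.mp hr).map (algebraMap A Ah)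
    exact hle h2
  · -- denominators
    intro b
    induction b using TensorProduct.induction_on with
    | zero => exact ⟨1, 0, by rw [map_one]; exact one_mem _, by simp⟩
    | tmul a' x =>
      obtain ⟨⟨r₀, s₀⟩, h⟩ := IsLocalization.surj (nonZeroDivisors (CAlg2.red A))
        (a' : FractionRing (CAlg2.red A))
      obtain ⟨a, rfl⟩ := Ideal.Quotient.mk_surjective r₀
      obtain ⟨c, hc⟩ := Ideal.Quotient.mk_surjective s₀.1
      have hcu : IsUnit (algebraMap (CAlg2.red A) (FractionRing (CAlg2.red A))
          (Ideal.Quotient.mk (nilradical A) c)) := by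
        rw [hc]
        exact IsLocalization.map_units _ s₀
      have hsm : ∀ y : CAlg2.normRed A, ((c • y : CAlg2.normRed A) : FractionRing (CAlg2.red A)) =
          algebraMap (CAlg2.red A) (FractionRing (CAlg2.red A))
            (Ideal.Quotient.mk (nilradical A) c) * (y : FractionRing (CAlg2.red A)) := by
        intro y
        rw [← Algebra.smul_def, Subalgebra.coe_smul,
          ← IsScalarTower.algebraMap_smul (CAlg2.red A) c (y : FractionRing (CAlg2.red A))]
        rfl
      have hca : c • a' = algebraMap A (CAlg2.normRed A) a := by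
        apply Subtype.ext
        rw [hsm, mul_comm]
        simp only at h
        rw [hc, h]
        rfl
      refine ⟨algebraMap A Ah c, algebraMap A Ah a * x, ?_, ?_⟩
      · -- nonzerodivisor
        have hcinj : Function.Injective (LinearMap.lsmul A (CAlg2.normRed A) c) := by
          intro y z hyz
          have h0 : c • (y - z) = 0 := by
            rw [smul_sub, sub_eq_zero]
            exact hyz
          have h1 := congrArg (Subtype.val) h0
          rw [hsm] at h1
          have h2 := (hcu.mul_right_eq_zero).mp h1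
          have : y - z = 0 := Subtype.ext h2
          exact sub_eq_zero.mp this
        have hT : Function.Injective ((LinearMap.lsmul A (CAlg2.normRed A) c).rTensor Ah) :=
          Module.Flat.rTensor_preserves_injective_linearMap _ hcinj
        have hTc : ∀ z : (CAlg2.normRed A) ⊗[A] Ah,
            (LinearMap.lsmul A (CAlg2.normRed A) c).rTensor Ah z = c • z := by
          intro z
          induction z using TensorProduct.induction_on with
          | zero => simp
          | tmul u v => simp [TensorProduct.smul_tmul']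
          | add u v hu hv => rw [map_add, hu, hv, smul_add]
        have hιc : (Algebra.TensorProduct.includeRight.toRingHom :
            Ah →+* (CAlg2.normRed A) ⊗[A] Ah) (algebraMap A Ah c) =
            algebraMap A ((CAlg2.normRed A) ⊗[A] Ah) c := by
          rw [hι, Algebra.algebraMap_eq_smul_one, Algebra.algebraMap_eq_smul_one,
            ← TensorProduct.smul_tmul, Algebra.TensorProduct.one_def, TensorProduct.smul_tmul']
        rw [hιc, mem_nonZeroDivisors_iff_right]
        intro z hz
        apply hT
        rw [hTc, map_zero, Algebra.smul_def, mul_comm]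
        exact hz
      · rw [hι, hι, Algebra.TensorProduct.tmul_mul_tmul, one_mul, ← Algebra.smul_def,
          ← Algebra.smul_def, ← TensorProduct.smul_tmul, hca, Algebra.algebraMap_eq_smul_one,
          TensorProduct.smul_tmul]
    | add b₁ b₂ h₁ h₂ =>
      exact exists_denominator_add (R := Ah) (B := (CAlg2.normRed A) ⊗[A] Ah) _ b₁ b₂ h₁ h₂

end Groth.Agent.Lib.Helper3
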