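import Mathlib

/-!
# The integral closure of a reduced ring with finitely many minimal primes in its total ring of
fractions is a normal ring (all local rings are integrally closed domains).
-/

set_option autoImplicit false
set_option linter.style.haveILetI false
set_option linter.unusedSectionVars false
universe u

namespace Groth.Agent.Lib.Helper3.NormRed

section Basic

variable {R : Type*} [CommRing R] [IsReduced R]

theorem eq_zero_of_forall_mem_minimalPrimes (w : R) (hw : ∀ q ∈ minimalPrimes R, w ∈ q) :
    w = 0 := by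
  have : w ∈ sInf (minimalPrimes R) := Ideal.mem_sInf.mpr fun {q} hq => hw q hq
  rw [minimalPrimes, Ideal.sInf_minimalPrimes] at this
  have h0 : (⊥ : Ideal R).radical = ⊥ := by
    have := nilradical_eq_zero R
    rwa [nilradical] at this
  rw [h0] at this
  exact this

/-- Prime avoidance: for a minimal prime `p₁` of a reduced ring with finitely many minimal primes
there are `x` in all other minimal primes and `y ∈ p₁` with `x + y` a nonzerodivisor. -/
theorem exists_orthogonal (hfin : (minimalPrimes R).Finite) (p₁ : Ideal R)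
    (h₁ : p₁ ∈ minimalPrimes R) :
    ∃ x y : R, (∀ q ∈ minimalPrimes R, q ≠ p₁ → x ∈ q) ∧ y ∈ p₁ ∧
      x + y ∈ nonZeroDivisors R := by
  classical
  have hprime : ∀ q ∈ minimalPrimes R, q.IsPrime := fun q hq => Ideal.IsMinimalPrime.isPrime hq
  have hmin : ∀ q ∈ minimalPrimes R, ∀ q' : Ideal R, q'.IsPrime → q' ≤ q → q ≤ q' :=
    fun q hq q' hq' hle => hq.2 ⟨hq', bot_le⟩ hle
  have hp₁ := hprime p₁ h₁
  set T : Set (Ideal R) := minimalPrimes R \ {p₁} with hT
  have hTfin : T.Finite := hfin.subset Set.sdiff_subset
  set J : Ideal R := hTfin.toFinset.inf id with hJ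
  have hJle : ∀ q ∈ T, J ≤ q := fun q hq =>
    Finset.inf_le (f := id) (hTfin.mem_toFinset.mpr hq)
  have havoid : ¬ (((p₁ ⊔ J : Ideal R) : Set R) ⊆ ⋃ q ∈ minimalPrimes R, (q : Set R)) := by
    intro hsub
    obtain ⟨q, hq, hle⟩ := (Ideal.subset_union_prime_finite hfin (f := id) p₁ p₁
      (fun i hi _ _ => hprime i hi)).mp hsub
    have hq1 : q = p₁ :=
      le_antisymm (hmin q hq p₁ hp₁ (le_sup_left.trans hle)) (le_sup_left.trans hle)
    subst hq1
    have hJq : J ≤ q := le_sup_right.trans hle
    obtain ⟨q', hq', hq'le⟩ := (Ideal.IsPrime.inf_le' hp₁).mp hJq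
    have hq'T : q' ∈ T := hTfin.mem_toFinset.mp hq'
    have : q' = q := le_antisymm hq'le (hmin q h₁ q' (hprime q' hq'T.1) hq'le)
    exact hq'T.2 this
  rw [Set.not_subset] at havoid
  obtain ⟨z, hz, hzn⟩ := havoid
  have hzn' : ∀ q ∈ minimalPrimes R, z ∉ q := by
    intro q hq hzq
    exact hzn (Set.mem_biUnion hq hzq)
  obtain ⟨y, hy, x, hx, rfl⟩ := Submodule.mem_sup.mp hz
  refine ⟨x, y, fun q hq hne => hJle q ⟨hq, hne⟩ hx, hy, ?_⟩
  rw [add_comm]
  refine mem_nonZeroDivisors_iff_right.mpr ?_
  intro w hw
  apply eq_zero_of_forall_mem_minimalPrimes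
  intro q hq
  have hq' := hprime q hq
  have : w * (y + x) ∈ q := by rw [hw]; exact q.zero_mem
  rcases hq'.mem_or_mem this with h | h
  · exact h
  · exact (hzn' q hq h).elim

end Basic

section Idem

variable {R : Type*} [CommRing R] [IsReduced R] {K : Type*} [CommRing K] [Algebra R K]
  [IsFractionRing R K]

theorem isUnit_algebraMap_of_mem_nonZeroDivisors {d : R} (hd : d ∈ nonZeroDivisors R) :
    IsUnit (algebraMap R K d) :=
  IsLocalization.map_units K (⟨d, hd⟩ : nonZeroDivisors R)

/-- For each minimal prime `p` there is an idempotent `e` of the total ring of fractions with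
`K e` a domain and `1 - e ∈ p K`. -/
theorem exists_componentIdem (hfin : (minimalPrimes R).Finite) (p : Ideal R)
    (hp : p ∈ minimalPrimes R) :
    ∃ e : K, e * e = e ∧ (∀ α β : K, α * β * e = 0 → α * e = 0 ∨ β * e = 0) ∧
      ∃ y ∈ p, ∃ v : K, 1 - e = algebraMap R K y * v := by
  obtain ⟨x, y, hx, hy, hxy⟩ := exists_orthogonal hfin p hp
  have hpp : p.IsPrime := hp.1.1
  have hinj : Function.Injective (algebraMap R K) := IsFractionRing.injective R K
  have hu : IsUnit (algebraMap R K (x + y)) := isUnit_algebraMap_of_mem_nonZeroDivisors hxy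
  obtain ⟨u, hu'⟩ := hu
  have hxy0 : x * y = 0 := by
    apply eq_zero_of_forall_mem_minimalPrimes
    intro q hq
    by_cases hqp : q = p
    · subst hqp; exact Ideal.mul_mem_left _ _ hy
    · exact Ideal.mul_mem_right _ _ (hx q hq hqp)
  have hxp : x ∉ p := by
    intro hxp
    have hx0 : x = 0 := by
      apply eq_zero_of_forall_mem_minimalPrimes
      intro q hq
      by_cases hqp : q = p
      · subst hqp; exact hxp
      · exact hx q hq hqp
    have hyn : y ∈ nonZeroDivisors R := by simpa [hx0] using hxy
    exact Set.disjoint_left.mp (Ideal.disjoint_nonZeroDivisors_of_mem_minimalPrimes hp) hy hyn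
  have hpx : ∀ a ∈ p, a * x = 0 := by
    intro a ha
    apply eq_zero_of_forall_mem_minimalPrimes
    intro q hq
    by_cases hqp : q = p
    · subst hqp; exact Ideal.mul_mem_right _ _ ha
    · exact Ideal.mul_mem_left _ _ (hx q hq hqp)
  set v : K := ((u⁻¹ : Kˣ) : K) with hv
  have huv : algebraMap R K (x + y) * v = 1 := by rw [← hu', hv]; exact u.mul_inv
  set e : K := algebraMap R K x * v with he
  have h1e : 1 - e = algebraMap R K y * v := by
    rw [he, ← huv, map_add]; ring
  have hef : e * (1 - e) = 0 := by
    rw [h1e, he]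
    have : algebraMap R K x * algebraMap R K y = 0 := by rw [← map_mul, hxy0, map_zero]
    calc algebraMap R K x * v * (algebraMap R K y * v)
        = (algebraMap R K x * algebraMap R K y) * (v * v) := by ring
      _ = 0 := by rw [this, zero_mul]
  have hee : e * e = e := by
    have : e * e = e - e * (1 - e) := by ring
    rw [this, hef, sub_zero]
  have heu : e * algebraMap R K (x + y) = algebraMap R K x := by
    rw [he, mul_assoc, mul_comm v, huv, mul_one]
  refine ⟨e, hee, ?_, y, hy, v, h1e⟩
  intro α β hαβ
  obtain ⟨⟨a, d⟩, had⟩ := IsLocalization.surj (nonZeroDivisors R) α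
  obtain ⟨⟨a', d'⟩, had'⟩ := IsLocalization.surj (nonZeroDivisors R) β
  simp only at had had'
  have hud : IsUnit (algebraMap R K d) := isUnit_algebraMap_of_mem_nonZeroDivisors d.2
  have hud' : IsUnit (algebraMap R K d') := isUnit_algebraMap_of_mem_nonZeroDivisors d'.2
  have h0 : algebraMap R K (a * a' * x) = 0 := by
    rw [map_mul, map_mul, ← had, ← had', ← heu]
    calc α * algebraMap R K d * (β * algebraMap R K d') * (e * algebraMap R K (x + y))
        = (α * β * e) * (algebraMap R K d * algebraMap R K d' * algebraMap R K (x + y)) := by ring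
      _ = 0 := by rw [hαβ, zero_mul]
  have h0' : a * a' * x = 0 := hinj (by rw [h0, map_zero])
  have hmem : a * a' * x ∈ p := by rw [h0']; exact p.zero_mem
  have key : ∀ (γ : K) (c : R) (dd : R), IsUnit (algebraMap R K dd) →
      γ * algebraMap R K dd = algebraMap R K c → c ∈ p → γ * e = 0 := by
    intro γ c dd hdd hγ hc
    have h1 : algebraMap R K c * e = 0 := by
      rw [he, ← mul_assoc, ← map_mul, hpx c hc, map_zero, zero_mul]
    have h2 : (γ * e) * algebraMap R K dd = 0 := by
      calc γ * e * algebraMap R K dd = (γ * algebraMap R K dd) * e := by ring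
        _ = 0 := by rw [hγ, h1]
    exact hdd.mul_left_eq_zero.mp h2
  rcases hpp.mem_or_mem hmem with h | h
  · rcases hpp.mem_or_mem h with h | h
    · exact Or.inl (key α a d hud had h)
    · exact Or.inr (key β a' d' hud' had' h)
  · exact (hxp h).elim

theorem isIntegral_of_mul_self_eq {e : K} (he : e * e = e) : IsIntegral R e := by
  refine ⟨(Polynomial.X - Polynomial.C 1) * Polynomial.X,
    (Polynomial.monic_X_sub_C 1).mul Polynomial.monic_X, ?_⟩
  simp only [Polynomial.eval₂_mul, Polynomial.eval₂_sub, Polynomial.eval₂_X, map_one,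
    Polynomial.eval₂_one]
  rw [sub_mul, he, one_mul, sub_self]

/-- For every prime `P` of the integral closure there is a component idempotent outside `P`. -/
theorem exists_componentIdem_notMem (hfin : (minimalPrimes R).Finite)
    {C : Type*} [CommRing C] [Algebra R C] [Algebra C K] [IsScalarTower R C K]
    [IsIntegralClosure C R K] (P : Ideal C) [hP : P.IsPrime] :
    ∃ e : K, e * e = e ∧ (∀ α β : K, α * β * e = 0 → α * e = 0 ∨ β * e = 0) ∧
      ∃ eC : C, algebraMap C K eC = e ∧ eC ∉ P := by
  classical
  have hinjC : Function.Injective (algebraMap C K) := IsIntegralClosure.algebraMap_injective C R K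
  have hex : ∀ p ∈ minimalPrimes R, ∃ e : K, e * e = e ∧
      (∀ α β : K, α * β * e = 0 → α * e = 0 ∨ β * e = 0) ∧
      ∃ y ∈ p, ∃ v : K, 1 - e = algebraMap R K y * v :=
    fun p hp => exists_componentIdem hfin p hp
  choose! e hee hD y hy v hv using hex
  by_contra hcon
  push Not at hcon
  have hint : ∀ p ∈ minimalPrimes R, IsIntegral R (e p) :=
    fun p hp => isIntegral_of_mul_self_eq (hee p hp)
  have hall : ∀ p (hp : p ∈ minimalPrimes R), IsIntegralClosure.mk' C (e p) (hint p hp) ∈ P :=
    fun p hp => hcon (e p) (hee p hp) (hD p hp) _ (IsIntegralClosure.algebraMap_mk' C _ _)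
  -- the product of the `1 - e p` vanishes
  have hprod : ∏ p ∈ hfin.toFinset, (1 - e p) = 0 := by
    have h1 : ∏ p ∈ hfin.toFinset, (1 - e p) =
        ∏ p ∈ hfin.toFinset, (algebraMap R K (y p) * v p) :=
      Finset.prod_congr rfl fun p hp => hv p (hfin.mem_toFinset.mp hp)
    rw [h1, Finset.prod_mul_distrib, ← map_prod]
    have h2 : ∏ p ∈ hfin.toFinset, y p = 0 := by
      apply eq_zero_of_forall_mem_minimalPrimes
      intro q hq
      obtain ⟨c, hc⟩ := Finset.dvd_prod_of_mem y (hfin.mem_toFinset.mpr hq)
      rw [hc]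
      exact Ideal.mul_mem_right _ _ (hy q hq)
    rw [h2, map_zero, zero_mul]
  -- but each factor is outside `P`
  let f : Ideal R → C := fun p =>
    if hp : p ∈ minimalPrimes R then 1 - IsIntegralClosure.mk' C (e p) (hint p hp) else 1
  have hf : ∀ p ∈ hfin.toFinset, f p ∉ P := by
    intro p hp hmem
    have hp' := hfin.mem_toFinset.mp hp
    simp only [f, dif_pos hp'] at hmem
    have : (1 : C) ∈ P := by
      have := P.add_mem hmem (hall p hp')
      simpa using this
    exact hP.ne_top ((Ideal.eq_top_iff_one P).mpr this)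
  have hf0 : ∏ p ∈ hfin.toFinset, f p = 0 := by
    apply hinjC
    rw [map_prod, map_zero, ← hprod]
    apply Finset.prod_congr rfl
    intro p hp
    have hp' := hfin.mem_toFinset.mp hp
    simp only [f, dif_pos hp']
    rw [map_sub, map_one, IsIntegralClosure.algebraMap_mk']
  have : ∏ p ∈ hfin.toFinset, f p ∈ P := by rw [hf0]; exact P.zero_mem
  obtain ⟨p, hp, hpm⟩ := (Ideal.IsPrime.prod_mem_iff).mp this
  exact hf p hp hpm

end Idem

section Main

theorem isUnit_of_mem_nonZeroDivisors_fractionRing (R : Type*) [CommRing R] {K : Type*}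
    [CommRing K] [Algebra R K] [IsFractionRing R K] {β : K} (hβ : β ∈ nonZeroDivisors K) :
    IsUnit β := by
  obtain ⟨⟨r, d⟩, hrd⟩ := IsLocalization.surj (nonZeroDivisors R) β
  simp only at hrd
  have hud : IsUnit (algebraMap R K d) := IsLocalization.map_units K d
  have hr : r ∈ nonZeroDivisors R := by
    refine mem_nonZeroDivisors_iff_right.mpr ?_
    intro z hz
    have h1 : (algebraMap R K z * β) * algebraMap R K d = 0 := by
      rw [mul_assoc, hrd, ← map_mul, hz, map_zero]
    have h2 : algebraMap R K z * β = 0 := hud.mul_left_eq_zero.mp h1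
    have h3 : algebraMap R K z = 0 := (mem_nonZeroDivisors_iff_right.mp hβ) _ h2
    exact IsFractionRing.injective R K (h3.trans (map_zero _).symm)
  have h4 : IsUnit (β * algebraMap R K d) := by
    rw [hrd]; exact IsLocalization.map_units K (⟨r, hr⟩ : nonZeroDivisors R)
  exact isUnit_of_mul_isUnit_left h4

variable {R : Type u} [CommRing R] [IsReduced R] {K : Type u} [CommRing K] [Algebra R K]
  [IsFractionRing R K]

/-- **Normality of the integral closure in the total ring of fractions**: every local ring of the
integral closure of a reduced ring with finitely many minimal primes in its total ring of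
fractions is an integrally closed domain. -/
theorem isDomain_and_isIntegrallyClosed_atPrime' (hfin : (minimalPrimes R).Finite)
    {C : Type u} [CommRing C] [Algebra R C] [Algebra C K] [IsScalarTower R C K]
    [IsIntegralClosure C R K] (P : Ideal C) [hP : P.IsPrime] :
    IsDomain (Localization.AtPrime P) ∧ IsIntegrallyClosed (Localization.AtPrime P) := by
  have hinjC : Function.Injective (algebraMap C K) := IsIntegralClosure.algebraMap_injective C R K
  obtain ⟨e, hee, hD, eC, heC, heP⟩ := exists_componentIdem_notMem (K := K) hfin P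
  have hzero : ∀ c : C,
      algebraMap C (Localization.AtPrime P) c = 0 ↔ algebraMap C K c * e = 0 := by
    intro c
    rw [IsLocalization.map_eq_zero_iff P.primeCompl]
    constructor
    · rintro ⟨m, hm⟩
      have h1 : algebraMap C K m * algebraMap C K c * e = 0 := by
        rw [← map_mul, hm, map_zero, zero_mul]
      rcases hD _ _ h1 with h | h
      · exfalso
        have h2 : (m : C) * eC = 0 := hinjC (by rw [map_mul, heC, h, map_zero])
        have hmem : (m : C) * eC ∈ P := h2 ▸ P.zero_mem
        rcases hP.mem_or_mem hmem with h' | h'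
        · exact m.2 h'
        · exact heP h'
      · exact h
    · intro h
      refine ⟨⟨eC, heP⟩, ?_⟩
      apply hinjC
      rw [map_mul, map_zero, heC, mul_comm]; exact h
  have hnzd : NoZeroDivisors (Localization.AtPrime P) := by
    refine ⟨fun {a b} hab => ?_⟩
    obtain ⟨⟨a₀, s⟩, ha⟩ := IsLocalization.surj P.primeCompl a
    obtain ⟨⟨b₀, t⟩, hb⟩ := IsLocalization.surj P.primeCompl b
    simp only at ha hb
    have h1 : algebraMap C (Localization.AtPrime P) (a₀ * b₀) = 0 := by
      rw [map_mul, ← ha, ← hb]
      calc a * algebraMap _ _ (s : C) * (b * algebraMap _ _ (t : C))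
          = (a * b) * (algebraMap _ _ (s : C) * algebraMap _ _ (t : C)) := by ring
        _ = 0 := by rw [hab, zero_mul]
    have h2 : algebraMap C K a₀ * algebraMap C K b₀ * e = 0 := by
      have := (hzero (a₀ * b₀)).mp h1
      rwa [map_mul] at this
    have hs : IsUnit (algebraMap C (Localization.AtPrime P) s) :=
      IsLocalization.map_units _ s
    have ht : IsUnit (algebraMap C (Localization.AtPrime P) t) :=
      IsLocalization.map_units _ t
    rcases hD _ _ h2 with h | h
    · left
      have := (hzero a₀).mpr h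
      rw [← ha] at this
      exact hs.mul_left_eq_zero.mp this
    · right
      have := (hzero b₀).mpr h
      rw [← hb] at this
      exact ht.mul_left_eq_zero.mp this
  have hdom : IsDomain (Localization.AtPrime P) := NoZeroDivisors.to_isDomain _
  refine ⟨hdom, ?_⟩
  -- integrally closed
  rw [isIntegrallyClosed_iff (FractionRing (Localization.AtPrime P))]
  intro w hw
  obtain ⟨m, hm⟩ := IsIntegral.exists_multiple_integral_of_isLocalization P.primeCompl
    (Rₘ := Localization.AtPrime P) w hw
  have hinjL : Function.Injective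
      (algebraMap (Localization.AtPrime P) (FractionRing (Localization.AtPrime P))) :=
    IsFractionRing.injective _ _
  -- the map from `K` to the fraction field of the local ring
  let ιL : C →+* FractionRing (Localization.AtPrime P) :=
    algebraMap C (FractionRing (Localization.AtPrime P))
  have hιL : ∀ c, ιL c = algebraMap (Localization.AtPrime P) _
      (algebraMap C (Localization.AtPrime P) c) := fun c =>
    IsScalarTower.algebraMap_apply _ (Localization.AtPrime P) _ c
  have hιL0 : ∀ c : C, ιL c = 0 ↔ algebraMap C K c * e = 0 := by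
    intro c
    rw [hιL, ← hzero]
    exact ⟨fun h => hinjL (h.trans (map_zero _).symm), fun h => by rw [h, map_zero]⟩
  have he0 : e ≠ 0 := by
    rintro rfl
    apply heP
    have : eC = 0 := hinjC (by rw [heC, map_zero])
    rw [this]; exact P.zero_mem
  let g : R →+* FractionRing (Localization.AtPrime P) := ιL.comp (algebraMap R C)
  have hg : ∀ d : nonZeroDivisors R, IsUnit (g d) := by
    intro d
    rw [isUnit_iff_ne_zero]
    intro h0
    have h1 := (hιL0 _).mp h0
    have hud : IsUnit (algebraMap R K d) := isUnit_algebraMap_of_mem_nonZeroDivisors d.2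
    have h2 : algebraMap R K d * e = 0 := by
      rw [IsScalarTower.algebraMap_apply R C K]; exact h1
    exact he0 (hud.mul_right_eq_zero.mp h2)
  let θ : K →+* FractionRing (Localization.AtPrime P) := IsLocalization.lift hg
  have hθι : ∀ r : R, θ (algebraMap R K r) = g r := fun r => IsLocalization.lift_eq hg r
  have hθC : ∀ c : C, θ (algebraMap C K c) = ιL c := by
    intro c
    obtain ⟨⟨r, d⟩, hrd⟩ := IsLocalization.surj (nonZeroDivisors R) (algebraMap C K c)
    simp only at hrd
    have h1 : c * algebraMap R C d = algebraMap R C r := by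
      apply hinjC
      rw [map_mul, ← IsScalarTower.algebraMap_apply, ← IsScalarTower.algebraMap_apply]
      exact hrd
    have h2 : ιL c * g d = g r := by
      change ιL c * ιL (algebraMap R C d) = ιL _
      rw [← map_mul, h1]
    have h3 : θ (algebraMap C K c) * g d = g r := by
      rw [← hθι, ← hθι, ← map_mul, hrd]
    exact (hg d).mul_left_injective (h3.trans h2.symm)
  have hθker : ∀ α : K, θ α = 0 → α * e = 0 := by
    intro α hα
    obtain ⟨⟨r, d⟩, hrd⟩ := IsLocalization.surj (nonZeroDivisors R) α
    simp only at hrd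
    have hud : IsUnit (algebraMap R K d) := isUnit_algebraMap_of_mem_nonZeroDivisors d.2
    have h1 : g r = 0 := by
      rw [← hθι, ← hrd, map_mul, hα, zero_mul]
    have h2 : algebraMap R K r * e = 0 := by
      rw [IsScalarTower.algebraMap_apply R C K]; exact (hιL0 _).mp h1
    have h3 : (α * e) * algebraMap R K d = 0 := by
      calc α * e * algebraMap R K d = (α * algebraMap R K d) * e := by ring
        _ = 0 := by rw [hrd, h2]
    exact hud.mul_left_eq_zero.mp h3
  have hθe : θ e = 1 := by
    have h1 : θ e * θ (1 - e) = 0 := by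
      rw [← map_mul, mul_sub, mul_one, hee, sub_self, map_zero]
    have h2 : θ e ≠ 0 := by
      intro h
      have := hθker e h
      rw [hee] at this
      exact he0 this
    have h3 : θ (1 - e) = 0 := (mul_eq_zero.mp h1).resolve_left h2
    rw [map_sub, map_one, sub_eq_zero] at h3
    exact h3.symm
  -- write `m • w` as a fraction
  set w' : FractionRing (Localization.AtPrime P) := m • w with hw'
  obtain ⟨⟨a, b⟩, hab⟩ := IsLocalization.surj (nonZeroDivisors (Localization.AtPrime P)) w'
  obtain ⟨⟨a₀, s⟩, ha⟩ := IsLocalization.surj P.primeCompl a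
  obtain ⟨⟨b₀, t⟩, hb⟩ := IsLocalization.surj P.primeCompl (b : Localization.AtPrime P)
  simp only at hab ha hb
  have hs : IsUnit (algebraMap C (Localization.AtPrime P) s) :=
    IsLocalization.map_units _ s
  have ht : IsUnit (algebraMap C (Localization.AtPrime P) t) :=
    IsLocalization.map_units _ t
  -- `w' * ιL (b₀ * s) = ιL (a₀ * t)`
  have hfrac : w' * ιL (b₀ * s) = ιL (a₀ * t) := by
    have e1 : ιL (b₀ * s) = algebraMap (Localization.AtPrime P) _ (b : Localization.AtPrime P) *
        algebraMap (Localization.AtPrime P) _ (algebraMap C (Localization.AtPrime P) t) *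
        algebraMap (Localization.AtPrime P) _ (algebraMap C (Localization.AtPrime P) s) := by
      rw [hιL, map_mul, ← hb, map_mul, map_mul]
    have e2 : ιL (a₀ * t) = algebraMap (Localization.AtPrime P) _ a *
        algebraMap (Localization.AtPrime P) _ (algebraMap C (Localization.AtPrime P) s) *
        algebraMap (Localization.AtPrime P) _ (algebraMap C (Localization.AtPrime P) t) := by
      rw [hιL, map_mul, ← ha, map_mul, map_mul]
    rw [e1, e2, ← hab]
    ring
  have hb₁ : ιL (b₀ * s) ≠ 0 := by
    rw [hιL, map_mul, ← hb]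
    intro h
    have h1 := hinjL (h.trans (map_zero _).symm)
    have h2 : (b : Localization.AtPrime P) = 0 := by
      have h3 : (b : Localization.AtPrime P) *
          (algebraMap C (Localization.AtPrime P) t *
            algebraMap C (Localization.AtPrime P) s) = 0 := by
        rw [← mul_assoc]; exact h1
      exact (ht.mul hs).mul_left_eq_zero.mp h3
    exact nonZeroDivisors.ne_zero b.2 h2
  set b₁ : K := algebraMap C K (b₀ * s) with hb₁def
  set a₁ : K := algebraMap C K (a₀ * t) with ha₁def
  have hb₁e : b₁ * e ≠ 0 := fun h => hb₁ ((hιL0 _).mpr h)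
  set β : K := b₁ * e + (1 - e) with hβ
  have h1e : e * (1 - e) = 0 := by rw [mul_sub, mul_one, hee, sub_self]
  have hβu : IsUnit β := by
    apply isUnit_of_mem_nonZeroDivisors_fractionRing R
    refine mem_nonZeroDivisors_iff_right.mpr ?_
    intro γ hγ
    have h1 : γ * b₁ * e = 0 := by
      have : γ * β * e = 0 := by rw [hγ, zero_mul]
      rw [hβ] at this
      linear_combination this + (γ - γ * b₁) * hee
    have h2 : γ * e = 0 := by
      rcases hD _ _ h1 with h | h
      · exact h
      · exact (hb₁e h).elim
    have h3 : γ * (1 - e) = 0 := by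
      have : γ * β * (1 - e) = 0 := by rw [hγ, zero_mul]
      rw [hβ] at this
      linear_combination this + (γ * b₁ - γ) * hee
    calc γ = γ * e + γ * (1 - e) := by ring
      _ = 0 := by rw [h2, h3, add_zero]
  obtain ⟨βu, hβu'⟩ := hβu
  set ω : K := a₁ * e * ((βu⁻¹ : Kˣ) : K) with hω
  have hωβ : ω * β = a₁ * e := by
    rw [hω, ← hβu', mul_assoc, Units.inv_mul, mul_one]
  have hωe : ω * e = ω := by
    rw [hω]
    calc a₁ * e * ((βu⁻¹ : Kˣ) : K) * e = a₁ * (e * e) * ((βu⁻¹ : Kˣ) : K) := by ring
      _ = a₁ * e * ((βu⁻¹ : Kˣ) : K) := by rw [hee]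
  have hθβ : θ β = ιL (b₀ * s) := by
    rw [hβ, map_add, map_mul, map_sub, map_one, hθe, sub_self, add_zero, mul_one]
    exact hθC _
  have hθω : θ ω = w' := by
    have h1 : θ ω * θ β = ιL (a₀ * t) := by
      rw [← map_mul, hωβ, map_mul, hθe, mul_one]
      exact hθC _
    rw [hθβ, ← hfrac] at h1
    exact mul_right_cancel₀ hb₁ h1
  -- integrality of `ω`
  have hωint : IsIntegral C ω := by
    obtain ⟨G, hGm, hG⟩ := hm
    refine ⟨Polynomial.X * G, Polynomial.monic_X.mul hGm, ?_⟩
    rw [Polynomial.eval₂_mul, Polynomial.eval₂_X]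
    have h1 : θ (Polynomial.eval₂ (algebraMap C K) ω G) = 0 := by
      rw [Polynomial.hom_eval₂, hθω]
      have : θ.comp (algebraMap C K) = ιL := RingHom.ext fun c => hθC c
      rw [this]
      exact hG
    have h2 := hθker _ h1
    calc ω * Polynomial.eval₂ (algebraMap C K) ω G
        = (ω * e) * Polynomial.eval₂ (algebraMap C K) ω G := by rw [hωe]
      _ = ω * (Polynomial.eval₂ (algebraMap C K) ω G * e) := by ring
      _ = 0 := by rw [h2, mul_zero]
  haveI : Algebra.IsIntegral R C := IsIntegralClosure.isIntegral_algebra R K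
  have hωR : IsIntegral R ω := isIntegral_trans (A := C) ω hωint
  let ωC : C := IsIntegralClosure.mk' C ω hωR
  have hωC : algebraMap C K ωC = ω := IsIntegralClosure.algebraMap_mk' C ω hωR
  have hw'eq : w' = ιL ωC := by rw [← hθω, ← hωC]; exact hθC ωC
  refine ⟨IsLocalization.mk' (Localization.AtPrime P) ωC m, ?_⟩
  have hmu : IsUnit (algebraMap C (Localization.AtPrime P) m) :=
    IsLocalization.map_units _ m
  have hmL : ιL m ≠ 0 := by
    rw [hιL]
    intro h
    exact hmu.ne_zero (hinjL (h.trans (map_zero _).symm))
  apply mul_right_cancel₀ hmL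
  rw [hιL, ← map_mul, IsLocalization.mk'_spec, ← hιL, ← hw'eq, hw', mul_comm, Submonoid.smul_def,
    Algebra.smul_def]
  rfl

theorem isDomain_and_isIntegrallyClosed_atPrime (hfin : (minimalPrimes R).Finite)
    (P : Ideal (integralClosure R K)) [hP : P.IsPrime] :
    IsDomain (Localization.AtPrime P) ∧ IsIntegrallyClosed (Localization.AtPrime P) :=
  isDomain_and_isIntegrallyClosed_atPrime' (R := R) (K := K) hfin P

end Main

end Groth.Agent.Lib.Helper3.NormRed
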