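import Mathlib

/-!
# Field-theoretic lemmas for geometric branches
-/

set_option autoImplicit false
set_option linter.style.haveILetI false
set_option linter.unusedSectionVars false
universe u

open IntermediateField

namespace Groth.Agent.Lib.Helper3.Branch

/-- If `Ω` is separable over `L` and algebraic over a separably closed field `k`, any subring of
`Ω` containing the images of `k` and `L` is everything. -/
theorem subring_eq_top_of_isSepClosed (k L Ω : Type*) [Field k] [Field L] [Field Ω] [Algebra k Ω]
    [Algebra L Ω] [IsSepClosed k] [Algebra.IsAlgebraic k Ω] [Algebra.IsSeparable L Ω]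
    (F : Subring Ω) (hk : ∀ x : k, algebraMap k Ω x ∈ F) (hL : ∀ x : L, algebraMap L Ω x ∈ F) :
    F = ⊤ := by
  rw [eq_top_iff]
  rintro x -
  let q := ringExpChar Ω
  haveI : ExpChar Ω q := ringExpChar.expChar Ω
  haveI : ExpChar k q := RingHom.expChar _ (algebraMap k Ω).injective q
  haveI : ExpChar L q := RingHom.expChar _ (algebraMap L Ω).injective q
  haveI : IsPurelyInseparable k Ω := inferInstance
  obtain ⟨n, y, hy⟩ := IsPurelyInseparable.pow_mem k q (x := x)
  have hsep : IsSeparable L x := Algebra.IsSeparable.isSeparable L x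
  have h1 := adjoin_simple_eq_adjoin_pow_expChar_pow_of_isSeparable L Ω hsep q n
  have hx : x ∈ L⟮x ^ q ^ n⟯ := h1 ▸ mem_adjoin_simple_self L x
  have halg : IsAlgebraic L (x ^ q ^ n) := (Algebra.IsSeparable.isAlgebraic L Ω).isAlgebraic _
  have hx' : x ∈ (L⟮x ^ q ^ n⟯).toSubalgebra := hx
  rw [adjoin_simple_toSubalgebra_of_isAlgebraic halg] at hx'
  let F' : Subalgebra L Ω := { F.toSubsemiring with algebraMap_mem' := hL }
  have hle : Algebra.adjoin L {x ^ q ^ n} ≤ F' := by
    apply Algebra.adjoin_le
    rintro z rfl
    change x ^ q ^ n ∈ F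
    rw [← hy]
    exact hk y
  exact hle hx'

/-- If `F` is generated as a ring by the images of `k` and `L`, where `k` is separable over a
common subfield `κ`, then `F` is separable over `L`. -/
theorem isSeparable_of_generated (κ k L F : Type*) [Field κ] [Field k] [Field L] [Field F]
    [Algebra κ k] [Algebra κ L] [Algebra κ F] [Algebra k F] [Algebra L F] [IsScalarTower κ k F]
    [IsScalarTower κ L F] [Algebra.IsSeparable κ k]
    (hgen : ∀ S : Subring F, (∀ x : k, algebraMap k F x ∈ S) → (∀ x : L, algebraMap L F x ∈ S) →
      S = ⊤) : Algebra.IsSeparable L F := by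
  have hk : ∀ x : k, algebraMap k F x ∈ (separableClosure L F).toSubalgebra.toSubring := by
    intro x
    change algebraMap k F x ∈ separableClosure L F
    rw [mem_separableClosure_iff]
    have h1 : IsSeparable κ x := Algebra.IsSeparable.isSeparable κ x
    have h2 : IsSeparable κ (algebraMap k F x) := by
      have := h1.map (IsScalarTower.toAlgHom κ k F) (algebraMap k F).injective
      exact this
    exact h2.tower_top L
  have hL : ∀ x : L, algebraMap L F x ∈ (separableClosure L F).toSubalgebra.toSubring :=
    fun x => (separableClosure L F).algebraMap_mem x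
  have htop := hgen _ hk hL
  refine ⟨fun x => ?_⟩
  have : x ∈ (separableClosure L F).toSubalgebra.toSubring := htop ▸ Subring.mem_top x
  exact mem_separableClosure_iff.mp this

/-- Ring-hom version of `isSeparable_of_generated`. -/
theorem isSeparable_of_generated' (κ k L F : Type*) [Field κ] [Field k] [Field L] [Field F]
    [Algebra κ k] [Algebra.IsSeparable κ k] (iL : κ →+* L) (ak : k →+* F) (aL : L →+* F)
    (hcomm : ak.comp (algebraMap κ k) = aL.comp iL)
    (hgen : ∀ S : Subring F, (∀ x : k, ak x ∈ S) → (∀ x : L, aL x ∈ S) → S = ⊤) :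
    letI := aL.toAlgebra
    Algebra.IsSeparable L F := by
  letI : Algebra L F := aL.toAlgebra
  letI : Algebra k F := ak.toAlgebra
  letI : Algebra κ L := iL.toAlgebra
  letI : Algebra κ F := (ak.comp (algebraMap κ k)).toAlgebra
  haveI : IsScalarTower κ k F := IsScalarTower.of_algebraMap_eq fun _ => rfl
  haveI : IsScalarTower κ L F := IsScalarTower.of_algebraMap_eq fun x =>
    DFunLike.congr_fun hcomm x
  exact isSeparable_of_generated κ k L F hgen

end Groth.Agent.Lib.Helper3.Branch
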