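import Mathlib
import Groth.Agent.Lib.Helper3.BranchCount
import Groth.Agent.Lib.Helper3.BranchField
import Groth.Agent.Lib.Helper3.SHensTensorAt
import Groth.Agent.S0537
import Groth.Agent.S2748
import Groth.Prelude.Def_Brnch

/-!
# Minimal primes versus maximal ideals: the strictly henselian case
-/

set_option autoImplicit false
set_option linter.style.haveILetI false
set_option linter.unusedSectionVars false
universe u

open TensorProduct IsLocalRing

namespace Groth.Agent.Lib.Helper3.Branch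

/-- A strict henselization of a local ring is a strict henselization at its maximal ideal. -/
theorem shensAt_of_isStrictHenselization_self (A S : Type u) [CommRing A] [IsLocalRing A]
    [CommRing S] [IsLocalRing S] [Algebra A S] [IsLocalHom (algebraMap A S)]
    [h : Hensel.IsStrictHenselization A S] :
    SHensAt A (maximalIdeal A) S (algebraMap A S) := by
  refine ⟨h.henselian, ?_, ?_⟩
  · exact ((local_hom_TFAE (algebraMap A S)).out 0 4 rfl rfl).mp inferInstance
  · intro T _ _ f τ hf hτ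
    haveI hloc : IsLocalHom f := ((local_hom_TFAE f).out 0 4 rfl rfl).mpr hf
    refine h.universal T f τ ?_
    refine RingHom.ext fun x => ?_
    obtain ⟨a, rfl⟩ := residue_surjective x
    rw [RingHom.comp_apply, ResidueField.map_residue, ResidueField.map_residue]
    exact hτ a

section Integral

variable (S : Type u) [CommRing S] [HenselianLocalRing S] (B : Type u) [CommRing B] [Algebra S B]
  [Algebra.IsIntegral S B]

include S

/-- Variant of `ker_le_of_hensAt` for strict henselizations with surjective residue field map. -/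
theorem ker_le_of_shensAt (M : Ideal B) [hM : M.IsMaximal] (D : Type u) [CommRing D]
    [IsLocalRing D] (φ : B →+* D) (hH : SHensAt B M D φ)
    (hsurj : ∀ d : D, ∃ b : B, d - φ b ∈ maximalIdeal D) (Q : Ideal B) [hQ : Q.IsPrime]
    (hQM : Q ≤ M) : RingHom.ker φ ≤ Q := by
  obtain ⟨hT, -, -⟩ := Groth.Agent.S1964.result S (B ⧸ Q)
  haveI := hT
  have hsurjQ : Function.Surjective (Ideal.Quotient.mk Q) := Ideal.Quotient.mk_surjective
  have hcomap : (maximalIdeal (B ⧸ Q)).comap (Ideal.Quotient.mk Q) = M := by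
    obtain ⟨M₀, -, huniq⟩ := existsUnique_isMaximal_ge S B Q
    have h1 := huniq M ⟨hM, hQM⟩
    have h2 := huniq ((maximalIdeal (B ⧸ Q)).comap (Ideal.Quotient.mk Q))
      ⟨Ideal.comap_isMaximal_of_surjective _ hsurjQ, by
        intro x hx
        rw [Ideal.mem_comap, Ideal.Quotient.eq_zero_iff_mem.mpr hx]
        exact Ideal.zero_mem _⟩
    rw [h1, h2]
  let ψ : B →+* ResidueField D := (residue D).comp φ
  have hψ : Function.Surjective ψ := by
    intro y
    obtain ⟨d, rfl⟩ := residue_surjective y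
    obtain ⟨b, hb⟩ := hsurj d
    refine ⟨b, ?_⟩
    change residue D (φ b) = residue D d
    symm
    rw [← sub_eq_zero, ← map_sub, residue_eq_zero_iff]
    exact hb
  let χ : B →+* ResidueField (B ⧸ Q) := (residue (B ⧸ Q)).comp (Ideal.Quotient.mk Q)
  have hker : RingHom.ker ψ ≤ RingHom.ker χ := by
    intro x hx
    rw [RingHom.mem_ker] at hx ⊢
    have h1 : φ x ∈ maximalIdeal D := (residue_eq_zero_iff _).mp hx
    have h2 : x ∈ (maximalIdeal D).comap φ := h1
    rw [hH.comap_eq, ← hcomap] at h2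
    exact (residue_eq_zero_iff _).mpr h2
  let τ : ResidueField D →+* ResidueField (B ⧸ Q) := ψ.liftOfSurjective hψ ⟨χ, hker⟩
  have hτ : ∀ a : B, τ (residue D (φ a)) = residue (B ⧸ Q) (Ideal.Quotient.mk Q a) :=
    fun a => ψ.liftOfSurjective_comp_apply hψ ⟨χ, hker⟩ a
  obtain ⟨g, ⟨hg, -⟩, -⟩ := hH.universal (B ⧸ Q) (Ideal.Quotient.mk Q) τ hcomap hτ
  intro x hx
  rw [RingHom.mem_ker] at hx
  have : Ideal.Quotient.mk Q x = g (φ x) := (DFunLike.congr_fun hg x).symm
  rw [hx, map_zero] at this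
  exact Ideal.Quotient.eq_zero_iff_mem.mp this

theorem existsUnique_minimalPrimes_le_of_shensAt (M : Ideal B) [hM : M.IsMaximal] (D : Type u)
    [CommRing D] [IsLocalRing D] [IsDomain D] (φ : B →+* D) (hH : SHensAt B M D φ)
    (hsurj : ∀ d : D, ∃ b : B, d - φ b ∈ maximalIdeal D) :
    ∃! Q : Ideal B, Q ∈ minimalPrimes B ∧ Q ≤ M := by
  obtain ⟨Q, hQ, hQM⟩ := Ideal.exists_minimalPrimes_le (I := ⊥) (J := M) bot_le
  have hker : (RingHom.ker φ).IsPrime := RingHom.ker_isPrime φ
  have key : ∀ Q' : Ideal B, Q' ∈ minimalPrimes B → Q' ≤ M → Q' = RingHom.ker φ := by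
    intro Q' hQ' hQ'M
    haveI : Q'.IsPrime := hQ'.1.1
    have hle := ker_le_of_shensAt S B M D φ hH hsurj Q' hQ'M
    exact le_antisymm (hQ'.2 ⟨hker, bot_le⟩ hle) hle
  refine ⟨Q, ⟨hQ, hQM⟩, ?_⟩
  rintro Q' ⟨hQ', hQ'M⟩
  rw [key Q' hQ' hQ'M, key Q hQ hQM]

end Integral

section Local

variable (A S : Type u) [CommRing A] [IsLocalRing A] [CommRing S] [IsLocalRing S] [Algebra A S]
  [IsLocalHom (algebraMap A S)]
  (A' : Type u) [CommRing A'] [Algebra A A'] [Algebra.IsIntegral A A']

theorem comap_algebraMap_of_isMaximal' (M : Ideal (S ⊗[A] A')) [hM : M.IsMaximal] :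
    M.comap (algebraMap S (S ⊗[A] A')) = maximalIdeal S :=
  IsLocalRing.eq_maximalIdeal (Ideal.isMaximal_comap_of_isIntegral_of_isMaximal M)

theorem inclR_comp_algebraMap :
    (inclR A S A').comp (algebraMap A A') = (algebraMap S (S ⊗[A] A')).comp (algebraMap A S) := by
  ext a
  change (1 : S) ⊗ₜ[A] (algebraMap A A' a) = (algebraMap A S a) ⊗ₜ[A] (1 : A')
  rw [Algebra.algebraMap_eq_smul_one, Algebra.algebraMap_eq_smul_one (A := S),
    TensorProduct.smul_tmul]

theorem isMaximal_comap_inclR' (M : Ideal (S ⊗[A] A')) [hM : M.IsMaximal] :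
    (M.comap (inclR A S A')).IsMaximal := by
  have hS : (maximalIdeal S).comap (algebraMap A S) = maximalIdeal A :=
    ((local_hom_TFAE (algebraMap A S)).out 0 4 rfl rfl).mp inferInstance
  have h1 : (M.comap (inclR A S A')).comap (algebraMap A A') = maximalIdeal A := by
    rw [Ideal.comap_comap, inclR_comp_algebraMap, ← Ideal.comap_comap,
      comap_algebraMap_of_isMaximal' A S A' M, hS]
  haveI : (M.comap (inclR A S A')).IsPrime := Ideal.comap_isPrime _ _
  apply Ideal.isMaximal_of_isIntegral_of_isMaximal_comap (R := A)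
  rw [h1]
  exact maximalIdeal.isMaximal A

end Local

section Strict

variable (A Ash : Type u) [CommRing A] [IsLocalRing A] [CommRing Ash] [IsLocalRing Ash]
  [Algebra A Ash] [IsLocalHom (algebraMap A Ash)] [Hensel.IsStrictHenselization A Ash]
  (A' : Type u) [CommRing A'] [Algebra A A'] [Algebra.IsIntegral A A']

/-- Every maximal ideal of `Ash ⊗[A] A'` whose contraction to `A'` has a normal local ring
contains exactly one minimal prime. -/
theorem existsUnique_minimalPrimes_le_strict (M : Ideal (Ash ⊗[A] A')) [hM : M.IsMaximal]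
    (hN : IsDomain (Localization.AtPrime (M.comap (inclR A Ash A'))) ∧
      IsIntegrallyClosed (Localization.AtPrime (M.comap (inclR A Ash A')))) :
    ∃! Q : Ideal (Ash ⊗[A] A'), Q ∈ minimalPrimes (Ash ⊗[A] A') ∧ Q ≤ M := by
  haveI : HenselianLocalRing Ash := Hensel.IsStrictHenselization.henselian A
  haveI hm'max := isMaximal_comap_inclR' A Ash A' M
  have hMS := comap_algebraMap_of_isMaximal' A Ash A' M
  set m' : Ideal A' := M.comap (inclR A Ash A') with hm'
  have hq : m'.comap (algebraMap A A') = maximalIdeal A :=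
    IsLocalRing.eq_maximalIdeal (Ideal.isMaximal_comap_of_isIntegral_of_isMaximal m')
  obtain ⟨Sh', _, _, _, _, hH⟩ := Groth.Agent.S0537.result (Localization.AtPrime m')
  obtain ⟨hdom, -⟩ := (Groth.Agent.S2748.result (Localization.AtPrime m') Sh').mpr hN
  haveI : HenselianLocalRing Sh' := hH.henselian
  let ιS : A' →+* Sh' := (algebraMap (Localization.AtPrime m') Sh').comp
    (algebraMap A' (Localization.AtPrime m'))
  have hS : SHensAt A' m' Sh' ιS := SHensAt.of_isStrictHenselization A' m' Sh'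
  -- the residue field of `M`
  letI : Field ((Ash ⊗[A] A') ⧸ M) := Ideal.Quotient.field M
  let χ : Ash ⊗[A] A' →+* (Ash ⊗[A] A') ⧸ M := Ideal.Quotient.mk M
  have hχ0 : ∀ b, χ b = 0 ↔ b ∈ M := fun b => Ideal.Quotient.eq_zero_iff_mem
  -- `k → F`
  have hkerk : RingHom.ker (residue Ash) ≤
      RingHom.ker (χ.comp (algebraMap Ash (Ash ⊗[A] A'))) := by
    intro s hs
    rw [ker_residue, ← hMS] at hs
    rw [RingHom.mem_ker, RingHom.comp_apply, hχ0]
    exact hs
  let ak : ResidueField Ash →+* (Ash ⊗[A] A') ⧸ M :=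
    (residue Ash).liftOfSurjective residue_surjective
      ⟨χ.comp (algebraMap Ash (Ash ⊗[A] A')), hkerk⟩
  have hak : ∀ s : Ash, ak (residue Ash s) = χ (s ⊗ₜ 1) := fun s =>
    (residue Ash).liftOfSurjective_comp_apply residue_surjective
      ⟨χ.comp (algebraMap Ash (Ash ⊗[A] A')), hkerk⟩ s
  -- `L → F`
  let πL : A' →+* m'.ResidueField := algebraMap A' m'.ResidueField
  have hπL : Function.Surjective πL := Ideal.algebraMap_residueField_surjective m'
  have hkerL : RingHom.ker πL ≤ RingHom.ker (χ.comp (inclR A Ash A')) := by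
    intro a ha
    rw [Ideal.ker_algebraMap_residueField] at ha
    rw [RingHom.mem_ker, RingHom.comp_apply, hχ0]
    exact ha
  let aL : m'.ResidueField →+* (Ash ⊗[A] A') ⧸ M :=
    πL.liftOfSurjective hπL ⟨χ.comp (inclR A Ash A'), hkerL⟩
  have haL : ∀ a : A', aL (πL a) = χ (1 ⊗ₜ a) := fun a =>
    πL.liftOfSurjective_comp_apply hπL ⟨χ.comp (inclR A Ash A'), hkerL⟩ a
  -- `κ → L`
  have hkerκ : RingHom.ker (residue A) ≤ RingHom.ker (πL.comp (algebraMap A A')) := by
    intro a ha
    rw [ker_residue, ← hq] at ha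
    rw [RingHom.mem_ker, RingHom.comp_apply]
    have h1 : algebraMap A A' a ∈ RingHom.ker πL := by
      rw [Ideal.ker_algebraMap_residueField]; exact ha
    exact h1
  let iL : ResidueField A →+* m'.ResidueField :=
    (residue A).liftOfSurjective residue_surjective ⟨πL.comp (algebraMap A A'), hkerκ⟩
  have hiL : ∀ a : A, iL (residue A a) = πL (algebraMap A A' a) := fun a =>
    (residue A).liftOfSurjective_comp_apply residue_surjective
      ⟨πL.comp (algebraMap A A'), hkerκ⟩ a
  have hswap : ∀ a : A, (algebraMap A Ash a) ⊗ₜ[A] (1 : A') = (1 : Ash) ⊗ₜ[A] algebraMap A A' a := by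
    intro a
    rw [Algebra.algebraMap_eq_smul_one, Algebra.algebraMap_eq_smul_one (A := A'),
      TensorProduct.smul_tmul]
  have hcomm : ak.comp (algebraMap (ResidueField A) (ResidueField Ash)) = aL.comp iL := by
    refine RingHom.ext fun x => ?_
    obtain ⟨a, rfl⟩ := residue_surjective x
    rw [RingHom.comp_apply, RingHom.comp_apply, ResidueField.algebraMap_residue, hak, hiL, haL,
      hswap]
  have hgen : ∀ S : Subring ((Ash ⊗[A] A') ⧸ M), (∀ x, ak x ∈ S) → (∀ x, aL x ∈ S) → S = ⊤ := by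
    intro S hk hL
    rw [eq_top_iff]
    rintro x -
    obtain ⟨b, rfl⟩ := Ideal.Quotient.mk_surjective x
    change χ b ∈ S
    induction b using TensorProduct.induction_on with
    | zero => rw [map_zero]; exact S.zero_mem
    | tmul s a =>
      have : s ⊗ₜ[A] a = (s ⊗ₜ 1) * (1 ⊗ₜ a) := by
        rw [Algebra.TensorProduct.tmul_mul_tmul, mul_one, one_mul]
      rw [this, map_mul, ← hak, ← haL]
      exact S.mul_mem (hk _) (hL _)
    | add x y hx hy => rw [map_add]; exact S.add_mem hx hy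
  haveI hsepκ : Algebra.IsSeparable (ResidueField A) (ResidueField Ash) :=
    (Hensel.IsStrictHenselization.isSepClosure (R := A) (S := Ash)).separable
  letI : Algebra m'.ResidueField ((Ash ⊗[A] A') ⧸ M) := aL.toAlgebra
  haveI hsepF : Algebra.IsSeparable m'.ResidueField ((Ash ⊗[A] A') ⧸ M) :=
    isSeparable_of_generated' (ResidueField A) (ResidueField Ash) m'.ResidueField
      ((Ash ⊗[A] A') ⧸ M) iL ak aL hcomm hgen
  -- the embedding into the residue field of `Sh'`
  have hsc : IsSepClosure m'.ResidueField (ResidueField Sh') :=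
    Hensel.IsStrictHenselization.isSepClosure (R := Localization.AtPrime m') (S := Sh')
  haveI : IsSepClosed (ResidueField Sh') := hsc.sep_closed
  haveI : Algebra.IsSeparable m'.ResidueField (ResidueField Sh') := hsc.separable
  let j : (Ash ⊗[A] A') ⧸ M →ₐ[m'.ResidueField] ResidueField Sh' := IsSepClosed.lift
  have hjL : ∀ a : A', j (χ (1 ⊗ₜ a)) = residue Sh' (ιS a) := by
    intro a
    rw [← haL]
    exact j.commutes (πL a)
  let τ₀ : ResidueField Ash →+* ResidueField Sh' := (j : _ →+* ResidueField Sh').comp ak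
  let f₀ : A →+* Sh' := ιS.comp (algebraMap A A')
  have hf₀ : (maximalIdeal Sh').comap f₀ = maximalIdeal A := by
    rw [← Ideal.comap_comap, hS.comap_eq, hq]
  haveI hloc : IsLocalHom f₀ := ((local_hom_TFAE f₀).out 0 4 rfl rfl).mpr hf₀
  have hτ₀ : τ₀.comp (ResidueField.map (algebraMap A Ash)) = ResidueField.map f₀ := by
    refine RingHom.ext fun x => ?_
    obtain ⟨a, rfl⟩ := residue_surjective x
    rw [RingHom.comp_apply, ResidueField.map_residue, ResidueField.map_residue]
    change j (ak (residue Ash (algebraMap A Ash a))) = _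
    rw [hak, hswap, hjL]
    rfl
  obtain ⟨v, ⟨hv1, hv2⟩, -⟩ :=
    Hensel.IsStrictHenselization.universal (R := A) (S := Ash) Sh' f₀ τ₀ hτ₀
  haveI hvloc : IsLocalHom v := by
    refine ⟨fun s hs => ?_⟩
    by_contra hns
    have h1 : residue Ash s = 0 := (residue_eq_zero_iff _).mpr ((mem_maximalIdeal s).mpr hns)
    have h2 : residue Sh' (v s) = 0 := by rw [hv2, h1, map_zero]
    exact ((residue_eq_zero_iff _).mp h2) hs
  letI : Algebra A Sh' := f₀.toAlgebra
  let vA : Ash →ₐ[A] Sh' := { v with commutes' := fun r => DFunLike.congr_fun hv1 r }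
  let ιSA : A' →ₐ[A] Sh' := { ιS with commutes' := fun r => rfl }
  let φ : Ash ⊗[A] A' →ₐ[A] Sh' :=
    Algebra.TensorProduct.lift vA ιSA (fun _ _ => Commute.all _ _)
  have hφt : ∀ s r, φ (s ⊗ₜ r) = v s * ιS r := fun s r =>
    Algebra.TensorProduct.lift_tmul _ _ _ s r
  have hφS : ∀ r, (φ : Ash ⊗[A] A' →+* Sh') (1 ⊗ₜ r) = ιS r := by
    intro r
    change φ (1 ⊗ₜ r) = ιS r
    rw [hφt, map_one, one_mul]
  have hφv : ∀ y, (φ : Ash ⊗[A] A' →+* Sh') (y ⊗ₜ 1) = v y := by
    intro y
    change φ (y ⊗ₜ 1) = v y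
    rw [hφt, map_one, mul_one]
  -- `res ∘ φ = j ∘ χ`
  have key : ∀ b : Ash ⊗[A] A', residue Sh' (φ b) = j (χ b) := by
    intro b
    induction b using TensorProduct.induction_on with
    | zero => simp
    | tmul s a =>
      have : s ⊗ₜ[A] a = (s ⊗ₜ 1) * (1 ⊗ₜ a) := by
        rw [Algebra.TensorProduct.tmul_mul_tmul, mul_one, one_mul]
      rw [hφt, map_mul, this, map_mul, map_mul, hjL, hv2]
      congr 1
      change j (ak (residue Ash s)) = _
      rw [hak]
    | add x y hx hy => rw [map_add, map_add, map_add, map_add, hx, hy]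
  have hcomap : (maximalIdeal Sh').comap (φ : Ash ⊗[A] A' →+* Sh') = M := by
    ext b
    rw [Ideal.mem_comap]
    change φ b ∈ maximalIdeal Sh' ↔ _
    have hjinj : Function.Injective j :=
      RingHom.injective (j : (Ash ⊗[A] A') ⧸ M →+* ResidueField Sh')
    rw [← residue_eq_zero_iff, key, map_eq_zero_iff j hjinj, hχ0]
  have hH' := SHensAt.tensor A A' (maximalIdeal A) m' hq Ash
    (shensAt_of_isStrictHenselization_self A Ash) Sh' ιS hS (φ : Ash ⊗[A] A' →+* Sh') hφS v hφv
  rw [hcomap] at hH'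
  -- surjectivity on residue fields
  have hjsurj : Function.Surjective j := by
    letI : Algebra (ResidueField Ash) ((Ash ⊗[A] A') ⧸ M) := ak.toAlgebra
    haveI : Algebra.IsAlgebraic (ResidueField Ash) ((Ash ⊗[A] A') ⧸ M) := by
      refine ⟨fun x => ?_⟩
      obtain ⟨b, rfl⟩ := Ideal.Quotient.mk_surjective x
      obtain ⟨p, hp, hpb⟩ := Algebra.IsIntegral.isIntegral (R := Ash) b
      apply IsIntegral.isAlgebraic
      refine ⟨p.map (residue Ash), hp.map _, ?_⟩
      rw [Polynomial.eval₂_map]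
      have h1 : (algebraMap (ResidueField Ash) ((Ash ⊗[A] A') ⧸ M)).comp (residue Ash) =
          χ.comp (algebraMap Ash (Ash ⊗[A] A')) := by
        refine RingHom.ext fun s => ?_
        exact hak s
      rw [h1]
      change Polynomial.eval₂ (χ.comp (algebraMap Ash (Ash ⊗[A] A'))) (χ b) p = 0
      rw [← Polynomial.hom_eval₂, hpb, map_zero]
    haveI : IsSepClosed (ResidueField Ash) :=
      (Hensel.IsStrictHenselization.isSepClosure (R := A) (S := Ash)).sep_closed
    haveI : IsSepClosed ((Ash ⊗[A] A') ⧸ M) :=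
      Algebra.IsAlgebraic.isSepClosed (F := ResidueField Ash)
    letI : Algebra ((Ash ⊗[A] A') ⧸ M) (ResidueField Sh') := (j : _ →+* ResidueField Sh').toAlgebra
    haveI : IsScalarTower m'.ResidueField ((Ash ⊗[A] A') ⧸ M) (ResidueField Sh') :=
      IsScalarTower.of_algebraMap_eq fun x => (j.commutes x).symm
    haveI : Algebra.IsSeparable ((Ash ⊗[A] A') ⧸ M) (ResidueField Sh') :=
      Algebra.isSeparable_tower_top_of_isSeparable m'.ResidueField _ _
    exact IsSepClosed.algebraMap_surjective ((Ash ⊗[A] A') ⧸ M) (ResidueField Sh')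
  have hsurj : ∀ d : Sh', ∃ b : Ash ⊗[A] A', d - (φ : Ash ⊗[A] A' →+* Sh') b ∈
      maximalIdeal Sh' := by
    intro d
    obtain ⟨x, hx⟩ := hjsurj (residue Sh' d)
    obtain ⟨b, rfl⟩ := Ideal.Quotient.mk_surjective x
    refine ⟨b, ?_⟩
    rw [← residue_eq_zero_iff, map_sub, sub_eq_zero]
    change _ = residue Sh' (φ b)
    rw [key]
    exact hx.symm
  exact existsUnique_minimalPrimes_le_of_shensAt Ash (Ash ⊗[A] A') M Sh' _ hH' hsurj

/-- **Minimal primes and maximal ideals of `Ash ⊗[A] A'`**, for `Ash` the strict henselization of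
`A` and `A'` integral over `A` with normal local rings at maximal ideals. -/
theorem minimalPrimes_maximal_unique_strict
    (hN : ∀ (m' : Ideal A') [m'.IsMaximal],
      IsDomain (Localization.AtPrime m') ∧ IsIntegrallyClosed (Localization.AtPrime m')) :
    (∀ Q ∈ minimalPrimes (Ash ⊗[A] A'), ∃! M : Ideal (Ash ⊗[A] A'), M.IsMaximal ∧ Q ≤ M) ∧
    (∀ M : Ideal (Ash ⊗[A] A'), M.IsMaximal →
      ∃! Q : Ideal (Ash ⊗[A] A'), Q ∈ minimalPrimes (Ash ⊗[A] A') ∧ Q ≤ M) := by
  haveI : HenselianLocalRing Ash := Hensel.IsStrictHenselization.henselian A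
  refine ⟨fun Q hQ => ?_, fun M hM => ?_⟩
  · haveI : Q.IsPrime := hQ.1.1
    exact existsUnique_isMaximal_ge Ash (Ash ⊗[A] A') Q
  · haveI := hM
    haveI := isMaximal_comap_inclR' A Ash A' M
    exact existsUnique_minimalPrimes_le_strict A Ash A' M (hN _)

end Strict

section Count

variable (A Ash : Type u) [CommRing A] [IsLocalRing A] [CommRing Ash] [IsLocalRing Ash]
  [Algebra A Ash] [IsLocalHom (algebraMap A Ash)] [Hensel.IsStrictHenselization A Ash]
  (A' : Type u) [CommRing A'] [Algebra A A'] [Algebra.IsIntegral A A']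

/-- Ring maps `A' → κ̄` compatible with the canonical map `A → κ̄`. -/
abbrev ClosureHom : Type u :=
  {ρ : A' →+* AlgebraicClosure (ResidueField A) // ρ.comp (algebraMap A A') = Brnch.toClosure A}

/-- Maximal ideals of `A'` together with an embedding of the residue field. -/
abbrev EmbSigma : Type u :=
  Σ m' : MaximalSpectrum A', {σ : A' ⧸ m'.asIdeal →+* AlgebraicClosure (ResidueField A) //
    σ.comp ((Ideal.Quotient.mk m'.asIdeal).comp (algebraMap A A')) = Brnch.toClosure A}

theorem ker_toClosure : RingHom.ker (Brnch.toClosure A) = maximalIdeal A := by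
  ext a
  rw [RingHom.mem_ker]
  change algebraMap (ResidueField A) (AlgebraicClosure (ResidueField A)) (residue A a) = 0 ↔ _
  rw [map_eq_zero_iff _ (algebraMap (ResidueField A) (AlgebraicClosure (ResidueField A))).injective,
    residue_eq_zero_iff]

theorem isMaximal_ker_of_closureHom (ρ : ClosureHom A A') : (RingHom.ker ρ.1).IsMaximal := by
  haveI : (RingHom.ker ρ.1).IsPrime := RingHom.ker_isPrime ρ.1
  apply Ideal.isMaximal_of_isIntegral_of_isMaximal_comap (R := A)
  have : (RingHom.ker ρ.1).comap (algebraMap A A') = maximalIdeal A := by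
    have h2 := ρ.2
    rw [← ker_toClosure, RingHom.comap_ker]
    exact congrArg RingHom.ker h2
  rw [this]
  exact maximalIdeal.isMaximal A

/-- `EmbSigma` is in bijection with `ClosureHom`. -/
theorem nonempty_equiv_embSigma_closureHom : Nonempty (EmbSigma A A' ≃ ClosureHom A A') := by
  let F : EmbSigma A A' → ClosureHom A A' := fun x =>
    ⟨x.2.1.comp (Ideal.Quotient.mk x.1.asIdeal), by
      rw [RingHom.comp_assoc]; exact x.2.2⟩
  have hker : ∀ x : EmbSigma A A', RingHom.ker (F x).1 = x.1.asIdeal := by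
    intro x
    haveI := x.1.isMaximal
    letI : Field (A' ⧸ x.1.asIdeal) := Ideal.Quotient.field _
    ext a
    rw [RingHom.mem_ker]
    change x.2.1 (Ideal.Quotient.mk x.1.asIdeal a) = 0 ↔ _
    rw [map_eq_zero_iff _ x.2.1.injective, Ideal.Quotient.eq_zero_iff_mem]
  refine ⟨Equiv.ofBijective F ⟨?_, ?_⟩⟩
  · rintro ⟨m₁, σ₁⟩ ⟨m₂, σ₂⟩ h
    have hm : m₁ = m₂ := by
      apply MaximalSpectrum.ext
      rw [← hker ⟨m₁, σ₁⟩, ← hker ⟨m₂, σ₂⟩, h]
    subst hm
    congr 1
    apply Subtype.ext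
    apply Ideal.Quotient.ringHom_ext
    exact congrArg Subtype.val h
  · intro ρ
    haveI hmax := isMaximal_ker_of_closureHom A A' ρ
    refine ⟨⟨⟨RingHom.ker ρ.1, hmax⟩,
      ⟨Ideal.Quotient.lift _ ρ.1 (fun a ha => RingHom.mem_ker.mp ha), ?_⟩⟩, ?_⟩
    · refine Eq.trans ?_ ρ.2
      ext a
      rfl
    · apply Subtype.ext
      ext a
      rfl

/-- The maximal ideals of `Ash ⊗[A] A'` correspond to ring maps `A' → κ̄` over `A`. -/
theorem nonempty_equiv_closureHom_maximalSpectrum :
    Nonempty (ClosureHom A A' ≃ MaximalSpectrum (Ash ⊗[A] A')) := by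
  haveI hsepκ : Algebra.IsSeparable (ResidueField A) (ResidueField Ash) :=
    (Hensel.IsStrictHenselization.isSepClosure (R := A) (S := Ash)).separable
  haveI : Algebra.IsAlgebraic (ResidueField A) (ResidueField Ash) :=
    Algebra.IsSeparable.isAlgebraic _ _
  haveI : IsSepClosed (ResidueField Ash) :=
    (Hensel.IsStrictHenselization.isSepClosure (R := A) (S := Ash)).sep_closed
  -- fix an embedding of the residue field of `Ash`
  let ε : ResidueField Ash →ₐ[ResidueField A] AlgebraicClosure (ResidueField A) := IsAlgClosed.lift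
  let ε' : Ash →+* AlgebraicClosure (ResidueField A) :=
    (ε : ResidueField Ash →+* AlgebraicClosure (ResidueField A)).comp (residue Ash)
  have hε' : ε'.comp (algebraMap A Ash) = Brnch.toClosure A := by
    ext a
    change ε (residue Ash (algebraMap A Ash a)) = _
    rw [← ResidueField.algebraMap_residue, ε.commutes]
    rfl
  have hkerε' : RingHom.ker ε' = maximalIdeal Ash := by
    ext s
    rw [RingHom.mem_ker]
    change ε (residue Ash s) = 0 ↔ _
    have hεinj : Function.Injective ε :=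
      RingHom.injective (ε : ResidueField Ash →+* AlgebraicClosure (ResidueField A))
    rw [map_eq_zero_iff ε hεinj, residue_eq_zero_iff]
  letI : Algebra A (AlgebraicClosure (ResidueField A)) := (Brnch.toClosure A).toAlgebra
  let ε'A : Ash →ₐ[A] AlgebraicClosure (ResidueField A) :=
    { ε' with commutes' := fun r => DFunLike.congr_fun hε' r }
  -- the ring map attached to `ρ`
  let θ : ClosureHom A A' → (Ash ⊗[A] A' →ₐ[A] AlgebraicClosure (ResidueField A)) := fun ρ =>
    Algebra.TensorProduct.lift ε'A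
      { ρ.1 with commutes' := fun r => DFunLike.congr_fun ρ.2 r } (fun _ _ => Commute.all _ _)
  have hθ : ∀ ρ s a, θ ρ (s ⊗ₜ a) = ε' s * ρ.1 a := fun ρ s a =>
    Algebra.TensorProduct.lift_tmul _ _ _ s a
  have hθmax : ∀ ρ, (RingHom.ker (θ ρ).toRingHom).IsMaximal := by
    intro ρ
    haveI : (RingHom.ker (θ ρ).toRingHom).IsPrime := RingHom.ker_isPrime _
    apply Ideal.isMaximal_of_isIntegral_of_isMaximal_comap (R := Ash)
    have : (RingHom.ker (θ ρ).toRingHom).comap (algebraMap Ash (Ash ⊗[A] A')) =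
        maximalIdeal Ash := by
      rw [← hkerε', RingHom.comap_ker]
      congr 1
      ext s
      change θ ρ (s ⊗ₜ 1) = ε' s
      rw [hθ, map_one, mul_one]
    rw [this]
    exact maximalIdeal.isMaximal Ash
  let Ψ : ClosureHom A A' → MaximalSpectrum (Ash ⊗[A] A') := fun ρ =>
    ⟨RingHom.ker (θ ρ).toRingHom, hθmax ρ⟩
  -- the residue field of a maximal ideal is purely inseparable over that of `Ash`
  have hfield : ∀ (M : Ideal (Ash ⊗[A] A')) [M.IsMaximal],
      ∃ ak : ResidueField Ash →+* (Ash ⊗[A] A') ⧸ M,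
        (∀ s : Ash, ak (residue Ash s) = Ideal.Quotient.mk M (s ⊗ₜ 1)) ∧
        letI : Field ((Ash ⊗[A] A') ⧸ M) := Ideal.Quotient.field M
        letI := ak.toAlgebra
        Algebra.IsAlgebraic (ResidueField Ash) ((Ash ⊗[A] A') ⧸ M) := by
    intro M hM
    letI : Field ((Ash ⊗[A] A') ⧸ M) := Ideal.Quotient.field M
    have hMS := comap_algebraMap_of_isMaximal' A Ash A' M
    let χ : Ash ⊗[A] A' →+* (Ash ⊗[A] A') ⧸ M := Ideal.Quotient.mk M
    have hkerk : RingHom.ker (residue Ash) ≤
        RingHom.ker (χ.comp (algebraMap Ash (Ash ⊗[A] A'))) := by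
      intro s hs
      rw [ker_residue, ← hMS] at hs
      rw [RingHom.mem_ker, RingHom.comp_apply]
      exact Ideal.Quotient.eq_zero_iff_mem.mpr hs
    let ak : ResidueField Ash →+* (Ash ⊗[A] A') ⧸ M :=
      (residue Ash).liftOfSurjective residue_surjective
        ⟨χ.comp (algebraMap Ash (Ash ⊗[A] A')), hkerk⟩
    have hak : ∀ s : Ash, ak (residue Ash s) = χ (s ⊗ₜ 1) := fun s =>
      (residue Ash).liftOfSurjective_comp_apply residue_surjective
        ⟨χ.comp (algebraMap Ash (Ash ⊗[A] A')), hkerk⟩ s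
    refine ⟨ak, hak, ?_⟩
    letI : Algebra (ResidueField Ash) ((Ash ⊗[A] A') ⧸ M) := ak.toAlgebra
    refine ⟨fun x => ?_⟩
    obtain ⟨b, rfl⟩ := Ideal.Quotient.mk_surjective x
    obtain ⟨p, hp, hpb⟩ := Algebra.IsIntegral.isIntegral (R := Ash) b
    apply IsIntegral.isAlgebraic
    refine ⟨p.map (residue Ash), hp.map _, ?_⟩
    rw [Polynomial.eval₂_map]
    have h1 : (algebraMap (ResidueField Ash) ((Ash ⊗[A] A') ⧸ M)).comp (residue Ash) =
        χ.comp (algebraMap Ash (Ash ⊗[A] A')) := by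
      refine RingHom.ext fun s => ?_
      exact hak s
    rw [h1]
    change Polynomial.eval₂ (χ.comp (algebraMap Ash (Ash ⊗[A] A'))) (χ b) p = 0
    rw [← Polynomial.hom_eval₂, hpb, map_zero]
  letI : Algebra (ResidueField Ash) (AlgebraicClosure (ResidueField A)) :=
    (ε : ResidueField Ash →+* _).toAlgebra
  refine ⟨Equiv.ofBijective Ψ ⟨?_, ?_⟩⟩
  · -- injectivity
    intro ρ₁ ρ₂ h
    have hker : RingHom.ker (θ ρ₁).toRingHom = RingHom.ker (θ ρ₂).toRingHom :=
      congrArg MaximalSpectrum.asIdeal h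
    set M := RingHom.ker (θ ρ₁).toRingHom with hM
    haveI : M.IsMaximal := hθmax ρ₁
    obtain ⟨ak, hak, halg⟩ := hfield M
    letI : Field ((Ash ⊗[A] A') ⧸ M) := Ideal.Quotient.field M
    letI : Algebra (ResidueField Ash) ((Ash ⊗[A] A') ⧸ M) := ak.toAlgebra
    haveI := halg
    haveI : IsPurelyInseparable (ResidueField Ash) ((Ash ⊗[A] A') ⧸ M) := inferInstance
    let l₁ : (Ash ⊗[A] A') ⧸ M →+* AlgebraicClosure (ResidueField A) :=
      Ideal.Quotient.lift M (θ ρ₁).toRingHom (fun b hb => hb)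
    let l₂ : (Ash ⊗[A] A') ⧸ M →+* AlgebraicClosure (ResidueField A) :=
      Ideal.Quotient.lift M (θ ρ₂).toRingHom (fun b hb => by
        rw [hker] at hb; exact hb)
    have hl : ∀ (ρ : ClosureHom A A') (l : (Ash ⊗[A] A') ⧸ M →+* _),
        (∀ b, l (Ideal.Quotient.mk M b) = θ ρ b) →
        ∀ x : ResidueField Ash, l (algebraMap _ _ x) = algebraMap _ _ x := by
      intro ρ l hl x
      obtain ⟨s, rfl⟩ := residue_surjective x
      change l (ak (residue Ash s)) = ε (residue Ash s)
      rw [hak, hl, hθ, map_one, mul_one]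
      rfl
    let L₁ : (Ash ⊗[A] A') ⧸ M →ₐ[ResidueField Ash] AlgebraicClosure (ResidueField A) :=
      { l₁ with commutes' := hl ρ₁ l₁ (fun b => rfl) }
    let L₂ : (Ash ⊗[A] A') ⧸ M →ₐ[ResidueField Ash] AlgebraicClosure (ResidueField A) :=
      { l₂ with commutes' := hl ρ₂ l₂ (fun b => rfl) }
    have hL : L₁ = L₂ := Subsingleton.elim _ _
    apply Subtype.ext
    ext a
    have h1 : θ ρ₁ (1 ⊗ₜ a) = θ ρ₂ (1 ⊗ₜ a) := by
      have := DFunLike.congr_fun hL (Ideal.Quotient.mk M (1 ⊗ₜ a))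
      exact this
    rw [hθ, hθ, map_one, one_mul, one_mul] at h1
    exact h1
  · -- surjectivity
    intro M
    haveI := M.isMaximal
    obtain ⟨ak, hak, halg⟩ := hfield M.asIdeal
    letI : Field ((Ash ⊗[A] A') ⧸ M.asIdeal) := Ideal.Quotient.field M.asIdeal
    letI : Algebra (ResidueField Ash) ((Ash ⊗[A] A') ⧸ M.asIdeal) := ak.toAlgebra
    haveI := halg
    let l : (Ash ⊗[A] A') ⧸ M.asIdeal →ₐ[ResidueField Ash] AlgebraicClosure (ResidueField A) :=
      IsAlgClosed.lift
    have hswap : ∀ a : A, (algebraMap A Ash a) ⊗ₜ[A] (1 : A') =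
        (1 : Ash) ⊗ₜ[A] algebraMap A A' a := by
      intro a
      rw [Algebra.algebraMap_eq_smul_one, Algebra.algebraMap_eq_smul_one (A := A'),
        TensorProduct.smul_tmul]
    have hls : ∀ s : Ash, l (Ideal.Quotient.mk M.asIdeal (s ⊗ₜ 1)) = ε' s := by
      intro s
      rw [← hak]
      exact l.commutes (residue Ash s)
    let ρ : ClosureHom A A' := ⟨((l : _ →+* AlgebraicClosure (ResidueField A)).comp
        (Ideal.Quotient.mk M.asIdeal)).comp (inclR A Ash A'), by
      ext a
      change l (Ideal.Quotient.mk M.asIdeal (1 ⊗ₜ algebraMap A A' a)) = _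
      rw [← hswap, hls]
      exact DFunLike.congr_fun hε' a⟩
    refine ⟨ρ, ?_⟩
    apply MaximalSpectrum.ext
    change RingHom.ker (θ ρ).toRingHom = M.asIdeal
    have hθl : ∀ b, θ ρ b = l (Ideal.Quotient.mk M.asIdeal b) := by
      intro b
      induction b using TensorProduct.induction_on with
      | zero => simp
      | tmul s a =>
        have : s ⊗ₜ[A] a = (s ⊗ₜ 1) * (1 ⊗ₜ a) := by
          rw [Algebra.TensorProduct.tmul_mul_tmul, mul_one, one_mul]
        rw [hθ, this, map_mul, map_mul, hls]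
        rfl
      | add x y hx hy => rw [map_add, map_add, map_add, hx, hy]
    ext b
    rw [RingHom.mem_ker]
    change θ ρ b = 0 ↔ _
    have hlinj : Function.Injective l := RingHom.injective
      (l : (Ash ⊗[A] A') ⧸ M.asIdeal →+* AlgebraicClosure (ResidueField A))
    rw [hθl, map_eq_zero_iff l hlinj, Ideal.Quotient.eq_zero_iff_mem]

theorem card_maximalSpectrum_tensor_eq :
    ENat.card (MaximalSpectrum (Ash ⊗[A] A')) = ENat.card (EmbSigma A A') := by
  obtain ⟨e1⟩ := nonempty_equiv_embSigma_closureHom A A'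
  obtain ⟨e2⟩ := nonempty_equiv_closureHom_maximalSpectrum A Ash A'
  exact (ENat.card_congr (e1.trans e2)).symm

theorem card_minimalPrimes_tensor_eq_strict
    (hN : ∀ (m' : Ideal A') [m'.IsMaximal],
      IsDomain (Localization.AtPrime m') ∧ IsIntegrallyClosed (Localization.AtPrime m')) :
    ENat.card (minimalPrimes (Ash ⊗[A] A')) = ENat.card (EmbSigma A A') := by
  obtain ⟨h1, h2⟩ := minimalPrimes_maximal_unique_strict A Ash A' hN
  obtain ⟨e1⟩ := nonempty_equiv_minimalPrimes_maximalSpectrum (Ash ⊗[A] A') h1 h2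
  rw [ENat.card_congr e1]
  exact card_maximalSpectrum_tensor_eq A Ash A'

end Count

/-- The property "minimal primes and maximal ideals correspond" is invariant under ring
isomorphisms. -/
theorem minimalPrimes_maximal_unique_of_ringEquiv {B₁ B₂ : Type*} [CommRing B₁] [CommRing B₂]
    (e : B₁ ≃+* B₂)
    (h : (∀ Q ∈ minimalPrimes B₂, ∃! M : Ideal B₂, M.IsMaximal ∧ Q ≤ M) ∧
      (∀ M : Ideal B₂, M.IsMaximal → ∃! Q : Ideal B₂, Q ∈ minimalPrimes B₂ ∧ Q ≤ M)) :
    (∀ Q ∈ minimalPrimes B₁, ∃! M : Ideal B₁, M.IsMaximal ∧ Q ≤ M) ∧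
      (∀ M : Ideal B₁, M.IsMaximal → ∃! Q : Ideal B₁, Q ∈ minimalPrimes B₁ ∧ Q ≤ M) := by
  let F : Ideal B₁ → Ideal B₂ := Ideal.comap (e.symm : B₂ →+* B₁)
  let G : Ideal B₂ → Ideal B₁ := Ideal.comap (e : B₁ →+* B₂)
  have hGF : ∀ I, G (F I) = I := by
    intro I
    change (I.comap (e.symm : B₂ →+* B₁)).comap (e : B₁ →+* B₂) = I
    rw [Ideal.comap_comap]
    have : (e.symm : B₂ →+* B₁).comp (e : B₁ →+* B₂) = RingHom.id _ := by
      ext x; simp
    rw [this, Ideal.comap_id]
  have hFG : ∀ J, F (G J) = J := by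
    intro J
    change (J.comap (e : B₁ →+* B₂)).comap (e.symm : B₂ →+* B₁) = J
    rw [Ideal.comap_comap]
    have : (e : B₁ →+* B₂).comp (e.symm : B₂ →+* B₁) = RingHom.id _ := by
      ext x; simp
    rw [this, Ideal.comap_id]
  have hFmono : ∀ I I', I ≤ I' → F I ≤ F I' := fun I I' h => Ideal.comap_mono h
  have hGmono : ∀ J J', J ≤ J' → G J ≤ G J' := fun J J' h => Ideal.comap_mono h
  have hFmax : ∀ I : Ideal B₁, I.IsMaximal → (F I).IsMaximal := fun I hI =>
    Ideal.comap_isMaximal_of_surjective _ e.symm.surjective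
  have hGmax : ∀ J : Ideal B₂, J.IsMaximal → (G J).IsMaximal := fun J hJ =>
    Ideal.comap_isMaximal_of_surjective _ e.surjective
  have hFmin : ∀ I, I ∈ minimalPrimes B₁ → F I ∈ minimalPrimes B₂ := fun I hI =>
    comap_mem_minimalPrimes_of_ringEquiv e.symm I hI
  have hGmin : ∀ J, J ∈ minimalPrimes B₂ → G J ∈ minimalPrimes B₁ := fun J hJ =>
    comap_mem_minimalPrimes_of_ringEquiv e J hJ
  refine ⟨fun Q hQ => ?_, fun M hM => ?_⟩
  · obtain ⟨M, ⟨hM, hQM⟩, hu⟩ := h.1 (F Q) (hFmin Q hQ)
    refine ⟨G M, ⟨hGmax M hM, ?_⟩, ?_⟩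
    · have := hGmono _ _ hQM
      rwa [hGF] at this
    · rintro M' ⟨hM', hQM'⟩
      have := hu (F M') ⟨hFmax M' hM', hFmono _ _ hQM'⟩
      rw [← this, hGF]
  · obtain ⟨Q, ⟨hQ, hQM⟩, hu⟩ := h.2 (F M) (hFmax M hM)
    refine ⟨G Q, ⟨hGmin Q hQ, ?_⟩, ?_⟩
    · have := hGmono _ _ hQM
      rwa [hGF] at this
    · rintro Q' ⟨hQ', hQM'⟩
      have := hu (F Q') ⟨hFmin Q' hQ', hFmono _ _ hQM'⟩
      rw [← this, hGF]

end Groth.Agent.Lib.Helper3.Branch
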