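import Groth.Agent.Lib.Helper3.SHensQuot
import Groth.Agent.S9237
import Groth.Agent.S9238
import Groth.Agent.S0537
import Groth.Agent.S0506

/-!
# Invariance of (strict) henselizations and branch numbers under ring isomorphisms
-/

set_option autoImplicit false
set_option linter.style.haveILetI false
set_option linter.unusedSectionVars false
universe u

open IsLocalRing

namespace Groth.Agent.Lib.Helper3.HensEquiv

variable {A A' S : Type u} [CommRing A] [IsLocalRing A] [CommRing A'] [IsLocalRing A']
  [CommRing S] [IsLocalRing S] [Algebra A S] [IsLocalHom (algebraMap A S)]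
  (e : A' ≃+* A) [Algebra A' S] (h : algebraMap A' S = (algebraMap A S).comp e.toRingHom)
  [IsLocalHom (algebraMap A' S)]

include h in
theorem isStrictHenselization_of_ringEquiv [hS : Hensel.IsStrictHenselization A S] :
    Hensel.IsStrictHenselization A' S := by
  have hh : ∀ a' : A', algebraMap A' S a' = algebraMap A S (e a') := fun a' => by rw [h]; rfl
  refine ⟨hS.henselian, ⟨hS.isSepClosure.sep_closed, ?_⟩, ?_⟩
  · haveI := hS.isSepClosure.separable
    haveI : IsLocalHom e.toRingHom := ⟨fun a ha => by
      have := ha.map e.symm.toRingHom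
      simpa using this⟩
    haveI : IsLocalHom e.symm.toRingHom := ⟨fun a ha => by
      have := ha.map e.toRingHom
      simpa using this⟩
    let e₁ : ResidueField A ≃+* ResidueField A' := ResidueField.mapEquiv e.symm
    refine Algebra.IsSeparable.of_equiv_equiv e₁ (RingEquiv.refl (ResidueField S)) ?_
    ext c
    obtain ⟨a, rfl⟩ := residue_surjective c
    change algebraMap (ResidueField A') (ResidueField S) (residue A' (e.symm a)) =
      algebraMap (ResidueField A) (ResidueField S) (residue A a)
    change residue S (algebraMap A' S (e.symm a)) = residue S (algebraMap A S a)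
    rw [hh, e.apply_symm_apply]
  · intro T _ _ f hf τ hτ
    haveI : IsLocalHom (f.comp e.symm.toRingHom) := by
      constructor
      intro a ha
      have h1 : IsUnit (e.symm a) := isUnit_of_map_unit f _ ha
      have := h1.map e.toRingHom
      simpa using this
    have hτ' : τ.comp (ResidueField.map (algebraMap A S)) =
        ResidueField.map (f.comp e.symm.toRingHom) := by
      ext c
      obtain ⟨a, rfl⟩ := residue_surjective c
      have h1 := DFunLike.congr_fun hτ (residue A' (e.symm a))
      simp only [RingHom.comp_apply, ResidueField.map_residue] at h1 ⊢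
      rw [hh, e.apply_symm_apply] at h1
      exact h1
    obtain ⟨g, ⟨hg1, hg2⟩, hg3⟩ := hS.universal T (f.comp e.symm.toRingHom) τ hτ'
    refine ⟨g, ⟨?_, hg2⟩, ?_⟩
    · ext a'
      rw [RingHom.comp_apply, hh]
      have := DFunLike.congr_fun hg1 (e a')
      simpa using this
    · rintro g' ⟨hg'1, hg'2⟩
      apply hg3
      refine ⟨?_, hg'2⟩
      ext a
      have := DFunLike.congr_fun hg'1 (e.symm a)
      rw [RingHom.comp_apply, hh, e.apply_symm_apply] at this
      simpa using this

include h in
theorem isHenselization_of_ringEquiv [hS : Hensel.IsHenselization A S] :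
    Hensel.IsHenselization A' S := by
  have hh : ∀ a' : A', algebraMap A' S a' = algebraMap A S (e a') := fun a' => by rw [h]; rfl
  refine ⟨hS.henselian, ?_⟩
  intro T _ _ f hf
  haveI : IsLocalHom (f.comp e.symm.toRingHom) := by
    constructor
    intro a ha
    have h1 : IsUnit (e.symm a) := isUnit_of_map_unit f _ ha
    have := h1.map e.toRingHom
    simpa using this
  obtain ⟨g, hg1, hg3⟩ := hS.universal T (f.comp e.symm.toRingHom) inferInstance
  refine ⟨g, ?_, ?_⟩
  · ext a'
    rw [RingHom.comp_apply, hh]
    have := DFunLike.congr_fun hg1 (e a')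
    simpa using this
  · intro g' hg'1
    apply hg3
    ext a
    have := DFunLike.congr_fun hg'1 (e.symm a)
    rw [RingHom.comp_apply, hh, e.apply_symm_apply] at this
    simpa using this

section Congr

variable {A A' : Type u} [CommRing A] [IsLocalRing A] [CommRing A'] [IsLocalRing A']

theorem isLocalHom_comp_ringEquiv {S : Type u} [CommRing S] (φ : A →+* S) [IsLocalHom φ]
    (e : A' ≃+* A) : IsLocalHom (φ.comp e.toRingHom) := by
  constructor
  intro a ha
  have h1 : IsUnit (e a) := isUnit_of_map_unit φ _ ha
  have := h1.map e.symm.toRingHom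
  simpa using this

theorem numGeomBranches_congr (e : A' ≃+* A) :
    Brnch.numGeomBranches A' = Brnch.numGeomBranches A := by
  obtain ⟨S, _, _, _, _, hS⟩ := Groth.Agent.S0537.result A
  letI : Algebra A' S := ((algebraMap A S).comp e.toRingHom).toAlgebra
  haveI : IsLocalHom (algebraMap A' S) := isLocalHom_comp_ringEquiv (algebraMap A S) e
  haveI := isStrictHenselization_of_ringEquiv (S := S) e rfl
  rw [← Groth.Agent.S9238.result A S, ← Groth.Agent.S9238.result A' S]

theorem numBranches_congr (e : A' ≃+* A) :
    Brnch.numBranches A' = Brnch.numBranches A := by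
  obtain ⟨S, _, _, _, _, hS⟩ := Groth.Agent.S0506.result A
  letI : Algebra A' S := ((algebraMap A S).comp e.toRingHom).toAlgebra
  haveI : IsLocalHom (algebraMap A' S) := isLocalHom_comp_ringEquiv (algebraMap A S) e
  haveI := isHenselization_of_ringEquiv (S := S) e rfl
  rw [← Groth.Agent.S9237.result A S, ← Groth.Agent.S9237.result A' S]

theorem card_minimalPrimes_congr {B B' : Type*} [CommRing B] [CommRing B'] (e : B' ≃+* B) :
    ENat.card (minimalPrimes B') = ENat.card (minimalPrimes B) := by
  rw [ENat.card_coe_set_eq, ENat.card_coe_set_eq]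
  have h1 : minimalPrimes B' = Ideal.comap e.toRingHom '' minimalPrimes B := by
    have := Ideal.comap_minimalPrimes_eq_of_surjective (f := e.toRingHom) e.surjective (⊥ : Ideal B)
    rw [show Ideal.comap e.toRingHom ⊥ = ⊥ from by
      rw [← RingHom.ker_eq_comap_bot]
      exact (RingHom.injective_iff_ker_eq_bot _).mp e.injective] at this
    exact this
  rw [h1]
  apply Set.InjOn.encard_image
  exact (Ideal.comap_injective_of_surjective e.toRingHom e.surjective).injOn

theorem card_minimalPrimes_quotient {B : Type*} [CommRing B] (I : Ideal B) :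
    ENat.card (minimalPrimes (B ⧸ I)) = I.minimalPrimes.encard := by
  rw [ENat.card_coe_set_eq, Ideal.minimalPrimes_eq_comap]
  symm
  apply Set.InjOn.encard_image
  exact (Ideal.comap_injective_of_surjective _ Ideal.Quotient.mk_surjective).injOn

end Congr

section Quotient

variable {A S : Type u} [CommRing A] [IsLocalRing A] [CommRing S] [IsLocalRing S] [Algebra A S]
  [IsLocalHom (algebraMap A S)]

theorem map_ne_top (I : Ideal A) (hI : I ≠ ⊤) : I.map (algebraMap A S) ≠ ⊤ := by
  have h1 : I ≤ maximalIdeal A := le_maximalIdeal hI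
  have h2 : (maximalIdeal A).map (algebraMap A S) ≤ maximalIdeal S :=
    ((local_hom_TFAE (algebraMap A S)).out 0 2 rfl rfl).mp ‹_›
  intro h
  have h3 : (⊤ : Ideal S) ≤ maximalIdeal S := h ▸ (Ideal.map_mono h1).trans h2
  exact (maximalIdeal.isMaximal S).ne_top (top_le_iff.mp h3)

theorem numGeomBranches_quotient [Hensel.IsStrictHenselization A S] (I : Ideal A) (hI : I ≠ ⊤)
    [IsLocalRing (A ⧸ I)] :
    Brnch.numGeomBranches (A ⧸ I) = (I.map (algebraMap A S)).minimalPrimes.encard := by
  haveI : Nontrivial (S ⧸ I.map (algebraMap A S)) :=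
    Ideal.Quotient.nontrivial_iff.mpr (map_ne_top I hI)
  haveI : IsLocalRing (S ⧸ I.map (algebraMap A S)) :=
    IsLocalRing.of_surjective' _ Ideal.Quotient.mk_surjective
  haveI : IsLocalHom (algebraMap (A ⧸ I) (S ⧸ I.map (algebraMap A S))) := by
    constructor
    intro a ha
    obtain ⟨a, rfl⟩ := Ideal.Quotient.mk_surjective a
    have h1 : algebraMap (A ⧸ I) (S ⧸ I.map (algebraMap A S)) (Ideal.Quotient.mk I a) =
        Ideal.Quotient.mk _ (algebraMap A S a) := rfl
    rw [h1] at ha
    haveI : IsLocalHom (Ideal.Quotient.mk (I.map (algebraMap A S))) :=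
      .of_surjective _ Ideal.Quotient.mk_surjective
    have h2 : IsUnit (algebraMap A S a) := isUnit_of_map_unit _ _ ha
    exact (isUnit_of_map_unit (algebraMap A S) a h2).map _
  haveI := isStrictHenselization_quotient (A := A) (S := S) I
  rw [← Groth.Agent.S9238.result (A ⧸ I) (S ⧸ I.map (algebraMap A S)),
    card_minimalPrimes_quotient]

theorem numBranches_quotient [Hensel.IsHenselization A S] (I : Ideal A) (hI : I ≠ ⊤)
    [IsLocalRing (A ⧸ I)] :
    Brnch.numBranches (A ⧸ I) = (I.map (algebraMap A S)).minimalPrimes.encard := by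
  haveI : Nontrivial (S ⧸ I.map (algebraMap A S)) :=
    Ideal.Quotient.nontrivial_iff.mpr (map_ne_top I hI)
  haveI : IsLocalRing (S ⧸ I.map (algebraMap A S)) :=
    IsLocalRing.of_surjective' _ Ideal.Quotient.mk_surjective
  haveI : IsLocalHom (algebraMap (A ⧸ I) (S ⧸ I.map (algebraMap A S))) := by
    constructor
    intro a ha
    obtain ⟨a, rfl⟩ := Ideal.Quotient.mk_surjective a
    have h1 : algebraMap (A ⧸ I) (S ⧸ I.map (algebraMap A S)) (Ideal.Quotient.mk I a) =
        Ideal.Quotient.mk _ (algebraMap A S a) := rfl
    rw [h1] at ha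
    haveI : IsLocalHom (Ideal.Quotient.mk (I.map (algebraMap A S))) :=
      .of_surjective _ Ideal.Quotient.mk_surjective
    have h2 : IsUnit (algebraMap A S a) := isUnit_of_map_unit _ _ ha
    exact (isUnit_of_map_unit (algebraMap A S) a h2).map _
  haveI := Groth.Agent.S13598.result (A := A) (S := S) I (le_maximalIdeal hI)
  rw [← Groth.Agent.S9237.result (A ⧸ I) (S ⧸ I.map (algebraMap A S)),
    card_minimalPrimes_quotient]

end Quotient

end Groth.Agent.Lib.Helper3.HensEquiv
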