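import Groth.Agent.Lib.Helper3.SHensQF
import Groth.Agent.S13598

set_option autoImplicit false
set_option linter.style.haveILetI false
set_option linter.unusedSectionVars false
universe u

open TensorProduct IsLocalRing Polynomial

namespace Groth.Agent.Lib.Helper3

/-- The quotient of a strict henselization of `A` by the extension of an ideal `I` is a strict
henselization of `A ⧸ I`. -/
theorem isStrictHenselization_quotient {A S : Type u} [CommRing A] [IsLocalRing A] [CommRing S]
    [IsLocalRing S] [Algebra A S] [IsLocalHom (algebraMap A S)]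
    [hS : Hensel.IsStrictHenselization A S]
    (I : Ideal A)
    [IsLocalRing (A ⧸ I)] [IsLocalRing (S ⧸ I.map (algebraMap A S))]
    [IsLocalHom (algebraMap (A ⧸ I) (S ⧸ I.map (algebraMap A S)))] :
    Hensel.IsStrictHenselization (A ⧸ I) (S ⧸ I.map (algebraMap A S)) := by
  haveI hShens : HenselianLocalRing S := hS.henselian
  haveI hlocA : IsLocalHom (Ideal.Quotient.mk I) :=
    .of_surjective _ Ideal.Quotient.mk_surjective
  haveI hlocS : IsLocalHom (Ideal.Quotient.mk (I.map (algebraMap A S))) :=
    .of_surjective _ Ideal.Quotient.mk_surjective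
  have halg : ∀ a : A, algebraMap (A ⧸ I) (S ⧸ I.map (algebraMap A S)) (Ideal.Quotient.mk I a) =
      Ideal.Quotient.mk _ (algebraMap A S a) := fun a => rfl
  let πA : ResidueField A →+* ResidueField (A ⧸ I) := ResidueField.map (Ideal.Quotient.mk I)
  let πS : ResidueField S →+* ResidueField (S ⧸ I.map (algebraMap A S)) :=
    ResidueField.map (Ideal.Quotient.mk (I.map (algebraMap A S)))
  have hπS : Function.Surjective πS := by
    intro x
    obtain ⟨y, rfl⟩ := residue_surjective x
    obtain ⟨s, rfl⟩ := Ideal.Quotient.mk_surjective y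
    exact ⟨residue S s, ResidueField.map_residue _ _⟩
  have hsq : πS.comp (algebraMap (ResidueField A) (ResidueField S)) =
      (algebraMap (ResidueField (A ⧸ I)) (ResidueField (S ⧸ I.map (algebraMap A S)))).comp πA := by
    refine RingHom.ext fun x => ?_
    obtain ⟨a, rfl⟩ := residue_surjective x
    change πS (ResidueField.map (algebraMap A S) (residue A a)) =
      ResidueField.map (algebraMap (A ⧸ I) (S ⧸ I.map (algebraMap A S))) (πA (residue A a))
    simp only [πS, πA, ResidueField.map_residue, halg]
  refine ⟨Groth.Agent.S13598.henselianLocalRing_quotient _, ⟨?_, ?_⟩, ?_⟩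
  · letI : Algebra (ResidueField S) (ResidueField (S ⧸ I.map (algebraMap A S))) := πS.toAlgebra
    haveI : Algebra.IsAlgebraic (ResidueField S) (ResidueField (S ⧸ I.map (algebraMap A S))) :=
      ⟨fun x => by obtain ⟨y, rfl⟩ := hπS x; exact isAlgebraic_algebraMap y⟩
    haveI := hS.isSepClosure.sep_closed
    exact Algebra.IsAlgebraic.isSepClosed (F := ResidueField S)
  · constructor
    intro x
    obtain ⟨y, rfl⟩ := hπS x
    have hy : (minpoly (ResidueField A) y).Separable :=
      hS.isSepClosure.separable.isSeparable _ y
    have hroot : aeval (πS y) ((minpoly (ResidueField A) y).map πA) = 0 := by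
      rw [aeval_def, eval₂_map, ← hsq, ← hom_eval₂, ← aeval_def, minpoly.aeval, map_zero]
    exact (hy.map (f := πA)).of_dvd (minpoly.dvd _ _ hroot)
  · intro T _ _ fb hfb τ hτ
    have hf : IsLocalHom (fb.comp (Ideal.Quotient.mk I)) := RingHom.isLocalHom_comp _ _
    have hcompat : (τ.comp πS).comp (ResidueField.map (algebraMap A S)) =
        ResidueField.map (fb.comp (Ideal.Quotient.mk I)) := by
      rw [RingHom.comp_assoc]
      change τ.comp (πS.comp (algebraMap (ResidueField A) (ResidueField S))) = _
      rw [hsq, ← RingHom.comp_assoc]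
      change (τ.comp (ResidueField.map (algebraMap (A ⧸ I) (S ⧸ I.map (algebraMap A S))))).comp πA
        = _
      rw [hτ]
      refine RingHom.ext fun x => ?_
      obtain ⟨a, rfl⟩ := residue_surjective x
      simp only [πA, RingHom.comp_apply, ResidueField.map_residue]
    obtain ⟨g, ⟨hg, hgres⟩, hguniq⟩ := hS.universal T (fb.comp (Ideal.Quotient.mk I))
      (τ.comp πS) hcompat
    have hgJ : ∀ s ∈ I.map (algebraMap A S), g s = 0 := by
      intro s hs
      have : I.map (algebraMap A S) ≤ RingHom.ker g := by
        rw [Ideal.map_le_iff_le_comap]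
        intro a ha
        rw [Ideal.mem_comap, RingHom.mem_ker]
        have := congrArg (fun φ => φ a) hg
        simp only [RingHom.comp_apply] at this
        rw [this, Ideal.Quotient.eq_zero_iff_mem.mpr ha, map_zero]
      exact this hs
    refine ⟨Ideal.Quotient.lift _ g hgJ, ⟨?_, ?_⟩, ?_⟩
    · apply Ideal.Quotient.ringHom_ext
      ext a
      simp only [RingHom.comp_apply]
      rw [halg, Ideal.Quotient.lift_mk]
      exact congrArg (fun φ => φ a) hg
    · intro x
      obtain ⟨s, rfl⟩ := Ideal.Quotient.mk_surjective x
      rw [Ideal.Quotient.lift_mk, hgres, RingHom.comp_apply]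
      simp only [πS, ResidueField.map_residue]
    · rintro g' ⟨hg', hg'res⟩
      apply Ideal.Quotient.ringHom_ext
      have : g'.comp (Ideal.Quotient.mk _) = g := by
        apply hguniq
        refine ⟨?_, ?_⟩
        · ext a
          simp only [RingHom.comp_apply]
          rw [← halg]
          exact congrArg (fun φ => φ (Ideal.Quotient.mk I a)) hg'
        · intro s
          rw [RingHom.comp_apply, hg'res, RingHom.comp_apply]
          simp only [πS, ResidueField.map_residue]
      rw [this]
      ext s
      simp only [RingHom.comp_apply, Ideal.Quotient.lift_mk]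

end Groth.Agent.Lib.Helper3
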