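import Groth.Agent.Lib.Helper3.HensTensorAt
import Groth.Agent.Lib.Helper3.QFLocal
import Groth.Agent.S0505

set_option autoImplicit false
set_option linter.style.haveILetI false
set_option linter.unusedSectionVars false
universe u

open TensorProduct IsLocalRing

namespace Groth.Agent.Lib.Helper3

/-- A henselian local ring is its own henselization. -/
theorem isHenselization_self (D : Type u) [CommRing D] [HenselianLocalRing D] :
    Hensel.IsHenselization D D := by
  refine ⟨inferInstance, ?_⟩
  intro T _ _ f _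
  refine ⟨f, ?_, ?_⟩
  · ext x; rfl
  · intro g hg
    ext x
    exact DFunLike.congr_fun hg x

theorem finite_of_hensAt_of_quasiFiniteAt (R : Type u) [CommRing R] (S : Type u) [CommRing S]
    [Algebra R S] [Algebra.FiniteType R S] (p : Ideal R) (q : Ideal S) [q.IsPrime]
    [Algebra.QuasiFiniteAt R q] (hqp : q.comap (algebraMap R S) = p)
    (Rh : Type u) [CommRing Rh] [IsLocalRing Rh] [Algebra R Rh]
    (hR : HensAt R p Rh (algebraMap R Rh))
    (Sh : Type u) [CommRing Sh] [IsLocalRing Sh] (ιS : S →+* Sh) (hS : HensAt S q Sh ιS)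
    [Algebra Rh Sh]
    (hcompat : ∀ r : R, algebraMap Rh Sh (algebraMap R Rh r) = ιS (algebraMap R S r))
    (hloc : IsLocalHom (algebraMap Rh Sh)) : Module.Finite Rh Sh := by
  haveI : HenselianLocalRing Rh := hR.henselian
  letI : Algebra R Sh := ((algebraMap Rh Sh).comp (algebraMap R Rh)).toAlgebra
  haveI : IsScalarTower R Rh Sh := IsScalarTower.of_algebraMap_eq' rfl
  let ιS' : S →ₐ[R] Sh := { ιS with commutes' := fun r => (hcompat r).symm }
  let φ₀ : Rh ⊗[R] S →ₐ[Rh] Sh :=
    Algebra.TensorProduct.lift (Algebra.ofId Rh Sh) ιS' (fun _ _ => Commute.all _ _)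
  have hφS : ∀ s, (φ₀ : Rh ⊗[R] S →+* Sh) (1 ⊗ₜ s) = ιS s := fun s => by
    simp [φ₀, ιS']
  have h := HensAt.tensor R S p q hqp Rh hR Sh ιS hS (φ₀ : Rh ⊗[R] S →+* Sh) hφS
  set Q : Ideal (Rh ⊗[R] S) := (maximalIdeal Sh).comap (φ₀ : Rh ⊗[R] S →+* Sh) with hQ
  haveI hQp : Q.IsPrime := Ideal.comap_isPrime _ _
  -- `Q` lies over the maximal ideal
  have hover : Q.LiesOver (maximalIdeal Rh) := by
    constructor
    have h1 : Q.under Rh = (maximalIdeal Sh).comap (algebraMap Rh Sh) := by
      rw [hQ, Ideal.under, Ideal.comap_comap]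
      congr 1
      ext a
      simp [φ₀]
    rw [h1]
    exact (((local_hom_TFAE (algebraMap Rh Sh)).out 0 4 rfl rfl).mp hloc).symm
  have hqQ : q = Q.comap (Algebra.TensorProduct.includeRight : S →ₐ[R] Rh ⊗[R] S).toRingHom := by
    rw [← hS.comap_eq, hQ, Ideal.comap_comap]
    congr 1
    ext s
    exact (hφS s).symm
  have hqf : Algebra.QuasiFiniteAt Rh Q := Algebra.QuasiFiniteAt.baseChange q Q hqQ
  haveI hfin : Module.Finite Rh (Localization.AtPrime Q) :=
    finite_localization_of_quasiFiniteAt Rh (Rh ⊗[R] S) Q hover hqf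
  haveI : HenselianLocalRing (Localization.AtPrime Q) :=
    Groth.Agent.S0505.result Rh (Localization.AtPrime Q)
  obtain ⟨ψ, hψ, hψloc⟩ := h.exists_lift
  -- `ψ` is bijective
  have hbij : Function.Bijective ψ := by
    letI : Algebra (Localization.AtPrime Q) Sh := ψ.toAlgebra
    haveI : IsLocalHom (algebraMap (Localization.AtPrime Q) Sh) := hψloc
    haveI := h.isHenselization hψ
    haveI := isHenselization_self (Localization.AtPrime Q)
    obtain ⟨e⟩ := Groth.Agent.Lib.Helper9.Hens.nonempty_algEquiv_of_isHenselization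
      (Localization.AtPrime Q) (Localization.AtPrime Q) Sh
    have : (ψ : Localization.AtPrime Q → Sh) = e := by
      funext x
      exact (e.commutes x).symm
    rw [this]
    exact e.bijective
  let ψl : Localization.AtPrime Q →ₗ[Rh] Sh :=
    { toFun := ψ
      map_add' := map_add ψ
      map_smul' := fun a x => by
        simp only [RingHom.id_apply]
        rw [Algebra.smul_def, Algebra.smul_def, map_mul]
        congr 1
        rw [IsScalarTower.algebraMap_apply Rh (Rh ⊗[R] S) (Localization.AtPrime Q)]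
        have := DFunLike.congr_fun hψ (algebraMap Rh (Rh ⊗[R] S) a)
        rw [RingHom.comp_apply] at this
        rw [this]
        simp [φ₀] }
  exact Module.Finite.of_surjective ψl hbij.2

end Groth.Agent.Lib.Helper3
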