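import Groth.Agent.Lib.Helper3.LocalTensorPI
import Groth.Agent.Lib.Helper3.HensTensorAt
import Groth.Agent.Lib.Helper9.HensK.FiniteLocal
import Groth.Agent.S0515
import Groth.Agent.S0506
import Groth.Agent.S0509
import Groth.Agent.S13598
import Groth.Agent.S1972
import Groth.Agent.S1964
import Groth.Agent.S0514
import Groth.Prelude.Def_CAlg2

set_option autoImplicit false
set_option linter.style.haveILetI false
set_option linter.unusedSectionVars false
universe u

open TensorProduct IsLocalRing

namespace Groth.Agent.Lib.Helper3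

/-- For an integral local extension `R'` of a local ring `R₀`, the tensor product of `R'` with the
henselization of `R₀` embeds into the henselization of `R'` (it is in fact isomorphic to it). -/
theorem exists_injective_tensor_to_henselization
    (R₀ S₀ R' Rh' : Type u) [CommRing R₀] [IsLocalRing R₀] [CommRing S₀] [IsLocalRing S₀]
    [Algebra R₀ S₀] [IsLocalHom (algebraMap R₀ S₀)] [Hensel.IsHenselization R₀ S₀]
    [CommRing R'] [IsLocalRing R'] [Algebra R₀ R'] [IsLocalHom (algebraMap R₀ R')]
    [Algebra.IsIntegral R₀ R']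
    [CommRing Rh'] [IsLocalRing Rh'] [Algebra R' Rh'] [IsLocalHom (algebraMap R' Rh')]
    [Hensel.IsHenselization R' Rh'] :
    ∃ φ : S₀ ⊗[R₀] R' →+* Rh', Function.Injective φ := by
  haveI : HenselianLocalRing S₀ := Hensel.IsHenselization.henselian R₀
  haveI : HenselianLocalRing Rh' := Hensel.IsHenselization.henselian R'
  let f₀ : R₀ →+* Rh' := (algebraMap R' Rh').comp (algebraMap R₀ R')
  haveI : IsLocalHom f₀ := RingHom.isLocalHom_comp _ _
  obtain ⟨g, hg, -⟩ := Hensel.IsHenselization.universal (R := R₀) (S := S₀) Rh' f₀ inferInstance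
  letI : Algebra R₀ Rh' := f₀.toAlgebra
  haveI : IsScalarTower R₀ R' Rh' := .of_algebraMap_eq (fun _ => rfl)
  let gA : S₀ →ₐ[R₀] Rh' := { g with commutes' := fun r => DFunLike.congr_fun hg r }
  let φ : S₀ ⊗[R₀] R' →ₐ[R₀] Rh' :=
    Algebra.TensorProduct.lift gA (IsScalarTower.toAlgHom R₀ R' Rh') (fun _ _ => Commute.all _ _)
  have hφt : ∀ s r, φ (s ⊗ₜ r) = g s * algebraMap R' Rh' r := fun s r =>
    Algebra.TensorProduct.lift_tmul _ _ _ s r
  haveI : Nontrivial (S₀ ⊗[R₀] R') := (φ : S₀ ⊗[R₀] R' →+* Rh').domain_nontrivial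
  have hres : ∀ c : S₀, ∃ a : R₀, c - algebraMap R₀ S₀ a ∈ maximalIdeal S₀ :=
    Groth.Agent.Lib.Helper9.Hens.exists_sub_mem_maximalIdeal_of_isHenselization R₀ S₀
  haveI : IsLocalRing (S₀ ⊗[R₀] R') := isLocalRing_tensor_of_residue_surjective R₀ R' S₀ hres
  haveI hB : HenselianLocalRing (S₀ ⊗[R₀] R') :=
    Groth.Agent.Lib.Helper9.HensK.henselianLocalRing_of_isIntegral S₀ (S₀ ⊗[R₀] R')
  let ιR : R' →+* S₀ ⊗[R₀] R' :=
    (Algebra.TensorProduct.includeRight : R' →ₐ[R₀] S₀ ⊗[R₀] R').toRingHom
  let ιS : S₀ →+* S₀ ⊗[R₀] R' := algebraMap S₀ (S₀ ⊗[R₀] R')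
  have hιR : ∀ r, ιR r = 1 ⊗ₜ r := fun r => rfl
  have hιS : ∀ s, ιS s = s ⊗ₜ 1 := fun s => rfl
  haveI hιRloc : IsLocalHom ιR := ((local_hom_TFAE ιR).out 0 4 rfl rfl).mpr
    (comap_right_of_isMaximal R₀ R' S₀ (maximalIdeal (S₀ ⊗[R₀] R')))
  haveI hιSloc : IsLocalHom ιS := ((local_hom_TFAE ιS).out 0 4 rfl rfl).mpr
    (comap_left_of_isMaximal R₀ R' S₀ (maximalIdeal (S₀ ⊗[R₀] R')))
  obtain ⟨χ, hχ, -⟩ := Hensel.IsHenselization.universal (R := R') (S := Rh') (S₀ ⊗[R₀] R') ιR
    hιRloc
  have hχr : ∀ r, χ (algebraMap R' Rh' r) = ιR r := fun r => DFunLike.congr_fun hχ r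
  have key : χ.comp (φ : S₀ ⊗[R₀] R' →+* Rh') = RingHom.id _ := by
    apply ringHom_ext_tensorProduct
    · intro s
      haveI : IsLocalHom (ιS.comp (algebraMap R₀ S₀)) := RingHom.isLocalHom_comp _ _
      obtain ⟨k, -, hk⟩ := Hensel.IsHenselization.universal (R := R₀) (S := S₀) (S₀ ⊗[R₀] R')
        (ιS.comp (algebraMap R₀ S₀)) inferInstance
      have e1 : (χ.comp (φ : S₀ ⊗[R₀] R' →+* Rh')).comp ιS = k := by
        apply hk
        ext r
        change χ (φ ((algebraMap R₀ S₀ r) ⊗ₜ 1)) = (algebraMap R₀ S₀ r) ⊗ₜ 1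
        rw [hφt, map_one, mul_one]
        have : g (algebraMap R₀ S₀ r) = algebraMap R' Rh' (algebraMap R₀ R' r) :=
          DFunLike.congr_fun hg r
        rw [this, hχr, hιR, Algebra.algebraMap_eq_smul_one r,
          Algebra.algebraMap_eq_smul_one (A := S₀) r, TensorProduct.smul_tmul]
      have e2 : ιS = k := hk _ rfl
      exact DFunLike.congr_fun (e1.trans e2.symm) s
    · intro r
      change χ (φ (1 ⊗ₜ r)) = 1 ⊗ₜ r
      rw [hφt, map_one, one_mul, hχr, hιR]
  refine ⟨(φ : S₀ ⊗[R₀] R' →+* Rh'), ?_⟩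
  intro x y hxy
  have := congrArg χ hxy
  rwa [← RingHom.comp_apply, ← RingHom.comp_apply, key] at this

theorem isLocalHom_algebraMap_of_isIntegral (R S : Type*) [CommRing R] [CommRing S]
    [IsLocalRing R] [IsLocalRing S] [Algebra R S] [Algebra.IsIntegral R S] :
    IsLocalHom (algebraMap R S) := by
  refine ((local_hom_TFAE (algebraMap R S)).out 0 4 rfl rfl).mpr ?_
  have : ((maximalIdeal S).comap (algebraMap R S)).IsMaximal :=
    Ideal.isMaximal_comap_of_isIntegral_of_isMaximal (maximalIdeal S)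
  exact IsLocalRing.eq_maximalIdeal this

section Core

variable (R₀ S₀ : Type u) [CommRing R₀] [IsLocalRing R₀] [CommRing S₀] [IsLocalRing S₀]
    [Algebra R₀ S₀] [IsLocalHom (algebraMap R₀ S₀)] [Hensel.IsHenselization R₀ S₀]

/-- If `R₀` is a local domain with local normalization, then its henselization is a domain. -/
theorem isDomain_henselization_of_isLocalRing_integralClosure [IsDomain R₀]
    [IsLocalRing (integralClosure R₀ (FractionRing R₀))] : IsDomain S₀ := by
  haveI : IsIntegrallyClosed (integralClosure R₀ (FractionRing R₀)) :=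
    integralClosure.isIntegrallyClosedOfFiniteExtension (FractionRing R₀)
  haveI : IsLocalHom (algebraMap R₀ (integralClosure R₀ (FractionRing R₀))) :=
    isLocalHom_algebraMap_of_isIntegral _ _
  obtain ⟨Rh', _, _, _, _, hH⟩ := Groth.Agent.S0506.result (integralClosure R₀ (FractionRing R₀))
  have hdom : IsDomain Rh' :=
    ((Groth.Agent.S0515.result (integralClosure R₀ (FractionRing R₀)) Rh').mp
      ⟨inferInstance, inferInstance⟩).1
  obtain ⟨φ, hφ⟩ := exists_injective_tensor_to_henselization R₀ S₀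
    (integralClosure R₀ (FractionRing R₀)) Rh'
  haveI : IsDomain (S₀ ⊗[R₀] integralClosure R₀ (FractionRing R₀)) := hφ.isDomain φ
  haveI : Module.Flat R₀ S₀ :=
    (Groth.Agent.S0509.result R₀ S₀).toFlat
  have hinj : Function.Injective (algebraMap R₀ (integralClosure R₀ (FractionRing R₀))) := by
    intro x y hxy
    have := congrArg (algebraMap (integralClosure R₀ (FractionRing R₀)) (FractionRing R₀)) hxy
    rw [← IsScalarTower.algebraMap_apply, ← IsScalarTower.algebraMap_apply] at this
    exact IsFractionRing.injective R₀ (FractionRing R₀) this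
  have hinc : Function.Injective (Algebra.TensorProduct.includeLeft :
      S₀ →ₐ[R₀] S₀ ⊗[R₀] integralClosure R₀ (FractionRing R₀)) :=
    Algebra.TensorProduct.includeLeft_injective hinj
  exact hinc.isDomain (Algebra.TensorProduct.includeLeft :
      S₀ →ₐ[R₀] S₀ ⊗[R₀] integralClosure R₀ (FractionRing R₀)).toRingHom

theorem isDomain_of_isDomain_henselization [IsDomain S₀] : IsDomain R₀ := by
  haveI : Module.FaithfullyFlat R₀ S₀ := Groth.Agent.S0509.result R₀ S₀
  have hinj : Function.Injective (algebraMap R₀ S₀) := FaithfulSMul.algebraMap_injective _ _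
  exact hinj.isDomain (algebraMap R₀ S₀)

/-- If the henselization of the local domain `R₀` is a domain, then the normalization of `R₀` is
local. -/
theorem isLocalRing_integralClosure_of_isDomain_henselization [IsDomain R₀] [IsDomain S₀] :
    IsLocalRing (integralClosure R₀ (FractionRing R₀)) := by
  haveI hff : Module.FaithfullyFlat R₀ S₀ := Groth.Agent.S0509.result R₀ S₀
  haveI : Module.Flat R₀ S₀ := hff.toFlat
  haveI : HenselianLocalRing S₀ := Hensel.IsHenselization.henselian R₀
  have hinj : Function.Injective (algebraMap R₀ S₀) := FaithfulSMul.algebraMap_injective _ _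
  -- `S₀ ⊗ K` is a domain
  haveI : IsDomain (S₀ ⊗[R₀] FractionRing R₀) := by
    haveI : IsLocalization (Algebra.algebraMapSubmonoid S₀ (nonZeroDivisors R₀))
        (S₀ ⊗[R₀] FractionRing R₀) := IsLocalization.tensor (FractionRing R₀) (nonZeroDivisors R₀)
    apply IsLocalization.isDomain_of_le_nonZeroDivisors (S₀ ⊗[R₀] FractionRing R₀)
      (M := Algebra.algebraMapSubmonoid S₀ (nonZeroDivisors R₀))
    rintro _ ⟨r, hr, rfl⟩
    apply mem_nonZeroDivisors_of_ne_zero
    intro h0
    rw [← map_zero (algebraMap R₀ S₀)] at h0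
    exact nonZeroDivisors.ne_zero hr (hinj h0)
  -- `S₀ ⊗ R'` is a domain
  let ψ : S₀ ⊗[R₀] integralClosure R₀ (FractionRing R₀) →ₐ[R₀] S₀ ⊗[R₀] FractionRing R₀ :=
    Algebra.TensorProduct.map (AlgHom.id R₀ S₀) (integralClosure R₀ (FractionRing R₀)).val
  have hψinj : Function.Injective ψ := by
    have h1 : Function.Injective (LinearMap.lTensor S₀
        (integralClosure R₀ (FractionRing R₀)).val.toLinearMap) :=
      Module.Flat.lTensor_preserves_injective_linearMap _ Subtype.val_injective
    have h2 : ∀ x, ψ x = LinearMap.lTensor S₀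
        (integralClosure R₀ (FractionRing R₀)).val.toLinearMap x := by
      intro x
      induction x using TensorProduct.induction_on with
      | zero => simp
      | tmul a b => simp [ψ]
      | add x y hx hy => rw [map_add, map_add, hx, hy]
    intro x y hxy
    rw [h2, h2] at hxy
    exact h1 hxy
  haveI : IsDomain (S₀ ⊗[R₀] integralClosure R₀ (FractionRing R₀)) :=
    Function.Injective.isDomain (ψ : S₀ ⊗[R₀] integralClosure R₀ (FractionRing R₀) →+*
      S₀ ⊗[R₀] FractionRing R₀) hψinj
  obtain ⟨hH, -, -⟩ := Groth.Agent.S1964.result S₀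
    (S₀ ⊗[R₀] integralClosure R₀ (FractionRing R₀))
  haveI : IsLocalRing (S₀ ⊗[R₀] integralClosure R₀ (FractionRing R₀)) := hH.toIsLocalRing
  haveI : IsLocalRing (integralClosure R₀ (FractionRing R₀) ⊗[R₀] S₀) :=
    (Algebra.TensorProduct.comm R₀ S₀ (integralClosure R₀ (FractionRing R₀))).toRingEquiv.isLocalRing
  -- every maximal ideal of `R'` is the contraction of the maximal ideal
  have key : ∀ m' : Ideal (integralClosure R₀ (FractionRing R₀)), m'.IsMaximal →
      m' = (maximalIdeal (integralClosure R₀ (FractionRing R₀) ⊗[R₀] S₀)).comap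
        (algebraMap (integralClosure R₀ (FractionRing R₀))
          (integralClosure R₀ (FractionRing R₀) ⊗[R₀] S₀)) := by
    intro m' hm'
    obtain ⟨P, hP⟩ := PrimeSpectrum.comap_surjective_of_faithfullyFlat
      (A := integralClosure R₀ (FractionRing R₀))
      (B := integralClosure R₀ (FractionRing R₀) ⊗[R₀] S₀) ⟨m', hm'.isPrime⟩
    have hP' : P.asIdeal.comap (algebraMap (integralClosure R₀ (FractionRing R₀))
        (integralClosure R₀ (FractionRing R₀) ⊗[R₀] S₀)) = m' :=
      congrArg PrimeSpectrum.asIdeal hP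
    have hle : m' ≤ (maximalIdeal (integralClosure R₀ (FractionRing R₀) ⊗[R₀] S₀)).comap
        (algebraMap (integralClosure R₀ (FractionRing R₀))
          (integralClosure R₀ (FractionRing R₀) ⊗[R₀] S₀)) := by
      rw [← hP']
      exact Ideal.comap_mono (le_maximalIdeal P.2.ne_top)
    exact hm'.eq_of_le (Ideal.comap_isPrime _ _).ne_top hle
  obtain ⟨M₀, hM₀⟩ := Ideal.exists_maximal (integralClosure R₀ (FractionRing R₀))
  exact IsLocalRing.of_unique_max_ideal
    ⟨M₀, hM₀, fun M hM => (key M hM).trans (key M₀ hM₀).symm⟩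

/-- The core statement: a local ring is a unibranch domain iff its henselization is a domain. -/
theorem isDomain_henselization_iff :
    IsDomain S₀ ↔ ∃ _ : IsDomain R₀, IsLocalRing (integralClosure R₀ (FractionRing R₀)) := by
  constructor
  · intro h
    haveI := isDomain_of_isDomain_henselization R₀ S₀
    exact ⟨inferInstance, isLocalRing_integralClosure_of_isDomain_henselization R₀ S₀⟩
  · rintro ⟨h1, h2⟩
    exact isDomain_henselization_of_isLocalRing_integralClosure R₀ S₀

end Core

theorem isPrime_nilradical_iff_existsUnique_minimalPrimes (R : Type*) [CommRing R] :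
    (nilradical R).IsPrime ↔ ∃! p : Ideal R, p ∈ minimalPrimes R := by
  constructor
  · intro h
    have hmin : nilradical R ∈ minimalPrimes R := by
      refine ⟨⟨h, bot_le⟩, ?_⟩
      rintro q ⟨hq, -⟩ -
      exact nilradical_le_prime q
    refine ⟨nilradical R, hmin, ?_⟩
    intro p hp
    haveI := hp.1.1
    exact le_antisymm (hp.2 ⟨h, bot_le⟩ (nilradical_le_prime p)) (nilradical_le_prime p)
  · rintro ⟨p, hp, huniq⟩
    have h1 : minimalPrimes R = {p} := by
      ext q
      constructor
      · intro hq; exact huniq q hq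
      · rintro rfl; exact hp
    have h2 : nilradical R = p := by
      have := Ideal.sInf_minimalPrimes (I := (⊥ : Ideal R))
      change sInf (minimalPrimes R) = _ at this
      rw [h1, sInf_singleton] at this
      rw [this]
      rfl
    rw [h2]
    exact hp.1.1

theorem isLocalHom_quotient_map (A Ah : Type*) [CommRing A]
    [IsLocalRing A] [CommRing Ah] [IsLocalRing Ah] [Algebra A Ah] [IsLocalHom (algebraMap A Ah)]
    (I : Ideal A) (hI : I ≤ maximalIdeal A) :
    IsLocalHom (algebraMap (A ⧸ I) (Ah ⧸ I.map (algebraMap A Ah))) := by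
  have hIh : I.map (algebraMap A Ah) ≤ maximalIdeal Ah := by
    rw [Ideal.map_le_iff_le_comap]
    refine hI.trans ?_
    rw [((local_hom_TFAE (algebraMap A Ah)).out 0 4 rfl rfl).mp inferInstance]
  constructor
  intro x hx
  obtain ⟨a, rfl⟩ := Ideal.Quotient.mk_surjective x
  rw [Ideal.Quotient.algebraMap_quotient_map_quotient] at hx
  have h1 : IsUnit (algebraMap A Ah a) := by
    by_contra hnu
    have hmem : algebraMap A Ah a ∈ maximalIdeal Ah := (mem_maximalIdeal _).mpr hnu
    obtain ⟨y, hy⟩ := hx.exists_right_inv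
    obtain ⟨b, rfl⟩ := Ideal.Quotient.mk_surjective y
    rw [← map_mul, ← map_one (Ideal.Quotient.mk _), Ideal.Quotient.eq] at hy
    have h2 : algebraMap A Ah a * b ∈ maximalIdeal Ah := Ideal.mul_mem_right _ _ hmem
    have h3 : (1 : Ah) ∈ maximalIdeal Ah := by
      have := Ideal.sub_mem _ h2 (hIh hy)
      rwa [sub_sub_cancel] at this
    exact (maximalIdeal.isMaximal Ah).ne_top ((Ideal.eq_top_iff_one _).mpr h3)
  exact (isUnit_of_map_unit (algebraMap A Ah) a h1).map (Ideal.Quotient.mk I)

/-- A local ring is unibranch iff the nilradical of its henselization is prime. -/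
theorem isUnibranch_iff_isPrime_nilradical_henselization (A Ah : Type u) [CommRing A]
    [IsLocalRing A] [CommRing Ah] [IsLocalRing Ah] [Algebra A Ah] [IsLocalHom (algebraMap A Ah)]
    [Hensel.IsHenselization A Ah] :
    CAlg2.IsUnibranch A ↔ (nilradical Ah).IsPrime := by
  have hne : nilradical A ≠ ⊤ := by
    intro h
    have h1 : (1 : A) ∈ nilradical A := h ▸ Submodule.mem_top
    obtain ⟨n, hn⟩ := mem_nilradical.mp h1
    rw [one_pow] at hn
    exact one_ne_zero hn
  have hN : nilradical A ≤ maximalIdeal A := le_maximalIdeal hne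
  have hNh : (nilradical A).map (algebraMap A Ah) = nilradical Ah :=
    Groth.Agent.S1972.result A Ah (Or.inl inferInstance)
  have hneh : (nilradical A).map (algebraMap A Ah) ≠ ⊤ := by
    rw [hNh]
    intro h
    have h1 : (1 : Ah) ∈ nilradical Ah := h ▸ Submodule.mem_top
    obtain ⟨n, hn⟩ := mem_nilradical.mp h1
    rw [one_pow] at hn
    exact one_ne_zero hn
  haveI : Nontrivial (A ⧸ nilradical A) := Ideal.Quotient.nontrivial_iff.mpr hne
  haveI : Nontrivial (Ah ⧸ (nilradical A).map (algebraMap A Ah)) :=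
    Ideal.Quotient.nontrivial_iff.mpr hneh
  haveI : IsLocalRing (A ⧸ nilradical A) :=
    IsLocalRing.of_surjective' (Ideal.Quotient.mk _) Ideal.Quotient.mk_surjective
  haveI : IsLocalRing (Ah ⧸ (nilradical A).map (algebraMap A Ah)) :=
    IsLocalRing.of_surjective' (Ideal.Quotient.mk _) Ideal.Quotient.mk_surjective
  haveI : IsLocalHom (algebraMap (A ⧸ nilradical A)
      (Ah ⧸ (nilradical A).map (algebraMap A Ah))) := isLocalHom_quotient_map A Ah _ hN
  haveI : Hensel.IsHenselization (A ⧸ nilradical A)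
      (Ah ⧸ (nilradical A).map (algebraMap A Ah)) := Groth.Agent.S13598.result _ hN
  have hcore := isDomain_henselization_iff (A ⧸ nilradical A)
    (Ah ⧸ (nilradical A).map (algebraMap A Ah))
  rw [← hNh, ← Ideal.Quotient.isDomain_iff_prime, hcore]
  constructor
  · rintro ⟨h1, h2⟩
    exact ⟨h1, h2⟩
  · rintro ⟨h1, h2⟩
    exact ⟨h1, h2⟩

end Groth.Agent.Lib.Helper3
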