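import Groth.Agent.Lib.Helper3.FactorLift

/-!
# Lifting idempotents in finite / integral algebras over a Henselian pair (helper3)
-/

set_option autoImplicit false
universe u

namespace Groth.Agent.Lib.Helper3

open Polynomial

/-- Idempotents lift from `B/IB` to `B` for a finite algebra `B` over a Henselian pair `(A, I)`. -/
theorem exists_idempotent_lift_of_finite {A : Type u} [CommRing A] (I : Ideal A)
    [HenselianRing A I] {B : Type*} [CommRing B] [Algebra A B] [Module.Finite A B] (b : B)
    (hb : b * b - b ∈ I.map (algebraMap A B)) :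
    ∃ e : B, IsIdempotentElem e ∧ e - b ∈ I.map (algebraMap A B) := by
  classical
  have hjac : I ≤ Ideal.jacobson ⊥ := HenselianRing.jac
  set IB := I.map (algebraMap A B) with hIB
  have hint : Algebra.IsIntegral A B := Algebra.IsIntegral.of_finite A B
  have hIBjac : IB ≤ Ideal.jacobson ⊥ := map_le_jacobson_bot_of_isIntegral hjac
  -- Cayley–Hamilton
  let φ : Module.End A B := Algebra.lmul A B (b * b - b)
  have hφ : LinearMap.range φ ≤ I • (⊤ : Submodule A B) := by
    rintro _ ⟨x, rfl⟩
    rw [Ideal.smul_top_eq_map]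
    exact IB.mul_mem_right x hb
  obtain ⟨p, hpm, -, hpI, hpφ⟩ :=
    LinearMap.exists_monic_and_natDegree_eq_and_coeff_mem_pow_and_aeval_eq_zero A φ I hφ
  have hpb : aeval (b * b - b) p = 0 := by
    have h1 := hpφ
    rw [aeval_algHom_apply] at h1
    have := congrArg (fun f => f 1) h1
    simpa using this
  set d := p.natDegree with hd
  have hpmap : p.map (Ideal.Quotient.mk I) = X ^ d := by
    ext i
    rw [coeff_map, coeff_X_pow]
    split_ifs with h
    · subst h; rw [hpm.coeff_natDegree, map_one]
    · rcases lt_or_gt_of_ne h with hlt | hgt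
      · exact Ideal.Quotient.eq_zero_iff_mem.mpr (Ideal.pow_le_self (by omega) (hpI i))
      · rw [coeff_eq_zero_of_natDegree_lt hgt, map_zero]
  set N := d + 1 with hN
  have hQm : (X * (X - 1) : A[X]).Monic := by
    have := (monic_X (R := A)).mul (monic_X_sub_C (1 : A))
    simpa using this
  let f : A[X] := (p * X).comp (X * (X - 1))
  have hfm : f.Monic := by
    nontriviality A
    have h3 : (X * (X - 1) : A[X]).natDegree ≠ 0 := by
      have := (monic_X (R := A)).natDegree_mul (monic_X_sub_C (1 : A))
      rw [natDegree_X, natDegree_X_sub_C] at this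
      have h4 : (X * (X - 1) : A[X]).natDegree = 1 + 1 := by simpa using this
      omega
    exact (hpm.mul monic_X).comp hQm h3
  have hfb : aeval b f = 0 := by
    rw [aeval_comp]
    have : aeval b (X * (X - 1) : A[X]) = b * b - b := by simp; ring
    rw [this, map_mul, hpb, zero_mul]
  have hfmap : f.map (Ideal.Quotient.mk I) = X ^ N * (X - 1) ^ N := by
    rw [map_comp, Polynomial.map_mul, hpmap, map_X, Polynomial.map_mul, Polynomial.map_sub, map_X,
      Polynomial.map_one]
    simp only [mul_comp, X_comp, pow_comp, hN]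
    rw [← pow_succ, mul_pow]
  have hmon1 : ((X - 1 : (A ⧸ I)[X]) ^ N).Monic := by
    have := (monic_X_sub_C (1 : A ⧸ I)).pow N
    simpa using this
  have hcop0 : IsCoprime (X : (A ⧸ I)[X]) (X - 1) := ⟨1, -1, by ring⟩
  obtain ⟨g, h, hg, hh, hfgh, hgmap, hhmap⟩ := exists_factorization_lift I f hfm (X ^ N)
    ((X - 1) ^ N) (monic_X_pow N) hmon1 hcop0.pow hfmap
  -- Bezout over `A`
  have hcopA0 : IsCoprime (X : A[X]) (X - 1) := ⟨1, -1, by ring⟩
  have hcopA : IsCoprime ((X : A[X]) ^ N) ((X - 1) ^ N) := hcopA0.pow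
  obtain ⟨u, v, huv⟩ := hcopA
  have hD : ∀ i, (u * g + v * h - 1).coeff i ∈ I := by
    apply coeff_mem_of_map_eq_zero
    have := congrArg (Polynomial.map (Ideal.Quotient.mk I)) huv
    simp only [Polynomial.map_add, Polynomial.map_mul, Polynomial.map_pow, map_X,
      Polynomial.map_sub, Polynomial.map_one] at this
    simp only [Polynomial.map_sub, Polynomial.map_add, Polynomial.map_mul, hgmap, hhmap,
      Polynomial.map_one]
    rw [this, sub_self]
  set w : B := aeval b (u * g + v * h) with hw
  have hw1 : w - 1 ∈ IB := by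
    have := aeval_mem_map_of_coeff_mem (U := B) _ hD b
    simpa [hw] using this
  have hwu : IsUnit w := by
    have := isUnit_add_of_mem_jacobson_bot isUnit_one (hIBjac hw1)
    simpa using this
  obtain ⟨wu, hwu'⟩ := hwu
  have hgb : aeval b g - b ^ N ∈ IB := by
    have hDg : ∀ i, (g - X ^ N).coeff i ∈ I := by
      apply coeff_mem_of_map_eq_zero
      rw [Polynomial.map_sub, hgmap, Polynomial.map_pow, map_X, sub_self]
    have := aeval_mem_map_of_coeff_mem (U := B) _ hDg b
    simpa using this
  have hhb : aeval b h - (b - 1) ^ N ∈ IB := by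
    have hDh : ∀ i, (h - (X - 1) ^ N).coeff i ∈ I := by
      apply coeff_mem_of_map_eq_zero
      rw [Polynomial.map_sub, hhmap, Polynomial.map_pow, Polynomial.map_sub, map_X,
        Polynomial.map_one, sub_self]
    have := aeval_mem_map_of_coeff_mem (U := B) _ hDh b
    simpa using this
  have hg1 : aeval b g * (1 - b) ∈ IB := by
    have : aeval b g * (1 - b) = (aeval b g - b ^ N) * (1 - b) - b ^ d * (b * b - b) := by
      rw [hN, pow_succ]; ring
    rw [this]
    exact IB.sub_mem (IB.mul_mem_right _ hgb) (IB.mul_mem_left _ hb)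
  have hh1 : aeval b h * b ∈ IB := by
    have : aeval b h * b = (aeval b h - (b - 1) ^ N) * b + (b - 1) ^ d * (b * b - b) := by
      rw [hN, pow_succ]; ring
    rw [this]
    exact IB.add_mem (IB.mul_mem_right _ hhb) (IB.mul_mem_left _ hb)
  have hgh : aeval b g * aeval b h = 0 := by
    rw [← map_mul, ← hfgh, hfb]
  have hwinv : (↑wu⁻¹ : B) * w = 1 := by rw [← hwu']; exact wu.inv_mul
  have hwdef : w = aeval b u * aeval b g + aeval b v * aeval b h := by
    rw [hw, map_add, map_mul, map_mul]
  refine ⟨↑wu⁻¹ * (aeval b u * aeval b g), ?_, ?_⟩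
  · show _ * _ = _
    have key : aeval b u * aeval b g * (aeval b u * aeval b g) = w * (aeval b u * aeval b g) := by
      rw [hwdef]
      linear_combination (-(aeval b u * aeval b v)) * hgh
    calc ↑wu⁻¹ * (aeval b u * aeval b g) * (↑wu⁻¹ * (aeval b u * aeval b g))
        = ↑wu⁻¹ * ↑wu⁻¹ * (aeval b u * aeval b g * (aeval b u * aeval b g)) := by ring
      _ = ↑wu⁻¹ * (↑wu⁻¹ * w) * (aeval b u * aeval b g) := by rw [key]; ring
      _ = _ := by rw [hwinv, mul_one]
  · have h1 : aeval b u * aeval b g - w * b ∈ IB := by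
      have : aeval b u * aeval b g - w * b =
          aeval b u * (aeval b g * (1 - b)) - aeval b v * (aeval b h * b) := by
        rw [hwdef]; ring
      rw [this]
      exact IB.sub_mem (IB.mul_mem_left _ hg1) (IB.mul_mem_left _ hh1)
    have : ↑wu⁻¹ * (aeval b u * aeval b g) - b = ↑wu⁻¹ * (aeval b u * aeval b g - w * b) := by
      linear_combination b * hwinv
    rw [this]
    exact IB.mul_mem_left _ h1

/-- Idempotents lift from `B/IB` to `B` for an integral algebra `B` over a Henselian pair. -/
theorem exists_idempotent_lift_of_isIntegral {A : Type u} [CommRing A] (I : Ideal A)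
    [HenselianRing A I] {B : Type*} [CommRing B] [Algebra A B] [Algebra.IsIntegral A B] (b : B)
    (hb : b * b - b ∈ I.map (algebraMap A B)) :
    ∃ e : B, IsIdempotentElem e ∧ e - b ∈ I.map (algebraMap A B) := by
  classical
  rw [Ideal.map, Ideal.span, Submodule.mem_span_set'] at hb
  obtain ⟨n, c, g, hsum⟩ := hb
  choose a haI ha using fun i => (g i).2
  let S : Set B := insert b (Set.range c)
  have hSfin : S.Finite := (Set.finite_range c).insert b
  let B' : Subalgebra A B := Algebra.adjoin A S
  have hfg : B'.toSubmodule.FG :=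
    fg_adjoin_of_finite hSfin (fun x _ => Algebra.IsIntegral.isIntegral x)
  have hfin : Module.Finite A B' := Module.Finite.iff_fg.mpr hfg
  have hbmem : b ∈ B' := Algebra.subset_adjoin (Set.mem_insert _ _)
  have hcmem : ∀ i, c i ∈ B' := fun i =>
    Algebra.subset_adjoin (Set.mem_insert_of_mem _ (Set.mem_range_self i))
  let b' : B' := ⟨b, hbmem⟩
  have hb' : b' * b' - b' ∈ I.map (algebraMap A B') := by
    have : b' * b' - b' = ∑ i, (⟨c i, hcmem i⟩ : B') * algebraMap A B' (a i) := by
      apply Subtype.ext
      simp only [Subalgebra.coe_sub, Subalgebra.coe_mul, AddSubmonoidClass.coe_finsetSum,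
        Subalgebra.coe_algebraMap, b']
      rw [← hsum]
      refine Finset.sum_congr rfl fun i _ => ?_
      rw [smul_eq_mul, ← ha i]
    rw [this]
    exact Ideal.sum_mem _ fun i _ => Ideal.mul_mem_left _ _ (Ideal.mem_map_of_mem _ (haI i))
  obtain ⟨e', he', hee'⟩ := exists_idempotent_lift_of_finite I b' hb'
  refine ⟨(e' : B), ?_, ?_⟩
  · have := congrArg (Subtype.val) he'.eq
    show (e' : B) * (e' : B) = e'
    simpa using this
  · have h1 : ((e' - b' : B') : B) ∈ (I.map (algebraMap A B')).map B'.val.toRingHom :=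
      Ideal.mem_map_of_mem _ hee'
    rw [Ideal.map_map] at h1
    have h2 : (B'.val.toRingHom).comp (algebraMap A B') = algebraMap A B := by
      ext x; rfl
    rw [h2] at h1
    simpa using h1

end Groth.Agent.Lib.Helper3
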