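import Groth.Agent.Lib.Helper3.HenselFinite

/-!
# Basic facts on pairs `(A, I)` with `I ≤ jac` (helper3)
-/

set_option autoImplicit false

namespace Groth.Agent.Lib.Helper3

/-- For an integral algebra `B` over `A`, the extension of an ideal contained in the Jacobson
radical of `A` is contained in the Jacobson radical of `B`. -/
theorem map_le_jacobson_bot_of_isIntegral {A B : Type*} [CommRing A] [CommRing B] [Algebra A B]
    [Algebra.IsIntegral A B] {I : Ideal A} (hI : I ≤ Ideal.jacobson ⊥) :
    I.map (algebraMap A B) ≤ Ideal.jacobson ⊥ := by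
  rw [Ideal.jacobson, le_sInf_iff]
  rintro 𝔮 ⟨-, h𝔮⟩
  rw [Ideal.map_le_iff_le_comap]
  have : (𝔮.under A).IsMaximal := Ideal.isMaximal_comap_of_isIntegral_of_isMaximal 𝔮
  exact hI.trans (sInf_le ⟨bot_le, this⟩)

/-- Two idempotents which are congruent modulo the Jacobson radical are equal. -/
theorem eq_of_isIdempotentElem_of_sub_mem_jacobson {S : Type*} [CommRing S] {e e' : S}
    (he : IsIdempotentElem e) (he' : IsIdempotentElem e')
    (h : e - e' ∈ Ideal.jacobson (⊥ : Ideal S)) : e = e' := by
  have h1 : IsUnit ((e - e') * (-(e - e')) + 1) := Ideal.mem_jacobson_bot.mp h _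
  have h2 : (e - e') * ((e - e') * (-(e - e')) + 1) = 0 := by
    have e1 := he.eq
    have e2 := he'.eq
    linear_combination (-e + 3 * e' - 1) * e1 + (-3 * e + e' + 1) * e2
  exact sub_eq_zero.mp ((h1.mul_left_eq_zero).mp h2)

/-- If `I ≤ jac` and `A ⧸ I` is trivial then `A` is trivial. -/
theorem subsingleton_of_subsingleton_quotient {A : Type*} [CommRing A] {I : Ideal A}
    (hjac : I ≤ Ideal.jacobson ⊥) [Subsingleton (A ⧸ I)] : Subsingleton A := by
  have h1 : (1 : A) ∈ I := by
    rw [← Ideal.Quotient.eq_zero_iff_mem]; exact Subsingleton.elim _ _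
  have h4 : IsUnit ((1 : A) * (-1) + 1) := Ideal.mem_jacobson_bot.mp (hjac h1) (-1)
  have h5 : (0 : A) = 1 := by
    have : IsUnit (0 : A) := by simpa using h4
    exact isUnit_zero_iff.mp this
  exact subsingleton_of_zero_eq_one h5

end Groth.Agent.Lib.Helper3
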