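import Groth.Agent.Lib.Helper3.EtaleSection2
import Groth.Agent.Lib.Helper3.IdemLift
import Groth.Agent.Lib.Helper3.PairBasics

/-!
# Splitting quasi-finite algebras over a Henselian pair (helper3)

`exists_idempotent_split_of_pair`: let `(A, I)` be a Henselian pair and `S` a finite type
`A`-algebra satisfying Zariski's main property at all primes of `V(IS)` (e.g. quasi-finite there)
with `S/IS` integral over `A`. Then `S ≅ S₁ × S₂` with `S₁` finite over `A` and `S₂/IS₂ = 0`.
-/

set_option autoImplicit false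

namespace Groth.Agent.Lib.Helper3

universe u

/-- Global ZMT element along `V(ker f)` when the target is integral over the base. -/
theorem exists_isIntegral_map_eq_one_of_isIntegral {R S T : Type*} [CommRing R] [CommRing S]
    [Algebra R S] [CommRing T] (f : S →+* T) (hint : (f.comp (algebraMap R S)).IsIntegral)
    (hqf : ∀ p : Ideal S, p.IsPrime → RingHom.ker f ≤ p → Algebra.ZariskisMainProperty R p) :
    ∃ r : S, f r = 1 ∧ IsIntegral R r ∧ ∀ x : S, ∃ m : ℕ, IsIntegral R (r ^ m * x) := by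
  let g : integralClosure R S →+* T := f.comp (integralClosure R S).val.toRingHom
  have hg : g.IsIntegral := by
    have h0 : (g.comp (algebraMap R (integralClosure R S))).IsIntegral := hint
    exact RingHom.IsIntegral.tower_top _ g h0
  suffices h : zmtIdeal R S ⊔ RingHom.ker g = ⊤ by
    have h1 : (1 : integralClosure R S) ∈ zmtIdeal R S ⊔ RingHom.ker g := h ▸ Submodule.mem_top
    obtain ⟨t, ht, k, hk, htk⟩ := Submodule.mem_sup.mp h1
    refine ⟨t, ?_, t.2, mem_zmtIdeal.mp ht⟩
    have h2 : g t + g k = 1 := by rw [← map_add, htk, map_one]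
    rw [RingHom.mem_ker.mp hk, add_zero] at h2
    exact h2
  by_contra hne
  obtain ⟨𝔫, h𝔫, hle⟩ := Ideal.exists_le_maximal _ hne
  let algT : Algebra (integralClosure R S) T := g.toAlgebra
  have hintT : Algebra.IsIntegral (integralClosure R S) T := ⟨hg⟩
  obtain ⟨Q, hQ, hQ𝔫⟩ := Ideal.exists_ideal_over_maximal_of_isIntegral (S := T) 𝔫
    (le_sup_right.trans hle)
  have hQp : Q.IsPrime := hQ.isPrime
  have hp : (Q.comap f).IsPrime := Ideal.comap_isPrime f Q
  have hker : RingHom.ker f ≤ Q.comap f := by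
    intro x hx
    rw [Ideal.mem_comap, RingHom.mem_ker.mp hx]
    exact zero_mem _
  obtain ⟨r, hrp, hr, hm⟩ := Algebra.zariskisMainProperty_iff.mp (hqf _ hp hker)
  apply hrp
  have hmem : (⟨r, hr⟩ : integralClosure R S) ∈ zmtIdeal R S := mem_zmtIdeal.mpr hm
  have h2 : (⟨r, hr⟩ : integralClosure R S) ∈ 𝔫 := hle (Ideal.mem_sup_left hmem)
  rw [← hQ𝔫] at h2
  exact h2

section Away

variable {A : Type*} [CommRing A] {S : Type*} [CommRing S] [Algebra A S] (S' : Subalgebra A S)
  (r' : S') (hbij : Function.Bijective (Localization.awayMap S'.val.toRingHom r'))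

include hbij

/-- Every element of `S` is, up to a power of `r'`, in `S'`. -/
theorem exists_pow_mul_eq_of_awayMap_bijective (x : S) :
    ∃ (m : ℕ) (y' : S'), (r' : S) ^ m * x = (y' : S) := by
  obtain ⟨z, hz⟩ := hbij.2 (algebraMap S (Localization.Away (S'.val.toRingHom r')) x)
  obtain ⟨⟨y', ⟨_, n, rfl⟩⟩, rfl⟩ := IsLocalization.mk'_surjective (Submonoid.powers r') z
  rw [Localization.awayMap, IsLocalization.Away.map, IsLocalization.map_mk',
    IsLocalization.mk'_eq_iff_eq_mul, ← map_mul,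
    IsLocalization.eq_iff_exists (Submonoid.powers (S'.val.toRingHom r'))] at hz
  obtain ⟨⟨_, k, rfl⟩, hc⟩ := hz
  simp only [Subalgebra.coe_val, AlgHom.toRingHom_eq_coe, RingHom.coe_coe, map_pow] at hc
  refine ⟨k + n, r' ^ k * y', ?_⟩
  rw [Subalgebra.coe_mul, Subalgebra.coe_pow, hc]
  ring

/-- The same for elements of `IS`, landing in `IS'`. -/
theorem exists_pow_mul_eq_of_mem_map (I : Ideal A) (x : S) (hx : x ∈ I.map (algebraMap A S)) :
    ∃ (m : ℕ) (y' : S'), y' ∈ I.map (algebraMap A S') ∧ (r' : S) ^ m * x = (y' : S) := by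
  rw [Ideal.map] at hx
  induction hx using Submodule.span_induction with
  | mem x hx =>
    obtain ⟨a, ha, rfl⟩ := hx
    exact ⟨0, algebraMap A S' a, Ideal.mem_map_of_mem _ ha, by simp⟩
  | zero => exact ⟨0, 0, zero_mem _, by simp⟩
  | add x₁ x₂ _ _ h₁ h₂ =>
    obtain ⟨m₁, y₁, hy₁, e₁⟩ := h₁
    obtain ⟨m₂, y₂, hy₂, e₂⟩ := h₂
    refine ⟨m₁ + m₂, r' ^ m₂ * y₁ + r' ^ m₁ * y₂,
      Ideal.add_mem _ (Ideal.mul_mem_left _ _ hy₁) (Ideal.mul_mem_left _ _ hy₂), ?_⟩
    rw [Subalgebra.coe_add, Subalgebra.coe_mul, Subalgebra.coe_mul, Subalgebra.coe_pow,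
      Subalgebra.coe_pow, ← e₁, ← e₂]
    ring
  | smul s x _ h =>
    obtain ⟨m, y, hy, e⟩ := h
    obtain ⟨k, z, hz⟩ := exists_pow_mul_eq_of_awayMap_bijective S' r' hbij s
    refine ⟨k + m, z * y, Ideal.mul_mem_left _ _ hy, ?_⟩
    rw [Subalgebra.coe_mul, ← e, ← hz, smul_eq_mul]
    ring

/-- If `r'` is invertible on the idempotent `e'` of the finite algebra `S'`, then `S/(1 - e')` is
finite. -/
theorem finite_quotient_of_awayMap_bijective [Module.Finite A S'] (e' u' : S')
    (hu' : r' * u' * e' = e') :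
    Module.Finite A (S ⧸ Ideal.span ({1 - (e' : S)} : Set S)) := by
  set L : Ideal S := Ideal.span ({1 - (e' : S)} : Set S) with hL
  let ψ : S' →ₐ[A] S ⧸ L := (Ideal.Quotient.mkₐ A L).comp S'.val
  have hmke : Ideal.Quotient.mk L (e' : S) = 1 := by
    rw [← map_one (Ideal.Quotient.mk L), eq_comm, Ideal.Quotient.eq]
    exact Ideal.subset_span rfl
  have hunit : Ideal.Quotient.mk L (r' : S) * Ideal.Quotient.mk L (u' : S) = 1 := by
    have h1 := congrArg (fun x : S' => Ideal.Quotient.mk L (x : S)) hu'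
    simp only [Subalgebra.coe_mul, map_mul, hmke, mul_one] at h1
    exact h1
  suffices hsurj : Function.Surjective ψ from Module.Finite.of_surjective ψ.toLinearMap hsurj
  intro y
  obtain ⟨x, rfl⟩ := Ideal.Quotient.mk_surjective y
  obtain ⟨m, y', hy'⟩ := exists_pow_mul_eq_of_awayMap_bijective S' r' hbij x
  refine ⟨y' * u' ^ m, ?_⟩
  change Ideal.Quotient.mk L ((y' : S) * (u' : S) ^ m) = _
  rw [← hy']
  have : Ideal.Quotient.mk L ((r' : S) ^ m * x * (u' : S) ^ m) =
      Ideal.Quotient.mk L x *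
        (Ideal.Quotient.mk L (r' : S) * Ideal.Quotient.mk L (u' : S)) ^ m := by
    simp only [map_mul, map_pow]
    ring
  rw [this, hunit, one_pow, mul_one]

end Away

/-- In a finite algebra `S'` over a Henselian pair, if `Δ^M (1 - Δ) ∈ IS'` then there is an
idempotent `e'` on which `Δ` is invertible and with `(1 - e') Δ^(M+1) ∈ IS'`. -/
theorem exists_idempotent_unit_of_pow_mul_mem {A : Type u} [CommRing A] (I : Ideal A)
    [HenselianRing A I] {S' : Type*} [CommRing S'] [Algebra A S'] [Module.Finite A S'] (Δ : S')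
    (M : ℕ) (hM : Δ ^ M * (1 - Δ) ∈ I.map (algebraMap A S')) :
    ∃ e' u' : S', IsIdempotentElem e' ∧ Δ * u' * e' = e' ∧
      (1 - e') * Δ ^ (M + 1) ∈ I.map (algebraMap A S') := by
  set J := I.map (algebraMap A S') with hJ
  have hint : Algebra.IsIntegral A S' := Algebra.IsIntegral.of_finite A S'
  have hJjac : J ≤ Ideal.jacobson ⊥ := map_le_jacobson_bot_of_isIntegral HenselianRing.jac
  -- `Δ^(M+1) - Δ^(M+1+k) ∈ J`
  have hpow : ∀ k : ℕ, Δ ^ (M + 1) - Δ ^ (M + 1 + k) ∈ J := by
    intro k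
    induction k with
    | zero => simp
    | succ k ih =>
      have : Δ ^ (M + 1) - Δ ^ (M + 1 + (k + 1)) =
          (Δ ^ (M + 1) - Δ ^ (M + 1 + k)) + Δ ^ (k + 1) * (Δ ^ M * (1 - Δ)) := by ring
      rw [this]
      exact J.add_mem ih (J.mul_mem_left _ hM)
  set b := Δ ^ (M + 1) with hb
  have hbb : b * b - b ∈ J := by
    have h1 := hpow (M + 1)
    have : b * b - b = -(Δ ^ (M + 1) - Δ ^ (M + 1 + (M + 1))) := by rw [hb]; ring
    rw [this]
    exact J.neg_mem h1
  obtain ⟨e', he', hee⟩ := exists_idempotent_lift_of_finite I b hbb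
  -- `Δ * Δ^M * e' = e' + j e'`-type relation
  have h1 : Δ * Δ ^ M * e' - e' ∈ J := by
    have : Δ * Δ ^ M * e' - e' = b * (e' - b) + (b * b - b) - (e' - b) := by rw [hb]; ring
    rw [this]
    exact J.sub_mem (J.add_mem (J.mul_mem_left _ hee) hbb) hee
  set j := Δ * Δ ^ M * e' - e' with hj
  have hunit : IsUnit (1 + j) := by
    have := Ideal.mem_jacobson_bot.mp (hJjac h1) 1
    simpa [add_comm] using this
  obtain ⟨v, hv⟩ := hunit.exists_right_inv
  refine ⟨e', Δ ^ M * v, he', ?_, ?_⟩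
  · have hje : j * e' = j := by
      rw [hj, sub_mul, mul_assoc, he'.eq]
    have : Δ * (Δ ^ M * v) * e' = (e' + j * e') * v := by
      rw [hj, sub_mul, mul_assoc (Δ * Δ ^ M) e' e', he'.eq]
      ring
    rw [this, hje]
    have h2 : (e' + j) = e' * (1 + j) := by
      rw [mul_add, mul_one, mul_comm e' j, hje]
    rw [h2, mul_assoc, hv, mul_one]
  · have : (1 - e') * b = (1 - e') * (b - e') + (e' - e' * e') := by ring
    rw [this, he'.eq, sub_self, add_zero]
    apply J.mul_mem_left
    have := J.neg_mem hee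
    simpa using this

/-- **Quasi-finite algebras over a Henselian pair split.** -/
theorem exists_idempotent_split_of_pair {A : Type u} [CommRing A] (I : Ideal A)
    [HenselianRing A I] (S : Type u) [CommRing S] [Algebra A S] [Algebra.FiniteType A S]
    (hzmp : ∀ p : Ideal S, p.IsPrime → I.map (algebraMap A S) ≤ p →
      Algebra.ZariskisMainProperty A p)
    (hint : Algebra.IsIntegral A (S ⧸ I.map (algebraMap A S))) :
    ∃ e : S, IsIdempotentElem e ∧ Module.Finite A (S ⧸ Ideal.span ({1 - e} : Set S)) ∧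
      I.map (algebraMap A (S ⧸ Ideal.span ({e} : Set S))) = ⊤ := by
  set IS := I.map (algebraMap A S) with hIS
  obtain ⟨Δ, hΔ1, hΔ, hm⟩ := exists_isIntegral_map_eq_one_of_isIntegral (R := A)
    (Ideal.Quotient.mk IS) (algebraMap_isIntegral_iff.mpr hint)
    (fun p hp hker => hzmp p hp (by rwa [Ideal.mk_ker] at hker))
  have hΔIS : 1 - Δ ∈ IS := by
    rw [← Ideal.Quotient.eq, map_one, hΔ1]
  obtain ⟨S', hfg, r', rfl, hbij⟩ := exists_fg_and_awayMap_bijective Δ hΔ hm
  have hfin : Module.Finite A S' := ⟨(Submodule.fg_top _).mpr hfg⟩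
  obtain ⟨M, y', hy', hMy⟩ := exists_pow_mul_eq_of_mem_map S' r' hbij I _ hΔIS
  have hM' : r' ^ M * (1 - r') ∈ I.map (algebraMap A S') := by
    have : r' ^ M * (1 - r') = y' := by
      apply Subtype.ext
      rw [← hMy]
      simp
    rw [this]; exact hy'
  obtain ⟨e', u', he', hu', hrest⟩ := exists_idempotent_unit_of_pow_mul_mem I r' M hM'
  refine ⟨(e' : S), ?_, finite_quotient_of_awayMap_bijective S' r' hbij e' u' hu', ?_⟩
  · have := congrArg (fun x : S' => (x : S)) he'.eq
    simpa [IsIdempotentElem] using this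
  · rw [Ideal.eq_top_iff_one]
    set L : Ideal S := Ideal.span ({(e' : S)} : Set S) with hL
    set J := I.map (algebraMap A (S ⧸ L)) with hJ
    have hmkIS : ∀ x ∈ IS, Ideal.Quotient.mk L x ∈ J := by
      intro x hx
      have : J = IS.map (Ideal.Quotient.mk L) := by
        rw [hJ, hIS, Ideal.map_map]; rfl
      rw [this]; exact Ideal.mem_map_of_mem _ hx
    have hmkIS' : ∀ x' ∈ I.map (algebraMap A S'), Ideal.Quotient.mk L (x' : S) ∈ J := by
      intro x' hx'
      apply hmkIS
      have : IS = (I.map (algebraMap A S')).map S'.val.toRingHom := by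
        rw [hIS, Ideal.map_map]; rfl
      rw [this]; exact Ideal.mem_map_of_mem _ hx'
    have hmke : Ideal.Quotient.mk L (e' : S) = 0 :=
      Ideal.Quotient.eq_zero_iff_mem.mpr (Ideal.subset_span rfl)
    -- `Δ^(M+1) ∈ J`
    have h1 : Ideal.Quotient.mk L ((r' : S) ^ (M + 1)) ∈ J := by
      have := hmkIS' _ hrest
      simpa [hmke] using this
    -- `1 - Δ^(M+1) ∈ J`
    have h2 : Ideal.Quotient.mk L (1 - (r' : S) ^ (M + 1)) ∈ J := by
      apply hmkIS
      have hdvd : (1 - (r' : S)) ∣ 1 - (r' : S) ^ (M + 1) := by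
        have := sub_dvd_pow_sub_pow (1 : S) (r' : S) (M + 1)
        simpa using this
      obtain ⟨c, hc⟩ := hdvd
      rw [hc]
      exact IS.mul_mem_right _ hΔIS
    have := J.add_mem h1 h2
    rw [← map_add] at this
    simpa using this

end Groth.Agent.Lib.Helper3
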