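import Groth.Agent.Lib.Helper3.EtaleQuotLift
import Groth.Agent.Lib.Helper3.PairSplit

/-!
# Finite étale algebras lift along Henselian pairs (helper3)
-/

set_option autoImplicit false

open TensorProduct

namespace Groth.Agent.Lib.Helper3

universe u

theorem exists_finite_etale_lift_of_pair (A : Type u) [CommRing A] (I : Ideal A)
    [HenselianRing A I] (C : Type u) [CommRing C] [Algebra (A ⧸ I) C] [Module.Finite (A ⧸ I) C]
    [Algebra.Etale (A ⧸ I) C] :
    ∃ (B : Type u) (_ : CommRing B) (_ : Algebra A B), Module.Finite A B ∧ Algebra.Etale A B ∧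
      Nonempty ((A ⧸ I) ⊗[A] B ≃ₐ[A ⧸ I] C) := by
  obtain ⟨B', _, _, hetale, ψ, hsurj, hker, hcomm⟩ := exists_etale_lift_of_quotient I C
  -- integrality of `B'/IB'` over `A`
  have hintC : Algebra.IsIntegral (A ⧸ I) C := Algebra.IsIntegral.of_finite _ _
  have hint : Algebra.IsIntegral A (B' ⧸ I.map (algebraMap A B')) := by
    constructor
    intro x
    obtain ⟨x, rfl⟩ := Ideal.Quotient.mk_surjective x
    obtain ⟨p, hp, hpx⟩ := hintC.isIntegral (ψ x)
    obtain ⟨q, hq, -, hqm⟩ := Polynomial.lifts_and_natDegree_eq_and_monic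
      ((Polynomial.mem_lifts p).mpr (Polynomial.map_surjective _ Ideal.Quotient.mk_surjective p)) hp
    refine ⟨q, hqm, ?_⟩
    -- `ψ (q(x)) = p(ψ x) = 0`
    have h1 : ψ (Polynomial.eval₂ (algebraMap A B') x q) = 0 := by
      rw [Polynomial.hom_eval₂]
      have : ψ.comp (algebraMap A B') = (algebraMap (A ⧸ I) C).comp (Ideal.Quotient.mk I) :=
        RingHom.ext hcomm
      rw [this, ← Polynomial.eval₂_map, hq]
      exact hpx
    have h2 : Polynomial.eval₂ (algebraMap A B') x q ∈ I.map (algebraMap A B') := by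
      rw [← hker]; exact h1
    have h3 := Ideal.Quotient.eq_zero_iff_mem.mpr h2
    rw [Polynomial.hom_eval₂] at h3
    exact h3
  obtain ⟨e, he, hfin, htop⟩ := exists_idempotent_split_of_pair I B'
    (fun p hp _ => Algebra.ZariskisMainProperty.of_finiteType p) hint
  -- `ψ e = 1`
  have hψe : ψ e = 1 := by
    have h1 : (1 : B' ⧸ Ideal.span ({e} : Set B')) ∈
        I.map (algebraMap A (B' ⧸ Ideal.span ({e} : Set B'))) := htop ▸ Submodule.mem_top
    have h2 : I.map (algebraMap A (B' ⧸ Ideal.span ({e} : Set B'))) =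
        (I.map (algebraMap A B')).map (Ideal.Quotient.mk _) := by
      rw [Ideal.map_map]; rfl
    rw [h2, Ideal.mem_map_iff_of_surjective _ Ideal.Quotient.mk_surjective] at h1
    obtain ⟨i, hi, hi1⟩ := h1
    rw [← map_one (Ideal.Quotient.mk _), Ideal.Quotient.eq, Ideal.mem_span_singleton'] at hi1
    obtain ⟨c, hc⟩ := hi1
    have hψi : ψ i = 0 := by rw [← RingHom.mem_ker, hker]; exact hi
    have h3 : ψ c * ψ e = -1 := by
      rw [← map_mul, hc, map_sub, hψi, map_one, zero_sub]
    have h4 : ψ e * ψ e = ψ e := by rw [← map_mul, he.eq]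
    have h5 : ψ e * (ψ e - 1) = 0 := by rw [mul_sub, h4, mul_one, sub_self]
    have h6 : ψ e - 1 = 0 := by
      have : (ψ c * ψ e) * (ψ e - 1) = 0 := by rw [mul_assoc, h5, mul_zero]
      rw [h3] at this
      linear_combination -this
    exact sub_eq_zero.mp h6
  -- the finite étale algebra
  set L : Ideal B' := Ideal.span ({1 - e} : Set B') with hL
  have hloc : IsLocalization.Away e (B' ⧸ L) :=
    IsLocalization.away_of_isIdempotentElem he
      (by rw [Ideal.Quotient.algebraMap_eq, Ideal.mk_ker]) Ideal.Quotient.mk_surjective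
  have hfe1 : Algebra.FormallyEtale B' (B' ⧸ L) :=
    Algebra.FormallyEtale.of_isLocalization (Submonoid.powers e)
  have hfp1 : Algebra.FinitePresentation B' (B' ⧸ L) :=
    IsLocalization.Away.finitePresentation e
  have het1 : Algebra.Etale B' (B' ⧸ L) := ⟨hfe1, hfp1⟩
  have het : Algebra.Etale A (B' ⧸ L) := Algebra.Etale.comp A B' (B' ⧸ L)
  refine ⟨B' ⧸ L, inferInstance, inferInstance, hfin, het, ?_⟩
  -- the isomorphism
  let χ : B' ⧸ L →+* C := Ideal.Quotient.lift L ψ (by
    intro x hx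
    obtain ⟨c, rfl⟩ := Ideal.mem_span_singleton'.mp hx
    rw [map_mul, map_sub, map_one, hψe, sub_self, mul_zero])
  have hχ : ∀ x, χ (Ideal.Quotient.mk L x) = ψ x := fun x => rfl
  have hχker : ∀ y, χ y = 0 → y ∈ I.map (algebraMap A (B' ⧸ L)) := by
    intro y hy
    obtain ⟨x, rfl⟩ := Ideal.Quotient.mk_surjective y
    rw [hχ] at hy
    have h1 : x ∈ I.map (algebraMap A B') := by rw [← hker]; exact hy
    have h2 : I.map (algebraMap A (B' ⧸ L)) =
        (I.map (algebraMap A B')).map (Ideal.Quotient.mk L) := by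
      rw [Ideal.map_map]; rfl
    rw [h2]; exact Ideal.mem_map_of_mem _ h1
  let f₀ : (B' ⧸ L) ⧸ I.map (algebraMap A (B' ⧸ L)) →+* C :=
    Ideal.Quotient.lift _ χ (by
      intro y hy
      have h2 : I.map (algebraMap A (B' ⧸ L)) ≤ RingHom.ker χ := by
        rw [Ideal.map_le_iff_le_comap]
        intro a ha
        rw [Ideal.mem_comap, RingHom.mem_ker]
        change ψ (algebraMap A B' a) = 0
        rw [hcomm, Ideal.Quotient.eq_zero_iff_mem.mpr ha, map_zero]
      exact h2 hy)
  let f : (B' ⧸ L) ⧸ I.map (algebraMap A (B' ⧸ L)) →ₐ[A ⧸ I] C :=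
    { f₀ with
      commutes' := by
        intro x
        obtain ⟨a, rfl⟩ := Ideal.Quotient.mk_surjective x
        change ψ (algebraMap A B' a) = _
        rw [hcomm] }
  have hf : Function.Bijective f := by
    constructor
    · rw [injective_iff_map_eq_zero]
      intro y hy
      obtain ⟨y, rfl⟩ := Ideal.Quotient.mk_surjective y
      exact Ideal.Quotient.eq_zero_iff_mem.mpr (hχker y hy)
    · intro c
      obtain ⟨x, rfl⟩ := hsurj c
      exact ⟨Ideal.Quotient.mk _ (Ideal.Quotient.mk L x), rfl⟩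
  exact ⟨(Algebra.TensorProduct.quotIdealMapEquivQuotTensor (B' ⧸ L) I).symm.trans
    (AlgEquiv.ofBijective f hf)⟩

end Groth.Agent.Lib.Helper3
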