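import Mathlib

/-!
# Basic theory of Henselian pairs (helper3)
-/

set_option autoImplicit false
universe u

namespace Groth.Agent.Lib.Helper3

open Polynomial

/-- A ring is adically complete with respect to a nilpotent ideal. -/
theorem isAdicComplete_of_pow_eq_bot {R : Type*} [CommRing R] (I : Ideal R) (N : ℕ)
    (hN : I ^ N = ⊥) : IsAdicComplete I R where
  haus' := by
    intro x hx
    have := hx N
    rw [hN, SModEq.zero] at this
    simpa using this
  prec' := by
    intro f hf
    refine ⟨f N, fun n => ?_⟩
    rcases le_total n N with h | h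
    · exact hf h
    · have := hf h
      rw [hN, SModEq.sub_mem] at this
      have h2 : f N = f n := by
        simpa [sub_eq_zero] using this
      rw [h2]

/-- A ring is Henselian at any locally nilpotent ideal. -/
theorem henselianRing_of_nil {A : Type*} [CommRing A] (I : Ideal A)
    (hI : ∀ x ∈ I, IsNilpotent x) : HenselianRing A I where
  jac := by
    intro x hx
    rw [Ideal.mem_jacobson_bot]
    intro y
    have h1 : IsNilpotent (x * y) := by
      exact hI _ (I.mul_mem_right _ hx)
    exact h1.isUnit_add_one
  is_henselian := by
    intro f hf a₀ h₁ h₂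
    have hjac : I ≤ Ideal.jacobson ⊥ := by
      intro x hx
      rw [Ideal.mem_jacobson_bot]
      intro y
      exact (hI _ (I.mul_mem_right _ hx)).isUnit_add_one
    have hloc := isLocalHom_of_le_jacobson_bot I hjac
    have hu : IsUnit (f.derivative.eval a₀) := IsUnit.of_map (Ideal.Quotient.mk I) _ h₂
    obtain ⟨N, hN⟩ := hI _ h₁
    set J : Ideal A := Ideal.span {f.eval a₀} with hJ
    have hJN : J ^ N = ⊥ := by
      rw [hJ, Ideal.span_singleton_pow, hN]
      simp
    have hJI : J ≤ I := by
      rw [hJ, Ideal.span_le]
      simpa using h₁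
    have := isAdicComplete_of_pow_eq_bot J N hJN
    obtain ⟨a, ha, ha'⟩ := HenselianRing.is_henselian (I := J) f hf a₀
      (Ideal.subset_span rfl) (hu.map _)
    exact ⟨a, ha, hJI ha'⟩

end Groth.Agent.Lib.Helper3
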