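import Groth.Agent.Lib.Helper3.IdemBij

/-!
# Maps between finite étale algebras over a Henselian pair (helper3)
-/

set_option autoImplicit false
universe u

namespace Groth.Agent.Lib.Helper3

open TensorProduct

/-- Two algebra maps from an unramified algebra of finite type to an integral algebra which agree
modulo `I B₂`, where `I ≤ jac`, are equal. -/
theorem algHom_ext_of_sub_mem_map {A : Type*} [CommRing A] {I : Ideal A}
    (hjac : I ≤ Ideal.jacobson ⊥) {B₁ B₂ : Type*} [CommRing B₁] [CommRing B₂] [Algebra A B₁]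
    [Algebra A B₂] [Algebra.FormallyUnramified A B₁] [Algebra.EssFiniteType A B₁]
    [Algebra.IsIntegral A B₂] (φ ψ : B₁ →ₐ[A] B₂)
    (h : ∀ b, φ b - ψ b ∈ I.map (algebraMap A B₂)) : φ = ψ := by
  set IB := I.map (algebraMap A B₂) with hIB
  have hIBjac : IB ≤ Ideal.jacobson ⊥ := map_le_jacobson_bot_of_isIntegral hjac
  let Φ : B₁ ⊗[A] B₁ →ₐ[A] B₂ := Algebra.TensorProduct.productMap φ ψ
  let Ψ : B₁ ⊗[A] B₁ →ₐ[A] B₂ := φ.comp (Algebra.TensorProduct.lmul' A)
  have hΦΨ : ∀ t, Φ t - Ψ t ∈ IB := by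
    intro t
    induction t using TensorProduct.induction_on with
    | zero => simp
    | tmul x y =>
      have : Φ (x ⊗ₜ y) - Ψ (x ⊗ₜ y) = - (φ x * (φ y - ψ y)) := by
        simp [Φ, Ψ]; ring
      rw [this]
      exact IB.neg_mem (IB.mul_mem_left _ (h y))
    | add x y hx hy =>
      rw [map_add, map_add, add_sub_add_comm]
      exact IB.add_mem hx hy
  set t := Algebra.FormallyUnramified.elem A B₁ with ht
  have hε : IsUnit (Φ t) := by
    have h1 : Ψ t = 1 := by
      show φ (Algebra.TensorProduct.lmul' A t) = 1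
      rw [ht, Algebra.FormallyUnramified.lmul_elem, map_one]
    have h2 := hΦΨ t
    rw [h1] at h2
    have := isUnit_add_of_mem_jacobson_bot isUnit_one (hIBjac h2)
    simpa using this
  ext s
  have h0 : (ψ s - φ s) * Φ t = 0 := by
    have := congrArg Φ (Algebra.FormallyUnramified.one_tmul_sub_tmul_one_mul_elem (R := A) s)
    rw [map_mul, map_zero, map_sub] at this
    simpa [Φ] using this
  have := (hε.mul_left_eq_zero).mp h0
  exact (sub_eq_zero.mp this).symm

/-- Over a Henselian pair, maps from a finite étale algebra `B₁` to `B₂ / I B₂`, with `B₂`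
integral, lift to maps `B₁ → B₂`. -/
theorem exists_algHom_lift_of_finite_etale {A : Type u} [CommRing A] (I : Ideal A)
    [HenselianRing A I] {B₁ B₂ : Type u} [CommRing B₁] [CommRing B₂] [Algebra A B₁] [Algebra A B₂]
    [Module.Finite A B₁] [Algebra.Etale A B₁] [Algebra.IsIntegral A B₂]
    (χ : B₁ →ₐ[A] B₂ ⧸ I.map (algebraMap A B₂)) :
    ∃ φ : B₁ →ₐ[A] B₂, ∀ b, Ideal.Quotient.mk (I.map (algebraMap A B₂)) (φ b) = χ b := by
  have hH : HenselianRing B₂ (I.map (algebraMap A B₂)) := henselianRing_map_of_isIntegral I B₂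
  have hloc : IsLocalization.Away (1 : B₂ ⊗[A] B₁) (B₂ ⊗[A] B₁) :=
    IsLocalization.away_of_isUnit_of_bijective _ isUnit_one Function.bijective_id
  let s' : B₂ ⊗[A] B₁ →ₐ[B₂] B₂ ⧸ I.map (algebraMap A B₂) :=
    Algebra.TensorProduct.lift (Algebra.ofId B₂ _) χ (fun _ _ => Commute.all _ _)
  obtain ⟨τ, hτ⟩ := exists_algHom_lift_of_finite_of_away (I.map (algebraMap A B₂))
    (R := B₂ ⊗[A] B₁) (R' := B₂ ⊗[A] B₁) (1 : B₂ ⊗[A] B₁) s'
  refine ⟨(τ.restrictScalars A).comp Algebra.TensorProduct.includeRight, fun b => ?_⟩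
  have := congr($hτ (1 ⊗ₜ b))
  simpa [s'] using this

/-- Over a Henselian pair, base change to `A/I` is bijective on algebra maps between finite étale
algebras. -/
theorem bijective_tensorProduct_map_of_finite_etale {A : Type u} [CommRing A] (I : Ideal A)
    [HenselianRing A I] (B₁ B₂ : Type u) [CommRing B₁] [CommRing B₂] [Algebra A B₁]
    [Algebra A B₂] [Module.Finite A B₁] [Algebra.Etale A B₁] [Module.Finite A B₂] :
    Function.Bijective (fun φ : B₁ →ₐ[A] B₂ =>
      Algebra.TensorProduct.map (AlgHom.id (A ⧸ I) (A ⧸ I)) φ) := by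
  have hjac : I ≤ Ideal.jacobson ⊥ := HenselianRing.jac
  have hint : Algebra.IsIntegral A B₂ := Algebra.IsIntegral.of_finite A B₂
  let θ₂ := Algebra.TensorProduct.quotIdealMapEquivQuotTensor B₂ I
  have hθ₂ : ∀ b : B₂, θ₂ (Ideal.Quotient.mk _ b) = 1 ⊗ₜ[A] b := fun b => rfl
  constructor
  · intro φ ψ h
    apply algHom_ext_of_sub_mem_map hjac
    intro b
    have h1 := congr($h (1 ⊗ₜ b))
    simp only [Algebra.TensorProduct.map_tmul, AlgHom.coe_id, id_eq] at h1
    rw [← hθ₂, ← hθ₂] at h1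
    exact Ideal.Quotient.eq.mp (θ₂.injective h1)
  · intro χ
    let χ' : B₁ →ₐ[A] B₂ ⧸ I.map (algebraMap A B₂) :=
      ((θ₂.symm.toAlgHom.comp χ).restrictScalars A).comp Algebra.TensorProduct.includeRight
    obtain ⟨φ, hφ⟩ := exists_algHom_lift_of_finite_etale I χ'
    refine ⟨φ, ?_⟩
    apply Algebra.TensorProduct.ext (by ext)
    ext b
    show (Algebra.TensorProduct.map (AlgHom.id (A ⧸ I) (A ⧸ I)) φ) (1 ⊗ₜ b) = χ (1 ⊗ₜ b)
    rw [Algebra.TensorProduct.map_tmul, AlgHom.coe_id, id_eq, ← hθ₂, hφ b]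
    show θ₂ (θ₂.symm (χ (1 ⊗ₜ b))) = _
    rw [AlgEquiv.apply_symm_apply]

end Groth.Agent.Lib.Helper3
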