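import Groth.Agent.Lib.Helper3.EtaleSection2
import Groth.Agent.Lib.Helper3.HenselFinite

/-!
# Splitting finite-type algebras over a Henselian local ring (helper3)

* `exists_idempotent_unit_jacobson_of_pi` : in a finite product of local rings, every element `r`
  has an idempotent `e` with `r` invertible on `e` and `(1 - e) r` in the Jacobson radical.
* `exists_idempotent_finite_of_isIntegral_away` : core splitting lemma.
* `exists_mem_zmtIdeal_notMem_of_finite` : prime avoidance for the ZMT ideal.
-/

set_option autoImplicit false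

namespace Groth.Agent.Lib.Helper3

universe u

open IsLocalRing TopologicalSpace

theorem exists_idempotent_unit_jacobson_of_pi {B : Type*} [CommRing B] {ι : Type*} [Fintype ι]
    {A : ι → Type*} [∀ i, CommRing (A i)] [∀ i, IsLocalRing (A i)] (φ : B ≃+* (∀ i, A i))
    (r : B) :
    ∃ e u : B, IsIdempotentElem e ∧ r * u * e = e ∧ (1 - e) * r ∈ Ideal.jacobson (⊥ : Ideal B) := by
  classical
  let e₀ : ∀ i, A i := fun i => if IsUnit (φ r i) then 1 else 0
  let u₀ : ∀ i, A i := fun i => if h : IsUnit (φ r i) then ((h.unit⁻¹ : (A i)ˣ) : A i) else 0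
  refine ⟨φ.symm e₀, φ.symm u₀, ?_, ?_, ?_⟩
  · rw [IsIdempotentElem, ← map_mul]
    congr 1
    funext i
    by_cases h : IsUnit (φ r i) <;> simp [e₀, h]
  · apply φ.injective
    rw [map_mul, map_mul, RingEquiv.apply_symm_apply, RingEquiv.apply_symm_apply]
    funext i
    by_cases h : IsUnit (φ r i)
    · simp [e₀, u₀, h]
    · simp [e₀, u₀, h]
  · rw [Ideal.mem_jacobson_bot]
    intro y
    rw [← isUnit_map_iff φ, Pi.isUnit_iff]
    intro i
    rw [map_add, map_mul, map_mul, map_sub, map_one, RingEquiv.apply_symm_apply]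
    by_cases h : IsUnit (φ r i)
    · simp [e₀, h]
    · have h1 : φ r i * φ y i ∈ nonunits (A i) := by
        intro hu
        exact h (isUnit_of_mul_isUnit_left hu)
      have h2 : -(φ r i * φ y i) ∈ nonunits (A i) := by
        intro hu
        exact h1 (by simpa using hu.neg)
      have := IsLocalRing.isUnit_one_sub_self_of_mem_nonunits _ h2
      simpa [e₀, h, sub_neg_eq_add, add_comm] using this

section Core

variable {R : Type u} [CommRing R] [HenselianLocalRing R] {S : Type u} [CommRing S] [Algebra R S]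

/-- **Core splitting lemma.** Let `R` be Henselian local, `S` of finite type, and `Δ ∈ S` integral
over `R` such that `S[1/Δ]` is integral over `R`. Then there is an idempotent `e` of `S` with
`S/(1 - e)` module-finite over `R`, and such that every prime over the maximal ideal containing `e`
contains `Δ`. -/
theorem exists_idempotent_finite_of_isIntegral_away [Algebra.FiniteType R S] (Δ : S)
    (hΔ : IsIntegral R Δ) (hm : ∀ x : S, ∃ m : ℕ, IsIntegral R (Δ ^ m * x)) :
    ∃ e : S, IsIdempotentElem e ∧ Module.Finite R (S ⧸ Ideal.span ({1 - e} : Set S)) ∧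
      ∀ q : Ideal S, q.IsPrime → (maximalIdeal R).map (algebraMap R S) ≤ q → e ∈ q → Δ ∈ q := by
  obtain ⟨S', hfg, r', rfl, hbij⟩ := exists_fg_and_awayMap_bijective Δ hΔ hm
  have hfin : Module.Finite R S' := ⟨(Submodule.fg_top _).mpr hfg⟩
  obtain ⟨ι, _, A, _, hA, ⟨φ⟩⟩ := exists_ringEquiv_pi_isLocalRing_of_finite R S'
  obtain ⟨e', u', he', hu', hjac⟩ := exists_idempotent_unit_jacobson_of_pi φ r'
  refine ⟨(e' : S), ?_, ?_, ?_⟩
  · have := congrArg (fun x : S' => (x : S)) he'.eq
    simpa [IsIdempotentElem] using this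
  · -- finiteness
    set L : Ideal S := Ideal.span ({1 - (e' : S)} : Set S) with hL
    let ψ : S' →ₐ[R] S ⧸ L := (Ideal.Quotient.mkₐ R L).comp S'.val
    have hmke : Ideal.Quotient.mk L (e' : S) = 1 := by
      rw [← map_one (Ideal.Quotient.mk L), eq_comm, Ideal.Quotient.eq]
      exact Ideal.subset_span rfl
    have hunit : Ideal.Quotient.mk L (r' : S) * Ideal.Quotient.mk L (u' : S) = 1 := by
      have h1 := congrArg (fun x : S' => Ideal.Quotient.mk L (x : S)) hu'
      simp only [Subalgebra.coe_mul, map_mul, hmke, mul_one] at h1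
      exact h1
    suffices hsurj : Function.Surjective ψ from Module.Finite.of_surjective ψ.toLinearMap hsurj
    intro y
    obtain ⟨x, rfl⟩ := Ideal.Quotient.mk_surjective y
    obtain ⟨z, hz⟩ := hbij.2 (algebraMap S (Localization.Away (S'.val.toRingHom r')) x)
    obtain ⟨⟨y', ⟨_, n, rfl⟩⟩, rfl⟩ := IsLocalization.mk'_surjective (Submonoid.powers r') z
    rw [Localization.awayMap, IsLocalization.Away.map, IsLocalization.map_mk',
      IsLocalization.mk'_eq_iff_eq_mul, ← map_mul,
      IsLocalization.eq_iff_exists (Submonoid.powers (S'.val.toRingHom r'))] at hz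
    obtain ⟨⟨_, k, rfl⟩, hc⟩ := hz
    simp only [Subalgebra.coe_val, AlgHom.toRingHom_eq_coe, RingHom.coe_coe, map_pow] at hc
    refine ⟨r' ^ k * y' * u' ^ (n + k), ?_⟩
    change Ideal.Quotient.mk L ((r' : S) ^ k * (y' : S) * (u' : S) ^ (n + k)) = _
    rw [hc]
    have : Ideal.Quotient.mk L ((r' : S) ^ k * (x * (r' : S) ^ n) * (u' : S) ^ (n + k)) =
        Ideal.Quotient.mk L x *
          (Ideal.Quotient.mk L (r' : S) * Ideal.Quotient.mk L (u' : S)) ^ (n + k) := by
      simp only [map_mul, map_pow]
      ring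
    rw [this, hunit, one_pow, mul_one]
  · -- primes
    intro q hq hmq heq
    have hint : Algebra.IsIntegral R S' := Algebra.IsIntegral.of_finite R S'
    let q' : Ideal S' := q.comap S'.val
    have hq' : q'.IsPrime := Ideal.comap_isPrime _ _
    have hcomap : q'.comap (algebraMap R S') = maximalIdeal R := by
      have hle : maximalIdeal R ≤ q'.comap (algebraMap R S') := by
        intro a ha
        exact hmq (Ideal.mem_map_of_mem _ ha)
      have hne : q'.comap (algebraMap R S') ≠ ⊤ := (Ideal.comap_isPrime _ _).ne_top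
      exact ((maximalIdeal.isMaximal R).eq_of_le hne hle).symm
    have hmax : q'.IsMaximal :=
      Ideal.isMaximal_of_isIntegral_of_isMaximal_comap q' (hcomap ▸ maximalIdeal.isMaximal R)
    have h1 : (1 - e') * r' ∈ q' := by
      have : Ideal.jacobson (⊥ : Ideal S') ≤ q' := sInf_le ⟨bot_le, hmax⟩
      exact this hjac
    have h2 : e' * r' ∈ q' := q'.mul_mem_right _ heq
    have h3 : r' ∈ q' := by
      have : r' = e' * r' + (1 - e') * r' := by ring
      rw [this]; exact q'.add_mem h2 h1
    exact h3

end Core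

/-- Prime avoidance for the ZMT ideal: finitely many primes at which Zariski's main property holds
can be avoided simultaneously by a single element `r`, integral over `R`, with `S[1/r]` integral. -/
theorem exists_isIntegral_notMem_of_finite {R S : Type*} [CommRing R] [CommRing S] [Algebra R S]
    (P : Set (Ideal S)) (hP : P.Finite) (hprime : ∀ p ∈ P, p.IsPrime)
    (hzmp : ∀ p ∈ P, Algebra.ZariskisMainProperty R p) :
    ∃ r : S, IsIntegral R r ∧ (∀ x : S, ∃ m : ℕ, IsIntegral R (r ^ m * x)) ∧ ∀ p ∈ P, r ∉ p := by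
  classical
  by_contra hcon
  push Not at hcon
  let f : Ideal S → Ideal (integralClosure R S) := fun p => p.comap (integralClosure R S).val
  have hsub : ((zmtIdeal R S : Ideal (integralClosure R S)) : Set (integralClosure R S)) ⊆
      ⋃ p ∈ (hP.toFinset : Set (Ideal S)), (f p : Set (integralClosure R S)) := by
    intro b hb
    obtain ⟨p, hp, hbp⟩ := hcon b b.2 (mem_zmtIdeal.mp hb)
    refine Set.mem_iUnion₂.mpr ⟨p, ?_, hbp⟩
    simpa using hp
  rw [Ideal.subset_union_prime ⊥ ⊥ (fun p hp _ _ => by
    have := hprime p (by simpa using hp)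
    exact Ideal.comap_isPrime _ _)] at hsub
  obtain ⟨p, hp, hle⟩ := hsub
  have hpP : p ∈ P := by simpa using hp
  obtain ⟨r, hrp, hr, hm⟩ := Algebra.zariskisMainProperty_iff.mp (hzmp p hpP)
  have hmem : (⟨r, hr⟩ : integralClosure R S) ∈ zmtIdeal R S := mem_zmtIdeal.mpr hm
  exact hrp (hle hmem)

/-- A finite-type quasi-finite algebra over a Henselian local ring splits as (finite) × (empty
closed fibre). -/
theorem exists_idempotent_split_of_quasiFinite (R : Type u) [CommRing R] [HenselianLocalRing R]
    (S : Type u) [CommRing S] [Algebra R S] [Algebra.FiniteType R S] [Algebra.QuasiFinite R S] :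
    ∃ e : S, IsIdempotentElem e ∧ Module.Finite R (S ⧸ Ideal.span ({1 - e} : Set S)) ∧
      Ideal.map (algebraMap R (S ⧸ Ideal.span ({e} : Set S))) (maximalIdeal R) = ⊤ := by
  obtain ⟨Δ, hΔ, hm, hΔP⟩ := exists_isIntegral_notMem_of_finite (R := R)
    ((maximalIdeal R).primesOver S) (Algebra.QuasiFinite.finite_primesOver _)
    (fun p hp => hp.1) (fun p hp => by
      have := hp.1
      exact Algebra.ZariskisMainProperty.of_finiteType p)
  obtain ⟨e, he, hfin, hq⟩ := exists_idempotent_finite_of_isIntegral_away Δ hΔ hm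
  refine ⟨e, he, hfin, ?_⟩
  by_contra hne
  obtain ⟨M, hM, hle⟩ := Ideal.exists_le_maximal _ hne
  let q : Ideal S := M.comap (Ideal.Quotient.mk (Ideal.span ({e} : Set S)))
  have hqp : q.IsPrime := Ideal.comap_isPrime _ _
  have heq : e ∈ q := by
    change Ideal.Quotient.mk _ e ∈ M
    have h0 : Ideal.Quotient.mk (Ideal.span ({e} : Set S)) e = 0 :=
      Ideal.Quotient.eq_zero_iff_mem.mpr (Ideal.subset_span rfl)
    rw [h0]
    exact zero_mem _
  have hmq : (maximalIdeal R).map (algebraMap R S) ≤ q := by
    rw [Ideal.map_le_iff_le_comap]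
    intro a ha
    change Ideal.Quotient.mk _ (algebraMap R S a) ∈ M
    exact hle (Ideal.mem_map_of_mem (algebraMap R (S ⧸ Ideal.span ({e} : Set S))) ha)
  have hover : q.LiesOver (maximalIdeal R) := by
    constructor
    have hle' : maximalIdeal R ≤ q.under R := Ideal.map_le_iff_le_comap.mp hmq
    have hne' : q.under R ≠ ⊤ := (Ideal.comap_isPrime _ _).ne_top
    exact (maximalIdeal.isMaximal R).eq_of_le hne' hle'
  exact hΔP q ⟨hqp, hover⟩ (hq q hqp hmq heq)

/-- Over a given prime, a finite type algebra has only finitely many primes at which it is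
quasi-finite. -/
theorem finite_setOf_quasiFiniteAt_liesOver {R S : Type*} [CommRing R] [CommRing S] [Algebra R S]
    [Algebra.FiniteType R S] (p : PrimeSpectrum R) :
    {q : Ideal S | ∃ (_ : q.IsPrime), q.LiesOver p.asIdeal ∧ Algebra.QuasiFiniteAt R q}.Finite := by
  have hnoeth : IsNoetherianRing (p.asIdeal.Fiber S) :=
    Algebra.FiniteType.isNoetherianRing p.asIdeal.ResidueField _
  have hN : NoetherianSpace (PrimeSpectrum.comap (algebraMap R S) ⁻¹' {p}) :=
    (PrimeSpectrum.preimageHomeomorphFiber R S p).isInducing.noetherianSpace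
  let I : Set (PrimeSpectrum.comap (algebraMap R S) ⁻¹' {p}) := {x | IsOpen {x}}
  have hdisc : DiscreteTopology I := by
    rw [discreteTopology_iff_isOpen_singleton]
    intro a
    have h1 : IsOpen ({a.1} : Set (PrimeSpectrum.comap (algebraMap R S) ⁻¹' {p})) := a.2
    have h2 : ({a} : Set I) = Subtype.val ⁻¹' {a.1} := by
      ext b
      simp [Subtype.ext_iff]
    rw [h2]
    exact h1.preimage continuous_subtype_val
  have hI : I.Finite := (NoetherianSpace.isCompact I).finite ⟨hdisc⟩
  refine (hI.image (fun x => x.1.asIdeal)).subset ?_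
  rintro q ⟨hq, hover, hqf⟩
  have key : ∀ (p' : PrimeSpectrum R) (q' : PrimeSpectrum S)
      (hq' : q'.comap (algebraMap R S) = p'), Algebra.QuasiFiniteAt R q'.asIdeal →
      IsOpen (X := PrimeSpectrum.comap (algebraMap R S) ⁻¹' {p'}) {⟨q', hq'⟩} := by
    rintro _ q' rfl h
    exact (Algebra.quasiFiniteAt_iff_isOpen_singleton_fiber q').mp h
  have hq' : (⟨q, hq⟩ : PrimeSpectrum S).comap (algebraMap R S) = p := by
    apply PrimeSpectrum.ext
    exact (hover.over).symm
  exact ⟨⟨⟨q, hq⟩, hq'⟩, key p ⟨q, hq⟩ hq' hqf, rfl⟩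

/-- Quasi-finiteness at a prime of `S ⧸ (e)`, `e` idempotent, implies quasi-finiteness at the
corresponding prime of `S`. -/
theorem quasiFiniteAt_of_quotient_idempotent {R S : Type*} [CommRing R] [CommRing S] [Algebra R S]
    {e : S} (he : IsIdempotentElem e) (q' : Ideal (S ⧸ Ideal.span ({e} : Set S))) [q'.IsPrime]
    [Algebra.QuasiFiniteAt R q'] (q : Ideal S) [q.IsPrime]
    (hq : q = q'.comap (Ideal.Quotient.mk (Ideal.span ({e} : Set S)))) :
    Algebra.QuasiFiniteAt R q := by
  have hmk0 : Ideal.Quotient.mk (Ideal.span ({e} : Set S)) e = 0 :=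
    Ideal.Quotient.eq_zero_iff_mem.mpr (Ideal.subset_span rfl)
  have heq : e ∈ q := by
    rw [hq, Ideal.mem_comap, hmk0]
    exact zero_mem _
  have h1e : 1 - e ∉ q := by
    intro h
    apply (‹q.IsPrime›).ne_top
    rw [Ideal.eq_top_iff_one]
    have := q.add_mem heq h
    simpa using this
  have he0 : algebraMap S (Localization.AtPrime q) e = 0 := by
    have hu : IsUnit (algebraMap S (Localization.AtPrime q) (1 - e)) :=
      IsLocalization.map_units (Localization.AtPrime q) (⟨1 - e, h1e⟩ : q.primeCompl)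
    have : algebraMap S (Localization.AtPrime q) e *
        algebraMap S (Localization.AtPrime q) (1 - e) = 0 := by
      rw [← map_mul, mul_sub, mul_one, he.eq, sub_self, map_zero]
    exact (hu.mul_left_eq_zero).mp this
  let g : S ⧸ Ideal.span ({e} : Set S) →ₐ[R] Localization.AtPrime q :=
    Ideal.Quotient.liftₐ (Ideal.span ({e} : Set S))
      (IsScalarTower.toAlgHom R S (Localization.AtPrime q)) (by
        intro a ha
        obtain ⟨c, rfl⟩ := Ideal.mem_span_singleton'.mp ha
        simp [he0])
  have hgmk : ∀ y : S, g (Ideal.Quotient.mk _ y) = algebraMap S (Localization.AtPrime q) y :=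
    fun y => rfl
  have hg : ∀ y : q'.primeCompl, IsUnit (g y) := by
    rintro ⟨y, hy⟩
    obtain ⟨y, rfl⟩ := Ideal.Quotient.mk_surjective y
    rw [hgmk]
    refine IsLocalization.map_units (Localization.AtPrime q) (⟨y, ?_⟩ : q.primeCompl)
    intro hyq
    rw [hq] at hyq
    exact hy hyq
  let f : Localization.AtPrime q' →ₐ[R] Localization.AtPrime q :=
    IsLocalization.liftAlgHom (M := q'.primeCompl) (f := g) hg
  have hf : Function.Surjective f := by
    intro x
    obtain ⟨a, s, rfl⟩ := IsLocalization.exists_mk'_eq q.primeCompl x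
    have hs : Ideal.Quotient.mk (Ideal.span ({e} : Set S)) s.1 ∈ q'.primeCompl := by
      intro h
      apply s.2
      have : s.1 ∈ q'.comap (Ideal.Quotient.mk (Ideal.span ({e} : Set S))) := h
      exact hq ▸ this
    refine ⟨IsLocalization.mk' (Localization.AtPrime q')
      (Ideal.Quotient.mk (Ideal.span ({e} : Set S)) a) ⟨_, hs⟩, ?_⟩
    rw [IsLocalization.eq_mk'_iff_mul_eq]
    have h1 : algebraMap S (Localization.AtPrime q) s.1 =
        f (algebraMap _ (Localization.AtPrime q')
          (Ideal.Quotient.mk (Ideal.span ({e} : Set S)) s.1)) := by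
      simp [f, hgmk]
    have h2 : algebraMap S (Localization.AtPrime q) a =
        f (algebraMap _ (Localization.AtPrime q')
          (Ideal.Quotient.mk (Ideal.span ({e} : Set S)) a)) := by
      simp [f, hgmk]
    rw [h1, h2, ← map_mul]
    congr 1
    exact IsLocalization.mk'_spec _ _ _
  exact Algebra.QuasiFinite.of_surjective_algHom f hf

theorem exists_idempotent_split_of_finiteType (R : Type u) [CommRing R] [HenselianLocalRing R]
    (S : Type u) [CommRing S] [Algebra R S] [Algebra.FiniteType R S] :
    ∃ e : S, IsIdempotentElem e ∧ Module.Finite R (S ⧸ Ideal.span ({1 - e} : Set S)) ∧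
      ∀ (q : Ideal (S ⧸ Ideal.span ({e} : Set S))) [q.IsPrime],
        q.LiesOver (maximalIdeal R) → ¬ Algebra.QuasiFiniteAt R q := by
  obtain ⟨Δ, hΔ, hm, hΔP⟩ := exists_isIntegral_notMem_of_finite (R := R)
    {q : Ideal S | ∃ (_ : q.IsPrime), q.LiesOver (closedPoint R).asIdeal ∧
      Algebra.QuasiFiniteAt R q}
    (finite_setOf_quasiFiniteAt_liesOver (closedPoint R))
    (fun p hp => hp.1) (fun p hp => by
      obtain ⟨h1, -, h3⟩ := hp
      exact Algebra.ZariskisMainProperty.of_finiteType p)
  obtain ⟨e, he, hfin, hq⟩ := exists_idempotent_finite_of_isIntegral_away Δ hΔ hm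
  refine ⟨e, he, hfin, ?_⟩
  intro q' hq'p hover hqf
  let q : Ideal S := q'.comap (Ideal.Quotient.mk (Ideal.span ({e} : Set S)))
  have hqp : q.IsPrime := Ideal.comap_isPrime _ _
  have hqf' : Algebra.QuasiFiniteAt R q := quasiFiniteAt_of_quotient_idempotent he q' q rfl
  have heq : e ∈ q := by
    change Ideal.Quotient.mk _ e ∈ q'
    have h0 : Ideal.Quotient.mk (Ideal.span ({e} : Set S)) e = 0 :=
      Ideal.Quotient.eq_zero_iff_mem.mpr (Ideal.subset_span rfl)
    rw [h0]
    exact zero_mem _
  have hunder : q.under R = maximalIdeal R := by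
    have h1 : q.under R = q'.under R := by
      change Ideal.comap (algebraMap R S) (Ideal.comap _ q') = _
      rw [Ideal.comap_comap]
      rfl
    rw [h1]
    exact (hover.over).symm
  have hmq : (maximalIdeal R).map (algebraMap R S) ≤ q := by
    rw [Ideal.map_le_iff_le_comap]
    exact hunder.ge
  have hover' : q.LiesOver (closedPoint R).asIdeal := ⟨hunder.symm⟩
  exact hΔP q ⟨hqp, hover', hqf'⟩ (hq q hqp hmq heq)

end Groth.Agent.Lib.Helper3
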