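import Groth.Agent.S0141
import Groth.Agent.S0129
import Groth.Agent.S0127
import Groth.Agent.Lib.Helper15.Adic
import Groth.Agent.Lib.Helper43.JShriekGen
import Groth.Agent.Lib.Helper43.EtConstrSerre
import Groth.Agent.Lib.Helper6.EtPullExact

/-!
# Members of an ℓ-adic system with constructible first member are constructible (helper3)
-/

set_option autoImplicit false
set_option backward.isDefEq.respectTransparency false
set_option linter.unusedSectionVars false
set_option linter.style.haveILetI false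

universe w v u

open CategoryTheory CategoryTheory.Limits AlgebraicGeometry Opposite

namespace Groth.Agent.Lib.Helper3.AdicConstr

open ARSys Groth.Agent.Lib.Helper15

section Abstract

variable {C : Type u} [Category.{v} C] [Abelian C] {A : Type w} [CommRing A] [Linear A C]

/-- For an `ℓ`-adic system, multiplication by `ℓ^(n+1)` on `F_{n+1}` factors through `F_0`,
and the resulting sequence `F_0 ⟶ F_{n+1} ⟶ F_n ⟶ 0` is exact. -/
theorem exists_exact (ℓ : A) (F : PS C) (hF : IsAdic (Ideal.span {ℓ}) F) (n : ℕ) :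
    ∃ (ψ : F.obj (op 0) ⟶ F.obj (op (n + 1))) (w : ψ ≫ tr F (Nat.le_succ n) = 0),
      (ShortComplex.mk ψ (tr F (Nat.le_succ n)) w).Exact ∧ Epi (tr F (Nat.le_succ n)) := by
  set J : Ideal A := Ideal.span {ℓ} with hJ
  have hq0 := hF.2 0 (n + 1) (Nat.zero_le _)
  have hqn := hF.2 n (n + 1) (Nat.le_succ n)
  haveI e0 : Epi (tr F (Nat.zero_le (n + 1))) := isQuot_epi hq0
  haveI en : Epi (tr F (Nat.le_succ n)) := isQuot_epi hqn
  have hk : KilledBy (J ^ (n + 1 + 1)) (F.obj (op (n + 1))) := hF.1 (n + 1)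
  have hkn : KilledBy (J ^ (n + 1)) (F.obj (op n)) := hF.1 n
  -- the multiplication map
  let μ : F.obj (op (n + 1)) ⟶ F.obj (op (n + 1)) := (ℓ ^ (n + 1)) • 𝟙 _
  have hμ : HomKilledBy (J ^ (0 + 1)) μ := by
    intro a ha
    rw [zero_add, pow_one, hJ, Ideal.mem_span_singleton'] at ha
    obtain ⟨b, rfl⟩ := ha
    change (b * ℓ) • ((ℓ ^ (n + 1)) • 𝟙 _) = 0
    rw [smul_smul, mul_assoc, ← pow_succ', ← smul_smul]
    have : ℓ ^ (n + 1 + 1) ∈ J ^ (n + 1 + 1) :=
      Ideal.pow_mem_pow (Ideal.mem_span_singleton_self ℓ) _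
    rw [hk _ this, smul_zero]
  obtain ⟨ψ, hψ⟩ := isQuot_exists_desc hq0 μ hμ
  have w : ψ ≫ tr F (Nat.le_succ n) = 0 := by
    rw [← cancel_epi (tr F (Nat.zero_le (n + 1))), ← Category.assoc, hψ, comp_zero]
    change ((ℓ ^ (n + 1)) • 𝟙 _) ≫ _ = 0
    rw [Linear.smul_comp, Category.id_comp]
    exact killedBy_hom_right hkn _ _ (Ideal.pow_mem_pow (Ideal.mem_span_singleton_self ℓ) _)
  refine ⟨ψ, w, ?_, en⟩
  -- exactness
  rw [ShortComplex.exact_iff_exact_up_to_refinements]
  intro A x₂ hx₂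
  change x₂ ≫ tr F (Nat.le_succ n) = 0 at hx₂
  have hπ : HomKilledBy (J ^ (n + 1)) (cokernel.π μ) := by
    intro a ha
    rw [hJ, Ideal.span_singleton_pow, Ideal.mem_span_singleton'] at ha
    obtain ⟨b, rfl⟩ := ha
    have h1 : (b * ℓ ^ (n + 1)) • cokernel.π μ = b • (μ ≫ cokernel.π μ) := by
      change _ = b • (((ℓ ^ (n + 1)) • 𝟙 _) ≫ cokernel.π μ)
      rw [Linear.smul_comp, Category.id_comp, smul_smul]
    rw [h1, cokernel.condition, smul_zero]
  obtain ⟨π', hπ'⟩ := isQuot_exists_desc hqn (cokernel.π μ) hπ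
  have h2 : x₂ ≫ cokernel.π μ = 0 := by
    rw [← hπ', ← Category.assoc, hx₂, zero_comp]
  have hex : (ShortComplex.mk μ (cokernel.π μ) (cokernel.condition μ)).Exact :=
    ShortComplex.exact_of_g_is_cokernel _ (cokernelIsCokernel μ)
  obtain ⟨A', p, hp, y, hy⟩ := hex.exact_up_to_refinements x₂ h2
  refine ⟨A', p, hp, y ≫ tr F (Nat.zero_le (n + 1)), ?_⟩
  change p ≫ x₂ = (y ≫ tr F (Nat.zero_le (n + 1))) ≫ ψ
  rw [Category.assoc, hψ]
  exact hy

end Abstract

section Et

open Groth.Agent.Lib.Helper43 Groth.Agent.Lib.Helper43.EtConstrSerre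
  Groth.Agent.Lib.Helper43.EtConstrStalk Groth.Agent.Lib.Helper43.JShriekGen

variable {X : Scheme.{u}}

/-- Noetherian case: `A ⟶ B ⟶ C ⟶ 0` exact, `A`, `C` constructible, `A` killed by `N > 0`. -/
theorem constructible_of_exact_noeth [IsNoetherian X] (S : ShortComplex (EtCoh.Ab X))
    (hS : S.Exact) [Epi S.g] (N : ℕ) (hN : 0 < N) (hA : EtCoh.KilledBy N S.X₁)
    (h1 : EtPBC.IsConstructible S.X₁) (h3 : EtPBC.IsConstructible S.X₃) :
    EtPBC.IsConstructible S.X₂ := by
  haveI : Epi (kernel.lift S.g S.f S.zero) := S.exact_iff_epi_kernel_lift.1 hS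
  have hK : EtPBC.IsConstructible (kernel S.g) :=
    Groth.Agent.S0141.result X (kernel.lift S.g S.f S.zero) N hN hA h1
  let T : ShortComplex (EtCoh.Ab X) := ShortComplex.mk (kernel.ι S.g) S.g (kernel.condition S.g)
  have hT : T.ShortExact :=
    { exact := ShortComplex.exact_of_f_is_kernel T (kernelIsKernel S.g)
      mono_f := (inferInstance : Mono (kernel.ι S.g))
      epi_g := (inferInstance : Epi S.g) }
  exact constructible_extension T hT hK h3

/-- Locally Noetherian case. -/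
theorem constructible_of_exact [IsLocallyNoetherian X] (S : ShortComplex (EtCoh.Ab X))
    (hS : S.Exact) [Epi S.g] (N : ℕ) (hN : 0 < N) (hA : N • 𝟙 S.X₁ = 0)
    (h1 : EtPBC.IsConstructible S.X₁) (h3 : EtPBC.IsConstructible S.X₃) :
    EtPBC.IsConstructible S.X₂ := by
  refine Groth.Agent.S0129.result S.X₂ (ι := X.affineOpens) (fun V => V.1)
    (iSup_affineOpens_eq_top X) ?_
  intro V
  haveI : IsAffine (V.1 : Scheme.{u}) := V.2
  haveI : IsNoetherian (V.1 : Scheme.{u}) := { }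
  have : PreservesFiniteLimits (EtCoh.pull V.1.ι) :=
    Groth.Agent.Lib.Helper6.EtPullExact.preservesFiniteLimits_pull V.1.ι
  have : (EtCoh.pull V.1.ι).IsLeftAdjoint :=
    ((EtCoh.bc V.1.ι).sheafAdjunctionContinuous AddCommGrpCat.{u + 1} X.smallEtaleTopology
      (V.1 : Scheme.{u}).smallEtaleTopology).isLeftAdjoint
  have : (EtCoh.pull V.1.ι).Additive := Functor.additive_of_preserves_binary_products _
  have hS' : (S.map (EtCoh.pull V.1.ι)).Exact := hS.map (EtCoh.pull V.1.ι)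
  haveI : Epi (S.map (EtCoh.pull V.1.ι)).g :=
    (inferInstance : Epi ((EtCoh.pull V.1.ι).map S.g))
  refine constructible_of_exact_noeth (S.map (EtCoh.pull V.1.ι)) hS' N hN ?_
    (Groth.Agent.S0127.result V.1.ι _ h1) (Groth.Agent.S0127.result V.1.ι _ h3)
  rw [killedBy_iff]
  change N • 𝟙 ((EtCoh.pull V.1.ι).obj S.X₁) = 0
  rw [← CategoryTheory.Functor.map_id, ← Functor.map_nsmul, hA, Functor.map_zero]

end Et

end Groth.Agent.Lib.Helper3.AdicConstr
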