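import Groth.Agent.Lib.Helper3.AlgSpHens
import Groth.Agent.H53.SpBasic
import Groth.Agent.S9235
import Groth.Prelude.Def_CAlgX
import Groth.Prelude.Def_CAlg2

/-!
# Branches at a point of a decent algebraic space via elementary étale neighbourhoods (helper3)
-/

set_option autoImplicit false
set_option linter.unusedSectionVars false
set_option linter.style.haveILetI false

namespace Groth.Agent.Lib.Helper3.AlgSpBranches

universe u

open CategoryTheory CategoryTheory.Limits AlgebraicGeometry IsLocalRing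
open Groth.Agent.Lib.Helper3 Groth.Agent.Lib.Helper3.BrnchScheme AlgSp
open Groth.Agent.H53.ElemNbhd Groth.Agent.Lib.Helper9.Hens

variable {S : Scheme.{u}} {F : AlgSp.Sp S}

section Comp

/-- The composite of an étale, residually trivial morphism of `S`-schemes with an elementary étale
neighbourhood of a point of a sheaf is an elementary étale neighbourhood. -/
theorem isElemEtaleNbhd_comp' {x : AlgSp.Points F} {U V : Over S} (a : (AlgSp.yon S).obj U ⟶ F)
    (g : V ⟶ U) (v : ↥V.left) (ha : AlgSp.IsElemEtaleNbhd a (g.left v) x)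
    (hEt : Etale g.left) (hbij : Function.Bijective (g.left.residueFieldMap v)) :
    AlgSp.IsElemEtaleNbhd ((AlgSp.yon S).map g ≫ a) v x := by
  refine ⟨?_, ?_, ?_⟩
  · exact (AlgSp.RepWith (S := S) @Etale).comp_mem _ _
      ((AlgSp.repWith_yon_map_iff _ _).2 hEt) ha.etale
  · rw [Groth.Agent.H53.ofPt_yon_map_comp]
    exact ha.ofPt_eq
  · haveI : IsIso (g.left.residueFieldMap v) :=
      (ConcreteCategory.isIso_iff_bijective _).mpr hbij
    let r : resPt V v ⟶ resPt U (g.left v) :=
      Over.homMk (Spec.map (g.left.residueFieldMap v)) (by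
        change Spec.map (g.left.residueFieldMap v) ≫
          (U.left.fromSpecResidueField (g.left v) ≫ U.hom) =
          V.left.fromSpecResidueField v ≫ V.hom
        rw [← Category.assoc, Scheme.Hom.SpecMap_residueFieldMap_fromSpecResidueField,
          Category.assoc, Over.w])
    have hr : r ≫ resι U (g.left v) = resι V v ≫ g := by
      ext1
      exact Scheme.Hom.SpecMap_residueFieldMap_fromSpecResidueField g.left v
    haveI : IsIso ((Over.forget S).map r) := by
      change IsIso (Spec.map (g.left.residueFieldMap v))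
      infer_instance
    haveI : IsIso r := isIso_of_reflects_iso r (Over.forget S)
    have h1 : (AlgSp.yon S).map r ≫ (FieldPt.ofPt a (g.left v)).toHom =
        (FieldPt.ofPt ((AlgSp.yon S).map g ≫ a) v).toHom := by
      rw [toHom_ofPt', toHom_ofPt', ← Category.assoc, ← Functor.map_comp, hr, Functor.map_comp,
        Category.assoc]
    rw [← h1]
    haveI hm : Mono (FieldPt.ofPt a (g.left v)).toHom := ha.mono
    have hiso : IsIso ((AlgSp.yon S).map r) := Functor.map_isIso _ _
    have hmono : Mono ((AlgSp.yon S).map r) := @IsIso.mono_of_iso _ _ _ _ _ hiso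
    exact @mono_comp _ _ _ _ _ _ hmono _ hm

/-- The composite of a scheme-level elementary étale neighbourhood with an elementary étale
neighbourhood of a point of a sheaf is an elementary étale neighbourhood. -/
theorem isElemEtaleNbhd_comp {x : AlgSp.Points F} {U : Over S} (a : (AlgSp.yon S).obj U ⟶ F)
    (u : ↥U.left) (ha : AlgSp.IsElemEtaleNbhd a u x) {V : Scheme.{u}} (g : V ⟶ U.left) (v : V)
    (hg : Hens2.IsEtaleNbhd g v u) :
    AlgSp.IsElemEtaleNbhd
      ((AlgSp.yon S).map (Over.homMk g rfl : Over.mk (g ≫ U.hom) ⟶ U) ≫ a) v x := by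
  obtain ⟨hEt, rfl, hbij⟩ := hg
  exact isElemEtaleNbhd_comp' a (Over.homMk g rfl : Over.mk (g ≫ U.hom) ⟶ U) v ha hEt hbij

end Comp

section Invariance

/-- The branch number is the same at all elementary étale neighbourhoods of a point. -/
theorem numBranchesAt_eq_of_isElemEtaleNbhd (hF : AlgSp.IsAlgSpace F) (x : AlgSp.Points F)
    {U₁ U₂ : Over S} (a₁ : (AlgSp.yon S).obj U₁ ⟶ F) (a₂ : (AlgSp.yon S).obj U₂ ⟶ F)
    (u₁ : ↥U₁.left) (u₂ : ↥U₂.left) (h₁ : AlgSp.IsElemEtaleNbhd a₁ u₁ x)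
    (h₂ : AlgSp.IsElemEtaleNbhd a₂ u₂ x) :
    Brnch.numBranchesAt U₁.left u₁ = Brnch.numBranchesAt U₂.left u₂ := by
  obtain ⟨V, b, v, g₁, g₂, hV, hb₁, hb₂, rfl, rfl⟩ := cone_objs hF x a₁ a₂ u₁ u₂ h₁ h₂
  let Rh := Henselization (V.left.presheaf.stalk v)
  unfold Brnch.numBranchesAt
  have key : ∀ {U : Over S} (a : (AlgSp.yon S).obj U ⟶ F) (g : V ⟶ U)
      (_ : (AlgSp.yon S).map g ≫ a = b) (_ : AlgSp.IsElemEtaleNbhd a (g.left v) x),
      Brnch.numBranches (U.left.presheaf.stalk (g.left v)) = ENat.card (minimalPrimes Rh) := by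
    intro U a g hgb ha
    letI : Algebra ↥(U.left.presheaf.stalk (g.left v)) Rh :=
      ((algebraMap ↥(V.left.presheaf.stalk v) Rh).comp (g.left.stalkMap v).hom).toAlgebra
    obtain ⟨hloc, hH⟩ := AlgSpHens.isHenselization_of_isElemEtaleNbhd a b g v hgb ha hV Rh
    exact (Groth.Agent.S9237.result (U.left.presheaf.stalk (g.left v)) Rh).symm
  rw [key a₁ g₁ hb₁ h₁, key a₂ g₂ hb₂ h₂]

end Invariance

section Pointwise

theorem hasUniqueMinimalPrime_iff_encard (A : Type u) [CommRing A] :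
    CAlgX.HasUniqueMinimalPrime A ↔ (minimalPrimes A).encard = 1 := by
  unfold CAlgX.HasUniqueMinimalPrime
  rw [Set.encard_eq_one]
  constructor
  · rintro ⟨p, hp, huniq⟩
    exact ⟨p, Set.eq_singleton_iff_unique_mem.mpr ⟨hp, huniq⟩⟩
  · rintro ⟨p, hp⟩
    refine ⟨p, by rw [hp]; rfl, fun q hq => ?_⟩
    rw [hp] at hq
    exact hq

theorem encard_components_eq (U : Scheme.{u}) (u : U) :
    {Z : Set U | Z ∈ irreducibleComponents U ∧ u ∈ Z}.encard =
      (minimalPrimes (U.presheaf.stalk u)).encard := by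
  rw [IrrCompStalk.encard_irreducibleComponents_through, ENat.card_coe_set_eq]

theorem encard_components_le_numBranchesAt (U : Scheme.{u}) (u : U) :
    {Z : Set U | Z ∈ irreducibleComponents U ∧ u ∈ Z}.encard ≤ Brnch.numBranchesAt U u := by
  rw [numBranchesAt_eq_iSup]
  exact le_iSup_of_le U (le_iSup_of_le (𝟙 U) (le_iSup_of_le u
    (le_iSup_of_le (isEtaleNbhd_id U u) le_rfl)))

end Pointwise

section Main

variable (hF : AlgSp.IsAlgSpace F) (x : AlgSp.Points F) {U₀ : Over S}
  (a₀ : (AlgSp.yon S).obj U₀ ⟶ F) (u₀ : ↥U₀.left) (h₀ : AlgSp.IsElemEtaleNbhd a₀ u₀ x)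
  (R : Type u) [CommRing R] [IsLocalRing R] [Algebra ↥(U₀.left.presheaf.stalk u₀) R]
  [IsLocalHom (algebraMap ↥(U₀.left.presheaf.stalk u₀) R)]
  [Hensel.IsHenselization ↥(U₀.left.presheaf.stalk u₀) R]

theorem encard_minimalPrimes_eq_numBranchesAt :
    (minimalPrimes R).encard = Brnch.numBranchesAt U₀.left u₀ := by
  rw [← ENat.card_coe_set_eq]
  exact Groth.Agent.S9237.result (U₀.left.presheaf.stalk u₀) R

include hF h₀ in
/-- Approximation: every finite number below the branch number is attained by the number of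
components at some elementary étale neighbourhood. -/
theorem exists_isElemEtaleNbhd_of_le (n : ℕ) (hn : (n : ℕ∞) ≤ Brnch.numBranchesAt U₀.left u₀) :
    ∃ (U : Over S) (a : (AlgSp.yon S).obj U ⟶ F) (u : ↥U.left), AlgSp.IsElemEtaleNbhd a u x ∧
      (n : ℕ∞) ≤ {Z : Set ↥U.left | Z ∈ irreducibleComponents ↥U.left ∧ u ∈ Z}.encard := by
  obtain ⟨V, g, v, hg, hle⟩ := exists_etaleNbhd_of_le_numBranchesAt u₀ n hn
  exact ⟨Over.mk (g ≫ U₀.hom), _, v, isElemEtaleNbhd_comp a₀ u₀ h₀ g v hg, hle⟩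

include hF h₀ in
/-- **S10441.** -/
theorem unibranch_conditions :
    ((∀ (U : Over S) (a : (AlgSp.yon S).obj U ⟶ F) (u : ↥U.left), AlgSp.IsElemEtaleNbhd a u x →
        CAlgX.HasUniqueMinimalPrime ↥(U.left.presheaf.stalk u)) ↔
      (∀ (U : Over S) (a : (AlgSp.yon S).obj U ⟶ F) (u : ↥U.left), AlgSp.IsElemEtaleNbhd a u x →
        {Z : Set ↥U.left | Z ∈ irreducibleComponents ↥U.left ∧ u ∈ Z}.encard = 1)) ∧
    ((∀ (U : Over S) (a : (AlgSp.yon S).obj U ⟶ F) (u : ↥U.left), AlgSp.IsElemEtaleNbhd a u x →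
        {Z : Set ↥U.left | Z ∈ irreducibleComponents ↥U.left ∧ u ∈ Z}.encard = 1) ↔
      (∀ (U : Over S) (a : (AlgSp.yon S).obj U ⟶ F) (u : ↥U.left), AlgSp.IsElemEtaleNbhd a u x →
        CAlg2.IsUnibranch ↥(U.left.presheaf.stalk u))) ∧
    ((∀ (U : Over S) (a : (AlgSp.yon S).obj U ⟶ F) (u : ↥U.left), AlgSp.IsElemEtaleNbhd a u x →
        CAlg2.IsUnibranch ↥(U.left.presheaf.stalk u)) ↔ CAlgX.HasUniqueMinimalPrime R) := by
  refine ⟨?_, ?_, ?_⟩
  · constructor
    · intro h U a u hu
      rw [encard_components_eq, ← hasUniqueMinimalPrime_iff_encard]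
      exact h U a u hu
    · intro h U a u hu
      rw [hasUniqueMinimalPrime_iff_encard, ← encard_components_eq]
      exact h U a u hu
  · constructor
    · intro h U a u hu
      rw [← Groth.Agent.S9235.result]
      change Brnch.numBranchesAt U.left u = 1
      rw [numBranchesAt_eq_one_iff]
      intro V g v hg
      exact h (Over.mk (g ≫ U.hom)) _ v (isElemEtaleNbhd_comp a u hu g v hg)
    · intro h U a u hu
      apply le_antisymm _ (one_le_encard_components U.left u)
      have h1 : Brnch.numBranchesAt U.left u = 1 := (Groth.Agent.S9235.result _).mpr (h U a u hu)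
      rw [← h1]
      exact encard_components_le_numBranchesAt U.left u
  · rw [hasUniqueMinimalPrime_iff_encard, encard_minimalPrimes_eq_numBranchesAt u₀ R]
    constructor
    · intro h
      exact (Groth.Agent.S9235.result _).mpr (h U₀ a₀ u₀ h₀)
    · intro h U a u hu
      rw [← Groth.Agent.S9235.result]
      change Brnch.numBranchesAt U.left u = 1
      rw [numBranchesAt_eq_of_isElemEtaleNbhd hF x a a₀ u u₀ hu h₀]
      exact h

include hF h₀ in
/-- **S10442.** -/
theorem numBranches_conditions (n : ℕ) :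
    (((∀ (U : Over S) (a : (AlgSp.yon S).obj U ⟶ F) (u : ↥U.left), AlgSp.IsElemEtaleNbhd a u x →
        (minimalPrimes ↥(U.left.presheaf.stalk u)).encard ≤ n) ∧
      (∃ (U : Over S) (a : (AlgSp.yon S).obj U ⟶ F) (u : ↥U.left), AlgSp.IsElemEtaleNbhd a u x ∧
        (minimalPrimes ↥(U.left.presheaf.stalk u)).encard = n)) ↔
     ((∀ (U : Over S) (a : (AlgSp.yon S).obj U ⟶ F) (u : ↥U.left), AlgSp.IsElemEtaleNbhd a u x →
        {Z : Set ↥U.left | Z ∈ irreducibleComponents ↥U.left ∧ u ∈ Z}.encard ≤ n) ∧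
      (∃ (U : Over S) (a : (AlgSp.yon S).obj U ⟶ F) (u : ↥U.left), AlgSp.IsElemEtaleNbhd a u x ∧
        {Z : Set ↥U.left | Z ∈ irreducibleComponents ↥U.left ∧ u ∈ Z}.encard = n))) ∧
    (((∀ (U : Over S) (a : (AlgSp.yon S).obj U ⟶ F) (u : ↥U.left), AlgSp.IsElemEtaleNbhd a u x →
        {Z : Set ↥U.left | Z ∈ irreducibleComponents ↥U.left ∧ u ∈ Z}.encard ≤ n) ∧
      (∃ (U : Over S) (a : (AlgSp.yon S).obj U ⟶ F) (u : ↥U.left), AlgSp.IsElemEtaleNbhd a u x ∧
        {Z : Set ↥U.left | Z ∈ irreducibleComponents ↥U.left ∧ u ∈ Z}.encard = n)) ↔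
     ((∀ (U : Over S) (a : (AlgSp.yon S).obj U ⟶ F) (u : ↥U.left), AlgSp.IsElemEtaleNbhd a u x →
        Brnch.numBranchesAt U.left u ≤ n) ∧
      (∃ (U : Over S) (a : (AlgSp.yon S).obj U ⟶ F) (u : ↥U.left), AlgSp.IsElemEtaleNbhd a u x ∧
        Brnch.numBranchesAt U.left u = n))) ∧
    (((∀ (U : Over S) (a : (AlgSp.yon S).obj U ⟶ F) (u : ↥U.left), AlgSp.IsElemEtaleNbhd a u x →
        Brnch.numBranchesAt U.left u ≤ n) ∧
      (∃ (U : Over S) (a : (AlgSp.yon S).obj U ⟶ F) (u : ↥U.left), AlgSp.IsElemEtaleNbhd a u x ∧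
        Brnch.numBranchesAt U.left u = n)) ↔
     (minimalPrimes R).encard = n) := by
  have hinv : ∀ (U : Over S) (a : (AlgSp.yon S).obj U ⟶ F) (u : ↥U.left),
      AlgSp.IsElemEtaleNbhd a u x →
      Brnch.numBranchesAt U.left u = Brnch.numBranchesAt U₀.left u₀ :=
    fun U a u hu => numBranchesAt_eq_of_isElemEtaleNbhd hF x a a₀ u u₀ hu h₀
  refine ⟨?_, ?_, ?_⟩
  · constructor
    · rintro ⟨h1, U, a, u, hu, h2⟩
      refine ⟨fun U a u hu => ?_, U, a, u, hu, ?_⟩
      · rw [encard_components_eq]; exact h1 U a u hu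
      · rw [encard_components_eq]; exact h2
    · rintro ⟨h1, U, a, u, hu, h2⟩
      refine ⟨fun U a u hu => ?_, U, a, u, hu, ?_⟩
      · rw [← encard_components_eq]; exact h1 U a u hu
      · rw [← encard_components_eq]; exact h2
  · constructor
    · rintro ⟨h1, U, a, u, hu, h2⟩
      have hb : Brnch.numBranchesAt U₀.left u₀ = n := by
        apply le_antisymm
        · by_contra hlt
          rw [not_le] at hlt
          have hn1 : ((n + 1 : ℕ) : ℕ∞) ≤ Brnch.numBranchesAt U₀.left u₀ := by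
            rw [Nat.cast_add, Nat.cast_one]
            exact Order.add_one_le_of_lt hlt
          obtain ⟨U', a', u', hu', hle⟩ :=
            exists_isElemEtaleNbhd_of_le hF x a₀ u₀ h₀ (n + 1) hn1
          have := hle.trans (h1 U' a' u' hu')
          rw [Nat.cast_le] at this
          omega
        · rw [← h2, ← hinv U a u hu]
          exact encard_components_le_numBranchesAt U.left u
      refine ⟨fun U a u hu => ?_, U₀, a₀, u₀, h₀, hb⟩
      rw [hinv U a u hu, hb]
    · rintro ⟨h1, U, a, u, hu, h2⟩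
      have hb : Brnch.numBranchesAt U₀.left u₀ = n := by rw [← hinv U a u hu, h2]
      refine ⟨fun U a u hu => ?_, ?_⟩
      · rw [← hb, ← hinv U a u hu]
        exact encard_components_le_numBranchesAt U.left u
      · obtain ⟨U', a', u', hu', hle⟩ :=
          exists_isElemEtaleNbhd_of_le hF x a₀ u₀ h₀ n hb.ge
        refine ⟨U', a', u', hu', le_antisymm ?_ hle⟩
        rw [← hb, ← hinv U' a' u' hu']
        exact encard_components_le_numBranchesAt U'.left u'
  · rw [encard_minimalPrimes_eq_numBranchesAt u₀ R]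
    constructor
    · rintro ⟨-, U, a, u, hu, h2⟩
      rw [← hinv U a u hu, h2]
    · intro hb
      refine ⟨fun U a u hu => ?_, U₀, a₀, u₀, h₀, hb⟩
      rw [hinv U a u hu, hb]

end Main

end Groth.Agent.Lib.Helper3.AlgSpBranches
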