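import Groth.Agent.Lib.Helper3.PtColimLocal
import Groth.Agent.Lib.Helper9.Hens.EtaleSectionFlat
import Mathlib.RingTheory.Flat.Localization
import Mathlib.RingTheory.Flat.FaithfullyFlat.Algebra
import Mathlib.RingTheory.Ideal.MinimalPrime.Localization
import Mathlib.RingTheory.Ideal.GoingDown
import Mathlib.SetTheory.Cardinal.Finite
import Mathlib.Data.Set.Card

/-!
# Minimal primes of `PtColim R K` versus minimal primes of local rings of étale `R`-algebras
-/

set_option linter.style.haveILetI false
set_option linter.unusedSectionVars false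
set_option autoImplicit false

namespace Groth.Agent.Lib.Helper3.PtColimBranches

open Groth.Agent.Lib.Helper9.HensK IsLocalRing Polynomial

universe u

section FlatLocal

variable (S C : Type*) [CommRing S] [CommRing C] [IsLocalRing S] [IsLocalRing C] [Algebra S C]
  [Module.Flat S C] [IsLocalHom (algebraMap S C)]

/-- Along a flat local homomorphism, contraction maps the minimal primes of the target to
minimal primes of the source. -/
theorem mapsTo_minimalPrimes_of_flat :
    Set.MapsTo (Ideal.comap (algebraMap S C)) (minimalPrimes C) (minimalPrimes S) := by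
  intro q hq
  have hqp : q.IsPrime := hq.1.1
  refine ⟨⟨Ideal.comap_isPrime (algebraMap S C) q, bot_le⟩, fun p' hp' hle => ?_⟩
  have hp'p : p'.IsPrime := hp'.1
  have hlo : q.LiesOver (Ideal.comap (algebraMap S C) q) := ⟨rfl⟩
  obtain ⟨P, hPq, hPp, hPlo⟩ :=
    Ideal.exists_ideal_le_liesOver_of_le (p := p') (q := Ideal.comap (algebraMap S C) q) q hle
  have hPq' : q ≤ P := hq.2 ⟨hPp, bot_le⟩ hPq
  have : P = q := le_antisymm hPq hPq'
  rw [hPlo.over, this]

theorem surjOn_minimalPrimes_of_flat :
    Set.SurjOn (Ideal.comap (algebraMap S C)) (minimalPrimes C) (minimalPrimes S) := by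
  have hff : Module.FaithfullyFlat S C := Module.FaithfullyFlat.of_flat_of_isLocalHom
  have hinj : Function.Injective (algebraMap S C) := FaithfulSMul.algebraMap_injective S C
  intro p hp
  have hp' : p ∈ ((⊥ : Ideal C).comap (algebraMap S C)).minimalPrimes := by
    rwa [Ideal.comap_bot_of_injective _ hinj]
  obtain ⟨q, hq, hqp⟩ := Ideal.exists_minimalPrimes_comap_eq (algebraMap S C) p hp'
  exact ⟨q, hq, hqp⟩

theorem card_minimalPrimes_le_of_flat :
    ENat.card (minimalPrimes S) ≤ ENat.card (minimalPrimes C) := by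
  have h1 := mapsTo_minimalPrimes_of_flat S C
  have h2 := surjOn_minimalPrimes_of_flat S C
  let f : minimalPrimes C → minimalPrimes S := fun q => ⟨_, h1 q.2⟩
  have hf : Function.Surjective f := by
    rintro ⟨p, hp⟩
    obtain ⟨q, hq, hqp⟩ := h2 hp
    exact ⟨⟨q, hq⟩, Subtype.ext hqp⟩
  exact ENat.card_le_card_of_injective (Function.injective_surjInv hf)

end FlatLocal

section Stage

variable {R : Type u} [CommRing R] {K : Type u} [Field K] [Algebra R K]
  (B : Type u) [CommRing B] [Algebra R B] [Algebra.Etale R B] (σ : B →ₐ[R] K)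

/-- The map from a pointed étale algebra to the colimit. -/
noncomputable def toColim : B →ₐ[R] PtColim R K :=
  (PtColim.ιₐ (PtEt.of B σ)).comp (PtEt.ofEquiv B σ).toAlgHom

theorem residue_toColim (b : B) : PtColim.residue (toColim B σ b) = σ b := by
  change PtColim.residue (PtColim.ι (PtEt.of B σ) (PtEt.ofEquiv B σ b)) = _
  rw [PtColim.residue_ι, PtEt.of_σ_apply]

theorem toColim_stage (N : PtEt R K) (y : N.S) : toColim N.S N.σ y = PtColim.ι N y := by
  change PtColim.ι (PtEt.of N.S N.σ) (PtEt.ofEquiv N.S N.σ y) = _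
  have h := PtColim.ι_comp (PtEt.homOf N N.S N.σ (AlgHom.id R N.S) (AlgHom.comp_id _)) y
  rw [PtEt.homOf_apply] at h
  exact h

variable (q : Ideal B) [q.IsPrime] (hq : ∀ b, σ b = 0 ↔ b ∈ q)
  (Bq : Type u) [CommRing Bq] [IsLocalRing Bq] [Algebra B Bq] [IsLocalization.AtPrime Bq q]

include hq in
theorem isUnit_toColim_of_notMem (b : B) (hb : b ∉ q) : IsUnit (toColim B σ b) := by
  rw [PtColim.isUnit_iff, residue_toColim]
  exact fun h => hb ((hq b).mp h)

/-- The induced map from the local ring of the pointed étale algebra at the point. -/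
noncomputable def locToColim : Bq →+* PtColim R K :=
  IsLocalization.lift (M := q.primeCompl) (S := Bq) (g := (toColim B σ).toRingHom)
    (fun y => isUnit_toColim_of_notMem B σ q hq y.1 y.2)

theorem locToColim_algebraMap (b : B) :
    locToColim B σ q hq Bq (algebraMap B Bq b) = toColim B σ b :=
  IsLocalization.lift_eq _ b

theorem isLocalHom_locToColim : IsLocalHom (locToColim B σ q hq Bq) := by
  constructor
  intro z hz
  by_contra hnz
  have hz' : z ∈ maximalIdeal Bq := (mem_maximalIdeal z).mpr hnz
  obtain ⟨b, s, rfl⟩ := IsLocalization.exists_mk'_eq q.primeCompl z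
  rw [IsLocalization.AtPrime.mk'_mem_maximal_iff Bq q] at hz'
  have h1 : locToColim B σ q hq Bq (IsLocalization.mk' Bq b s) * toColim B σ s =
      toColim B σ b := by
    rw [← locToColim_algebraMap B σ q hq Bq, ← locToColim_algebraMap B σ q hq Bq, ← map_mul,
      IsLocalization.mk'_spec]
  have h2 : IsUnit (toColim B σ b) := by
    rw [← h1]
    exact hz.mul (isUnit_toColim_of_notMem B σ q hq s s.2)
  rw [PtColim.isUnit_iff, residue_toColim] at h2
  exact h2 ((hq b).mpr hz')

theorem flat_locToColim :
    letI := (locToColim B σ q hq Bq).toAlgebra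
    Module.Flat Bq (PtColim R K) := by
  letI : Algebra B (PtColim R K) := (toColim B σ).toRingHom.toAlgebra
  haveI : IsScalarTower R B (PtColim R K) :=
    IsScalarTower.of_algebraMap_eq fun r => ((toColim B σ).commutes r).symm
  haveI : Module.Flat B (PtColim R K) :=
    Groth.Agent.Lib.Helper9.flat_of_etale_of_flat R B (PtColim R K)
  letI := (locToColim B σ q hq Bq).toAlgebra
  haveI : IsScalarTower B Bq (PtColim R K) :=
    IsScalarTower.of_algebraMap_eq fun b => (locToColim_algebraMap B σ q hq Bq b).symm
  exact (Module.flat_iff_of_isLocalization Bq q.primeCompl (PtColim R K)).mpr inferInstance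

include B σ q hq in
theorem card_minimalPrimes_le :
    ENat.card (minimalPrimes Bq) ≤ ENat.card (minimalPrimes (PtColim R K)) := by
  letI := (locToColim B σ q hq Bq).toAlgebra
  haveI := flat_locToColim B σ q hq Bq
  haveI : IsLocalHom (algebraMap Bq (PtColim R K)) := isLocalHom_locToColim B σ q hq Bq
  exact card_minimalPrimes_le_of_flat Bq (PtColim R K)

end Stage

section Lower

variable {R : Type u} [CommRing R] {K : Type u} [Field K] [Algebra R K]

/-- Finitely many minimal primes of the colimit are separated at a finite stage. -/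
theorem exists_stage_of_finset (s : Finset (Ideal (PtColim R K)))
    (hs : ∀ I ∈ s, I ∈ minimalPrimes (PtColim R K)) :
    ∃ N : PtEt R K, ∀ (q : Ideal N.S) [q.IsPrime] (_ : ∀ b, N.σ b = 0 ↔ b ∈ q)
      (Bq : Type u) [CommRing Bq] [IsLocalRing Bq] [Algebra N.S Bq] [IsLocalization.AtPrime Bq q],
      (s.card : ℕ∞) ≤ ENat.card (minimalPrimes Bq) := by
  classical
  -- separating elements
  have hsep : ∀ i : s × s, ∃ f : PtColim R K, i.1.1 ≠ i.2.1 → f ∈ i.1.1 ∧ f ∉ i.2.1 := by
    rintro ⟨⟨I, hI⟩, ⟨J, hJ⟩⟩
    by_cases hIJ : I = J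
    · exact ⟨0, fun h => absurd hIJ h⟩
    · have hnle : ¬ I ≤ J := by
        intro hle
        have hJI : J ≤ I := (hs J hJ).2 (hs I hI).1 hle
        exact hIJ (le_antisymm hle hJI)
      obtain ⟨f, hfI, hfJ⟩ := Set.not_subset.mp hnle
      exact ⟨f, fun _ => ⟨hfI, hfJ⟩⟩
  choose x hx using hsep
  obtain ⟨N, y, hy⟩ := PtColim.exists_common_fun x
  refine ⟨N, ?_⟩
  intro q _ hq Bq _ _ _ _
  letI := (locToColim N.S N.σ q hq Bq).toAlgebra
  haveI := flat_locToColim N.S N.σ q hq Bq
  haveI : IsLocalHom (algebraMap Bq (PtColim R K)) := isLocalHom_locToColim N.S N.σ q hq Bq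
  have hmaps := mapsTo_minimalPrimes_of_flat Bq (PtColim R K)
  let F : s → minimalPrimes Bq := fun I => ⟨_, hmaps (hs I.1 I.2)⟩
  have hF : Function.Injective F := by
    intro I J hIJ
    by_contra hne
    have hne' : I.1 ≠ J.1 := fun h => hne (Subtype.ext h)
    obtain ⟨h1, h2⟩ := hx (I, J) hne'
    have h3 : Ideal.comap (algebraMap Bq (PtColim R K)) I.1 =
        Ideal.comap (algebraMap Bq (PtColim R K)) J.1 := congrArg Subtype.val hIJ
    have h4 : algebraMap Bq (PtColim R K) (algebraMap N.S Bq (y (I, J))) = x (I, J) := by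
      change locToColim N.S N.σ q hq Bq (algebraMap N.S Bq (y (I, J))) = _
      rw [locToColim_algebraMap, toColim_stage, hy]
    have h5 : algebraMap N.S Bq (y (I, J)) ∈ Ideal.comap (algebraMap Bq (PtColim R K)) I.1 := by
      rw [Ideal.mem_comap, h4]
      exact h1
    rw [h3, Ideal.mem_comap, h4] at h5
    exact h2 h5
  have h6 := ENat.card_le_card_of_injective hF
  rwa [ENat.card_eq_coe_fintype_card, Fintype.card_coe] at h6

theorem exists_stage_of_le (n : ℕ) (hn : (n : ℕ∞) ≤ ENat.card (minimalPrimes (PtColim R K))) :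
    ∃ N : PtEt R K, ∀ (q : Ideal N.S) [q.IsPrime] (_ : ∀ b, N.σ b = 0 ↔ b ∈ q)
      (Bq : Type u) [CommRing Bq] [IsLocalRing Bq] [Algebra N.S Bq] [IsLocalization.AtPrime Bq q],
      (n : ℕ∞) ≤ ENat.card (minimalPrimes Bq) := by
  classical
  rw [ENat.card_coe_set_eq] at hn
  obtain ⟨t, ht, htn⟩ := Set.exists_subset_encard_eq hn
  have htf : t.Finite := Set.finite_of_encard_eq_coe htn
  obtain ⟨N, hN⟩ := exists_stage_of_finset htf.toFinset (fun I hI => ht (htf.mem_toFinset.mp hI))
  refine ⟨N, ?_⟩
  intro q _ hq Bq _ _ _ _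
  have h1 := hN q hq Bq
  have h2 : (htf.toFinset.card : ℕ∞) = n := by
    rw [← htn, htf.encard_eq_coe_toFinset_card]
  rwa [h2] at h1

end Lower

section ResidueTrivial

variable {R : Type u} [CommRing R] {K : Type u} [Field K] [Algebra R K]
  (hK : ∀ k : K, ∃ r t : R, algebraMap R K t ≠ 0 ∧ k * algebraMap R K t = algebraMap R K r)
  (B : Type u) [CommRing B] [Algebra R B] (σ : B →ₐ[R] K)
  (q : Ideal B) [q.IsPrime] (hq : ∀ b, σ b = 0 ↔ b ∈ q)
  (Bq : Type u) [CommRing Bq] [IsLocalRing Bq] [Algebra B Bq] [IsLocalization.AtPrime Bq q]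
  [Algebra R Bq] [IsScalarTower R B Bq]
  (L' : Type u) [CommRing L'] [IsLocalRing L'] [Algebra R L'] [Algebra L' Bq]
  [IsScalarTower R L' Bq] [IsLocalHom (algebraMap L' Bq)]

include hK hq in
/-- If `K` is the fraction field of the image of `R`, the residue field extension at the point of
a pointed `R`-algebra is trivial. -/
theorem residueFieldMap_surjective :
    Function.Surjective (ResidueField.map (algebraMap L' Bq)) := by
  let F : Subfield (ResidueField Bq) := (ResidueField.map (algebraMap L' Bq)).fieldRange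
  have hR : ∀ r : R, IsLocalRing.residue Bq (algebraMap R Bq r) ∈ F := by
    intro r
    refine ⟨IsLocalRing.residue L' (algebraMap R L' r), ?_⟩
    rw [ResidueField.map_residue, ← IsScalarTower.algebraMap_apply]
  have hunit : ∀ b : B, b ∉ q → IsLocalRing.residue Bq (algebraMap B Bq b) ≠ 0 := by
    intro b hb h
    rw [residue_eq_zero_iff, IsLocalization.AtPrime.to_map_mem_maximal_iff Bq q] at h
    exact hb h
  have hB : ∀ b : B, IsLocalRing.residue Bq (algebraMap B Bq b) ∈ F := by
    intro b
    obtain ⟨r, t, ht, hrt⟩ := hK (σ b)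
    have h1 : b * algebraMap R B t - algebraMap R B r ∈ q := by
      rw [← hq, map_sub, map_mul, AlgHom.commutes, AlgHom.commutes, hrt, sub_self]
    have h2 : IsLocalRing.residue Bq (algebraMap B Bq (b * algebraMap R B t - algebraMap R B r))
        = 0 := by
      rw [residue_eq_zero_iff, IsLocalization.AtPrime.to_map_mem_maximal_iff Bq q]
      exact h1
    rw [map_sub, map_mul, map_sub, map_mul, sub_eq_zero, ← IsScalarTower.algebraMap_apply,
      ← IsScalarTower.algebraMap_apply] at h2
    have htq : algebraMap R B t ∉ q := by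
      rw [← hq, AlgHom.commutes]
      exact ht
    have h3 : IsLocalRing.residue Bq (algebraMap R Bq t) ≠ 0 := by
      rw [IsScalarTower.algebraMap_apply R B Bq]
      exact hunit _ htq
    have h4 : IsLocalRing.residue Bq (algebraMap B Bq b) =
        IsLocalRing.residue Bq (algebraMap R Bq r) *
          (IsLocalRing.residue Bq (algebraMap R Bq t))⁻¹ := by
      rw [← h2, mul_assoc, mul_inv_cancel₀ h3, mul_one]
    rw [h4]
    exact F.mul_mem (hR r) (F.inv_mem (hR t))
  intro z
  obtain ⟨z, rfl⟩ := residue_surjective z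
  obtain ⟨b, s, rfl⟩ := IsLocalization.exists_mk'_eq q.primeCompl z
  have h1 : IsLocalRing.residue Bq (IsLocalization.mk' Bq b s) *
      IsLocalRing.residue Bq (algebraMap B Bq s) = IsLocalRing.residue Bq (algebraMap B Bq b) := by
    rw [← map_mul, IsLocalization.mk'_spec]
  have h2 := hunit s s.2
  have h3 : IsLocalRing.residue Bq (IsLocalization.mk' Bq b s) =
      IsLocalRing.residue Bq (algebraMap B Bq b) *
        (IsLocalRing.residue Bq (algebraMap B Bq s))⁻¹ := by
    rw [← h1, mul_assoc, mul_inv_cancel₀ h2, mul_one]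
  have h4 : IsLocalRing.residue Bq (IsLocalization.mk' Bq b s) ∈ F := by
    rw [h3]
    exact F.mul_mem (hB b) (F.inv_mem (hB s))
  exact h4

end ResidueTrivial

section Upper

variable {R : Type u} [CommRing R]
  (L : Type u) [CommRing L] [IsLocalRing L] [Algebra R L]
  (K : Type u) [Field K] [Algebra R K] [Algebra L K] [IsScalarTower R L K]
  (B : Type u) [CommRing B] [Algebra R B] [Algebra.Etale R B]
  (q : Ideal B) [q.IsPrime]
  (Bq : Type u) [CommRing Bq] [IsLocalRing Bq] [Algebra B Bq] [IsLocalization.AtPrime Bq q]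
  [Algebra R Bq] [IsScalarTower R B Bq] [Algebra L Bq] [IsScalarTower R L Bq]

include B q

/-- Upper bound from an embedding of the residue field of the local ring at a point of an étale
algebra into `K`. -/
theorem card_minimalPrimes_le_of_residue_hom (τ : ResidueField Bq →+* K)
    (hτ : ∀ y : L, τ (IsLocalRing.residue Bq (algebraMap L Bq y)) = algebraMap L K y) :
    ENat.card (minimalPrimes Bq) ≤ ENat.card (minimalPrimes (PtColim R K)) := by
  let σ : B →ₐ[R] K :=
    { (τ.comp (IsLocalRing.residue Bq)).comp (algebraMap B Bq) with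
      commutes' := fun r => by
        change τ (IsLocalRing.residue Bq (algebraMap B Bq (algebraMap R B r))) = _
        rw [← IsScalarTower.algebraMap_apply, IsScalarTower.algebraMap_apply R L Bq, hτ,
          ← IsScalarTower.algebraMap_apply] }
  have hq : ∀ b, σ b = 0 ↔ b ∈ q := by
    intro b
    change τ (IsLocalRing.residue Bq (algebraMap B Bq b)) = 0 ↔ _
    rw [map_eq_zero_iff τ τ.injective, residue_eq_zero_iff,
      IsLocalization.AtPrime.to_map_mem_maximal_iff Bq q]
  exact card_minimalPrimes_le B σ q hq Bq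

variable [IsLocalHom (algebraMap L Bq)]

/-- Upper bound when `K` is separably closed. -/
theorem card_minimalPrimes_le_of_isSepClosed [Algebra (ResidueField L) K]
    [IsScalarTower L (ResidueField L) K] [IsSepClosed K] :
    ENat.card (minimalPrimes Bq) ≤ ENat.card (minimalPrimes (PtColim R K)) := by
  haveI : Algebra.FormallyUnramified B Bq :=
    Algebra.FormallyUnramified.of_isLocalization q.primeCompl
  haveI : Algebra.FormallyUnramified R Bq := Algebra.FormallyUnramified.comp R B Bq
  haveI : Algebra.FormallyUnramified L Bq := Algebra.FormallyUnramified.of_restrictScalars R L Bq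
  haveI : Algebra.EssFiniteType B Bq := Algebra.EssFiniteType.of_isLocalization Bq q.primeCompl
  haveI : Algebra.EssFiniteType R Bq := Algebra.EssFiniteType.comp R B Bq
  haveI : Algebra.EssFiniteType L Bq := Algebra.EssFiniteType.of_comp R L Bq
  haveI : Algebra.IsSeparable (ResidueField L) (ResidueField Bq) := inferInstance
  let τ : ResidueField Bq →ₐ[ResidueField L] K := IsSepClosed.lift
  refine card_minimalPrimes_le_of_residue_hom L K B q Bq τ.toRingHom ?_
  intro y
  change τ (algebraMap (ResidueField L) (ResidueField Bq) (IsLocalRing.residue L y)) = _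
  rw [τ.commutes, IsScalarTower.algebraMap_apply L (ResidueField L) K]
  rfl

/-- Upper bound when the residue field extension is trivial. -/
theorem card_minimalPrimes_le_of_bijective [Algebra (ResidueField L) K]
    [IsScalarTower L (ResidueField L) K]
    (hbij : Function.Bijective (ResidueField.map (algebraMap L Bq))) :
    ENat.card (minimalPrimes Bq) ≤ ENat.card (minimalPrimes (PtColim R K)) := by
  let e : ResidueField L ≃+* ResidueField Bq := RingEquiv.ofBijective _ hbij
  refine card_minimalPrimes_le_of_residue_hom L K B q Bq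
    ((algebraMap (ResidueField L) K).comp e.symm.toRingHom) ?_
  intro y
  change algebraMap (ResidueField L) K (e.symm (IsLocalRing.residue Bq (algebraMap L Bq y))) = _
  have h1 : IsLocalRing.residue Bq (algebraMap L Bq y) = e (IsLocalRing.residue L y) := rfl
  rw [h1, e.symm_apply_apply, IsScalarTower.algebraMap_apply L (ResidueField L) K]
  rfl

end Upper

end Groth.Agent.Lib.Helper3.PtColimBranches
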