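import Groth.Agent.Lib.Helper3.IrrCompStalk
import Groth.Agent.Lib.Helper3.PtColimBranches
import Groth.Prelude.Def_Hens2
import Groth.Prelude.Def_Brnch
import Groth.Agent.S9237
import Groth.Agent.S9238
import Mathlib.AlgebraicGeometry.Morphisms.Etale

/-!
# Branches of a scheme at a point via étale neighbourhoods
-/

set_option linter.style.haveILetI false
set_option linter.unusedSectionVars false
set_option autoImplicit false

namespace Groth.Agent.Lib.Helper3.BrnchScheme

open AlgebraicGeometry CategoryTheory IsLocalRing Groth.Agent.Lib.Helper9.HensK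
open Groth.Agent.Lib.Helper3

universe u

section Chart

variable {U X : Scheme.{u}} (g : U ⟶ X) [Etale g] (u : U) (W : X.Opens) (hW : IsAffineOpen W)
  (hx : g u ∈ W)

include hW in
/-- An affine chart of an étale morphism around a point. -/
theorem exists_etale_chart :
    letI : Algebra Γ(X, W) (X.presheaf.stalk (g u)) := (X.presheaf.germ W (g u) hx).hom.toAlgebra
    letI : Algebra (X.presheaf.stalk (g u)) (U.presheaf.stalk u) := (g.stalkMap u).hom.toAlgebra
    ∃ (B : Type u) (_ : CommRing B) (_ : Algebra Γ(X, W) B) (_ : Algebra.Etale Γ(X, W) B)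
      (q : Ideal B) (_ : q.IsPrime) (_ : Algebra B (U.presheaf.stalk u))
      (_ : IsLocalization.AtPrime (U.presheaf.stalk u) q)
      (_ : Algebra Γ(X, W) (U.presheaf.stalk u))
      (_ : IsScalarTower Γ(X, W) B (U.presheaf.stalk u)),
      IsScalarTower Γ(X, W) (X.presheaf.stalk (g u)) (U.presheaf.stalk u) := by
  letI : Algebra Γ(X, W) (X.presheaf.stalk (g u)) := (X.presheaf.germ W (g u) hx).hom.toAlgebra
  letI : Algebra (X.presheaf.stalk (g u)) (U.presheaf.stalk u) := (g.stalkMap u).hom.toAlgebra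
  obtain ⟨V, hV, huV, hVW⟩ := exists_isAffineOpen_mem_and_subset (x := u) (U := g ⁻¹ᵁ W) hx
  have e : V ≤ g ⁻¹ᵁ W := hVW
  letI algRB : Algebra Γ(X, W) Γ(U, V) := (g.appLE W V e).hom.toAlgebra
  have hEt : Algebra.Etale Γ(X, W) Γ(U, V) := by
    rw [← RingHom.etale_algebraMap]
    exact HasRingHomProperty.appLE @Etale g inferInstance ⟨W, hW⟩ ⟨V, hV⟩ e
  letI algBq : Algebra Γ(U, V) (U.presheaf.stalk u) := (U.presheaf.germ V u huV).hom.toAlgebra
  have hloc : IsLocalization.AtPrime (U.presheaf.stalk u) (hV.primeIdealOf ⟨u, huV⟩).asIdeal :=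
    hV.isLocalization_stalk ⟨u, huV⟩
  letI algRBq : Algebra Γ(X, W) (U.presheaf.stalk u) :=
    ((U.presheaf.germ V u huV).hom.comp (g.appLE W V e).hom).toAlgebra
  have hT1 : IsScalarTower Γ(X, W) Γ(U, V) (U.presheaf.stalk u) :=
    IsScalarTower.of_algebraMap_eq fun _ => rfl
  refine ⟨Γ(U, V), inferInstance, algRB, hEt, (hV.primeIdealOf ⟨u, huV⟩).asIdeal, inferInstance,
    algBq, hloc, algRBq, hT1, ?_⟩
  refine IsScalarTower.of_algebraMap_eq fun r => ?_
  change (U.presheaf.germ V u huV).hom ((g.appLE W V e).hom r) =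
    (g.stalkMap u).hom ((X.presheaf.germ W (g u) hx).hom r)
  rw [Scheme.Hom.germ_stalkMap_apply, Scheme.Hom.appLE]
  exact TopCat.Presheaf.germ_res_apply _ _ _ _ _

end Chart

section Model

variable {X : Scheme.{u}} (x : X) (W : X.Opens) (hW : IsAffineOpen W) (hx : x ∈ W)

/-- The algebra structure of the local ring at `x` over the sections on an open `W ∋ x`. -/
@[reducible] noncomputable def algRL : Algebra Γ(X, W) (X.presheaf.stalk x) :=
  (X.presheaf.germ W x hx).hom.toAlgebra

/-- The induced algebra structure on an algebra over the local ring. -/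
@[reducible] noncomputable def algRK (K : Type u) [CommRing K] [Algebra (X.presheaf.stalk x) K] :
    Algebra Γ(X, W) K :=
  ((algebraMap (X.presheaf.stalk x) K).comp (X.presheaf.germ W x hx).hom).toAlgebra

theorem isLocalHom_of_tower (L K : Type*) [CommRing L] [IsLocalRing L] [Field K] [Algebra L K]
    [Algebra (ResidueField L) K] [IsScalarTower L (ResidueField L) K] :
    IsLocalHom (algebraMap L K) := by
  constructor
  intro y hy
  rw [IsScalarTower.algebraMap_apply L (ResidueField L) K] at hy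
  have h1 : algebraMap L (ResidueField L) y ≠ 0 := by
    intro h
    rw [h, map_zero] at hy
    exact not_isUnit_zero hy
  by_contra hu
  exact h1 ((residue_eq_zero_iff y).mpr ((mem_maximalIdeal y).mpr hu))

include hW in
theorem card_minimalPrimes_ptColim_eq_numGeomBranches (K : Type u) [Field K]
    [Algebra (X.presheaf.stalk x) K] [Algebra (ResidueField (X.presheaf.stalk x)) K]
    [IsScalarTower (X.presheaf.stalk x) (ResidueField (X.presheaf.stalk x)) K]
    [IsSepClosure (ResidueField (X.presheaf.stalk x)) K] :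
    letI := algRK x W hx K
    ENat.card (minimalPrimes (PtColim Γ(X, W) K)) = Brnch.numGeomBranches (X.presheaf.stalk x) := by
  letI := algRL x W hx
  letI := algRK x W hx K
  haveI : IsScalarTower Γ(X, W) (X.presheaf.stalk x) K :=
    IsScalarTower.of_algebraMap_eq fun _ => rfl
  haveI : IsLocalization.AtPrime (X.presheaf.stalk x) (hW.primeIdealOf ⟨x, hx⟩).asIdeal :=
    hW.isLocalization_stalk ⟨x, hx⟩
  haveI : IsLocalHom (algebraMap (X.presheaf.stalk x) K) := isLocalHom_of_tower _ K
  letI := PtColimLocal.algebraL (hW.primeIdealOf ⟨x, hx⟩).asIdeal (X.presheaf.stalk x) K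
  haveI := PtColimLocal.isScalarTower_algebraL (hW.primeIdealOf ⟨x, hx⟩).asIdeal
    (X.presheaf.stalk x) K
  haveI := PtColimLocal.isLocalHom_algebraMap (hW.primeIdealOf ⟨x, hx⟩).asIdeal
    (X.presheaf.stalk x) K
  haveI := PtColimLocal.isStrictHenselization (hW.primeIdealOf ⟨x, hx⟩).asIdeal
    (X.presheaf.stalk x) K
  exact Groth.Agent.S9238.result (X.presheaf.stalk x) (PtColim Γ(X, W) K)

include hW in
theorem card_minimalPrimes_ptColim_eq_numBranches (K : Type u) [Field K]
    [Algebra (X.presheaf.stalk x) K] [Algebra (ResidueField (X.presheaf.stalk x)) K]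
    [IsScalarTower (X.presheaf.stalk x) (ResidueField (X.presheaf.stalk x)) K]
    (hbij : Function.Bijective (algebraMap (ResidueField (X.presheaf.stalk x)) K)) :
    letI := algRK x W hx K
    ENat.card (minimalPrimes (PtColim Γ(X, W) K)) = Brnch.numBranches (X.presheaf.stalk x) := by
  letI := algRL x W hx
  letI := algRK x W hx K
  haveI : IsScalarTower Γ(X, W) (X.presheaf.stalk x) K :=
    IsScalarTower.of_algebraMap_eq fun _ => rfl
  haveI : IsLocalization.AtPrime (X.presheaf.stalk x) (hW.primeIdealOf ⟨x, hx⟩).asIdeal :=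
    hW.isLocalization_stalk ⟨x, hx⟩
  haveI : IsLocalHom (algebraMap (X.presheaf.stalk x) K) := isLocalHom_of_tower _ K
  letI := PtColimLocal.algebraL (hW.primeIdealOf ⟨x, hx⟩).asIdeal (X.presheaf.stalk x) K
  haveI := PtColimLocal.isScalarTower_algebraL (hW.primeIdealOf ⟨x, hx⟩).asIdeal
    (X.presheaf.stalk x) K
  haveI := PtColimLocal.isLocalHom_algebraMap (hW.primeIdealOf ⟨x, hx⟩).asIdeal
    (X.presheaf.stalk x) K
  haveI := PtColimLocal.isHenselization (hW.primeIdealOf ⟨x, hx⟩).asIdeal
    (X.presheaf.stalk x) K hbij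
  exact Groth.Agent.S9237.result (X.presheaf.stalk x) (PtColim Γ(X, W) K)

end Model

section Upper

variable {U X : Scheme.{u}} (g : U ⟶ X) (u : U)

/-- Upper bound: the number of irreducible components through a point of an étale `X`-scheme is at
most the geometric branch number at the image point. -/
theorem encard_le_numGeomBranchesAt [Etale g] :
    {Z : Set U | Z ∈ irreducibleComponents U ∧ u ∈ Z}.encard ≤
      Brnch.numGeomBranchesAt X (g u) := by
  rw [IrrCompStalk.encard_irreducibleComponents_through]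
  obtain ⟨W, hW, hx, -⟩ := exists_isAffineOpen_mem_and_subset (x := g u) (U := ⊤) trivial
  let K := SeparableClosure (ResidueField (X.presheaf.stalk (g u)))
  unfold Brnch.numGeomBranchesAt
  rw [← card_minimalPrimes_ptColim_eq_numGeomBranches (g u) W hW hx K]
  letI := algRL (g u) W hx
  letI := algRK (g u) W hx K
  haveI : IsScalarTower Γ(X, W) (X.presheaf.stalk (g u)) K :=
    IsScalarTower.of_algebraMap_eq fun _ => rfl
  letI : Algebra (X.presheaf.stalk (g u)) (U.presheaf.stalk u) := (g.stalkMap u).hom.toAlgebra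
  haveI : IsLocalHom (algebraMap (X.presheaf.stalk (g u)) (U.presheaf.stalk u)) :=
    inferInstanceAs (IsLocalHom (g.stalkMap u).hom)
  obtain ⟨B, _, _, _, q, _, _, _, _, _, _⟩ := exists_etale_chart g u W hW hx
  exact PtColimBranches.card_minimalPrimes_le_of_isSepClosed (X.presheaf.stalk (g u)) K B q
    (U.presheaf.stalk u)

/-- Upper bound for elementary étale neighbourhoods. -/
theorem encard_le_numBranchesAt [Etale g]
    (hbij : Function.Bijective (g.residueFieldMap u).hom) :
    {Z : Set U | Z ∈ irreducibleComponents U ∧ u ∈ Z}.encard ≤ Brnch.numBranchesAt X (g u) := by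
  rw [IrrCompStalk.encard_irreducibleComponents_through]
  obtain ⟨W, hW, hx, -⟩ := exists_isAffineOpen_mem_and_subset (x := g u) (U := ⊤) trivial
  let K := ResidueField (X.presheaf.stalk (g u))
  unfold Brnch.numBranchesAt
  rw [← card_minimalPrimes_ptColim_eq_numBranches (g u) W hW hx K Function.bijective_id]
  letI := algRL (g u) W hx
  letI := algRK (g u) W hx K
  haveI : IsScalarTower Γ(X, W) (X.presheaf.stalk (g u)) K :=
    IsScalarTower.of_algebraMap_eq fun _ => rfl
  letI : Algebra (X.presheaf.stalk (g u)) (U.presheaf.stalk u) := (g.stalkMap u).hom.toAlgebra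
  haveI : IsLocalHom (algebraMap (X.presheaf.stalk (g u)) (U.presheaf.stalk u)) :=
    inferInstanceAs (IsLocalHom (g.stalkMap u).hom)
  obtain ⟨B, _, _, _, q, _, _, _, _, _, _⟩ := exists_etale_chart g u W hW hx
  exact PtColimBranches.card_minimalPrimes_le_of_bijective (X.presheaf.stalk (g u)) K B q
    (U.presheaf.stalk u) hbij

end Upper

section Lower

variable {X : Scheme.{u}} (x : X) (W : X.Opens) (hW : IsAffineOpen W) (hx : x ∈ W)

/-- The sections over `⊤` of a morphism `Spec B ⟶ Spec Γ(X, W) ⟶ X`. -/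
theorem appLE_top_SpecMap_fromSpec (B : CommRingCat.{u}) (φ : Γ(X, W) ⟶ B)
    (e : (⊤ : (Spec B).Opens) ≤ (Spec.map φ ≫ hW.fromSpec) ⁻¹ᵁ W) :
    (Spec.map φ ≫ hW.fromSpec).appLE W ⊤ e = φ ≫ (Scheme.ΓSpecIso B).inv := by
  apply Spec.map_injective
  have h := IsAffineOpen.SpecMap_appLE_fromSpec (Spec.map φ ≫ hW.fromSpec) hW
    (isAffineOpen_top (Spec B)) e
  rw [IsAffineOpen.fromSpec_top, Scheme.isoSpec_Spec_inv, ← Category.assoc, cancel_mono] at h
  rw [h, Spec.map_comp]

variable (K : Type u) [Field K] [Algebra (X.presheaf.stalk x) K]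
  [IsLocalHom (algebraMap (X.presheaf.stalk x) K)]

include hW in
/-- The étale neighbourhood attached to a pointed étale algebra over the sections on an affine
open. -/
theorem exists_nbhd_of_stage :
    letI := algRK x W hx K
    ∀ N : PtEt Γ(X, W) K, ∃ (U : Scheme.{u}) (g : U ⟶ X) (u : U), Etale g ∧ g u = x ∧
      (∃ (q : Ideal N.S) (_ : q.IsPrime) (_ : Algebra N.S (U.presheaf.stalk u)),
        (∀ b, N.σ b = 0 ↔ b ∈ q) ∧ IsLocalization.AtPrime (U.presheaf.stalk u) q) ∧
      ((∀ k : K, ∃ r t : Γ(X, W), algebraMap Γ(X, W) K t ≠ 0 ∧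
          k * algebraMap Γ(X, W) K t = algebraMap Γ(X, W) K r) →
        Function.Bijective (g.residueFieldMap u).hom) := by
  letI := algRL x W hx
  letI := algRK x W hx K
  haveI : IsScalarTower Γ(X, W) (X.presheaf.stalk x) K :=
    IsScalarTower.of_algebraMap_eq fun _ => rfl
  haveI : IsLocalization.AtPrime (X.presheaf.stalk x) (hW.primeIdealOf ⟨x, hx⟩).asIdeal :=
    hW.isLocalization_stalk ⟨x, hx⟩
  intro N
  let B : CommRingCat.{u} := CommRingCat.of N.S
  let φ : Γ(X, W) ⟶ B := CommRingCat.ofHom (algebraMap Γ(X, W) N.S)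
  let g : Spec B ⟶ X := Spec.map φ ≫ hW.fromSpec
  let q : Ideal N.S := RingHom.ker N.σ.toRingHom
  haveI hqp : q.IsPrime := RingHom.ker_isPrime _
  let u₀ : PrimeSpectrum N.S := ⟨q, hqp⟩
  let u : Spec B := u₀
  have hq : ∀ b, N.σ b = 0 ↔ b ∈ q := fun b => Iff.rfl
  have hEt : Etale g := by
    haveI : Etale (Spec.map φ) := by
      rw [HasRingHomProperty.Spec_iff (P := @Etale)]
      exact RingHom.etale_algebraMap.mpr inferInstance
    infer_instance
  have hgu : g u = x := by
    have h1 : (Spec.map φ) u = hW.primeIdealOf ⟨x, hx⟩ := by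
      apply PrimeSpectrum.ext
      change Ideal.comap (algebraMap Γ(X, W) N.S) q = _
      rw [← PtColimLocal.ker_algebraMap (hW.primeIdealOf ⟨x, hx⟩).asIdeal (X.presheaf.stalk x) K]
      ext a
      change N.σ (algebraMap Γ(X, W) N.S a) = 0 ↔ algebraMap Γ(X, W) K a = 0
      rw [AlgHom.commutes]
    change hW.fromSpec ((Spec.map φ) u) = x
    rw [h1]
    exact hW.fromSpec_primeIdealOf ⟨x, hx⟩
  letI algBq : Algebra N.S ((Spec B).presheaf.stalk u) := StructureSheaf.stalkAlgebra (R := N.S) u₀
  have hloc : IsLocalization.AtPrime ((Spec B).presheaf.stalk u) q :=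
    StructureSheaf.IsLocalization.to_stalk (R := N.S) u₀
  refine ⟨Spec B, g, u, hEt, hgu, ⟨q, hqp, algBq, hq, hloc⟩, ?_⟩
  intro hK
  refine ⟨(g.residueFieldMap u).hom.injective, ?_⟩
  have hx' : g u ∈ W := by rw [hgu]; exact hx
  letI : Algebra Γ(X, W) (X.presheaf.stalk (g u)) := algRL (g u) W hx'
  letI : Algebra (X.presheaf.stalk (g u)) ((Spec B).presheaf.stalk u) :=
    (g.stalkMap u).hom.toAlgebra
  haveI : IsLocalHom (algebraMap (X.presheaf.stalk (g u)) ((Spec B).presheaf.stalk u)) :=
    inferInstanceAs (IsLocalHom (g.stalkMap u).hom)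
  letI : Algebra Γ(X, W) ((Spec B).presheaf.stalk u) :=
    ((algebraMap N.S ((Spec B).presheaf.stalk u)).comp (algebraMap Γ(X, W) N.S)).toAlgebra
  haveI : IsScalarTower Γ(X, W) N.S ((Spec B).presheaf.stalk u) :=
    IsScalarTower.of_algebraMap_eq fun _ => rfl
  haveI : IsScalarTower Γ(X, W) (X.presheaf.stalk (g u)) ((Spec B).presheaf.stalk u) := by
    refine IsScalarTower.of_algebraMap_eq fun r => ?_
    change algebraMap N.S ((Spec B).presheaf.stalk u) (algebraMap Γ(X, W) N.S r) =
      (g.stalkMap u).hom ((X.presheaf.germ W (g u) hx').hom r)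
    rw [Scheme.Hom.germ_stalkMap_apply]
    have e : (⊤ : (Spec B).Opens) ≤ g ⁻¹ᵁ W := fun y _ => by
      change g y ∈ W
      change hW.fromSpec ((Spec.map φ) y) ∈ W
      have h3 : hW.fromSpec ((Spec.map φ) y) ∈ Set.range hW.fromSpec := ⟨_, rfl⟩
      rw [hW.range_fromSpec] at h3
      exact h3
    have hkey := appLE_top_SpecMap_fromSpec W hW B φ e
    have h2 : ((Spec B).presheaf.germ ⊤ u trivial).hom ((g.appLE W ⊤ e).hom r) =
        ((Spec B).presheaf.germ (g ⁻¹ᵁ W) u hx').hom ((g.app W).hom r) := by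
      rw [Scheme.Hom.appLE]
      exact TopCat.Presheaf.germ_res_apply _ _ _ _ _
    rw [← h2, hkey]
    rfl
  exact PtColimBranches.residueFieldMap_surjective hK N.S N.σ q hq ((Spec B).presheaf.stalk u)
    (X.presheaf.stalk (g u))

end Lower

section LowerMain

variable {X : Scheme.{u}} (x : X)

/-- Lower bound: every finite number below the geometric branch number is attained by an étale
neighbourhood. -/
theorem exists_etale_of_le_numGeomBranchesAt (n : ℕ)
    (hn : (n : ℕ∞) ≤ Brnch.numGeomBranchesAt X x) :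
    ∃ (U : Scheme.{u}) (g : U ⟶ X) (u : U), (Etale g ∧ g u = x) ∧
      (n : ℕ∞) ≤ {Z : Set U | Z ∈ irreducibleComponents U ∧ u ∈ Z}.encard := by
  obtain ⟨W, hW, hx, -⟩ := exists_isAffineOpen_mem_and_subset (x := x) (U := ⊤) trivial
  let K := SeparableClosure (ResidueField (X.presheaf.stalk x))
  unfold Brnch.numGeomBranchesAt at hn
  rw [← card_minimalPrimes_ptColim_eq_numGeomBranches x W hW hx K] at hn
  letI := algRK x W hx K
  obtain ⟨N, hN⟩ := PtColimBranches.exists_stage_of_le n hn
  haveI : IsLocalHom (algebraMap (X.presheaf.stalk x) K) := isLocalHom_of_tower _ K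
  obtain ⟨U, g, u, hEt, hgu, ⟨q, hqp, alg, hq, hloc⟩, -⟩ := exists_nbhd_of_stage x W hW hx K N
  refine ⟨U, g, u, ⟨hEt, hgu⟩, ?_⟩
  rw [IrrCompStalk.encard_irreducibleComponents_through]
  exact hN q hq (U.presheaf.stalk u)

/-- Lower bound: every finite number below the branch number is attained by an elementary étale
neighbourhood. -/
theorem exists_etaleNbhd_of_le_numBranchesAt (n : ℕ)
    (hn : (n : ℕ∞) ≤ Brnch.numBranchesAt X x) :
    ∃ (U : Scheme.{u}) (g : U ⟶ X) (u : U), Hens2.IsEtaleNbhd g u x ∧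
      (n : ℕ∞) ≤ {Z : Set U | Z ∈ irreducibleComponents U ∧ u ∈ Z}.encard := by
  obtain ⟨W, hW, hx, -⟩ := exists_isAffineOpen_mem_and_subset (x := x) (U := ⊤) trivial
  let K := ResidueField (X.presheaf.stalk x)
  unfold Brnch.numBranchesAt at hn
  rw [← card_minimalPrimes_ptColim_eq_numBranches x W hW hx K Function.bijective_id] at hn
  letI := algRL x W hx
  letI := algRK x W hx K
  haveI : IsLocalization.AtPrime (X.presheaf.stalk x) (hW.primeIdealOf ⟨x, hx⟩).asIdeal :=
    hW.isLocalization_stalk ⟨x, hx⟩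
  obtain ⟨N, hN⟩ := PtColimBranches.exists_stage_of_le n hn
  haveI : IsLocalHom (algebraMap (X.presheaf.stalk x) K) := isLocalHom_of_tower _ K
  obtain ⟨U, g, u, hEt, hgu, ⟨q, hqp, alg, hq, hloc⟩, hres⟩ := exists_nbhd_of_stage x W hW hx K N
  have hK : ∀ k : K, ∃ r t : Γ(X, W), algebraMap Γ(X, W) K t ≠ 0 ∧
      k * algebraMap Γ(X, W) K t = algebraMap Γ(X, W) K r := by
    intro k
    obtain ⟨y, rfl⟩ := residue_surjective k
    obtain ⟨r, t, rfl⟩ := IsLocalization.exists_mk'_eq
      (hW.primeIdealOf ⟨x, hx⟩).asIdeal.primeCompl y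
    have halg : ∀ a : Γ(X, W), algebraMap Γ(X, W) K a =
        IsLocalRing.residue (X.presheaf.stalk x) (algebraMap Γ(X, W) (X.presheaf.stalk x) a) :=
      fun _ => rfl
    refine ⟨r, t.1, ?_, ?_⟩
    · rw [halg, Ne, residue_eq_zero_iff, IsLocalization.AtPrime.to_map_mem_maximal_iff
        (X.presheaf.stalk x) (hW.primeIdealOf ⟨x, hx⟩).asIdeal]
      exact t.2
    · rw [halg, halg, ← map_mul, IsLocalization.mk'_spec]
  refine ⟨U, g, u, ⟨hEt, hgu, hres hK⟩, ?_⟩
  rw [IrrCompStalk.encard_irreducibleComponents_through]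
  exact hN q hq (U.presheaf.stalk u)

end LowerMain

section Main

variable (X : Scheme.{u}) (x : X)

theorem numGeomBranchesAt_eq_iSup :
    Brnch.numGeomBranchesAt X x = ⨆ (U : Scheme.{u}) (g : U ⟶ X) (u : U) (_ : Etale g ∧ g u = x),
      {Z : Set ↑U | Z ∈ irreducibleComponents ↑U ∧ u ∈ Z}.encard := by
  apply le_antisymm
  · rw [← ENat.forall_natCast_le_iff_le]
    intro n hn
    obtain ⟨U, g, u, h, hle⟩ := exists_etale_of_le_numGeomBranchesAt x n hn
    exact hle.trans (le_iSup_of_le U (le_iSup_of_le g (le_iSup_of_le u (le_iSup_of_le h le_rfl))))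
  · refine iSup_le fun U => iSup_le fun g => iSup_le fun u => iSup_le fun h => ?_
    obtain ⟨hEt, rfl⟩ := h
    exact encard_le_numGeomBranchesAt g u

theorem numBranchesAt_eq_iSup :
    Brnch.numBranchesAt X x = ⨆ (U : Scheme.{u}) (g : U ⟶ X) (u : U)
      (_ : Hens2.IsEtaleNbhd g u x),
      {Z : Set ↑U | Z ∈ irreducibleComponents ↑U ∧ u ∈ Z}.encard := by
  apply le_antisymm
  · rw [← ENat.forall_natCast_le_iff_le]
    intro n hn
    obtain ⟨U, g, u, h, hle⟩ := exists_etaleNbhd_of_le_numBranchesAt x n hn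
    exact hle.trans (le_iSup_of_le U (le_iSup_of_le g (le_iSup_of_le u (le_iSup_of_le h le_rfl))))
  · refine iSup_le fun U => iSup_le fun g => iSup_le fun u => iSup_le fun h => ?_
    obtain ⟨hEt, rfl, hbij⟩ := h
    exact encard_le_numBranchesAt g u hbij

end Main

section Unibranch

variable (X : Scheme.{u}) (x : X)

theorem one_le_encard_components (U : Scheme.{u}) (u : U) :
    1 ≤ {Z : Set U | Z ∈ irreducibleComponents U ∧ u ∈ Z}.encard := by
  rw [Set.one_le_encard_iff_nonempty]
  exact ⟨irreducibleComponent u, irreducibleComponent_mem_irreducibleComponents u,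
    mem_irreducibleComponent⟩

theorem isEtaleNbhd_id : Hens2.IsEtaleNbhd (𝟙 X) x x where
  etale := inferInstance
  base_eq := rfl
  residue_bijective := by
    rw [Scheme.residueFieldMap_id]
    exact Function.bijective_id

theorem numBranchesAt_eq_one_iff :
    Brnch.numBranchesAt X x = 1 ↔ ∀ (U : Scheme.{u}) (g : U ⟶ X) (u : U),
      Hens2.IsEtaleNbhd g u x →
        {Z : Set ↑U | Z ∈ irreducibleComponents ↑U ∧ u ∈ Z}.encard = 1 := by
  rw [numBranchesAt_eq_iSup]
  constructor
  · intro h U g u hg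
    apply le_antisymm _ (one_le_encard_components U u)
    rw [← h]
    exact le_iSup_of_le U (le_iSup_of_le g (le_iSup_of_le u (le_iSup_of_le hg le_rfl)))
  · intro h
    apply le_antisymm
    · refine iSup_le fun U => iSup_le fun g => iSup_le fun u => iSup_le fun hg => ?_
      exact (h U g u hg).le
    · refine le_iSup_of_le X (le_iSup_of_le (𝟙 X) (le_iSup_of_le x
        (le_iSup_of_le (isEtaleNbhd_id X x) ?_)))
      exact one_le_encard_components X x

theorem numGeomBranchesAt_eq_one_iff :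
    Brnch.numGeomBranchesAt X x = 1 ↔ ∀ (U : Scheme.{u}) (g : U ⟶ X) (u : U),
      Etale g → g u = x →
        {Z : Set ↑U | Z ∈ irreducibleComponents ↑U ∧ u ∈ Z}.encard = 1 := by
  rw [numGeomBranchesAt_eq_iSup]
  constructor
  · intro h U g u hg hgu
    apply le_antisymm _ (one_le_encard_components U u)
    rw [← h]
    exact le_iSup_of_le U (le_iSup_of_le g (le_iSup_of_le u (le_iSup_of_le ⟨hg, hgu⟩ le_rfl)))
  · intro h
    apply le_antisymm
    · refine iSup_le fun U => iSup_le fun g => iSup_le fun u => iSup_le fun hg => ?_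
      exact (h U g u hg.1 hg.2).le
    · refine le_iSup_of_le X (le_iSup_of_le (𝟙 X) (le_iSup_of_le x
        (le_iSup_of_le ⟨inferInstance, rfl⟩ ?_)))
      exact one_le_encard_components X x

end Unibranch

end Groth.Agent.Lib.Helper3.BrnchScheme
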