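import Groth.Agent.Lib.Helper3.HensEssEtale
import Groth.Agent.Lib.Helper3.BrnchScheme
import Groth.Agent.H53.ElemNbhd
import Groth.Agent.H52.LocP
import Groth.Prelude.Def_AlgSpDec
import Mathlib.Algebra.Category.Ring.Epi

/-!
# Henselizations at elementary étale neighbourhoods of a point of an algebraic space (helper3)
-/

set_option autoImplicit false
set_option linter.unusedSectionVars false
set_option linter.style.haveILetI false

namespace Groth.Agent.Lib.Helper3.AlgSpHens

universe u

open CategoryTheory CategoryTheory.Limits AlgebraicGeometry IsLocalRing TensorProduct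
open Groth.Agent.Lib.Helper3 Groth.Agent.Lib.Helper3.BrnchScheme

section FieldEpi

/-- An epimorphism of fields is surjective. -/
theorem surjective_of_isEpi_field (K L : Type*) [Field K] [Field L] [Algebra K L]
    [h : Algebra.IsEpi K L] : Function.Surjective (algebraMap K L) := by
  have hinj : LinearMap.ker (Algebra.linearMap K L) = ⊥ :=
    LinearMap.ker_eq_bot.mpr (algebraMap K L).injective
  obtain ⟨g, hg⟩ := LinearMap.exists_leftInverse_of_injective (Algebra.linearMap K L) hinj
  have hg1 : g 1 = 1 := by
    have := DFunLike.congr_fun hg (1 : K)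
    simpa using this
  intro l
  have h1 := (Algebra.isEpi_iff_forall_one_tmul_eq K L).mp h l
  have h2 := congrArg (fun t => TensorProduct.lid K L (g.rTensor L t)) h1
  simp only [LinearMap.rTensor_tmul, TensorProduct.lid_tmul, hg1, one_smul] at h2
  refine ⟨g l, ?_⟩
  rw [Algebra.algebraMap_eq_smul_one]
  exact h2.symm

/-- A ring map between fields whose `Spec` is a monomorphism of schemes is bijective. -/
theorem bijective_of_mono_SpecMap {K L : Type u} [Field K] [Field L] (φ : K →+* L)
    (hmono : Mono (Spec.map (CommRingCat.ofHom φ))) : Function.Bijective φ := by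
  refine ⟨φ.injective, ?_⟩
  letI : Algebra K L := φ.toAlgebra
  have hepi : Epi (CommRingCat.ofHom φ) := by
    constructor
    intro Z α β hαβ
    apply Spec.map_injective
    rw [← cancel_mono (Spec.map (CommRingCat.ofHom φ)), ← Spec.map_comp, ← Spec.map_comp, hαβ]
  have hepi' : Epi (CommRingCat.ofHom (algebraMap K L)) := hepi
  haveI : Algebra.IsEpi K L := CommRingCat.epi_iff_epi.mp hepi'
  exact surjective_of_isEpi_field K L

end FieldEpi

section SchemeLevel

variable {Y X : Scheme.{u}} (f : Y ⟶ X) [Etale f] (y : Y)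

/-- A henselization of the local ring of an étale `X`-scheme at a point with trivial residue
field extension is a henselization of the local ring of `X` at the image point. -/
theorem isHenselization_stalk_of_etale
    (hbij : Function.Bijective (f.residueFieldMap y).hom)
    (Rh : Type u) [CommRing Rh] [IsLocalRing Rh] [Algebra (Y.presheaf.stalk y) Rh]
    [IsLocalHom (algebraMap (Y.presheaf.stalk y) Rh)]
    [Hensel.IsHenselization (Y.presheaf.stalk y) Rh] :
    letI : Algebra (X.presheaf.stalk (f y)) Rh :=
      ((algebraMap (Y.presheaf.stalk y) Rh).comp (f.stalkMap y).hom).toAlgebra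
    ∃ (_ : IsLocalHom (algebraMap (X.presheaf.stalk (f y)) Rh)),
      Hensel.IsHenselization (X.presheaf.stalk (f y)) Rh := by
  letI algLR : Algebra (X.presheaf.stalk (f y)) Rh :=
    ((algebraMap (Y.presheaf.stalk y) Rh).comp (f.stalkMap y).hom).toAlgebra
  obtain ⟨W, hW, hx, -⟩ := exists_isAffineOpen_mem_and_subset (x := f y) (U := ⊤) trivial
  letI := algRL (f y) W hx
  letI : Algebra (X.presheaf.stalk (f y)) (Y.presheaf.stalk y) := (f.stalkMap y).hom.toAlgebra
  haveI : IsLocalHom (algebraMap (X.presheaf.stalk (f y)) (Y.presheaf.stalk y)) :=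
    inferInstanceAs (IsLocalHom (f.stalkMap y).hom)
  haveI : IsLocalization.AtPrime (X.presheaf.stalk (f y)) (hW.primeIdealOf ⟨f y, hx⟩).asIdeal :=
    hW.isLocalization_stalk ⟨f y, hx⟩
  obtain ⟨B, _, _, _, q, _, _, _, _, _, _⟩ := exists_etale_chart f y W hW hx
  haveI : IsScalarTower (X.presheaf.stalk (f y)) (Y.presheaf.stalk y) Rh :=
    IsScalarTower.of_algebraMap_eq fun _ => rfl
  exact HensEssEtale.isHenselization_of_chart (hW.primeIdealOf ⟨f y, hx⟩).asIdeal
    (X.presheaf.stalk (f y)) B q (Y.presheaf.stalk y) hbij Rh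

end SchemeLevel

section AlgSpLevel

open AlgSp Groth.Agent.H53.ElemNbhd

variable {S : Scheme.{u}} {F : AlgSp.Sp S}

/-- A morphism between elementary étale neighbourhoods of a point is étale and induces an
isomorphism of residue fields. -/
theorem etale_and_bijective_of_isElemEtaleNbhd {x : AlgSp.Points F} {U U' : Over S}
    (a : (AlgSp.yon S).obj U ⟶ F) (a' : (AlgSp.yon S).obj U' ⟶ F) (g : U' ⟶ U) (u' : ↥U'.left)
    (hg : (AlgSp.yon S).map g ≫ a = a') (ha : AlgSp.IsElemEtaleNbhd a (g.left u') x)
    (ha' : AlgSp.IsElemEtaleNbhd a' u' x) :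
    Etale g.left ∧ Function.Bijective (g.left.residueFieldMap u').hom := by
  have hEt : Etale g.left := Groth.Agent.H52.etale_of_triangle a' a g ha'.etale ha.etale hg
  refine ⟨hEt, ?_⟩
  -- the morphism `Spec κ(u') ⟶ Spec κ(g u')` over `S`
  let r : resPt U' u' ⟶ resPt U (g.left u') :=
    Over.homMk (Spec.map (g.left.residueFieldMap u')) (by
      change Spec.map (g.left.residueFieldMap u') ≫
        (U.left.fromSpecResidueField (g.left u') ≫ U.hom) =
        U'.left.fromSpecResidueField u' ≫ U'.hom
      rw [← Category.assoc, Scheme.Hom.SpecMap_residueFieldMap_fromSpecResidueField,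
        Category.assoc, Over.w g])
  have hr : r ≫ resι U (g.left u') = resι U' u' ≫ g := by
    ext1
    exact Scheme.Hom.SpecMap_residueFieldMap_fromSpecResidueField g.left u'
  have h1 : (AlgSp.yon S).map r ≫ (FieldPt.ofPt a (g.left u')).toHom =
      (FieldPt.ofPt a' u').toHom := by
    rw [toHom_ofPt', toHom_ofPt', ← Category.assoc, ← Functor.map_comp, hr, Functor.map_comp,
      Category.assoc, hg]
  haveI : Mono ((AlgSp.yon S).map r ≫ (FieldPt.ofPt a (g.left u')).toHom) := by
    rw [h1]
    exact ha'.mono
  haveI : Mono ((AlgSp.yon S).map r) :=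
    mono_of_mono ((AlgSp.yon S).map r) (FieldPt.ofPt a (g.left u')).toHom
  haveI : Mono r := (AlgSp.yon S).mono_of_mono_map ‹_›
  haveI : Mono r.left := inferInstance
  haveI : Mono (Spec.map (g.left.residueFieldMap u')) := ‹Mono r.left›
  exact bijective_of_mono_SpecMap (IsLocalRing.ResidueField.map (g.left.stalkMap u').hom)
    ‹Mono (Spec.map (g.left.residueFieldMap u'))›

/-- **S10440.** -/
theorem isHenselization_of_isElemEtaleNbhd {x : AlgSp.Points F} {U U' : Over S}
    (a : (AlgSp.yon S).obj U ⟶ F) (a' : (AlgSp.yon S).obj U' ⟶ F) (g : U' ⟶ U) (u' : ↥U'.left)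
    (hg : (AlgSp.yon S).map g ≫ a = a') (ha : AlgSp.IsElemEtaleNbhd a (g.left u') x)
    (ha' : AlgSp.IsElemEtaleNbhd a' u' x) (R : Type u) [CommRing R] [IsLocalRing R]
    [Algebra ↥(U'.left.presheaf.stalk u') R]
    [IsLocalHom (algebraMap ↥(U'.left.presheaf.stalk u') R)]
    [Hensel.IsHenselization ↥(U'.left.presheaf.stalk u') R] :
    letI : Algebra ↥(U.left.presheaf.stalk (g.left u')) R :=
      ((algebraMap ↥(U'.left.presheaf.stalk u') R).comp (g.left.stalkMap u').hom).toAlgebra
    ∃ (_ : IsLocalHom (algebraMap ↥(U.left.presheaf.stalk (g.left u')) R)),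
      Hensel.IsHenselization ↥(U.left.presheaf.stalk (g.left u')) R := by
  obtain ⟨hEt, hbij⟩ := etale_and_bijective_of_isElemEtaleNbhd a a' g u' hg ha ha'
  haveI := hEt
  exact isHenselization_stalk_of_etale g.left u' hbij R

end AlgSpLevel

end Groth.Agent.Lib.Helper3.AlgSpHens
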