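import Mathlib
import Groth.Agent.Lib.Helper9.Hens.NoetherianHens
import Groth.Agent.Lib.Helper9.Hens.Unique
import Groth.Agent.Lib.Helper3.CompleteFinite
import Groth.Agent.Lib.Helper3.HensQF

/-!
# Minimal primes under flat local homomorphisms; completion versus henselization
-/

set_option autoImplicit false
set_option linter.style.haveILetI false
set_option linter.unusedSectionVars false
universe u

open IsLocalRing

namespace Groth.Agent.Lib.Helper3.Branch

section FlatLocal

variable (S C : Type*) [CommRing S] [CommRing C] [IsLocalRing S] [IsLocalRing C] [Algebra S C]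
  [Module.Flat S C] [IsLocalHom (algebraMap S C)]

/-- Along a flat local homomorphism, contraction maps the minimal primes of the target onto the
minimal primes of the source. -/
theorem mapsTo_surjOn_minimalPrimes_of_flat_of_isLocalHom :
    Set.MapsTo (Ideal.comap (algebraMap S C)) (minimalPrimes C) (minimalPrimes S) ∧
      Set.SurjOn (Ideal.comap (algebraMap S C)) (minimalPrimes C) (minimalPrimes S) := by
  have hff : Module.FaithfullyFlat S C := Module.FaithfullyFlat.of_flat_of_isLocalHom
  have hinj : Function.Injective (algebraMap S C) := FaithfulSMul.algebraMap_injective S C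
  constructor
  · intro q hq
    have hqp : q.IsPrime := hq.1.1
    refine ⟨⟨Ideal.comap_isPrime (algebraMap S C) q, bot_le⟩, fun p' hp' hle => ?_⟩
    have hp'p : p'.IsPrime := hp'.1
    have hlo : q.LiesOver (Ideal.comap (algebraMap S C) q) := ⟨rfl⟩
    obtain ⟨P, hPq, hPp, hPlo⟩ :=
      Ideal.exists_ideal_le_liesOver_of_le (p := p') (q := Ideal.comap (algebraMap S C) q) q hle
    have hPq' : q ≤ P := hq.2 ⟨hPp, bot_le⟩ hPq
    have : P = q := le_antisymm hPq hPq'
    rw [hPlo.over, this]
  · intro p hp
    have hp' : p ∈ ((⊥ : Ideal C).comap (algebraMap S C)).minimalPrimes := by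
      rwa [Ideal.comap_bot_of_injective _ hinj]
    obtain ⟨q, hq, hqp⟩ := Ideal.exists_minimalPrimes_comap_eq (algebraMap S C) p hp'
    exact ⟨q, hq, hqp⟩

theorem card_minimalPrimes_le_of_flat_of_isLocalHom :
    ENat.card (minimalPrimes S) ≤ ENat.card (minimalPrimes C) := by
  obtain ⟨h1, h2⟩ := mapsTo_surjOn_minimalPrimes_of_flat_of_isLocalHom S C
  let f : minimalPrimes C → minimalPrimes S := fun q => ⟨_, h1 q.2⟩
  have hf : Function.Surjective f := by
    rintro ⟨p, hp⟩
    obtain ⟨q, hq, hqp⟩ := h2 hp
    exact ⟨⟨q, hq⟩, Subtype.ext hqp⟩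
  exact ENat.card_le_card_of_injective (Function.injective_surjInv hf)

/-- The minimal primes over the extension of a minimal prime `q` are the minimal primes of the
target contracting to `q`. -/
theorem mem_minimalPrimes_map_iff (q : Ideal S) (hq : q ∈ minimalPrimes S) (P : Ideal C) :
    P ∈ (q.map (algebraMap S C)).minimalPrimes ↔
      P ∈ minimalPrimes C ∧ P.comap (algebraMap S C) = q := by
  have hqp : q.IsPrime := hq.1.1
  constructor
  · intro hP
    have hPp : P.IsPrime := hP.1.1
    have hle : q ≤ P.comap (algebraMap S C) := Ideal.map_le_iff_le_comap.mp hP.1.2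
    have hlo : P.LiesOver (P.comap (algebraMap S C)) := ⟨rfl⟩
    have hcp : (P.comap (algebraMap S C)).IsPrime := Ideal.comap_isPrime _ _
    obtain ⟨P', hP'P, hP'p, hP'lo⟩ :=
      Ideal.exists_ideal_le_liesOver_of_le (p := q) (q := P.comap (algebraMap S C)) P hle
    have hP'q : q.map (algebraMap S C) ≤ P' := by
      rw [Ideal.map_le_iff_le_comap, hP'lo.over]
    have hPP' : P = P' := le_antisymm (hP.2 ⟨hP'p, hP'q⟩ hP'P) hP'P
    have hcomap : P.comap (algebraMap S C) = q := by
      rw [hPP', hP'lo.over]
    refine ⟨⟨⟨hPp, bot_le⟩, fun P'' hP'' hle'' => ?_⟩, hcomap⟩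
    have hP''p : P''.IsPrime := hP''.1
    have h1 : P''.comap (algebraMap S C) ≤ q := by
      rw [← hcomap]; exact Ideal.comap_mono hle''
    have h2 : q ≤ P''.comap (algebraMap S C) :=
      hq.2 ⟨Ideal.comap_isPrime _ _, bot_le⟩ h1
    exact hP.2 ⟨hP''p, Ideal.map_le_iff_le_comap.mpr h2⟩ hle''
  · rintro ⟨hP, hcomap⟩
    have hPp : P.IsPrime := hP.1.1
    refine ⟨⟨hPp, ?_⟩, fun P' hP' hle => hP.2 ⟨hP'.1, bot_le⟩ hle⟩
    rw [Ideal.map_le_iff_le_comap, hcomap]

/-- Equality of the numbers of minimal primes along a flat local homomorphism, in terms of the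
radicals of the extensions of minimal primes. -/
theorem card_minimalPrimes_eq_iff_radical_map_isPrime (hS : (minimalPrimes S).Finite)
    (hC : (minimalPrimes C).Finite) :
    ENat.card (minimalPrimes S) = ENat.card (minimalPrimes C) ↔
      ∀ q ∈ minimalPrimes S, (q.map (algebraMap S C)).radical.IsPrime := by
  obtain ⟨h1, h2⟩ := mapsTo_surjOn_minimalPrimes_of_flat_of_isLocalHom S C
  let f : minimalPrimes C → minimalPrimes S := fun q => ⟨_, h1 q.2⟩
  have hf : Function.Surjective f := by
    rintro ⟨p, hp⟩
    obtain ⟨q, hq, hqp⟩ := h2 hp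
    exact ⟨⟨q, hq⟩, Subtype.ext hqp⟩
  haveI : Finite (minimalPrimes S) := hS.to_subtype
  haveI : Finite (minimalPrimes C) := hC.to_subtype
  have hinj_iff : Function.Injective f ↔
      ∀ q ∈ minimalPrimes S, (q.map (algebraMap S C)).radical.IsPrime := by
    constructor
    · intro hinj q hq
      obtain ⟨P₀, hP₀, hP₀q⟩ := h2 hq
      have hP₀' : P₀ ∈ (q.map (algebraMap S C)).minimalPrimes :=
        (mem_minimalPrimes_map_iff S C q hq P₀).mpr ⟨hP₀, hP₀q⟩
      have hall : (q.map (algebraMap S C)).minimalPrimes = {P₀} := by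
        ext P
        constructor
        · intro hP
          obtain ⟨hPm, hPq⟩ := (mem_minimalPrimes_map_iff S C q hq P).mp hP
          have : (⟨P, hPm⟩ : minimalPrimes C) = ⟨P₀, hP₀⟩ :=
            hinj (Subtype.ext (hPq.trans hP₀q.symm))
          exact congrArg Subtype.val this
        · rintro rfl
          exact hP₀'
      rw [← Ideal.sInf_minimalPrimes, hall, sInf_singleton]
      exact hP₀.1.1
    · intro hrad P₁ P₂ h
      have hq : (f P₁).1 ∈ minimalPrimes S := (f P₁).2
      have hR := hrad _ hq
      have key : ∀ P : minimalPrimes C, f P = f P₁ →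
          P.1 = ((f P₁).1.map (algebraMap S C)).radical := by
        intro P hP
        have hPq : P.1.comap (algebraMap S C) = (f P₁).1 := congrArg Subtype.val hP
        have hPm := (mem_minimalPrimes_map_iff S C _ hq P.1).mpr ⟨P.2, hPq⟩
        have hPp : P.1.IsPrime := hPm.1.1
        have hle : ((f P₁).1.map (algebraMap S C)).radical ≤ P.1 :=
          hPp.radical_le_iff.mpr hPm.1.2
        exact le_antisymm (hPm.2 ⟨hR, Ideal.le_radical⟩ hle) hle
      exact Subtype.ext ((key P₁ rfl).trans (key P₂ h.symm).symm)
  rw [← hinj_iff]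
  constructor
  · intro hcard
    have hnat : Nat.card (minimalPrimes C) ≤ Nat.card (minimalPrimes S) := by
      have h3 : (Nat.card (minimalPrimes S) : ℕ∞) = Nat.card (minimalPrimes C) := by
        rw [← ENat.card_eq_coe_natCard, ← ENat.card_eq_coe_natCard]
        exact hcard
      exact (Nat.cast_injective h3).ge
    exact (hf.bijective_of_nat_card_le hnat).1
  · intro hinj
    exact (ENat.card_congr (Equiv.ofBijective f ⟨hinj, hf⟩)).symm

end FlatLocal

/-- If `S` is an "étale-covered" local `A`-algebra with `m_A S = m_S` (e.g. a henselization or a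
strict henselization) and `C` is a local `S`-algebra which is flat over `A` with local structure
map, then `C` is flat over `S` and `S → C` is local. -/
theorem flat_and_isLocalHom_of_isEtaleCoveredFin (A S C : Type u) [CommRing A] [CommRing S]
    [CommRing C] [IsLocalRing A] [IsLocalRing S] [IsLocalRing C] [Algebra A S] [Algebra A C]
    [Algebra S C] [IsScalarTower A S C] [Module.Flat A C] [IsLocalHom (algebraMap A C)]
    (hS : Groth.Agent.Lib.Helper9.IsEtaleCoveredFin A S)
    (hm : (maximalIdeal A).map (algebraMap A S) = maximalIdeal S) :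
    Module.Flat S C ∧ IsLocalHom (algebraMap S C) := by
  refine ⟨hS.flat C, ⟨fun s hs => ?_⟩⟩
  by_contra hns
  have hsm : s ∈ maximalIdeal S := (mem_maximalIdeal s).mpr hns
  rw [← hm] at hsm
  have h1 : algebraMap S C s ∈ ((maximalIdeal A).map (algebraMap A S)).map (algebraMap S C) :=
    Ideal.mem_map_of_mem _ hsm
  rw [Ideal.map_map, ← IsScalarTower.algebraMap_eq] at h1
  have h2 : (maximalIdeal A).map (algebraMap A C) ≤ maximalIdeal C := map_maximalIdeal_le _
  exact (mem_maximalIdeal _).mp (h2 h1) hs

/-- The completion of a Noetherian local ring is henselian. -/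
theorem henselianLocalRing_adicCompletion (A : Type*) [CommRing A] [IsLocalRing A]
    [IsNoetherianRing A] : HenselianLocalRing (AdicCompletion (maximalIdeal A) A) := by
  haveI : HenselianRing (AdicCompletion (maximalIdeal A) A)
      (maximalIdeal (AdicCompletion (maximalIdeal A) A)) := inferInstance
  exact henselianLocalRing_of_henselianRing_maximalIdeal _

end Groth.Agent.Lib.Helper3.Branch
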