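import Mathlib
import Groth.Agent.Lib.Helper3.BranchCompletion

/-!
# Minimal primes along a flat local homomorphism, fibred over the minimal primes of the source
-/

set_option autoImplicit false
set_option linter.style.haveILetI false
set_option linter.unusedSectionVars false
universe u

open IsLocalRing

namespace Groth.Agent.Lib.Helper3.Branch

/-- The number of minimal primes over `I` is the number of minimal primes of `R ⧸ I`. -/
theorem encard_minimalPrimes_ideal {R : Type*} [CommRing R] (I : Ideal R) :
    I.minimalPrimes.encard = (minimalPrimes (R ⧸ I)).encard := by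
  rw [Ideal.minimalPrimes_eq_comap]
  exact (Ideal.comap_injective_of_surjective _ Ideal.Quotient.mk_surjective).encard_image _

/-- Along a flat local homomorphism `A → S`, the minimal primes of `S` are partitioned according
to the minimal prime of `A` they lie over. -/
theorem encard_minimalPrimes_eq_finsum (A S : Type*) [CommRing A] [CommRing S] [IsLocalRing A]
    [IsLocalRing S] [Algebra A S] [Module.Flat A S] [IsLocalHom (algebraMap A S)]
    (hfin : (minimalPrimes A).Finite) :
    (minimalPrimes S).encard =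
      ∑ᶠ p : minimalPrimes A, ((p.1.map (algebraMap A S)).minimalPrimes).encard := by
  haveI : Finite (minimalPrimes A) := hfin.to_subtype
  obtain ⟨h1, -⟩ := mapsTo_surjOn_minimalPrimes_of_flat_of_isLocalHom A S
  have hU : minimalPrimes S = ⋃ p : minimalPrimes A, (p.1.map (algebraMap A S)).minimalPrimes := by
    ext q
    rw [Set.mem_iUnion]
    constructor
    · intro hq
      exact ⟨⟨_, h1 hq⟩, (mem_minimalPrimes_map_iff A S _ (h1 hq) q).mpr ⟨hq, rfl⟩⟩
    · rintro ⟨p, hp⟩
      exact ((mem_minimalPrimes_map_iff A S p.1 p.2 q).mp hp).1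
  rw [hU]
  apply Set.encard_iUnion_of_finite
  intro p₁ p₂ hne
  rw [Function.onFun, Set.disjoint_left]
  intro q hq₁ hq₂
  apply hne
  apply Subtype.ext
  rw [← ((mem_minimalPrimes_map_iff A S p₁.1 p₁.2 q).mp hq₁).2,
    ← ((mem_minimalPrimes_map_iff A S p₂.1 p₂.2 q).mp hq₂).2]

theorem isLocalHom_quotient_map' (A Ah : Type*) [CommRing A]
    [IsLocalRing A] [CommRing Ah] [IsLocalRing Ah] [Algebra A Ah] [IsLocalHom (algebraMap A Ah)]
    (I : Ideal A) (hI : I ≤ maximalIdeal A) :
    IsLocalHom (algebraMap (A ⧸ I) (Ah ⧸ I.map (algebraMap A Ah))) := by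
  have hIh : I.map (algebraMap A Ah) ≤ maximalIdeal Ah := by
    rw [Ideal.map_le_iff_le_comap]
    refine hI.trans ?_
    rw [((local_hom_TFAE (algebraMap A Ah)).out 0 4 rfl rfl).mp inferInstance]
  constructor
  intro x hx
  obtain ⟨a, rfl⟩ := Ideal.Quotient.mk_surjective x
  rw [Ideal.Quotient.algebraMap_quotient_map_quotient] at hx
  have h1 : IsUnit (algebraMap A Ah a) := by
    by_contra hnu
    have hmem : algebraMap A Ah a ∈ maximalIdeal Ah := (mem_maximalIdeal _).mpr hnu
    obtain ⟨y, hy⟩ := hx.exists_right_inv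
    obtain ⟨b, rfl⟩ := Ideal.Quotient.mk_surjective y
    rw [← map_mul, ← map_one (Ideal.Quotient.mk _), Ideal.Quotient.eq] at hy
    have h2 : algebraMap A Ah a * b ∈ maximalIdeal Ah := Ideal.mul_mem_right _ _ hmem
    have h3 : (1 : Ah) ∈ maximalIdeal Ah := by
      have := Ideal.sub_mem _ h2 (hIh hy)
      rwa [sub_sub_cancel] at this
    exact (maximalIdeal.isMaximal Ah).ne_top ((Ideal.eq_top_iff_one _).mpr h3)
  exact (isUnit_of_map_unit (algebraMap A Ah) a h1).map (Ideal.Quotient.mk I)

end Groth.Agent.Lib.Helper3.Branch
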