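import Groth.Agent.Lib.Helper3.PtColimBranches

/-!
# Minimal primes over an ideal of `PtColim R K` versus those of local rings of étale `R`-algebras
-/

set_option linter.style.haveILetI false
set_option linter.unusedSectionVars false
set_option autoImplicit false

namespace Groth.Agent.Lib.Helper3.PtColimBranches

open Groth.Agent.Lib.Helper9.HensK IsLocalRing Polynomial

universe u

section FlatLocal

variable (S C : Type*) [CommRing S] [CommRing C] [IsLocalRing S] [IsLocalRing C] [Algebra S C]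
  [Module.Flat S C] [IsLocalHom (algebraMap S C)]

/-- Along a flat local homomorphism, contraction maps the primes minimal over `J C` to primes
minimal over `J`. -/
theorem mapsTo_minimalPrimes_over_of_flat (J : Ideal S) :
    Set.MapsTo (Ideal.comap (algebraMap S C)) (J.map (algebraMap S C)).minimalPrimes
      J.minimalPrimes := by
  intro q hq
  have hqp : q.IsPrime := hq.1.1
  have hJq : J ≤ Ideal.comap (algebraMap S C) q := Ideal.map_le_iff_le_comap.mp hq.1.2
  refine ⟨⟨Ideal.comap_isPrime (algebraMap S C) q, hJq⟩, fun p' hp' hle => ?_⟩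
  have hp'p : p'.IsPrime := hp'.1
  have hlo : q.LiesOver (Ideal.comap (algebraMap S C) q) := ⟨rfl⟩
  obtain ⟨P, hPq, hPp, hPlo⟩ :=
    Ideal.exists_ideal_le_liesOver_of_le (p := p') (q := Ideal.comap (algebraMap S C) q) q hle
  have hJP : J.map (algebraMap S C) ≤ P := by
    rw [Ideal.map_le_iff_le_comap]
    have : p' = Ideal.comap (algebraMap S C) P := hPlo.over
    rw [← this]
    exact hp'.2
  have hPq' : q ≤ P := hq.2 ⟨hPp, hJP⟩ hPq
  have : P = q := le_antisymm hPq hPq'
  rw [hPlo.over, this]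

end FlatLocal

section Lower

variable {R : Type u} [CommRing R] {K : Type u} [Field K] [Algebra R K]

/-- Finitely many primes of the colimit minimal over an ideal are separated at a finite stage. -/
theorem exists_stage_of_finset_over (JP : Ideal (PtColim R K)) (s : Finset (Ideal (PtColim R K)))
    (hs : ∀ I ∈ s, I ∈ JP.minimalPrimes) :
    ∃ N : PtEt R K, ∀ (q : Ideal N.S) [q.IsPrime] (hq : ∀ b, N.σ b = 0 ↔ b ∈ q)
      (Bq : Type u) [CommRing Bq] [IsLocalRing Bq] [Algebra N.S Bq] [IsLocalization.AtPrime Bq q]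
      (J : Ideal Bq), J.map (locToColim N.S N.σ q hq Bq) = JP →
      (s.card : ℕ∞) ≤ J.minimalPrimes.encard := by
  classical
  have hsep : ∀ i : s × s, ∃ f : PtColim R K, i.1.1 ≠ i.2.1 → f ∈ i.1.1 ∧ f ∉ i.2.1 := by
    rintro ⟨⟨I, hI⟩, ⟨J, hJ⟩⟩
    by_cases hIJ : I = J
    · exact ⟨0, fun h => absurd hIJ h⟩
    · have hnle : ¬ I ≤ J := by
        intro hle
        have hJI : J ≤ I := (hs J hJ).2 (hs I hI).1 hle
        exact hIJ (le_antisymm hle hJI)
      obtain ⟨f, hfI, hfJ⟩ := Set.not_subset.mp hnle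
      exact ⟨f, fun _ => ⟨hfI, hfJ⟩⟩
  choose x hx using hsep
  obtain ⟨N, y, hy⟩ := PtColim.exists_common_fun x
  refine ⟨N, ?_⟩
  intro q _ hq Bq _ _ _ _ J hJ
  letI := (locToColim N.S N.σ q hq Bq).toAlgebra
  haveI := flat_locToColim N.S N.σ q hq Bq
  haveI : IsLocalHom (algebraMap Bq (PtColim R K)) := isLocalHom_locToColim N.S N.σ q hq Bq
  have hmaps := mapsTo_minimalPrimes_over_of_flat Bq (PtColim R K) J
  have hJ' : J.map (algebraMap Bq (PtColim R K)) = JP := hJ
  rw [hJ'] at hmaps
  let F : s → J.minimalPrimes := fun I => ⟨_, hmaps (hs I.1 I.2)⟩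
  have hF : Function.Injective F := by
    intro I I' hII'
    by_contra hne
    have hne' : I.1 ≠ I'.1 := fun h => hne (Subtype.ext h)
    obtain ⟨h1, h2⟩ := hx (I, I') hne'
    have h3 : Ideal.comap (algebraMap Bq (PtColim R K)) I.1 =
        Ideal.comap (algebraMap Bq (PtColim R K)) I'.1 := congrArg Subtype.val hII'
    have h4 : algebraMap Bq (PtColim R K) (algebraMap N.S Bq (y (I, I'))) = x (I, I') := by
      change locToColim N.S N.σ q hq Bq (algebraMap N.S Bq (y (I, I'))) = _
      rw [locToColim_algebraMap, toColim_stage, hy]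
    have h5 : algebraMap N.S Bq (y (I, I')) ∈ Ideal.comap (algebraMap Bq (PtColim R K)) I.1 := by
      rw [Ideal.mem_comap, h4]
      exact h1
    rw [h3, Ideal.mem_comap, h4] at h5
    exact h2 h5
  have h6 := ENat.card_le_card_of_injective hF
  rwa [ENat.card_eq_coe_fintype_card, Fintype.card_coe, ENat.card_coe_set_eq] at h6

theorem exists_stage_of_le_over (JP : Ideal (PtColim R K)) (n : ℕ)
    (hn : (n : ℕ∞) ≤ JP.minimalPrimes.encard) :
    ∃ N : PtEt R K, ∀ (q : Ideal N.S) [q.IsPrime] (hq : ∀ b, N.σ b = 0 ↔ b ∈ q)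
      (Bq : Type u) [CommRing Bq] [IsLocalRing Bq] [Algebra N.S Bq] [IsLocalization.AtPrime Bq q]
      (J : Ideal Bq), J.map (locToColim N.S N.σ q hq Bq) = JP →
      (n : ℕ∞) ≤ J.minimalPrimes.encard := by
  classical
  obtain ⟨t, ht, htn⟩ := Set.exists_subset_encard_eq hn
  have htf : t.Finite := Set.finite_of_encard_eq_coe htn
  obtain ⟨N, hN⟩ := exists_stage_of_finset_over JP htf.toFinset
    (fun I hI => ht (htf.mem_toFinset.mp hI))
  refine ⟨N, ?_⟩
  intro q _ hq Bq _ _ _ _ J hJ
  have h1 := hN q hq Bq J hJ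
  have h2 : (htf.toFinset.card : ℕ∞) = n := by
    rw [← htn, htf.encard_eq_coe_toFinset_card]
  rwa [h2] at h1

end Lower

end Groth.Agent.Lib.Helper3.PtColimBranches
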