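import Groth.Agent.Lib.Helper3.BrnchScheme
import Groth.Agent.Lib.Helper3.HensEquiv
import Groth.Agent.Lib.Helper3.PtColimBranchesOver
import Groth.Agent.Lib.Helper24.FibreStalkQuot
import Groth.Agent.Lib.Helper24.FibreClosedImmersion

/-!
# Branches of a fibre at a point via étale neighbourhoods of the total space
-/

set_option linter.style.haveILetI false
set_option linter.unusedSectionVars false
set_option autoImplicit false

namespace Groth.Agent.Lib.Helper3.BrnchFibre

open AlgebraicGeometry CategoryTheory IsLocalRing Groth.Agent.Lib.Helper9.HensK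
open Groth.Agent.Lib.Helper3 Groth.Agent.Lib.Helper3.BrnchScheme

universe u

section FibIdeal

variable {Y S : Scheme.{u}} (h : Y ⟶ S) (y : Y)

/-- The ideal of the local ring of `Y` at `y` generated by the maximal ideal of the local ring of
the base at the image point. -/
noncomputable def fibIdeal : Ideal (Y.presheaf.stalk y) :=
  (maximalIdeal (S.presheaf.stalk (h y))).map (h.stalkMap y).hom

theorem fibIdeal_ne_top : fibIdeal h y ≠ ⊤ := by
  have h2 : (maximalIdeal (S.presheaf.stalk (h y))).map (h.stalkMap y).hom ≤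
      maximalIdeal (Y.presheaf.stalk y) :=
    ((local_hom_TFAE (h.stalkMap y).hom).out 0 2 rfl rfl).mp inferInstance
  intro h3
  have h4 : (⊤ : Ideal (Y.presheaf.stalk y)) ≤ maximalIdeal _ := h3 ▸ h2
  exact (maximalIdeal.isMaximal _).ne_top (top_le_iff.mp h4)

theorem fiberι_injective (s : S) : Function.Injective (h.fiberι s) :=
  (h.fiberι s).isEmbedding.injective

/-- The irreducible components of the fibre through the point over `y` correspond to the primes of
the local ring at `y` minimal over the fibre ideal. -/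
theorem encard_fibre_components (s : S) (hs : h y = s) :
    {Z : Set (h.fiber s) | Z ∈ irreducibleComponents (h.fiber s) ∧
      ∃ z ∈ Z, h.fiberι s z = y}.encard = (fibIdeal h y).minimalPrimes.encard := by
  subst hs
  have hset : {Z : Set (h.fiber (h y)) | Z ∈ irreducibleComponents (h.fiber (h y)) ∧
      ∃ z ∈ Z, h.fiberι (h y) z = y} =
      {Z : Set (h.fiber (h y)) | Z ∈ irreducibleComponents (h.fiber (h y)) ∧ h.asFiber y ∈ Z} := by
    ext Z
    constructor
    · rintro ⟨hZ, z, hzZ, hz⟩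
      have : z = h.asFiber y := fiberι_injective h (h y) (hz.trans (h.fiberι_asFiber y).symm)
      exact ⟨hZ, this ▸ hzZ⟩
    · rintro ⟨hZ, hz⟩
      exact ⟨hZ, _, hz, h.fiberι_asFiber y⟩
  rw [hset, IrrCompStalk.encard_irreducibleComponents_through]
  obtain ⟨e⟩ := Groth.Agent.Lib.Helper24.nonempty_fibre_stalk_ringEquiv_quotient h y
  rw [HensEquiv.card_minimalPrimes_congr e, HensEquiv.card_minimalPrimes_quotient]
  rfl

end FibIdeal

section Upper

variable {U X S : Scheme.{u}} (g : U ⟶ X) (f : X ⟶ S) (u : U) (x : X) (hgu : g u = x)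

include hgu in
theorem fibre_point_eq [Etale g] (u' : ↥((g ≫ f).fiber (f x)))
    (hu' : (g ≫ f).fiberι (f x) u' = u) :
    Etale (CohIII.fiberMapOver g (g ≫ f) f rfl (f x)) ∧
      CohIII.fiberMapOver g (g ≫ f) f rfl (f x) u' = f.asFiber x := by
  constructor
  · exact MorphismProperty.of_isPullback
      (Groth.Agent.Lib.Helper24.isPullback_fiberMapOver g (g ≫ f) f rfl (f x)) inferInstance
  · apply fiberι_injective f (f x)
    have h1 := Groth.Agent.Lib.Helper24.fiberMapOver_fiberι g (g ≫ f) f rfl (f x)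
    have h2 := congrArg (fun φ => φ u') h1
    simp only [Scheme.Hom.comp_apply] at h2
    rw [h2, hu', hgu, f.fiberι_asFiber x]

include hgu in
theorem fibre_encard_le_numGeomBranchesAt [Etale g] :
    {Z : Set ↑((g ≫ f).fiber (f x)) | Z ∈ irreducibleComponents ↑((g ≫ f).fiber (f x)) ∧
        ∃ u' ∈ Z, (g ≫ f).fiberι (f x) u' = u}.encard ≤
      Brnch.numGeomBranchesAt (f.fiber (f x)) (f.asFiber x) := by
  by_cases hex : ∃ u' : ↥((g ≫ f).fiber (f x)), (g ≫ f).fiberι (f x) u' = u
  · obtain ⟨u', hu'⟩ := hex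
    obtain ⟨hEt, hpt⟩ := fibre_point_eq g f u x hgu u' hu'
    have hsub : {Z : Set ↑((g ≫ f).fiber (f x)) |
        Z ∈ irreducibleComponents ↑((g ≫ f).fiber (f x)) ∧
        ∃ u'' ∈ Z, (g ≫ f).fiberι (f x) u'' = u} ⊆
        {Z : Set ↑((g ≫ f).fiber (f x)) |
          Z ∈ irreducibleComponents ↑((g ≫ f).fiber (f x)) ∧ u' ∈ Z} := by
      rintro Z ⟨hZ, u'', hu''Z, hu''⟩
      have : u'' = u' := fiberι_injective (g ≫ f) (f x) (hu''.trans hu'.symm)
      exact ⟨hZ, this ▸ hu''Z⟩
    refine (Set.encard_le_encard hsub).trans ?_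
    rw [← hpt]
    exact encard_le_numGeomBranchesAt _ u'
  · have hempty : {Z : Set ↑((g ≫ f).fiber (f x)) |
        Z ∈ irreducibleComponents ↑((g ≫ f).fiber (f x)) ∧
        ∃ u' ∈ Z, (g ≫ f).fiberι (f x) u' = u} = ∅ := by
      apply Set.eq_empty_of_forall_notMem
      rintro Z ⟨-, u', -, hu'⟩
      exact hex ⟨u', hu'⟩
    rw [hempty, Set.encard_empty]
    exact bot_le

end Upper

section UpperElementary

variable {U X S : Scheme.{u}} (g : U ⟶ X) (f : X ⟶ S) (u : U) (x : X) (hgu : g u = x)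

theorem residueFieldMap_bijective_of_surjective {Y Z : Scheme.{u}} (ι : Y ⟶ Z) (y : Y)
    (hs : Function.Surjective (ι.stalkMap y).hom) :
    Function.Bijective (ι.residueFieldMap y).hom := by
  refine ⟨(ι.residueFieldMap y).hom.injective, ?_⟩
  intro c
  obtain ⟨b, rfl⟩ := residue_surjective (R := Y.presheaf.stalk y) c
  obtain ⟨a, rfl⟩ := hs b
  exact ⟨IsLocalRing.residue _ a, rfl⟩

theorem residueFieldCongr_bijective {Z : Scheme.{u}} {a b : Z} (e : a = b) :
    Function.Bijective (Z.residueFieldCongr e).hom.hom :=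
  ConcreteCategory.bijective_of_isIso (Z.residueFieldCongr e).hom

include hgu in
theorem fibre_residue_bijective [Etale g] (hbij : Function.Bijective (g.residueFieldMap u).hom)
    (u' : ↥((g ≫ f).fiber (f x))) (hu' : (g ≫ f).fiberι (f x) u' = u) :
    Function.Bijective
      ((CohIII.fiberMapOver g (g ≫ f) f rfl (f x)).residueFieldMap u').hom := by
  set gs := CohIII.fiberMapOver g (g ≫ f) f rfl (f x) with hgs
  have hbij' : Function.Bijective (g.residueFieldMap ((g ≫ f).fiberι (f x) u')).hom := by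
    rw [hu']
    exact hbij
  have h1 : gs ≫ f.fiberι (f x) = (g ≫ f).fiberι (f x) ≫ g :=
    Groth.Agent.Lib.Helper24.fiberMapOver_fiberι g (g ≫ f) f rfl (f x)
  have h2 := Scheme.Hom.residueFieldMap_congr h1 u'
  rw [Scheme.residueFieldMap_comp, Scheme.residueFieldMap_comp] at h2
  have ha : Function.Bijective ((f.fiberι (f x)).residueFieldMap (gs u')).hom :=
    residueFieldMap_bijective_of_surjective _ _ ((f.fiberι (f x)).stalkMap_surjective _)
  have hc : Function.Bijective (((g ≫ f).fiberι (f x)).residueFieldMap u').hom :=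
    residueFieldMap_bijective_of_surjective _ _ (((g ≫ f).fiberι (f x)).stalkMap_surjective _)
  have h3 : (gs.residueFieldMap u').hom ∘ ((f.fiberι (f x)).residueFieldMap (gs u')).hom =
      (((g ≫ f).fiberι (f x)).residueFieldMap u').hom ∘
        ((g.residueFieldMap ((g ≫ f).fiberι (f x) u')).hom ∘
          (X.residueFieldCongr (by
            have := congrArg (fun φ => φ u') h1
            simpa using this)).hom.hom) := by
    funext c
    exact congrArg (fun φ => φ.hom c) h2
  rw [← Function.Bijective.of_comp_iff _ ha, h3]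
  exact hc.comp (hbij'.comp (residueFieldCongr_bijective _))

include hgu in
theorem fibre_encard_le_numBranchesAt (hg : Hens2.IsEtaleNbhd g u x) :
    {Z : Set ↑((g ≫ f).fiber (f x)) | Z ∈ irreducibleComponents ↑((g ≫ f).fiber (f x)) ∧
        ∃ u' ∈ Z, (g ≫ f).fiberι (f x) u' = u}.encard ≤
      Brnch.numBranchesAt (f.fiber (f x)) (f.asFiber x) := by
  haveI := hg.etale
  by_cases hex : ∃ u' : ↥((g ≫ f).fiber (f x)), (g ≫ f).fiberι (f x) u' = u
  · obtain ⟨u', hu'⟩ := hex
    obtain ⟨hEt, hpt⟩ := fibre_point_eq g f u x hgu u' hu'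
    have hsub : {Z : Set ↑((g ≫ f).fiber (f x)) |
        Z ∈ irreducibleComponents ↑((g ≫ f).fiber (f x)) ∧
        ∃ u'' ∈ Z, (g ≫ f).fiberι (f x) u'' = u} ⊆
        {Z : Set ↑((g ≫ f).fiber (f x)) |
          Z ∈ irreducibleComponents ↑((g ≫ f).fiber (f x)) ∧ u' ∈ Z} := by
      rintro Z ⟨hZ, u'', hu''Z, hu''⟩
      have : u'' = u' := fiberι_injective (g ≫ f) (f x) (hu''.trans hu'.symm)
      exact ⟨hZ, this ▸ hu''Z⟩
    refine (Set.encard_le_encard hsub).trans ?_
    rw [← hpt]
    exact encard_le_numBranchesAt _ u' (fibre_residue_bijective g f u x hgu hg.residue_bijective u' hu')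
  · have hempty : {Z : Set ↑((g ≫ f).fiber (f x)) |
        Z ∈ irreducibleComponents ↑((g ≫ f).fiber (f x)) ∧
        ∃ u' ∈ Z, (g ≫ f).fiberι (f x) u' = u} = ∅ := by
      apply Set.eq_empty_of_forall_notMem
      rintro Z ⟨-, u', -, hu'⟩
      exact hex ⟨u', hu'⟩
    rw [hempty, Set.encard_empty]
    exact bot_le

end UpperElementary

section Stage

variable {X : Scheme.{u}} (x : X) (W : X.Opens) (hW : IsAffineOpen W) (hx : x ∈ W)
  (K : Type u) [Field K] [Algebra (X.presheaf.stalk x) K]
  [IsLocalHom (algebraMap (X.presheaf.stalk x) K)]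

include hW in
/-- The étale neighbourhood attached to a pointed étale algebra over the sections on an affine
open, with the compatibility of the stalk map with the structure maps. -/
theorem exists_nbhd_of_stage' :
    letI := algRK x W hx K
    ∀ N : PtEt Γ(X, W) K, ∃ (U : Scheme.{u}) (g : U ⟶ X) (u : U), Etale g ∧ g u = x ∧
      (∃ (q : Ideal N.S) (_ : q.IsPrime) (_ : Algebra N.S (U.presheaf.stalk u))
        (_ : ∀ b, N.σ b = 0 ↔ b ∈ q) (_ : IsLocalization.AtPrime (U.presheaf.stalk u) q)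
        (hx' : g u ∈ W),
        ∀ r : Γ(X, W), (g.stalkMap u).hom ((X.presheaf.germ W (g u) hx').hom r) =
          algebraMap N.S (U.presheaf.stalk u) (algebraMap Γ(X, W) N.S r)) ∧
      ((∀ k : K, ∃ r t : Γ(X, W), algebraMap Γ(X, W) K t ≠ 0 ∧
          k * algebraMap Γ(X, W) K t = algebraMap Γ(X, W) K r) →
        Function.Bijective (g.residueFieldMap u).hom) := by
  letI := algRL x W hx
  letI := algRK x W hx K
  haveI : IsScalarTower Γ(X, W) (X.presheaf.stalk x) K :=
    IsScalarTower.of_algebraMap_eq fun _ => rfl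
  haveI : IsLocalization.AtPrime (X.presheaf.stalk x) (hW.primeIdealOf ⟨x, hx⟩).asIdeal :=
    hW.isLocalization_stalk ⟨x, hx⟩
  intro N
  let B : CommRingCat.{u} := CommRingCat.of N.S
  let φ : Γ(X, W) ⟶ B := CommRingCat.ofHom (algebraMap Γ(X, W) N.S)
  let g : Spec B ⟶ X := Spec.map φ ≫ hW.fromSpec
  let q : Ideal N.S := RingHom.ker N.σ.toRingHom
  haveI hqp : q.IsPrime := RingHom.ker_isPrime _
  let u₀ : PrimeSpectrum N.S := ⟨q, hqp⟩
  let u : Spec B := u₀
  have hq : ∀ b, N.σ b = 0 ↔ b ∈ q := fun b => Iff.rfl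
  have hEt : Etale g := by
    haveI : Etale (Spec.map φ) := by
      rw [HasRingHomProperty.Spec_iff (P := @Etale)]
      exact RingHom.etale_algebraMap.mpr inferInstance
    infer_instance
  have hgu : g u = x := by
    have h1 : (Spec.map φ) u = hW.primeIdealOf ⟨x, hx⟩ := by
      apply PrimeSpectrum.ext
      change Ideal.comap (algebraMap Γ(X, W) N.S) q = _
      rw [← PtColimLocal.ker_algebraMap (hW.primeIdealOf ⟨x, hx⟩).asIdeal (X.presheaf.stalk x) K]
      ext a
      change N.σ (algebraMap Γ(X, W) N.S a) = 0 ↔ algebraMap Γ(X, W) K a = 0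
      rw [AlgHom.commutes]
    change hW.fromSpec ((Spec.map φ) u) = x
    rw [h1]
    exact hW.fromSpec_primeIdealOf ⟨x, hx⟩
  letI algBq : Algebra N.S ((Spec B).presheaf.stalk u) := StructureSheaf.stalkAlgebra (R := N.S) u₀
  have hloc : IsLocalization.AtPrime ((Spec B).presheaf.stalk u) q :=
    StructureSheaf.IsLocalization.to_stalk (R := N.S) u₀
  have hx' : g u ∈ W := by rw [hgu]; exact hx
  have htower : ∀ r : Γ(X, W), (g.stalkMap u).hom ((X.presheaf.germ W (g u) hx').hom r) =
      algebraMap N.S ((Spec B).presheaf.stalk u) (algebraMap Γ(X, W) N.S r) := by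
    intro r
    rw [Scheme.Hom.germ_stalkMap_apply]
    have e : (⊤ : (Spec B).Opens) ≤ g ⁻¹ᵁ W := fun y _ => by
      change g y ∈ W
      change hW.fromSpec ((Spec.map φ) y) ∈ W
      have h3 : hW.fromSpec ((Spec.map φ) y) ∈ Set.range hW.fromSpec := ⟨_, rfl⟩
      rw [hW.range_fromSpec] at h3
      exact h3
    have hkey := appLE_top_SpecMap_fromSpec W hW B φ e
    have h2 : ((Spec B).presheaf.germ ⊤ u trivial).hom ((g.appLE W ⊤ e).hom r) =
        ((Spec B).presheaf.germ (g ⁻¹ᵁ W) u hx').hom ((g.app W).hom r) := by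
      rw [Scheme.Hom.appLE]
      exact TopCat.Presheaf.germ_res_apply _ _ _ _ _
    rw [← h2, hkey]
    rfl
  refine ⟨Spec B, g, u, hEt, hgu, ⟨q, hqp, algBq, hq, hloc, hx', htower⟩, ?_⟩
  intro hK
  refine ⟨(g.residueFieldMap u).hom.injective, ?_⟩
  letI : Algebra Γ(X, W) (X.presheaf.stalk (g u)) := algRL (g u) W hx'
  letI : Algebra (X.presheaf.stalk (g u)) ((Spec B).presheaf.stalk u) :=
    (g.stalkMap u).hom.toAlgebra
  haveI : IsLocalHom (algebraMap (X.presheaf.stalk (g u)) ((Spec B).presheaf.stalk u)) :=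
    inferInstanceAs (IsLocalHom (g.stalkMap u).hom)
  letI : Algebra Γ(X, W) ((Spec B).presheaf.stalk u) :=
    ((algebraMap N.S ((Spec B).presheaf.stalk u)).comp (algebraMap Γ(X, W) N.S)).toAlgebra
  haveI : IsScalarTower Γ(X, W) N.S ((Spec B).presheaf.stalk u) :=
    IsScalarTower.of_algebraMap_eq fun _ => rfl
  haveI : IsScalarTower Γ(X, W) (X.presheaf.stalk (g u)) ((Spec B).presheaf.stalk u) :=
    IsScalarTower.of_algebraMap_eq fun r => (htower r).symm
  exact PtColimBranches.residueFieldMap_surjective hK N.S N.σ q hq ((Spec B).presheaf.stalk u)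
    (X.presheaf.stalk (g u))

end Stage

section KeyIdentity

variable {X S : Scheme.{u}} (f : X ⟶ S) (x : X) (W : X.Opens) (hW : IsAffineOpen W) (hx : x ∈ W)
  (K : Type u) [Field K] [Algebra (X.presheaf.stalk x) K]
  [IsLocalHom (algebraMap (X.presheaf.stalk x) K)]

include hW in
theorem isLocalization_stalk' :
    letI := algRL x W hx
    IsLocalization.AtPrime (X.presheaf.stalk x) (hW.primeIdealOf ⟨x, hx⟩).asIdeal :=
  hW.isLocalization_stalk ⟨x, hx⟩

theorem isScalarTower_RLK :
    letI := algRL x W hx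
    letI := algRK x W hx K
    IsScalarTower Γ(X, W) (X.presheaf.stalk x) K :=
  letI := algRL x W hx
  letI := algRK x W hx K
  IsScalarTower.of_algebraMap_eq fun _ => rfl

/-- The algebra structure of `PtColim Γ(X, W) K` over the local ring at `x`. -/
@[reducible] noncomputable def algLP :
    letI := algRK x W hx K
    Algebra (X.presheaf.stalk x) (PtColim Γ(X, W) K) :=
  letI := algRL x W hx
  letI := algRK x W hx K
  haveI := isScalarTower_RLK x W hx K
  haveI := isLocalization_stalk' x W hW hx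
  PtColimLocal.algebraL (hW.primeIdealOf ⟨x, hx⟩).asIdeal (X.presheaf.stalk x) K

theorem isScalarTower_algLP :
    letI := algRL x W hx
    letI := algRK x W hx K
    letI := algLP x W hW hx K
    IsScalarTower Γ(X, W) (X.presheaf.stalk x) (PtColim Γ(X, W) K) :=
  letI := algRL x W hx
  letI := algRK x W hx K
  haveI := isScalarTower_RLK x W hx K
  haveI := isLocalization_stalk' x W hW hx
  PtColimLocal.isScalarTower_algebraL (hW.primeIdealOf ⟨x, hx⟩).asIdeal (X.presheaf.stalk x) K

theorem fibIdeal_map_eq :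
    letI := algRK x W hx K
    letI := algLP x W hW hx K
    ∀ (x' : X) (_ : x' = x) (hxW' : x' ∈ W)
      (φ : X.presheaf.stalk x' →+* PtColim Γ(X, W) K)
      (_ : ∀ r, φ ((X.presheaf.germ W x' hxW').hom r) = algebraMap Γ(X, W) (PtColim Γ(X, W) K) r),
      (fibIdeal f x').map φ =
        (fibIdeal f x).map (algebraMap (X.presheaf.stalk x) (PtColim Γ(X, W) K)) := by
  letI := algRL x W hx
  letI := algRK x W hx K
  haveI := isLocalization_stalk' x W hW hx
  letI := algLP x W hW hx K
  haveI := isScalarTower_algLP x W hW hx K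
  intro x' hx' hxW' φ hφ
  subst hx'
  have h1 : φ = algebraMap (X.presheaf.stalk x') (PtColim Γ(X, W) K) := by
    apply IsLocalization.ringHom_ext (hW.primeIdealOf ⟨x', hx⟩).asIdeal.primeCompl
    ext r
    change φ ((X.presheaf.germ W x' hx).hom r) =
      algebraMap (X.presheaf.stalk x') (PtColim Γ(X, W) K)
        (algebraMap Γ(X, W) (X.presheaf.stalk x') r)
    rw [hφ, ← IsScalarTower.algebraMap_apply]
  rw [h1]

end KeyIdentity

section LowerMain

variable {X S : Scheme.{u}} (f : X ⟶ S) (x : X)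

theorem isLocalHom_algLP (W : X.Opens) (hW : IsAffineOpen W) (hx : x ∈ W)
    (K : Type u) [Field K] [Algebra (X.presheaf.stalk x) K]
    [IsLocalHom (algebraMap (X.presheaf.stalk x) K)] :
    letI := algRK x W hx K
    letI := algLP x W hW hx K
    IsLocalHom (algebraMap (X.presheaf.stalk x) (PtColim Γ(X, W) K)) := by
  letI := algRL x W hx
  letI := algRK x W hx K
  haveI := isScalarTower_RLK x W hx K
  haveI := isLocalization_stalk' x W hW hx
  letI := algLP x W hW hx K
  haveI := isScalarTower_algLP x W hW hx K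
  exact PtColimLocal.isLocalHom_algebraMap (hW.primeIdealOf ⟨x, hx⟩).asIdeal
    (X.presheaf.stalk x) K

theorem isLocalRing_quotient_fibIdeal :
    IsLocalRing (X.presheaf.stalk x ⧸ fibIdeal f x) := by
  haveI : Nontrivial (X.presheaf.stalk x ⧸ fibIdeal f x) :=
    Ideal.Quotient.nontrivial_iff.mpr (fibIdeal_ne_top f x)
  exact IsLocalRing.of_surjective' _ Ideal.Quotient.mk_surjective

/-- Lower bound: every finite number below the geometric branch number of the fibre is attained
by the fibre of an étale neighbourhood. -/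
theorem exists_etale_of_le_numGeomBranchesAt_fibre (n : ℕ)
    (hn : (n : ℕ∞) ≤ Brnch.numGeomBranchesAt (f.fiber (f x)) (f.asFiber x)) :
    ∃ (U : Scheme.{u}) (g : U ⟶ X) (u : U), (Etale g ∧ g u = x) ∧
      (n : ℕ∞) ≤ {Z : Set ↑((g ≫ f).fiber (f x)) |
        Z ∈ irreducibleComponents ↑((g ≫ f).fiber (f x)) ∧
        ∃ u' ∈ Z, (g ≫ f).fiberι (f x) u' = u}.encard := by
  obtain ⟨W, hW, hx, -⟩ := exists_isAffineOpen_mem_and_subset (x := x) (U := ⊤) trivial
  let K := SeparableClosure (ResidueField (X.presheaf.stalk x))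
  haveI : IsLocalHom (algebraMap (X.presheaf.stalk x) K) := isLocalHom_of_tower _ K
  letI := algRL x W hx
  letI := algRK x W hx K
  haveI := isScalarTower_RLK x W hx K
  haveI := isLocalization_stalk' x W hW hx
  letI := algLP x W hW hx K
  haveI := isScalarTower_algLP x W hW hx K
  haveI := isLocalHom_algLP x W hW hx K
  haveI : Hensel.IsStrictHenselization (X.presheaf.stalk x) (PtColim Γ(X, W) K) :=
    PtColimLocal.isStrictHenselization (hW.primeIdealOf ⟨x, hx⟩).asIdeal (X.presheaf.stalk x) K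
  haveI := isLocalRing_quotient_fibIdeal f x
  obtain ⟨e⟩ := Groth.Agent.Lib.Helper24.nonempty_fibre_stalk_ringEquiv_quotient f x
  unfold Brnch.numGeomBranchesAt at hn
  have e' : ↑((f.fiber (f x)).presheaf.stalk (f.asFiber x)) ≃+*
      (X.presheaf.stalk x ⧸ fibIdeal f x) := e
  rw [HensEquiv.numGeomBranches_congr e',
    HensEquiv.numGeomBranches_quotient (S := PtColim Γ(X, W) K) (fibIdeal f x)
      (fibIdeal_ne_top f x)] at hn
  obtain ⟨N, hN⟩ := PtColimBranches.exists_stage_of_le_over _ n hn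
  obtain ⟨U, g, u, hEt, hgu, ⟨q, hqp, alg, hq, hloc, hx', htower⟩, -⟩ :=
    exists_nbhd_of_stage' x W hW hx K N
  refine ⟨U, g, u, ⟨hEt, hgu⟩, ?_⟩
  rw [encard_fibre_components (g ≫ f) u (f x) (by rw [Scheme.Hom.comp_apply, hgu])]
  apply hN q hq (U.presheaf.stalk u) (fibIdeal (g ≫ f) u)
  have h1 : fibIdeal (g ≫ f) u = (fibIdeal f (g u)).map (g.stalkMap u).hom := by
    unfold fibIdeal
    rw [Ideal.map_map, ← CommRingCat.hom_comp, ← Scheme.Hom.stalkMap_comp]
    rfl
  rw [h1, Ideal.map_map]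
  refine fibIdeal_map_eq f x W hW hx K (g u) hgu hx' _ ?_
  intro r
  rw [RingHom.comp_apply, htower, PtColimBranches.locToColim_algebraMap, AlgHom.commutes]

end LowerMain

section LowerElementary

variable {X S : Scheme.{u}} (f : X ⟶ S) (x : X)

/-- Lower bound: every finite number below the branch number of the fibre is attained by the
fibre of an elementary étale neighbourhood. -/
theorem exists_etaleNbhd_of_le_numBranchesAt_fibre (n : ℕ)
    (hn : (n : ℕ∞) ≤ Brnch.numBranchesAt (f.fiber (f x)) (f.asFiber x)) :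
    ∃ (U : Scheme.{u}) (g : U ⟶ X) (u : U), Hens2.IsEtaleNbhd g u x ∧
      (n : ℕ∞) ≤ {Z : Set ↑((g ≫ f).fiber (f x)) |
        Z ∈ irreducibleComponents ↑((g ≫ f).fiber (f x)) ∧
        ∃ u' ∈ Z, (g ≫ f).fiberι (f x) u' = u}.encard := by
  obtain ⟨W, hW, hx, -⟩ := exists_isAffineOpen_mem_and_subset (x := x) (U := ⊤) trivial
  let K := ResidueField (X.presheaf.stalk x)
  haveI : IsLocalHom (algebraMap (X.presheaf.stalk x) K) := isLocalHom_of_tower _ K
  letI := algRL x W hx
  letI := algRK x W hx K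
  haveI := isScalarTower_RLK x W hx K
  haveI := isLocalization_stalk' x W hW hx
  letI := algLP x W hW hx K
  haveI := isScalarTower_algLP x W hW hx K
  haveI := isLocalHom_algLP x W hW hx K
  haveI : Hensel.IsHenselization (X.presheaf.stalk x) (PtColim Γ(X, W) K) :=
    PtColimLocal.isHenselization (hW.primeIdealOf ⟨x, hx⟩).asIdeal (X.presheaf.stalk x) K
      Function.bijective_id
  haveI := isLocalRing_quotient_fibIdeal f x
  obtain ⟨e⟩ := Groth.Agent.Lib.Helper24.nonempty_fibre_stalk_ringEquiv_quotient f x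
  unfold Brnch.numBranchesAt at hn
  have e' : ↑((f.fiber (f x)).presheaf.stalk (f.asFiber x)) ≃+*
      (X.presheaf.stalk x ⧸ fibIdeal f x) := e
  rw [HensEquiv.numBranches_congr e',
    HensEquiv.numBranches_quotient (S := PtColim Γ(X, W) K) (fibIdeal f x)
      (fibIdeal_ne_top f x)] at hn
  obtain ⟨N, hN⟩ := PtColimBranches.exists_stage_of_le_over _ n hn
  obtain ⟨U, g, u, hEt, hgu, ⟨q, hqp, alg, hq, hloc, hx', htower⟩, hres⟩ :=
    exists_nbhd_of_stage' x W hW hx K N
  have hK : ∀ k : K, ∃ r t : Γ(X, W), algebraMap Γ(X, W) K t ≠ 0 ∧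
      k * algebraMap Γ(X, W) K t = algebraMap Γ(X, W) K r := by
    intro k
    obtain ⟨y, rfl⟩ := residue_surjective k
    obtain ⟨r, t, rfl⟩ := IsLocalization.exists_mk'_eq
      (hW.primeIdealOf ⟨x, hx⟩).asIdeal.primeCompl y
    have halg : ∀ a : Γ(X, W), algebraMap Γ(X, W) K a =
        IsLocalRing.residue (X.presheaf.stalk x) (algebraMap Γ(X, W) (X.presheaf.stalk x) a) :=
      fun _ => rfl
    refine ⟨r, t.1, ?_, ?_⟩
    · rw [halg, Ne, residue_eq_zero_iff, IsLocalization.AtPrime.to_map_mem_maximal_iff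
        (X.presheaf.stalk x) (hW.primeIdealOf ⟨x, hx⟩).asIdeal]
      exact t.2
    · rw [halg, halg, ← map_mul, IsLocalization.mk'_spec]
  refine ⟨U, g, u, ⟨hEt, hgu, hres hK⟩, ?_⟩
  rw [encard_fibre_components (g ≫ f) u (f x) (by rw [Scheme.Hom.comp_apply, hgu])]
  apply hN q hq (U.presheaf.stalk u) (fibIdeal (g ≫ f) u)
  have h1 : fibIdeal (g ≫ f) u = (fibIdeal f (g u)).map (g.stalkMap u).hom := by
    unfold fibIdeal
    rw [Ideal.map_map, ← CommRingCat.hom_comp, ← Scheme.Hom.stalkMap_comp]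
    rfl
  rw [h1, Ideal.map_map]
  refine fibIdeal_map_eq f x W hW hx K (g u) hgu hx' _ ?_
  intro r
  rw [RingHom.comp_apply, htower, PtColimBranches.locToColim_algebraMap, AlgHom.commutes]

end LowerElementary

section Main

variable {X S : Scheme.{u}} (f : X ⟶ S) (x : X)

theorem numGeomBranchesAt_fibre_eq_iSup :
    Brnch.numGeomBranchesAt (f.fiber (f x)) (f.asFiber x) =
      ⨆ (U : Scheme.{u}) (g : U ⟶ X) (u : U) (_ : Etale g ∧ g u = x),
      {Z : Set ↑((g ≫ f).fiber (f x)) | Z ∈ irreducibleComponents ↑((g ≫ f).fiber (f x)) ∧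
        ∃ u' ∈ Z, (g ≫ f).fiberι (f x) u' = u}.encard := by
  apply le_antisymm
  · rw [← ENat.forall_natCast_le_iff_le]
    intro n hn
    obtain ⟨U, g, u, h, hle⟩ := exists_etale_of_le_numGeomBranchesAt_fibre f x n hn
    exact hle.trans (le_iSup_of_le U (le_iSup_of_le g (le_iSup_of_le u (le_iSup_of_le h le_rfl))))
  · refine iSup_le fun U => iSup_le fun g => iSup_le fun u => iSup_le fun h => ?_
    haveI := h.1
    exact fibre_encard_le_numGeomBranchesAt g f u x h.2

theorem numBranchesAt_fibre_eq_iSup :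
    Brnch.numBranchesAt (f.fiber (f x)) (f.asFiber x) =
      ⨆ (U : Scheme.{u}) (g : U ⟶ X) (u : U) (_ : Hens2.IsEtaleNbhd g u x),
      {Z : Set ↑((g ≫ f).fiber (f x)) | Z ∈ irreducibleComponents ↑((g ≫ f).fiber (f x)) ∧
        ∃ u' ∈ Z, (g ≫ f).fiberι (f x) u' = u}.encard := by
  apply le_antisymm
  · rw [← ENat.forall_natCast_le_iff_le]
    intro n hn
    obtain ⟨U, g, u, h, hle⟩ := exists_etaleNbhd_of_le_numBranchesAt_fibre f x n hn
    exact hle.trans (le_iSup_of_le U (le_iSup_of_le g (le_iSup_of_le u (le_iSup_of_le h le_rfl))))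
  · refine iSup_le fun U => iSup_le fun g => iSup_le fun u => iSup_le fun h => ?_
    exact fibre_encard_le_numBranchesAt g f u x h.base_eq h

end Main

end Groth.Agent.Lib.Helper3.BrnchFibre
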