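import Groth.Agent.Lib.Helper43.ConstrColim
import Groth.Agent.Lib.Helper43.EtConstrTorsion
import Groth.Agent.Lib.Helper4.EtaleTransfer
import Groth.Agent.Lib.Helper43.EtOverEquiv
import Groth.Agent.Lib.Helper4.EtRestr
import Groth.Agent.S0648

/-!
# Effaceability of étale cohomology among constructible sheaves (helper3)
-/

set_option autoImplicit false
set_option backward.isDefEq.respectTransparency false
set_option linter.unusedSectionVars false
set_option linter.style.haveILetI false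

universe u

open CategoryTheory CategoryTheory.Limits AlgebraicGeometry Opposite Abelian

namespace Groth.Agent.Lib.Helper3.ConstrEfface

open Groth.Agent.Lib.Helper43 Groth.Agent.Lib.Helper43.ConstrColim Groth.Agent.Lib.Helper4

section Div

/-- multiplication by `N` is a monomorphism on a constant sheaf with `N`-torsion-free value -/
lemma mono_nsmul_const (Y : Scheme.{u}) (N : ℕ) (M : Type) [AddCommGroup M]
    (hM : ∀ x : M, N • x = 0 → x = 0) :
    Mono (N • 𝟙 (EtCoh.const Y M)) := by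
  let A : AddCommGrpCat.{u + 1} := AddCommGrpCat.of (ULift.{u + 1} M)
  have h1 : Mono (N • 𝟙 A) := by
    rw [AddCommGrpCat.mono_iff_injective, injective_iff_map_eq_zero]
    intro x hx
    have hx' : N • x = 0 := hx
    obtain ⟨z⟩ := x
    have h2 : N • z = 0 := congrArg ULift.down hx'
    rw [hM z h2]
    rfl
  have h2 : Mono ((Functor.const Y.Etaleᵒᵖ).map (N • 𝟙 A)) := by
    apply NatTrans.mono_of_mono_app
  have h3 : Mono ((constantSheaf Y.smallEtaleTopology AddCommGrpCat.{u + 1}).map (N • 𝟙 A)) :=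
    (presheafToSheaf Y.smallEtaleTopology AddCommGrpCat.{u + 1}).map_mono _
  rw [Functor.map_nsmul, CategoryTheory.Functor.map_id] at h3
  exact h3

lemma zmod_zero_torsionFree (N : ℕ) (hN : 0 < N) : ∀ x : ZMod 0, N • x = 0 → x = 0 := by
  intro x hx
  have hx' : N • (x : ℤ) = 0 := hx
  rcases smul_eq_zero.1 hx' with h | h
  · omega
  · exact h

variable {X : Scheme.{u}}

/-- evaluation of morphisms of sheaves at a section, as an additive map -/
noncomputable def evHom {A I : EtCoh.Ab X} (U : X.Etale) (x : A.obj.obj (op U)) :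
    (A ⟶ I) →+ I.obj.obj (op U) where
  toFun f := f.hom.app (op U) x
  map_zero' := rfl
  map_add' _ _ := rfl

/-- multiplication by `N > 0` is a monomorphism on `j_! ℤ` -/
lemma mono_nsmul_extZeroConst (U : X.Etale) (N : ℕ) (hN : 0 < N) :
    Mono (N • 𝟙 (EtPBC.extZeroConst U (ZMod 0))) := by
  haveI : EtShriek.JCont (EtOverEquiv.jU U) := EtRestr.jCont _
  let e := EtOverEquiv.extZeroConstIso U (ZMod 0)
  haveI : PreservesFiniteLimits (EtShriek.extZero (EtOverEquiv.jU U)) :=
    Groth.Agent.S0648.result _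
  haveI : (EtShriek.extZero (EtOverEquiv.jU U)).Additive :=
    (EtShriek.extZeroAdj (EtOverEquiv.jU U)).left_adjoint_additive
  haveI := mono_nsmul_const U.left N (ZMod 0) (zmod_zero_torsionFree N hN)
  have h1 : Mono ((EtShriek.extZero (EtOverEquiv.jU U)).map
      (N • 𝟙 (EtCoh.const U.left (ZMod 0)))) := inferInstance
  rw [Functor.map_nsmul, CategoryTheory.Functor.map_id] at h1
  have h2 : N • 𝟙 (EtPBC.extZeroConst U (ZMod 0)) = e.hom ≫ (N • 𝟙 _) ≫ e.inv := by
    rw [Preadditive.nsmul_comp, Preadditive.comp_nsmul, Category.id_comp, e.hom_inv_id]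
  rw [h2]
  infer_instance


variable [CompactSpace X] [QuasiSeparatedSpace X]

/-- sections of an injective abelian sheaf are divisible -/
lemma exists_nsmul_eq_of_injective (I : EtCoh.Ab X) [Injective I] (N : ℕ) (hN : 0 < N)
    (U : X.Etale) (s : I.obj.obj (op U)) : ∃ t : I.obj.obj (op U), N • t = s := by
  haveI := mono_nsmul_extZeroConst U N hN
  let φ : EtPBC.extZeroConst U (ZMod 0) ⟶ I := σ' (n := 0) U s (zero_nsmul s)
  let ψ := Injective.factorThru φ (N • 𝟙 (EtPBC.extZeroConst U (ZMod 0)))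
  have h1 : (N • 𝟙 (EtPBC.extZeroConst U (ZMod 0))) ≫ ψ = φ := Injective.comp_factorThru _ _
  rw [Preadditive.nsmul_comp, Category.id_comp] at h1
  refine ⟨ψ.hom.app (op U) (JShriekGen.taut (n := 0) U), ?_⟩
  have h2 := congrArg (fun k : EtPBC.extZeroConst U (ZMod 0) ⟶ I =>
    k.hom.app (op U) (JShriekGen.taut (n := 0) U)) h1
  have h3 : φ.hom.app (op U) (JShriekGen.taut (n := 0) U) = s := σ'_taut (n := 0) U s _
  refine Eq.trans ?_ (h2.trans h3)
  exact (map_nsmul (evHom (I := I) U (JShriekGen.taut (n := 0) U)) N ψ).symm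


lemma epi_nsmul_of_injective (I : EtCoh.Ab X) [Injective I] (N : ℕ) (hN : 0 < N) :
    Epi (N • 𝟙 I) := by
  haveI : Epi ((sheafToPresheaf _ _).map (N • 𝟙 I)) := by
    have hV : ∀ V : X.Etaleᵒᵖ,
        Epi (((sheafToPresheaf X.smallEtaleTopology AddCommGrpCat.{u + 1}).map (N • 𝟙 I)).app V) := by
      intro V
      induction V using Opposite.rec with | op V => ?_
      change Epi ((N • 𝟙 I).hom.app (op V))
      rw [AddCommGrpCat.epi_iff_surjective]
      intro s
      obtain ⟨t, ht⟩ := exists_nsmul_eq_of_injective I N hN V s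
      refine ⟨t, ?_⟩
      refine Eq.trans ?_ ht
      exact map_nsmul (evHom (A := I) (I := I) V t) N (𝟙 I)
    exact NatTrans.epi_of_epi_app _
  exact (sheafToPresheaf _ _).epi_of_epi_map inferInstance

/-- the `N`-torsion of an injective abelian sheaf has no higher cohomology -/
theorem ext_kernel_nsmul_eq_zero (I : EtCoh.Ab X) [Injective I] (N : ℕ) (hN : 0 < N) (q : ℕ)
    (hq : 0 < q) (x : Ext.{u + 1} (EtCoh.const X ℤ) (kernel (N • 𝟙 I)) q) : x = 0 := by
  haveI := epi_nsmul_of_injective I N hN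
  let S : ShortComplex (EtCoh.Ab X) :=
    ShortComplex.mk (kernel.ι (N • 𝟙 I)) (N • 𝟙 I) (kernel.condition _)
  have hS : S.ShortExact :=
    { exact := ShortComplex.exact_of_f_is_kernel _ (kernelIsKernel _)
      mono_f := inferInstanceAs (Mono (kernel.ι (N • 𝟙 I)))
      epi_g := inferInstanceAs (Epi (N • 𝟙 I)) }
  obtain ⟨q', rfl⟩ : ∃ q', q = q' + 1 := ⟨q - 1, by omega⟩
  have h1 : x.comp (Ext.mk₀ S.f) (add_zero _) = 0 := Ext.eq_zero_of_injective _
  obtain ⟨y, hy⟩ := Ext.covariant_sequence_exact₁ _ hS x h1 rfl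
  rw [← hy]
  cases q' with
  | zero =>
    obtain ⟨g, rfl⟩ := (Ext.mk₀_bijective (EtCoh.const X ℤ) S.X₃).2 y
    haveI : Mono (N • 𝟙 (EtCoh.const X ℤ)) := mono_nsmul_const X N ℤ (by
      intro z hz
      rcases smul_eq_zero.1 hz with h | h
      · omega
      · exact h)
    let g' := Injective.factorThru g (N • 𝟙 (EtCoh.const X ℤ))
    have hg' : (N • 𝟙 (EtCoh.const X ℤ)) ≫ g' = g := Injective.comp_factorThru _ _
    have h2 : g = g' ≫ S.g := by
      rw [← hg']
      change _ = g' ≫ (N • 𝟙 I)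
      rw [Preadditive.nsmul_comp, Preadditive.comp_nsmul, Category.id_comp, Category.comp_id]
    rw [h2, ← Ext.mk₀_comp_mk₀, Ext.comp_assoc_of_second_deg_zero, hS.comp_extClass, Ext.comp_zero]
  | succ k =>
    rw [Ext.eq_zero_of_injective y, Ext.zero_comp]

end Div


section Main

variable {X : Scheme.{u}} [CompactSpace X] [QuasiSeparatedSpace X]

lemma nsmul_id_eq_zero_of_killedBy (F : EtCoh.Ab X) (N : ℕ) (h : EtCoh.KilledBy N F) :
    N • 𝟙 F = 0 := by
  apply Sheaf.hom_ext
  ext V s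
  induction V using Opposite.rec with | op V => ?_
  refine Eq.trans ?_ (h V s)
  exact map_nsmul (evHom (A := F) (I := F) V s) N (𝟙 F)

lemma isTorsion_of_nsmul_id_eq_zero (G : EtCoh.Ab X) (N : ℕ) (hN : 0 < N) (h : N • 𝟙 G = 0) :
    EtCoh.IsTorsion G := by
  intro U s x
  refine ⟨U, 𝟙 U, ⟨x, rfl⟩, ?_⟩
  rw [isOfFinAddOrder_iff_nsmul_eq_zero]
  refine ⟨N, hN, ?_⟩
  have h1 := congrArg (fun k : G ⟶ G => k.hom.app (op U) (G.obj.map (𝟙 U).op s)) h
  refine Eq.trans ?_ h1
  exact (map_nsmul (evHom (A := G) (I := G) U (G.obj.map (𝟙 U).op s)) N (𝟙 G)).symm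

/-- **Effaceability of cohomology among constructible sheaves** on a qcqs scheme. -/
theorem efface (F : EtCoh.Ab X) (hF : EtPBC.IsConstructible F) (q : ℕ) (hq : 0 < q)
    (α : EtCoh.H X F q) :
    ∃ (G : EtCoh.Ab X) (v : F ⟶ G), EtPBC.IsConstructible G ∧ Mono v ∧
      (EtCoh.HF X q).map v α = 0 := by
  obtain ⟨N, hN, hk⟩ := EtConstrTorsion.exists_killedBy F hF
  have hNF : N • 𝟙 F = 0 := nsmul_id_eq_zero_of_killedBy F N hk
  let I := Injective.under F
  let ι : F ⟶ I := Injective.ι F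
  let G' := kernel (N • 𝟙 I)
  have hι : ι ≫ (N • 𝟙 I) = 0 := by
    rw [Preadditive.comp_nsmul, Category.comp_id, ← Category.id_comp ι, ← Preadditive.nsmul_comp,
      hNF, zero_comp]
  let w : F ⟶ G' := kernel.lift _ ι hι
  haveI : Mono w := mono_of_mono_fac (kernel.lift_ι _ ι hι)
  have hNG : N • 𝟙 G' = 0 := by
    rw [← cancel_mono (kernel.ι (N • 𝟙 I)), zero_comp, Preadditive.nsmul_comp, Category.id_comp,
      ← Category.comp_id (kernel.ι (N • 𝟙 I)), ← Preadditive.comp_nsmul, kernel.condition]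
  have hG' : EtCoh.IsTorsion G' := isTorsion_of_nsmul_id_eq_zero G' N hN hNG
  have hvan : ∀ x : EtCoh.H X G' q, x = 0 := fun x => ext_kernel_nsmul_eq_zero I N hN q hq x
  obtain ⟨P, ⟨e⟩⟩ := exists_pres F hF
  let p₀ : PO G' := ⟨P, e.inv ≫ w⟩
  let Dq : PO G' ⥤ AddCommGrpCat.{u + 1} := D G' ⋙ EtCoh.HF X q
  let α₀ : ToType (Dq.obj p₀) := (EtCoh.HF X q).map e.hom α
  haveI hpres : PreservesColimitsOfShape (PO G') (EtCoh.HF X q) := by
    unfold EtCoh.HF
    exact EtaleTransfer.preservesColimitsOfShape_functorH X q (PO G')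
  let c : Cocone Dq := (EtCoh.HF X q).mapCocone (coconeF G')
  have hcol : IsColimit c := isColimitOfPreserves (EtCoh.HF X q) (isColimitCoconeF G' hG')
  have h0 : c.ι.app p₀ α₀ = c.ι.app p₀ (0 : ToType (Dq.obj p₀)) := by
    rw [map_zero]
    exact hvan _
  haveI hpf : PreservesColimit Dq (forget AddCommGrpCat.{u + 1}) := inferInstance
  obtain ⟨p', a, b, hab⟩ := Concrete.isColimit_exists_of_rep_eq Dq (D := c) (i := p₀) (j := p₀)
    hcol α₀ (0 : ToType (Dq.obj p₀)) h0
  rw [map_zero] at hab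
  refine ⟨p'.P.obj, e.hom ≫ a.g, p'.P.constructible, ?_, ?_⟩
  · have h1 : (e.hom ≫ a.g) ≫ p'.f = w := by
      rw [Category.assoc, a.w]
      change e.hom ≫ e.inv ≫ w = w
      rw [Iso.hom_inv_id_assoc]
    exact mono_of_mono_fac h1
  · rw [Functor.map_comp]
    exact hab

end Main

end Groth.Agent.Lib.Helper3.ConstrEfface
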