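import Mathlib

/-!
# Finite chains of opens whose successive differences decide finitely many constructible sets
(helper3)
-/

set_option autoImplicit false

open TopologicalSpace Topology

namespace Groth.Agent.Lib.Helper3.OpenChain

variable {Y : Type*} [TopologicalSpace Y]

/-- `D` is constructible and decides every member of `𝒮` -/
def Dec (𝒮 : Set (Set Y)) (D : Set Y) : Prop :=
  IsConstructible D ∧ ∀ S ∈ 𝒮, D ⊆ S ∨ Disjoint D S

/-- `B` is reachable from `A` by finitely many steps with differences satisfying `P` -/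
inductive Reach (P : Set Y → Prop) (A : Opens Y) : Opens Y → Prop
  | refl : Reach P A A
  | step {B C : Opens Y} : Reach P A B → B ≤ C → P ((C : Set Y) \ (B : Set Y)) → Reach P A C

theorem Reach.mono {P Q : Set Y → Prop} (h : ∀ D, P D → Q D) {A B : Opens Y}
    (hr : Reach P A B) : Reach Q A B := by
  induction hr with
  | refl => exact Reach.refl
  | step _ hBC hP ih => exact Reach.step ih hBC (h _ hP)

theorem Dec.subset {𝒮 : Set (Set Y)} {D D' : Set Y} (h : Dec 𝒮 D) (hsub : D' ⊆ D)
    (hc : IsConstructible D') : Dec 𝒮 D' :=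
  ⟨hc, fun S hS => (h.2 S hS).imp (fun h1 => hsub.trans h1) (fun h2 => h2.mono_left hsub)⟩

theorem Reach.refine {𝒮 : Set (Set Y)} {A B : Opens Y} (h : Reach (Dec 𝒮) A B) (O : Opens Y)
    (hO : IsRetrocompact (O : Set Y)) : Reach (Dec (insert (O : Set Y) 𝒮)) A B := by
  have hOc : IsConstructible (O : Set Y) := hO.isConstructible O.isOpen
  induction h with
  | refl => exact Reach.refl
  | @step B C _ hBC hP ih =>
    have e1 : (((B ⊔ (C ⊓ O) : Opens Y) : Set Y) \ (B : Set Y)) =
        ((C : Set Y) \ (B : Set Y)) ∩ (O : Set Y) := by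
      ext x
      simp only [Opens.coe_sup, Opens.coe_inf, Set.mem_sdiff, Set.mem_union, Set.mem_inter_iff,
        SetLike.mem_coe]
      tauto
    have e2 : ((C : Set Y) \ ((B ⊔ (C ⊓ O) : Opens Y) : Set Y)) =
        ((C : Set Y) \ (B : Set Y)) \ (O : Set Y) := by
      ext x
      simp only [Opens.coe_sup, Opens.coe_inf, Set.mem_sdiff, Set.mem_union, Set.mem_inter_iff,
        SetLike.mem_coe]
      tauto
    refine Reach.step (Reach.step ih (le_sup_left : B ≤ B ⊔ (C ⊓ O)) ?_)
      (sup_le hBC inf_le_left) ?_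
    · rw [e1]
      refine ⟨hP.1.inter hOc, fun S hS => ?_⟩
      rcases hS with rfl | hS
      · exact Or.inl Set.inter_subset_right
      · exact ((hP.subset Set.inter_subset_left (hP.1.inter hOc)).2 S hS)
    · rw [e2]
      refine ⟨hP.1.sdiff hOc, fun S hS => ?_⟩
      rcases hS with rfl | hS
      · exact Or.inr Set.disjoint_sdiff_left
      · exact ((hP.subset Set.sdiff_subset (hP.1.sdiff hOc)).2 S hS)

theorem Reach.insert_constructible {S : Set Y} (hS : IsConstructible S) :
    ∀ {𝒮 : Set (Set Y)} {A B : Opens Y}, Reach (Dec 𝒮) A B → Reach (Dec (insert S 𝒮)) A B := by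
  induction hS using IsConstructible.empty_union_induction with
  | open_retrocompact U hU hUc =>
    intro 𝒮 A B h
    exact h.refine ⟨U, hU⟩ hUc
  | union s hs t ht ihs iht =>
    intro 𝒮 A B h
    refine (iht (ihs h)).mono (fun D hD => ⟨hD.1, fun S hS => ?_⟩)
    rcases hS with rfl | hS
    · have h1 := hD.2 t (Set.mem_insert _ _)
      have h2 := hD.2 s (Set.mem_insert_of_mem _ (Set.mem_insert _ _))
      rcases h2 with h2 | h2
      · exact Or.inl (h2.trans Set.subset_union_left)
      · rcases h1 with h1 | h1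
        · exact Or.inl (h1.trans Set.subset_union_right)
        · exact Or.inr (Set.disjoint_union_right.2 ⟨h2, h1⟩)
    · exact hD.2 S (Set.mem_insert_of_mem _ (Set.mem_insert_of_mem _ hS))
  | compl s hs ih =>
    intro 𝒮 A B h
    refine (ih h).mono (fun D hD => ⟨hD.1, fun S hS => ?_⟩)
    rcases hS with rfl | hS
    · rcases hD.2 s (Set.mem_insert _ _) with h1 | h1
      · exact Or.inr (Set.disjoint_compl_right_iff_subset.2 h1)
      · exact Or.inl (Set.subset_compl_iff_disjoint_right.2 h1)
    · exact hD.2 S (Set.mem_insert_of_mem _ hS)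

theorem reach_bot_top (𝒮 : Set (Set Y)) (h𝒮 : 𝒮.Finite) (hc : ∀ S ∈ 𝒮, IsConstructible S) :
    Reach (Dec 𝒮) (⊥ : Opens Y) ⊤ := by
  induction 𝒮, h𝒮 using Set.Finite.induction_on with
  | empty =>
    refine Reach.step Reach.refl bot_le ⟨?_, fun S hS => (Set.notMem_empty S hS).elim⟩
    simp
  | @insert S 𝒮 _ _ ih =>
    exact Reach.insert_constructible (hc S (Set.mem_insert _ _))
      (ih (fun S' hS' => hc S' (Set.mem_insert_of_mem _ hS')))

theorem Reach.exists_seq {P : Set Y → Prop} {A B : Opens Y} (h : Reach P A B) :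
    ∃ (N : ℕ) (V : ℕ → Opens Y), V 0 = A ∧ V N = B ∧
      ∀ k, k < N → V k ≤ V (k + 1) ∧ P ((V (k + 1) : Set Y) \ (V k : Set Y)) := by
  induction h with
  | refl => exact ⟨0, fun _ => A, rfl, rfl, fun k hk => (Nat.not_lt_zero k hk).elim⟩
  | @step B C _ hBC hP ih =>
    obtain ⟨N, V, h0, hN, hV⟩ := ih
    refine ⟨N + 1, fun k => if k ≤ N then V k else C, ?_, ?_, ?_⟩
    · simp [h0]
    · simp
    · intro k hk
      by_cases hkN : k < N
      · have h1 : k ≤ N := hkN.le
        have h2 : k + 1 ≤ N := hkN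
        simp only [h1, h2, if_true]
        exact hV k hkN
      · have hk' : k = N := by omega
        subst hk'
        simp only [le_refl, if_true, Nat.add_one_le_iff, lt_irrefl, if_false]
        rw [hN]
        exact ⟨hBC, hP⟩

end Groth.Agent.Lib.Helper3.OpenChain
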