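import Groth.Agent.Lib.Helper3.Recoll2
import Groth.Agent.Lib.Helper3.OpenChain
import Groth.Agent.Lib.Helper43.EtConstr
import Groth.Prelude.Def_EtCore

/-!
# A constructible sheaf on a qcqs scheme has a finite filtration by `j_!(c_* flc)` (helper3)
-/

set_option autoImplicit false
set_option backward.isDefEq.respectTransparency false
set_option linter.unusedSectionVars false
set_option linter.style.haveILetI false

universe u

open CategoryTheory CategoryTheory.Limits AlgebraicGeometry Opposite TopologicalSpace Topology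

namespace Groth.Agent.Lib.Helper3.ConstrFilt

open Groth.Agent.Lib.Helper43 Groth.Agent.Lib.Helper43.EtConstr Groth.Agent.Lib.Helper43.StrataLib
  Groth.Agent.Lib.Helper3.Recoll2 Groth.Agent.Lib.Helper3.OpenChain

variable {X : Scheme.{u}}

section PartW

theorem range_homOfLE {B C : X.Opens} (hBC : B ≤ C) :
    Set.range (X.homOfLE hBC).base = C.ι.base ⁻¹' (B : Set X) := by
  ext y
  constructor
  · rintro ⟨b, rfl⟩
    change (X.homOfLE hBC ≫ C.ι).base b ∈ (B : Set X)
    rw [Scheme.homOfLE_ι]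
    exact b.2
  · intro hy
    refine ⟨⟨y.1, hy⟩, ?_⟩
    apply C.ι.isOpenEmbedding.injective
    change (X.homOfLE hBC ≫ C.ι).base _ = _
    rw [Scheme.homOfLE_ι]
    rfl

variable {T : Scheme.{u}} (g : T ⟶ X) [IsImmersion g] {B C : X.Opens} (hBC : B ≤ C)
  (hD : (C : Set X) \ (B : Set X) ⊆ Set.range g.base)

include hD in
theorem exists_closed_piece :
    ∃ (W : Scheme.{u}) (c : W ⟶ (C : Scheme.{u})) (_ : IsClosedImmersion c) (h : W ⟶ T),
      Set.range c.base = (Set.range (X.homOfLE hBC).base)ᶜ ∧ c ≫ C.ι = h ≫ g := by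
  let g' : (g ⁻¹ᵁ C : Scheme.{u}) ⟶ (C : Scheme.{u}) := g ∣_ C
  let Rc : Set (C : Scheme.{u}) := (Set.range (X.homOfLE hBC).base)ᶜ
  have hRc : IsClosed Rc := (X.homOfLE hBC).isOpenEmbedding.isOpen_range.isClosed_compl
  have hZ : IsClosed (g'.base ⁻¹' Rc) := hRc.preimage g'.continuous
  obtain ⟨W, w, hw, hwr⟩ := exists_closedImmersion_range_eq (g'.base ⁻¹' Rc) hZ
  have hsub : Rc ⊆ Set.range g'.base := by
    intro y hy
    have hyB : (y.1 : X) ∉ (B : Set X) := by
      intro hB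
      apply hy
      rw [range_homOfLE]
      exact hB
    obtain ⟨t, ht⟩ := hD ⟨y.2, hyB⟩
    have htC : t ∈ g ⁻¹ᵁ C := by
      change g.base t ∈ C
      rw [ht]
      exact y.2
    refine ⟨⟨t, htC⟩, ?_⟩
    apply Subtype.ext
    rw [morphismRestrict_base_coe]
    exact ht
  have hrange : Set.range (w ≫ g').base = Rc := by
    rw [Scheme.Hom.comp_base, TopCat.coe_comp, Set.range_comp]
    erw [hwr]
    rw [Set.image_preimage_eq_inter_range, Set.inter_eq_left.2 hsub]
  haveI : IsPreimmersion (w ≫ g') := inferInstance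
  have hc : IsClosedImmersion (w ≫ g') :=
    IsClosedImmersion.of_isPreimmersion _ (by rw [hrange]; exact hRc)
  refine ⟨W, w ≫ g', hc, w ≫ (g ⁻¹ᵁ C).ι, hrange, ?_⟩
  rw [Category.assoc, Category.assoc, morphismRestrict_ι]

end PartW


section StepData

variable (F : EtCoh.Ab X) {T : Scheme.{u}} (g : T ⟶ X) [IsImmersion g] (hg : P F T g)
  {B C : X.Opens} (hBC : B ≤ C)
  (hD : (C : Set X) \ (B : Set X) ⊆ Set.range g.base)
  (hcons : IsConstructible ((C : Set X) \ (B : Set X)))

include hg hBC hD hcons in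
theorem stepData :
    ∃ (ι : E F B.ι ⟶ E F C.ι) (U W : Scheme.{u}) (j : U ⟶ X) (_ : IsOpenImmersion j) (c : W ⟶ U)
      (_ : IsClosedImmersion c) (G : EtCoh.Ab W)
      (π : E F C.ι ⟶ (EtShriek.extZero j).obj ((EtCoh.push c).obj G)) (hz : ι ≫ π = 0),
      Topology.IsConstructible (Set.range (c ≫ j)) ∧ EtCoh.IsFiniteLocallyConstant G ∧
      (ShortComplex.mk ι π hz).ShortExact := by
  obtain ⟨W, c, hc, h, hrange, hfac⟩ := exists_closed_piece g hBC hD
  have hU : Set.range (X.homOfLE hBC).base = (Set.range c.base)ᶜ := by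
    rw [hrange, compl_compl]
  obtain ⟨ι, π, hz, hS⟩ := step' F (X.homOfLE hBC) C.ι c hU B.ι (Scheme.homOfLE_ι X hBC)
  refine ⟨ι, C, W, C.ι, inferInstance, c, hc, _, π, hz, ?_, ?_, hS⟩
  · have : Set.range (c ≫ C.ι) = (C : Set X) \ (B : Set X) := by
      rw [Scheme.Hom.comp_base, TopCat.coe_comp, Set.range_comp, hrange, range_homOfLE]
      ext x
      constructor
      · rintro ⟨y, hy, rfl⟩
        exact ⟨y.2, hy⟩
      · rintro ⟨hxC, hxB⟩
        exact ⟨⟨x, hxC⟩, hxB, rfl⟩
    rw [this]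
    exact hcons
  · have hP : P F W (c ≫ C.ι) := P_congr F hfac.symm (P_comp F h g hg)
    exact isFLC_of_iso ((EtCore.pullComp c C.ι).app F ≪≫
      (EtCoh.pull c).mapIso ((Groth.Agent.Lib.Helper4.EtRestr.pullIsoRestr C.ι).app F)) hP

end StepData


section Main

variable (F : EtCoh.Ab X)

theorem isZero_E_of_eq_bot (B : X.Opens) (hB : B = ⊥) : IsZero (E F B.ι) := by
  subst hB
  apply isZero_E_of_isEmpty
  constructor
  rintro ⟨x, hx⟩
  exact hx

theorem nonempty_E_iso_of_eq_top (B : X.Opens) (hB : B = ⊤) : Nonempty (E F B.ι ≅ F) := by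
  subst hB
  apply nonempty_E_iso_of_range_eq_univ
  rw [Scheme.Opens.range_ι]
  rfl

theorem isZero_of_isEmpty (h : IsEmpty X) : IsZero F := by
  apply EtStalk.isZero_of_stalks_ab
  intro Ω _ _ ξ
  exact (h.false (ξ.base default)).elim

theorem main [CompactSpace X] [QuasiSeparatedSpace X] (hF : EtPBC.IsConstructible F) :
    ∃ (n : ℕ) (E : Fin (n + 1) → EtCoh.Ab X) (ι : ∀ k : Fin n, E k.castSucc ⟶ E k.succ),
      IsZero (E 0) ∧ Nonempty (E (Fin.last n) ≅ F) ∧
      ∀ k : Fin n, ∃ (U W : Scheme.{u}) (j : U ⟶ X) (_ : IsOpenImmersion j) (c : W ⟶ U)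
        (_ : IsClosedImmersion c) (G : EtCoh.Ab W)
        (π : E k.succ ⟶ (EtShriek.extZero j).obj ((EtCoh.push c).obj G)) (hz : ι k ≫ π = 0),
        Topology.IsConstructible (Set.range (c ≫ j)) ∧ EtCoh.IsFiniteLocallyConstant G ∧
        (ShortComplex.mk (ι k) π hz).ShortExact := by
  by_cases hX : IsEmpty X
  · exact ⟨0, fun _ => F, fun k => k.elim0, isZero_of_isEmpty F hX, ⟨Iso.refl _⟩, fun k => k.elim0⟩
  rw [not_isEmpty_iff] at hX
  obtain ⟨x₀⟩ := hX
  obtain ⟨m, T, g, h1, h2, h3, h4, h5⟩ := (constructible_iff_strata_univ X F).1 hF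
  have hc : ∀ i, IsConstructible (Set.range (g i).base) := by
    intro i
    have := (h2 i).image_of_isOpenEmbedding (isOpen_univ.isOpenEmbedding_subtypeVal)
      (by
        rw [Subtype.range_coe]
        exact IsRetrocompact.univ)
    rwa [Subtype.image_preimage_coe, Set.univ_inter] at this
  obtain ⟨i₀, hi₀⟩ : ∃ i, x₀ ∈ Set.range (g i).base := by
    have : x₀ ∈ ⋃ i, Set.range (g i) := by rw [h4]; trivial
    exact Set.mem_iUnion.1 this
  let 𝒮 : Set (Set X) := Set.range (fun i => Set.range (g i).base)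
  have hreach := reach_bot_top 𝒮 (Set.finite_range _) (by
    rintro _ ⟨i, rfl⟩
    exact hc i)
  obtain ⟨N, (V : ℕ → X.Opens), hV0, hVN, hV⟩ := hreach.exists_seq
  have hstep : ∀ k : Fin N, ∃ (ι : E F (V k.val).ι ⟶ E F (V (k.val + 1)).ι)
      (U W : Scheme.{u}) (j : U ⟶ X) (_ : IsOpenImmersion j) (c : W ⟶ U)
      (_ : IsClosedImmersion c) (G : EtCoh.Ab W)
      (π : E F (V (k.val + 1)).ι ⟶ (EtShriek.extZero j).obj ((EtCoh.push c).obj G))
      (hz : ι ≫ π = 0),
      Topology.IsConstructible (Set.range (c ≫ j)) ∧ EtCoh.IsFiniteLocallyConstant G ∧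
      (ShortComplex.mk ι π hz).ShortExact := by
    intro k
    obtain ⟨hle, hdec⟩ := hV k.val k.isLt
    obtain ⟨i, hi⟩ : ∃ i, ((V (k.val + 1) : Set X) \ (V k.val : Set X)) ⊆ Set.range (g i).base := by
      by_contra hcon
      push Not at hcon
      have hdisj : ∀ i, Disjoint ((V (k.val + 1) : Set X) \ (V k.val : Set X))
          (Set.range (g i).base) := by
        intro i
        rcases hdec.2 _ ⟨i, rfl⟩ with h | h
        · exact (hcon i h).elim
        · exact h
      apply hcon i₀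
      intro x hx
      have : x ∈ ⋃ i, Set.range (g i) := by rw [h4]; trivial
      obtain ⟨i, hxi⟩ := Set.mem_iUnion.1 this
      exact (Set.disjoint_left.1 (hdisj i) hx hxi).elim
    haveI := h1 i
    exact stepData F (g i) (h5 i) hle hi hdec.1
  choose ι hι using hstep
  exact ⟨N, fun k => E F (V k.val).ι, fun k => ι k, isZero_E_of_eq_bot F _ hV0,
    nonempty_E_iso_of_eq_top F _ hVN, fun k => hι k⟩

end Main

end Groth.Agent.Lib.Helper3.ConstrFilt
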