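import Groth.Agent.S0135
import Groth.Agent.S0129
import Groth.Agent.S0127
import Groth.Agent.Lib.Helper43.ConstrCover
import Groth.Agent.Lib.Helper43.EtConstrStalk
import Groth.Prelude.Def_EtCore

/-!
# Constructibility descends along surjective morphisms locally of finite presentation (helper3)
-/

set_option autoImplicit false
set_option backward.isDefEq.respectTransparency false
set_option linter.unusedSectionVars false
set_option linter.style.haveILetI false

universe u

open CategoryTheory CategoryTheory.Limits AlgebraicGeometry Opposite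

namespace Groth.Agent.Lib.Helper3.ConstrPullLfp

open Groth.Agent.Lib.Helper43

section Basic

variable {T X Y : Scheme.{u}}

lemma constructible_pull_comp (a : T ⟶ X) (f : X ⟶ Y) (F : EtCoh.Ab Y)
    (h : EtPBC.IsConstructible ((EtCoh.pull f).obj F)) :
    EtPBC.IsConstructible ((EtCoh.pull (a ≫ f)).obj F) :=
  EtConstrStalk.constructible_of_iso ((EtCore.pullComp a f).app F).symm
    (Groth.Agent.S0127.result a _ h)

lemma constructible_pull_of_comp (a : T ⟶ X) (f : X ⟶ Y) (F : EtCoh.Ab Y)
    (h : EtPBC.IsConstructible ((EtCoh.pull (a ≫ f)).obj F)) :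
    EtPBC.IsConstructible ((EtCoh.pull a).obj ((EtCoh.pull f).obj F)) :=
  EtConstrStalk.constructible_of_iso ((EtCore.pullComp a f).app F) h

lemma constructible_pull_congr {a a' : T ⟶ Y} (e : a = a') (F : EtCoh.Ab Y)
    (h : EtPBC.IsConstructible ((EtCoh.pull a).obj F)) :
    EtPBC.IsConstructible ((EtCoh.pull a').obj F) := by
  subst e
  exact h

end Basic

section QC

variable {X Y : Scheme.{u}} [CompactSpace Y] [QuasiSeparatedSpace Y] (f : X ⟶ Y)
  [Surjective f] [LocallyOfFinitePresentation f]

theorem constructible_of_pull_qcqs (F : EtCoh.Ab Y)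
    (h : EtPBC.IsConstructible ((EtCoh.pull f).obj F)) : EtPBC.IsConstructible F := by
  classical
  let R : X.affineOpens → Set Y := fun W => Set.range (W.1.ι ≫ f)
  have hR : ∀ W, Topology.IsConstructible (R W) := by
    intro W
    haveI : IsAffine (W.1 : Scheme.{u}) := W.2
    have h1 := (W.1.ι ≫ f).isConstructible_image (s := Set.univ) Topology.IsConstructible.univ
    rwa [Set.image_univ] at h1
  have hcov : ⋃ W, R W = Set.univ := by
    rw [Set.eq_univ_iff_forall]
    intro y
    obtain ⟨x, rfl⟩ := f.surjective y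
    obtain ⟨W, hxW⟩ : ∃ W : X.affineOpens, x ∈ W.1 := by
      have : x ∈ (⨆ i : X.affineOpens, (i : X.Opens)) := by
        rw [iSup_affineOpens_eq_top]; trivial
      obtain ⟨W, hW⟩ := TopologicalSpace.Opens.mem_iSup.1 this
      exact ⟨W, hW⟩
    refine Set.mem_iUnion.2 ⟨W, ⟨⟨x, hxW⟩, ?_⟩⟩
    rw [Scheme.Hom.comp_apply]
    rfl
  obtain ⟨t, ht⟩ := ConstrCover.exists_finite_subcover_of_isConstructible R hR hcov
  let T : {W // W ∈ t} → Scheme.{u} := fun W => (W.1.1 : Scheme.{u})
  haveI : ∀ W, IsAffine (T W) := fun W => W.1.2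
  let g : (∐ T) ⟶ Y := Sigma.desc (fun W => W.1.1.ι ≫ f)
  have hg : ∀ W, Sigma.ι T W ≫ g = W.1.1.ι ≫ f := fun W => Sigma.ι_desc _ _
  haveI : Surjective g := by
    constructor
    intro y
    obtain ⟨W, hWt, z, hz⟩ := ht y
    refine ⟨Sigma.ι T ⟨W, hWt⟩ z, ?_⟩
    rw [← Scheme.Hom.comp_apply, hg]
    exact hz
  rw [Groth.Agent.S0135.result g F]
  refine Groth.Agent.S0129.result _ (fun W : {W // W ∈ t} => (Sigma.ι T W).opensRange)
    (sigmaOpenCover T).iSup_opensRange ?_
  intro W
  apply constructible_pull_of_comp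
  have e : (Sigma.ι T W).opensRange.ι ≫ g =
      ((Sigma.ι T W).isoOpensRange.inv ≫ W.1.1.ι) ≫ f := by
    rw [Category.assoc, ← hg, ← Category.assoc]
    congr 1
    rw [Iso.eq_inv_comp, Scheme.Hom.isoOpensRange_hom_ι]
  refine constructible_pull_congr e.symm F ?_
  exact constructible_pull_comp _ f F h

end QC


section Gen

variable {X Y : Scheme.{u}} (f : X ⟶ Y) [Surjective f] [LocallyOfFinitePresentation f]

theorem constructible_of_pull (F : EtCoh.Ab Y)
    (h : EtPBC.IsConstructible ((EtCoh.pull f).obj F)) : EtPBC.IsConstructible F := by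
  refine Groth.Agent.S0129.result F (ι := Y.affineOpens) (fun V => V.1)
    (iSup_affineOpens_eq_top Y) ?_
  intro V
  haveI : IsAffine (V.1 : Scheme.{u}) := V.2
  haveI : Surjective (f ∣_ V.1) :=
    IsZariskiLocalAtTarget.restrict (P := @Surjective) inferInstance V.1
  haveI : LocallyOfFinitePresentation (f ∣_ V.1) :=
    IsZariskiLocalAtTarget.restrict (P := @LocallyOfFinitePresentation) inferInstance V.1
  apply constructible_of_pull_qcqs (f ∣_ V.1)
  apply constructible_pull_of_comp
  have e : (f ∣_ V.1) ≫ V.1.ι = (f ⁻¹ᵁ V.1).ι ≫ f := morphismRestrict_ι f V.1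
  refine constructible_pull_congr e.symm F ?_
  exact constructible_pull_comp _ f F h

theorem constructible_iff_pull (F : EtCoh.Ab Y) :
    EtPBC.IsConstructible F ↔ EtPBC.IsConstructible ((EtCoh.pull f).obj F) :=
  ⟨fun h => Groth.Agent.S0127.result f F h, constructible_of_pull f F⟩

end Gen

end Groth.Agent.Lib.Helper3.ConstrPullLfp
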