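import Groth.Agent.S0171
import Groth.Agent.Lib.Helper43.EtStalk

/-!
# Curves over a separably closed field: vanishing of cohomology for sheaves with zero generic
stalks (helper3)
-/

set_option autoImplicit false
set_option backward.isDefEq.respectTransparency false
set_option linter.unusedSectionVars false
set_option linter.style.haveILetI false

universe w v₁ u₁ u

open CategoryTheory CategoryTheory.Limits AlgebraicGeometry Opposite TopologicalSpace

namespace Groth.Agent.Lib.Helper3.CurveGenericVanish

theorem eq_of_specializes_of_dim_le_one {X : Type*} [TopologicalSpace X] [T0Space X]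
    (hdim : topologicalKrullDim X ≤ 1) {x : X} (hx : ¬ IsClosed ({x} : Set X))
    {y : X} (hy : y ⤳ x) : y = x := by
  by_contra hne
  have hcl : closure ({x} : Set X) ≠ {x} := fun h => hx (h ▸ isClosed_closure)
  obtain ⟨x', hx', hne'⟩ : ∃ x' ∈ closure ({x} : Set X), x' ≠ x := by
    by_contra hcon
    push Not at hcon
    apply hcl
    apply Set.Subset.antisymm
    · intro z hz
      exact hcon z hz
    · exact subset_closure
  have hxx' : x ⤳ x' := specializes_iff_mem_closure.2 hx'
  let I : X → IrreducibleCloseds X := fun z =>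
    ⟨closure {z}, isIrreducible_singleton.closure, isClosed_closure⟩
  have key : ∀ {a b : X}, a ⤳ b → a ≠ b → I b < I a := by
    intro a b hab hne
    refine lt_of_le_of_ne ?_ ?_
    · change closure {b} ⊆ closure {a}
      exact hab.closure_subset
    · intro h
      have h' : closure ({b} : Set X) = closure {a} :=
        congrArg (fun J : IrreducibleCloseds X => (J : Set X)) h
      have hba : b ⤳ a := specializes_iff_closure_subset.2 h'.ge
      exact hne (hab.antisymm hba).eq
  have h1 : I x' < I x := key hxx' (Ne.symm hne')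
  have h2 : I x < I y := key hy hne
  let s : LTSeries (IrreducibleCloseds X) :=
    { length := 2
      toFun := ![I x', I x, I y]
      step := by
        intro i
        fin_cases i
        · exact h1
        · exact h2 }
  have h3 : (2 : WithBot ℕ∞) ≤ topologicalKrullDim X := Order.LTSeries.length_le_krullDim s
  have h4 : (2 : WithBot ℕ∞) ≤ 1 := h3.trans hdim
  exact absurd h4 (by decide)

/-- the support of a sheaf with vanishing generic stalks on a curve consists of closed points -/
theorem isClosed_of_mem_supp {C : Scheme.{u}} (hdim : topologicalKrullDim C ≤ 1)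
    (F : EtCoh.Ab C)
    (hgen : ∀ (Ω : Type u) [Field Ω] [IsSepClosed Ω] (ξ : Spec (CommRingCat.of Ω) ⟶ C),
      (∀ x ∈ Set.range ξ.base, ∀ y : C, y ⤳ x → y = x) → IsZero ((EtCoh.stalk ξ).obj F))
    (x : C) (hx : x ∈ EtPBC.supp F) : IsClosed ({x} : Set C) := by
  obtain ⟨Ω, _, _, ξ, hr, hnz⟩ := hx
  by_contra hcl
  apply hnz
  apply hgen Ω ξ
  intro x₀ hx₀ y hy
  have : x₀ = x := by
    have : x₀ ∈ ({x} : Set C) := hr ▸ hx₀
    exact this
  subst this
  exact eq_of_specializes_of_dim_le_one hdim hcl hy


section Abstract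

open Abelian

variable {A : Type u₁} [Category.{v₁} A] [Abelian A] [HasExt.{w} A]

theorem bijective_postcomp_g (X : A) {S : ShortComplex A} (hS : S.ShortExact) (n : ℕ)
    (h0 : Subsingleton (Ext.{w} X S.X₁ n)) (h1 : Subsingleton (Ext.{w} X S.X₁ (n + 1))) :
    Function.Bijective ((Ext.mk₀ S.g).postcomp X (add_zero n)) := by
  constructor
  · rw [injective_iff_map_eq_zero]
    intro x hx
    obtain ⟨y, rfl⟩ := Ext.covariant_sequence_exact₂ X hS x hx
    rw [Subsingleton.elim y 0, Ext.zero_comp]
  · intro z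
    exact Ext.covariant_sequence_exact₃ X hS z rfl (Subsingleton.elim _ _)

theorem bijective_postcomp_f (X : A) {S : ShortComplex A} (hS : S.ShortExact) (m : ℕ)
    (h0 : Subsingleton (Ext.{w} X S.X₃ m)) (h1 : Subsingleton (Ext.{w} X S.X₃ (m + 1))) :
    Function.Bijective ((Ext.mk₀ S.f).postcomp X (add_zero (m + 1))) := by
  constructor
  · rw [injective_iff_map_eq_zero]
    intro x hx
    obtain ⟨y, rfl⟩ := Ext.covariant_sequence_exact₁ X hS x hx rfl
    rw [Subsingleton.elim y 0, Ext.zero_comp]
  · intro z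
    exact Ext.covariant_sequence_exact₂ X hS z (Subsingleton.elim _ _)

end Abstract

section Et

variable {C : Scheme.{u}}

theorem isIso_HF_map_g (S : ShortComplex (EtCoh.Ab C)) (hS : S.ShortExact) (q : ℕ)
    (h0 : Subsingleton (EtCoh.H C S.X₁ q)) (h1 : Subsingleton (EtCoh.H C S.X₁ (q + 1))) :
    IsIso ((EtCoh.HF C q).map S.g) := by
  rw [ConcreteCategory.isIso_iff_bijective]
  exact bijective_postcomp_g _ hS q h0 h1

theorem isIso_HF_map_f (S : ShortComplex (EtCoh.Ab C)) (hS : S.ShortExact) (m : ℕ)
    (h0 : Subsingleton (EtCoh.H C S.X₃ m)) (h1 : Subsingleton (EtCoh.H C S.X₃ (m + 1))) :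
    IsIso ((EtCoh.HF C (m + 1)).map S.f) := by
  rw [ConcreteCategory.isIso_iff_bijective]
  exact bijective_postcomp_f _ hS m h0 h1

variable {k : Type u} [Field k] [IsSepClosed k]
  (f : C ⟶ Spec (CommRingCat.of k)) [LocallyOfFiniteType f] [QuasiCompact f]

include f in
theorem main (hdim : topologicalKrullDim C ≤ 1) {F G : EtCoh.Ab C} (φ : F ⟶ G)
    (hgen : ∀ (Ω : Type u) [Field Ω] [IsSepClosed Ω] (ξ : Spec (CommRingCat.of Ω) ⟶ C),
      (∀ x ∈ Set.range ξ.base, ∀ y : C, y ⤳ x → y = x) → IsIso ((EtCoh.stalk ξ).map φ)) :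
    (∀ q : ℕ, 1 < q → IsIso ((EtCoh.HF C q).map φ)) ∧ (Epi φ → IsIso ((EtCoh.HF C 1).map φ)) := by
  -- vanishing for kernel and cokernel
  have hK : ∀ q : ℕ, 0 < q → Subsingleton (EtCoh.H C (kernel φ) q) := by
    intro q hq
    refine Groth.Agent.S0171.result C f (kernel φ) (isClosed_of_mem_supp hdim _ ?_) q hq
    intro Ω _ _ ξ hξ
    haveI := hgen Ω ξ hξ
    exact IsZero.of_iso (isZero_kernel_of_mono ((EtCoh.stalk ξ).map φ))
      (PreservesKernel.iso (EtCoh.stalk ξ) φ)
  have hQ : ∀ q : ℕ, 0 < q → Subsingleton (EtCoh.H C (cokernel φ) q) := by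
    intro q hq
    refine Groth.Agent.S0171.result C f (cokernel φ) (isClosed_of_mem_supp hdim _ ?_) q hq
    intro Ω _ _ ξ hξ
    haveI := hgen Ω ξ hξ
    exact IsZero.of_iso (isZero_cokernel_of_epi ((EtCoh.stalk ξ).map φ))
      (PreservesCokernel.iso (EtCoh.stalk ξ) φ)
  -- the two short exact sequences
  let S1 : ShortComplex (EtCoh.Ab C) :=
    ShortComplex.mk (kernel.ι φ) (Abelian.factorThruImage φ) (by
      rw [← cancel_mono (Abelian.image.ι φ), Category.assoc, Abelian.image.fac, zero_comp,
        kernel.condition])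
  have hS1 : S1.ShortExact :=
    { exact := by
        rw [ShortComplex.exact_iff_exact_up_to_refinements]
        intro A x₂ hx₂
        change x₂ ≫ Abelian.factorThruImage φ = 0 at hx₂
        have h : x₂ ≫ φ = 0 := by
          rw [← Abelian.image.fac φ, ← Category.assoc, hx₂, zero_comp]
        exact ⟨A, 𝟙 A, inferInstance, kernel.lift φ x₂ h, by
          change 𝟙 A ≫ x₂ = kernel.lift φ x₂ h ≫ kernel.ι φ
          rw [kernel.lift_ι, Category.id_comp]⟩
      mono_f := (inferInstance : Mono (kernel.ι φ))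
      epi_g := (inferInstance : Epi (Abelian.factorThruImage φ)) }
  let S2 : ShortComplex (EtCoh.Ab C) :=
    ShortComplex.mk (Abelian.image.ι φ) (cokernel.π φ) (kernel.condition _)
  have hS2 : S2.ShortExact :=
    { exact := ShortComplex.exact_of_f_is_kernel S2 (kernelIsKernel (cokernel.π φ))
      mono_f := (inferInstance : Mono (Abelian.image.ι φ))
      epi_g := (inferInstance : Epi (cokernel.π φ)) }
  have hfac : ∀ q : ℕ, (EtCoh.HF C q).map φ =
      (EtCoh.HF C q).map (Abelian.factorThruImage φ) ≫ (EtCoh.HF C q).map (Abelian.image.ι φ) := by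
    intro q
    rw [← Functor.map_comp, Abelian.image.fac]
  have h1 : ∀ q : ℕ, 0 < q → IsIso ((EtCoh.HF C q).map (Abelian.factorThruImage φ)) :=
    fun q hq => isIso_HF_map_g S1 hS1 q (hK q hq) (hK (q + 1) (Nat.succ_pos q))
  constructor
  · intro q hq
    obtain ⟨m, rfl⟩ : ∃ m, q = m + 1 := ⟨q - 1, by omega⟩
    haveI := h1 (m + 1) (Nat.succ_pos m)
    haveI : IsIso ((EtCoh.HF C (m + 1)).map (Abelian.image.ι φ)) :=
      isIso_HF_map_f S2 hS2 m (hQ m (by omega)) (hQ (m + 1) (Nat.succ_pos m))
    rw [hfac]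
    infer_instance
  · intro hepi
    haveI := h1 1 Nat.one_pos
    haveI : IsIso (Abelian.image.ι φ) := by
      haveI : Epi (Abelian.image.ι φ) := by
        have : Epi (Abelian.factorThruImage φ ≫ Abelian.image.ι φ) := by
          rw [Abelian.image.fac]; exact hepi
        exact epi_of_epi (Abelian.factorThruImage φ) _
      exact isIso_of_mono_of_epi _
    rw [hfac]
    infer_instance

end Et

end Groth.Agent.Lib.Helper3.CurveGenericVanish
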