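import Mathlib

/-!
# Finitely presented algebras and direct limits of rings (helper3)

For a directed system `(G a, t)` of `A`-algebras with direct limit `L = DirectLimit G t`
(Mathlib's quotient-based `DirectLimit`), `Hom_A(R₀, -)` commutes with the direct limit when `R₀`
is a finitely presented `A`-algebra.
-/

set_option autoImplicit false
set_option linter.unusedSectionVars false

namespace Groth.Agent.Lib.Helper3

universe u

section

variable {A : Type u} [CommRing A] {κ : Type u} [Preorder κ] [IsDirectedOrder κ] [Nonempty κ]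
  (G : κ → Type u) [∀ a, CommRing (G a)] [∀ a, Algebra A (G a)]
  (t : ∀ a b : κ, a ≤ b → (G a →+* G b)) [DirectedSystem G (fun a b h => t a b h)]

/-- Elements of the direct limit come from a stage. -/
theorem DL.exists_of (z : DirectLimit G t) : ∃ a x, DirectLimit.Ring.of G t a x = z := by
  obtain ⟨a, x, rfl⟩ := DirectLimit.exists_eq_mk t z
  exact ⟨a, x, rfl⟩

theorem DL.of_t (a b : κ) (h : a ≤ b) (x : G a) :
    DirectLimit.Ring.of G t b (t a b h x) = DirectLimit.Ring.of G t a x := by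
  change (⟦⟨b, t a b h x⟩⟧ : DirectLimit G t) = ⟦⟨a, x⟩⟧
  exact DirectLimit.mk_apply (f := t) a b x h

theorem DL.of_eq_of_iff (a b : κ) (x : G a) (y : G b) :
    DirectLimit.Ring.of G t a x = DirectLimit.Ring.of G t b y ↔
      ∃ (c : κ) (ha : a ≤ c) (hb : b ≤ c), t a c ha x = t b c hb y := by
  change (⟦⟨a, x⟩⟧ : DirectLimit G t) = ⟦⟨b, y⟩⟧ ↔ _
  rw [Quotient.eq]
  rfl

theorem DL.of_eq_iff (a : κ) (x y : G a) :
    DirectLimit.Ring.of G t a x = DirectLimit.Ring.of G t a y ↔
      ∃ (c : κ) (ha : a ≤ c), t a c ha x = t a c ha y := by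
  rw [DL.of_eq_of_iff]
  constructor
  · rintro ⟨c, ha, hb, h⟩
    exact ⟨c, ha, h⟩
  · rintro ⟨c, ha, h⟩
    exact ⟨c, ha, ha, h⟩

theorem DL.t_t (a b c : κ) (hab : a ≤ b) (hbc : b ≤ c) (x : G a) :
    t b c hbc (t a b hab x) = t a c (hab.trans hbc) x :=
  DirectedSystem.map_map' (f := t) hab hbc x

end

section Alg

variable {A : Type u} [CommRing A] {κ : Type u} [Preorder κ] [IsDirectedOrder κ] [Nonempty κ]
  (G : κ → Type u) [∀ a, CommRing (G a)] [∀ a, Algebra A (G a)]
  (t : ∀ a b : κ, a ≤ b → (G a →+* G b)) [DirectedSystem G (fun a b h => t a b h)]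
  (ht : ∀ (a b : κ) (h : a ≤ b), (t a b h).comp (algebraMap A (G a)) = algebraMap A (G b))
  [Algebra A (DirectLimit G t)]
  (halg : ∀ (a : κ) (x : A), algebraMap A (DirectLimit G t) x =
    DirectLimit.Ring.of G t a (algebraMap A (G a) x))

/-- Transition maps as algebra maps. -/
def DL.tₐ (a b : κ) (h : a ≤ b) : G a →ₐ[A] G b :=
  { t a b h with commutes' := fun x => DFunLike.congr_fun (ht a b h) x }

/-- Structure maps as algebra maps. -/
noncomputable def DL.ofₐ (a : κ) : G a →ₐ[A] DirectLimit G t :=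
  { DirectLimit.Ring.of G t a with commutes' := fun x => (halg a x).symm }

omit [Nonempty κ] [(a : κ) → Algebra A (G a)] in
theorem DL.exists_ge_finite {ι : Type*} [Finite ι] (a : κ) (f : ι → κ) :
    ∃ b, a ≤ b ∧ ∀ i, f i ≤ b := by
  have : Nonempty κ := ⟨a⟩
  obtain ⟨M, hM⟩ := Finite.exists_le (fun o : Option ι => o.elim a f)
  exact ⟨M, hM none, fun i => hM (some i)⟩

variable {R₀ : Type u} [CommRing R₀] [Algebra A R₀]

include ht halg in
/-- Injectivity part: two maps from a finite type algebra to a stage which agree in the limit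
agree at a later stage. -/
theorem DL.exists_comp_eq_of_finiteType [Algebra.FiniteType A R₀] (a : κ) (φ ψ : R₀ →ₐ[A] G a)
    (h : ∀ x, DirectLimit.Ring.of G t a (φ x) = DirectLimit.Ring.of G t a (ψ x)) :
    ∃ (b : κ) (hab : a ≤ b), ∀ x, t a b hab (φ x) = t a b hab (ψ x) := by
  obtain ⟨n, f, hf⟩ := Algebra.FiniteType.iff_quotient_mvPolynomial''.mp
    (inferInstance : Algebra.FiniteType A R₀)
  have h1 : ∀ i : Fin n, ∃ (c : κ) (hc : a ≤ c),
      t a c hc (φ (f (MvPolynomial.X i))) = t a c hc (ψ (f (MvPolynomial.X i))) :=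
    fun i => (DL.of_eq_iff G t a _ _).mp (h _)
  choose c hc hceq using h1
  obtain ⟨b, hab, hb⟩ := DL.exists_ge_finite a c
  refine ⟨b, hab, ?_⟩
  have h2 : ((DL.tₐ G t ht a b hab).comp φ).comp f = ((DL.tₐ G t ht a b hab).comp ψ).comp f := by
    apply MvPolynomial.algHom_ext
    intro i
    change t a b hab (φ (f (MvPolynomial.X i))) = t a b hab (ψ (f (MvPolynomial.X i)))
    rw [← DL.t_t G t a (c i) b (hc i) (hb i), ← DL.t_t G t a (c i) b (hc i) (hb i), hceq]
  intro x
  obtain ⟨y, rfl⟩ := hf x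
  exact DFunLike.congr_fun h2 y

include ht halg in
/-- Surjectivity part: a map from a finitely presented algebra to the limit factors through a
stage. -/
theorem DL.exists_factor_of_finitePresentation [Algebra.FinitePresentation A R₀]
    (χ : R₀ →ₐ[A] DirectLimit G t) :
    ∃ (b : κ) (φ : R₀ →ₐ[A] G b), ∀ x, DirectLimit.Ring.of G t b (φ x) = χ x := by
  classical
  obtain ⟨n, f, hf, hker⟩ := Algebra.FinitePresentation.out (R := A) (A := R₀)
  -- lift the images of the variables
  have h1 : ∀ i : Fin n, ∃ (c : κ) (y : G c),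
      DirectLimit.Ring.of G t c y = χ (f (MvPolynomial.X i)) := fun i => DL.exists_of G t _
  choose c y hy using h1
  obtain ⟨a, -, ha⟩ := DL.exists_ge_finite (Classical.arbitrary κ) c
  let ψ : MvPolynomial (Fin n) A →ₐ[A] G a := MvPolynomial.aeval (fun i => t (c i) a (ha i) (y i))
  have hψ : (DL.ofₐ G t halg a).comp ψ = χ.comp f := by
    apply MvPolynomial.algHom_ext
    intro i
    change DirectLimit.Ring.of G t a (ψ (MvPolynomial.X i)) = χ (f (MvPolynomial.X i))
    rw [MvPolynomial.aeval_X, DL.of_t, hy]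
  -- kill the relations
  obtain ⟨s, hs⟩ := hker
  have h2 : ∀ g : s, ∃ (d : κ) (hd : a ≤ d), t a d hd (ψ g.1) = 0 := by
    intro g
    have hg : f g.1 = 0 := by
      have : g.1 ∈ RingHom.ker f.toRingHom := hs ▸ Ideal.subset_span g.2
      exact this
    have h3 : DirectLimit.Ring.of G t a (ψ g.1) = DirectLimit.Ring.of G t a 0 := by
      have := DFunLike.congr_fun hψ g.1
      change DirectLimit.Ring.of G t a (ψ g.1) = χ (f g.1) at this
      rw [this, hg, map_zero, map_zero]
    obtain ⟨d, hd, h4⟩ := (DL.of_eq_iff G t a _ _).mp h3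
    exact ⟨d, hd, by rw [h4, map_zero]⟩
  choose d hd hdeq using h2
  obtain ⟨b, hab, hb⟩ := DL.exists_ge_finite a d
  let ψ' : MvPolynomial (Fin n) A →ₐ[A] G b := (DL.tₐ G t ht a b hab).comp ψ
  have hψ'ker : ∀ x ∈ RingHom.ker f.toRingHom, ψ' x = 0 := by
    intro x hx
    have hle : RingHom.ker f.toRingHom ≤ RingHom.ker ψ'.toRingHom := by
      rw [← hs, Ideal.span_le]
      intro g hg
      change ψ' g = 0
      change t a b hab (ψ g) = 0
      rw [← DL.t_t G t a (d ⟨g, hg⟩) b (hd ⟨g, hg⟩) (hb ⟨g, hg⟩), hdeq ⟨g, hg⟩, map_zero]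
    exact hle hx
  let φ : R₀ →ₐ[A] G b :=
    (Ideal.Quotient.liftₐ (RingHom.ker f.toRingHom) ψ' hψ'ker).comp
      (Ideal.quotientKerAlgEquivOfSurjective hf).symm.toAlgHom
  refine ⟨b, φ, ?_⟩
  intro x
  obtain ⟨p, rfl⟩ := hf x
  have h5 : φ (f p) = ψ' p := by
    change Ideal.Quotient.liftₐ (RingHom.ker f.toRingHom) ψ' hψ'ker
      ((Ideal.quotientKerAlgEquivOfSurjective hf).symm (f p)) = ψ' p
    have : (Ideal.quotientKerAlgEquivOfSurjective hf).symm (f p) =
        Ideal.Quotient.mk _ p := by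
      rw [AlgEquiv.symm_apply_eq]
      rfl
    rw [this]
    rfl
  rw [h5]
  change DirectLimit.Ring.of G t b (t a b hab (ψ p)) = χ (f p)
  rw [DL.of_t]
  exact DFunLike.congr_fun hψ p

end Alg

end Groth.Agent.Lib.Helper3
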