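import Groth.Agent.Lib.Helper3.QFLocal
import Groth.Agent.Lib.Helper3.FiniteEtaleHom
import Groth.Agent.Lib.Helper3.FiniteEtaleLift
import Groth.Agent.Lib.Helper3.CompleteFinite
import Groth.Agent.Lib.Helper3.SplitAlg

set_option autoImplicit false
set_option linter.style.haveILetI false
set_option linter.unusedSectionVars false
universe u

open TensorProduct IsLocalRing

namespace Groth.Agent.Lib.Helper3

/-- Finite étale algebras over a henselian pair with isomorphic reductions are isomorphic. -/
theorem nonempty_algEquiv_of_finite_etale_of_reduction {A : Type u} [CommRing A] (I : Ideal A)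
    [HenselianRing A I] (B₁ B₂ : Type u) [CommRing B₁] [CommRing B₂] [Algebra A B₁] [Algebra A B₂]
    [Module.Finite A B₁] [Algebra.Etale A B₁] [Module.Finite A B₂] [Algebra.Etale A B₂]
    (e : (A ⧸ I) ⊗[A] B₁ ≃ₐ[A ⧸ I] (A ⧸ I) ⊗[A] B₂) : Nonempty (B₁ ≃ₐ[A] B₂) := by
  obtain ⟨φ, hφ⟩ := (bijective_tensorProduct_map_of_finite_etale I B₁ B₂).2 e.toAlgHom
  obtain ⟨ψ, hψ⟩ := (bijective_tensorProduct_map_of_finite_etale I B₂ B₁).2 e.symm.toAlgHom
  simp only at hφ hψ
  have h1 : ψ.comp φ = AlgHom.id A B₁ := by
    apply (bijective_tensorProduct_map_of_finite_etale I B₁ B₁).1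
    simp only
    rw [← AlgHom.comp_id (AlgHom.id (A ⧸ I) (A ⧸ I)), Algebra.TensorProduct.map_comp, hφ, hψ,
      AlgHom.comp_id, Algebra.TensorProduct.map_id]
    ext x
    simp
  have h2 : φ.comp ψ = AlgHom.id A B₂ := by
    apply (bijective_tensorProduct_map_of_finite_etale I B₂ B₂).1
    simp only
    rw [← AlgHom.comp_id (AlgHom.id (A ⧸ I) (A ⧸ I)), Algebra.TensorProduct.map_comp, hφ, hψ,
      AlgHom.comp_id, Algebra.TensorProduct.map_id]
    ext x
    simp
  exact ⟨AlgEquiv.ofAlgHom φ ψ h2 h1⟩

/-- A finite local ring extension `S` of a local ring `R` such that `A ⊗[R] S` is local, for a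
local `R`-algebra `A` with local structure map, is local. -/
theorem isLocalRing_of_isLocalRing_tensor (R A S : Type u) [CommRing R] [IsLocalRing R]
    [CommRing A] [IsLocalRing A] [Algebra R A] [IsLocalHom (algebraMap R A)] [CommRing S]
    [Algebra R S] [Module.Finite R S] [Nontrivial S] [IsLocalRing (A ⊗[R] S)] : IsLocalRing S := by
  have hint : Algebra.IsIntegral R S := Algebra.IsIntegral.of_finite R S
  let n₀ : Ideal S := (maximalIdeal (A ⊗[R] S)).comap
    (Algebra.TensorProduct.includeRight : S →ₐ[R] A ⊗[R] S).toRingHom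
  have hn₀ : n₀.IsPrime := Ideal.comap_isPrime _ _
  have key : ∀ n : Ideal S, n.IsMaximal → n = n₀ := by
    intro n hn
    have hnp : n.IsPrime := hn.isPrime
    have h1 : (n.comap (algebraMap R S)).IsMaximal :=
      Ideal.isMaximal_comap_of_isIntegral_of_isMaximal n
    have h2 : n.comap (algebraMap R S) = maximalIdeal R := IsLocalRing.eq_maximalIdeal h1
    have h3 : (maximalIdeal A).comap (algebraMap R A) = maximalIdeal R :=
      ((local_hom_TFAE (algebraMap R A)).out 0 4 rfl rfl).mp inferInstance
    obtain ⟨Q, hQ, hQl, hQr⟩ := exists_prime_tensorProduct_comap_eq (R := R) (maximalIdeal A) n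
      (by rw [Ideal.under, Ideal.under, h2, h3])
    have hQle : Q ≤ maximalIdeal (A ⊗[R] S) := le_maximalIdeal hQ.ne_top
    have hle : n ≤ n₀ := by
      rw [← hQr]
      exact Ideal.comap_mono hQle
    exact hn.eq_of_le hn₀.ne_top hle
  obtain ⟨M₀, hM₀⟩ := Ideal.exists_maximal S
  exact IsLocalRing.of_unique_max_ideal
    ⟨M₀, hM₀, fun M hM => (key M hM).trans (key M₀ hM₀).symm⟩

/-- Over a henselian local ring `A` whose residue field agrees with that of a local ring `R`
mapping to `A`, every finite étale local `A`-algebra is the base change of a finite étale local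
`R`-algebra. -/
theorem exists_finite_etale_tensor_equiv (R A : Type u) [CommRing R] [IsLocalRing R] [CommRing A]
    [HenselianLocalRing A] [Algebra R A] [IsLocalHom (algebraMap R A)]
    (hres : Function.Bijective (ResidueField.map (algebraMap R A)))
    (L : Type u) [CommRing L] [IsLocalRing L] [Algebra A L] [Module.Finite A L]
    [Algebra.Etale A L] :
    ∃ (S : Type u) (_ : CommRing S) (_ : IsLocalRing S) (_ : Algebra R S),
      Module.Finite R S ∧ Algebra.Etale R S ∧ Nonempty (L ≃ₐ[A] A ⊗[R] S) := by
  have hbij : Function.Bijective (algebraMap (ResidueField R) (ResidueField A)) := hres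
  -- the reduction of `L`, as an algebra over the residue field of `R`
  haveI : Module.Finite (ResidueField R) (ResidueField A) :=
    Module.Finite.of_surjective (Algebra.linearMap (ResidueField R) (ResidueField A)) hbij.2
  haveI : Module.Finite (ResidueField R) (ResidueField A ⊗[A] L) :=
    Module.Finite.trans (ResidueField A) _
  haveI : Algebra.Etale (ResidueField R) (ResidueField A) :=
    Algebra.Etale.of_equiv (AlgEquiv.ofBijective (Algebra.ofId (ResidueField R) (ResidueField A))
      hbij)
  haveI : Algebra.Etale (ResidueField R) (ResidueField A ⊗[A] L) :=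
    Algebra.Etale.comp (ResidueField R) (ResidueField A) _
  obtain ⟨S, _, _, hfin, het, ⟨e₀⟩⟩ := exists_finite_etale_lift_of_local R (ResidueField A ⊗[A] L)
  -- the comparison of reductions
  let c₁ : ResidueField A ⊗[A] (A ⊗[R] S) ≃ₐ[ResidueField A] ResidueField A ⊗[R] S :=
    Algebra.TensorProduct.cancelBaseChange R A (ResidueField A) (ResidueField A) S
  let c₂ : ResidueField A ⊗[ResidueField R] (ResidueField R ⊗[R] S) ≃ₐ[ResidueField A]
      ResidueField A ⊗[R] S :=
    Algebra.TensorProduct.cancelBaseChange R (ResidueField R) (ResidueField A) (ResidueField A) S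
  let c₃ : ResidueField A ⊗[ResidueField R] (ResidueField R ⊗[R] S) ≃ₐ[ResidueField A]
      ResidueField A ⊗[ResidueField R] (ResidueField A ⊗[A] L) :=
    Algebra.TensorProduct.congr AlgEquiv.refl e₀
  let μ : ResidueField A ⊗[ResidueField R] (ResidueField A ⊗[A] L) →ₐ[ResidueField A]
      ResidueField A ⊗[A] L :=
    Algebra.TensorProduct.lift (Algebra.ofId (ResidueField A) (ResidueField A ⊗[A] L))
      (AlgHom.id (ResidueField R) (ResidueField A ⊗[A] L)) (fun _ _ => Commute.all _ _)
  have hμ : Function.Bijective μ := by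
    have hμt : ∀ a x, μ (a ⊗ₜ x) = a • x := by
      intro a x
      simp [μ, Algebra.smul_def, Algebra.ofId_apply]
    have hinc : ∀ y : ResidueField A ⊗[ResidueField R] (ResidueField A ⊗[A] L),
        ∃ x, y = (1 : ResidueField A) ⊗ₜ x := by
      intro y
      induction y using TensorProduct.induction_on with
      | zero => exact ⟨0, by simp⟩
      | tmul a x =>
        obtain ⟨r, rfl⟩ := hbij.2 a
        refine ⟨r • x, ?_⟩
        rw [Algebra.algebraMap_eq_smul_one, TensorProduct.smul_tmul]
      | add y₁ y₂ h₁ h₂ =>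
        obtain ⟨x₁, rfl⟩ := h₁
        obtain ⟨x₂, rfl⟩ := h₂
        exact ⟨x₁ + x₂, by rw [TensorProduct.tmul_add]⟩
    constructor
    · intro y y' hyy'
      obtain ⟨x, rfl⟩ := hinc y
      obtain ⟨x', rfl⟩ := hinc y'
      rw [hμt, hμt, one_smul, one_smul] at hyy'
      rw [hyy']
    · intro x
      exact ⟨1 ⊗ₜ x, by rw [hμt, one_smul]⟩
  let c₄ : ResidueField A ⊗[ResidueField R] (ResidueField A ⊗[A] L) ≃ₐ[ResidueField A]
      ResidueField A ⊗[A] L := AlgEquiv.ofBijective μ hμ
  let ē : ResidueField A ⊗[A] (A ⊗[R] S) ≃ₐ[ResidueField A] ResidueField A ⊗[A] L :=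
    c₁.trans (c₂.symm.trans (c₃.trans c₄))
  obtain ⟨E⟩ := nonempty_algEquiv_of_finite_etale_of_reduction (maximalIdeal A) (A ⊗[R] S) L ē
  haveI : IsLocalRing (A ⊗[R] S) := E.symm.toRingEquiv.isLocalRing
  haveI : Nontrivial S := by
    by_contra hS
    rw [not_nontrivial_iff_subsingleton] at hS
    have : Subsingleton (A ⊗[R] S) := by
      refine ⟨fun x y => ?_⟩
      have h0 : ∀ z : A ⊗[R] S, z = 0 := by
        intro z
        induction z using TensorProduct.induction_on with
        | zero => rfl
        | tmul a s => rw [Subsingleton.elim s 0, TensorProduct.tmul_zero]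
        | add z₁ z₂ h₁ h₂ => rw [h₁, h₂, add_zero]
      rw [h0 x, h0 y]
    exact not_subsingleton (A ⊗[R] S) this
  haveI : IsLocalRing S := isLocalRing_of_isLocalRing_tensor R A S
  exact ⟨S, inferInstance, inferInstance, inferInstance, hfin, het, ⟨E.symm⟩⟩

end Groth.Agent.Lib.Helper3
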