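import Mathlib
import Groth.Prelude.Def_Hensel
import Groth.Prelude.Def_EssEt
import Groth.Agent.Lib.Helper9.Hens.NoetherianHens
import Groth.Agent.Lib.Helper9.HensK.StrictUnique

/-!
# Essentially étale local subalgebras of a flat local algebra

Given a flat local algebra `S` over a local ring `A` (local structure map), an étale `A`-algebra
`E₀` and an `A`-algebra map `φ : E₀ → S`, the localisation of `E₀` at the preimage of the maximal
ideal of `S` embeds into `S`; its image is a local essentially étale subalgebra of `S`.
-/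

set_option autoImplicit false
set_option linter.style.haveILetI false
set_option linter.unusedSectionVars false

universe u

namespace Groth.Agent.Lib.Helper3.EssEtaleSub

open IsLocalRing

section Core

variable {A S E₀ : Type u} [CommRing A] [IsLocalRing A] [CommRing S] [IsLocalRing S] [Algebra A S]
  [IsLocalHom (algebraMap A S)] [CommRing E₀] [Algebra A E₀] (φ : E₀ →ₐ[A] S)

/-- The preimage of the maximal ideal of `S` in `E₀`. -/
def primeOf : Ideal E₀ := (maximalIdeal S).comap φ.toRingHom

instance primeOf_isPrime : (primeOf φ).IsPrime := by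
  unfold primeOf
  exact Ideal.comap_isPrime _ _

theorem mem_primeOf_iff (x : E₀) : x ∈ primeOf φ ↔ ¬ IsUnit (φ x) := by
  unfold primeOf
  rw [Ideal.mem_comap]
  exact mem_maximalIdeal _

theorem comap_primeOf : (primeOf φ).comap (algebraMap A E₀) = maximalIdeal A := by
  unfold primeOf
  rw [Ideal.comap_comap]
  have h1 : (φ.toRingHom).comp (algebraMap A E₀) = algebraMap A S := φ.comp_algebraMap
  rw [h1]
  exact ((IsLocalRing.local_hom_TFAE (algebraMap A S)).out 0 4).mp ‹IsLocalHom (algebraMap A S)›

theorem isUnit_of_primeCompl (y : (primeOf φ).primeCompl) : IsUnit (φ y) := by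
  by_contra h
  exact y.2 ((mem_primeOf_iff φ _).mpr h)

/-- The extension of `φ` to the localisation at `primeOf φ`. -/
noncomputable def locLift : Localization.AtPrime (primeOf φ) →ₐ[A] S :=
  IsLocalization.liftAlgHom (M := (primeOf φ).primeCompl) (f := φ) (isUnit_of_primeCompl φ)

theorem locLift_algebraMap (x : E₀) :
    locLift φ (algebraMap E₀ (Localization.AtPrime (primeOf φ)) x) = φ x := by
  unfold locLift
  rw [IsLocalization.liftAlgHom_apply]
  exact IsLocalization.lift_eq _ _

theorem locLift_mk' (a : E₀) (s : (primeOf φ).primeCompl) :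
    locLift φ (IsLocalization.mk' (Localization.AtPrime (primeOf φ)) a s) * φ s = φ a := by
  rw [← locLift_algebraMap φ (s : E₀), ← map_mul, IsLocalization.mk'_spec, locLift_algebraMap]

theorem comap_locLift :
    (maximalIdeal S).comap (locLift φ).toRingHom = maximalIdeal (Localization.AtPrime (primeOf φ)) := by
  have h1 : ((maximalIdeal S).comap (locLift φ).toRingHom).under E₀ = primeOf φ := by
    rw [Ideal.under_def, Ideal.comap_comap]
    have : (locLift φ).toRingHom.comp (algebraMap E₀ (Localization.AtPrime (primeOf φ)))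
        = φ.toRingHom := by
      ext x
      exact locLift_algebraMap φ x
    rw [this]
    rfl
  have h2 : (maximalIdeal (Localization.AtPrime (primeOf φ))).under E₀ = primeOf φ :=
    Localization.AtPrime.under_maximalIdeal
  have h3 := IsLocalization.map_under (primeOf φ).primeCompl (Localization.AtPrime (primeOf φ))
    ((maximalIdeal S).comap (locLift φ).toRingHom)
  have h4 := IsLocalization.map_under (primeOf φ).primeCompl (Localization.AtPrime (primeOf φ))
    (maximalIdeal (Localization.AtPrime (primeOf φ)))
  rw [← h3, ← h4]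
  exact congrArg _ (h1.trans h2.symm)

theorem isLocalHom_locLift : IsLocalHom (locLift φ).toRingHom :=
  ((IsLocalRing.local_hom_TFAE (locLift φ).toRingHom).out 0 4).mpr (comap_locLift φ)

theorem isUnit_of_isUnit_locLift (x : Localization.AtPrime (primeOf φ))
    (hx : IsUnit (locLift φ x)) : IsUnit x := by
  have := isLocalHom_locLift φ
  exact this.map_nonunit x hx

theorem locLift_injective [Module.Flat A S] [Algebra.Etale A E₀] :
    Function.Injective (locLift φ) := by
  letI : Algebra E₀ S := φ.toRingHom.toAlgebra
  haveI : IsScalarTower A E₀ S := IsScalarTower.of_algebraMap_eq (fun r => (φ.commutes r).symm)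
  haveI : Module.Flat E₀ S := Groth.Agent.Lib.Helper9.flat_of_etale_of_flat A E₀ S
  letI : Algebra (Localization.AtPrime (primeOf φ)) S := (locLift φ).toRingHom.toAlgebra
  haveI : IsScalarTower E₀ (Localization.AtPrime (primeOf φ)) S :=
    IsScalarTower.of_algebraMap_eq (fun r => (locLift_algebraMap φ r).symm)
  haveI : Module.Flat (Localization.AtPrime (primeOf φ)) S :=
    (Module.flat_iff_of_isLocalization (Localization.AtPrime (primeOf φ))
      (primeOf φ).primeCompl S).mpr inferInstance
  haveI : IsLocalHom (algebraMap (Localization.AtPrime (primeOf φ)) S) := isLocalHom_locLift φ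
  haveI : Module.FaithfullyFlat (Localization.AtPrime (primeOf φ)) S :=
    Module.FaithfullyFlat.of_flat_of_isLocalHom
  exact FaithfulSMul.algebraMap_injective (Localization.AtPrime (primeOf φ)) S

theorem range_le_range_locLift : φ.range ≤ (locLift φ).range := by
  rintro _ ⟨x, rfl⟩
  exact ⟨algebraMap E₀ _ x, locLift_algebraMap φ x⟩

theorem mem_range_locLift_iff (x : S) :
    x ∈ (locLift φ).range ↔ ∃ a s : E₀, IsUnit (φ s) ∧ x * φ s = φ a := by
  constructor
  · rintro ⟨y, rfl⟩
    obtain ⟨a, s, rfl⟩ := IsLocalization.exists_mk'_eq (primeOf φ).primeCompl y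
    exact ⟨a, s, isUnit_of_primeCompl φ s, locLift_mk' φ a s⟩
  · rintro ⟨a, s, hs, h⟩
    have hs' : s ∈ (primeOf φ).primeCompl := fun hmem => ((mem_primeOf_iff φ s).mp hmem) hs
    refine ⟨IsLocalization.mk' (Localization.AtPrime (primeOf φ)) a ⟨s, hs'⟩, ?_⟩
    have := locLift_mk' φ a ⟨s, hs'⟩
    exact hs.mul_right_cancel (this.trans h.symm)

theorem exists_inv_mem_range_locLift (b : S) (hb : b ∈ (locLift φ).range) (hu : IsUnit b) :
    ∃ c ∈ (locLift φ).range, b * c = 1 := by
  obtain ⟨y, rfl⟩ := hb
  have hy : IsUnit y := isUnit_of_isUnit_locLift φ y hu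
  obtain ⟨z, hz⟩ := hy.exists_right_inv
  refine ⟨locLift φ z, ⟨z, rfl⟩, ?_⟩
  change locLift φ y * locLift φ z = 1
  rw [← map_mul, hz, map_one]

/-- The range of `locLift φ` is a local, essentially étale `A`-algebra. -/
theorem isEssentiallyEtale_of_algEquiv_loc [Algebra.Etale A E₀] (B : Type u) [CommRing B]
    [Algebra A B] (e : B ≃ₐ[A] Localization.AtPrime (primeOf φ)) :
    EGA4loc.IsEssentiallyEtale A B :=
  ⟨E₀, inferInstance, inferInstance, primeOf φ, inferInstance, inferInstance, comap_primeOf φ, ⟨e⟩⟩

theorem range_locLift_spec [Module.Flat A S] [Algebra.Etale A E₀] :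
    ∃ _ : IsLocalRing (locLift φ).range, EGA4loc.IsEssentiallyEtale A (locLift φ).range := by
  let e : Localization.AtPrime (primeOf φ) ≃ₐ[A] (locLift φ).range :=
    AlgEquiv.ofInjective (locLift φ) (locLift_injective φ)
  exact ⟨e.toRingEquiv.isLocalRing, isEssentiallyEtale_of_algEquiv_loc φ _ e.symm⟩

end Core

end Groth.Agent.Lib.Helper3.EssEtaleSub
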