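import Groth.Agent.Lib.Helper3.EssEtaleSub

/-!
# Unramified essentially finite type local subalgebras of a strict henselization are
essentially étale
-/

set_option autoImplicit false
set_option linter.style.haveILetI false
set_option linter.unusedSectionVars false

universe u

namespace Groth.Agent.Lib.Helper3.EssEtaleSub

open IsLocalRing

section Unram

variable {A S : Type u} [CommRing A] [IsLocalRing A] [CommRing S] [IsLocalRing S] [Algebra A S]
  [IsLocalHom (algebraMap A S)] (D : Subalgebra A S) [IsLocalRing D] [IsLocalHom (algebraMap D S)]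

include D in
theorem isLocalHom_algebraMap_subalgebra : IsLocalHom (algebraMap A D) := by
  have h : (algebraMap D S).comp (algebraMap A D) = algebraMap A S := rfl
  haveI : IsLocalHom ((algebraMap D S).comp (algebraMap A D)) := by
    rw [h]; infer_instance
  exact isLocalHom_of_comp (algebraMap A D) (algebraMap D S)

theorem isUnit_of_isUnit_val (d : D) (h : IsUnit (d : S)) : IsUnit d :=
  (‹IsLocalHom (algebraMap D S)›).map_nonunit d h

/-- Key structural statement: a local subalgebra `D ⊆ S`, dominated by `S` (flat local over `A`),
essentially of finite type and formally unramified over `A`, is essentially étale. -/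
theorem isEssentiallyEtale_of_formallyUnramified [Module.Flat A S] [Algebra.EssFiniteType A D]
    [Algebra.FormallyUnramified A D] : EGA4loc.IsEssentiallyEtale A D := by
  classical
  -- the finite type model
  let D₀ : Subalgebra A D := Algebra.EssFiniteType.subalgebra A D
  let M : Submonoid D₀ := Algebra.EssFiniteType.submonoid A D
  haveI : IsLocalization M D := Algebra.EssFiniteType.isLocalization A D
  let q : Ideal D₀ := (maximalIdeal D).comap (algebraMap D₀ D)
  haveI hq : q.IsPrime := Ideal.comap_isPrime _ _
  have hM : M = q.primeCompl := by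
    ext x
    change IsUnit (algebraMap D₀ D x) ↔ x ∉ q
    rw [Ideal.mem_comap, mem_maximalIdeal, mem_nonunits_iff, not_not]
  haveI : IsLocalization.AtPrime D q := by
    change IsLocalization q.primeCompl D
    rw [← hM]; infer_instance
  -- unramified at `q`
  let e₀ : D ≃ₐ[D₀] Localization.AtPrime q :=
    IsLocalization.algEquiv q.primeCompl D (Localization.AtPrime q)
  haveI : Algebra.IsUnramifiedAt A q :=
    Algebra.FormallyUnramified.of_equiv (e₀.restrictScalars A)
  obtain ⟨f, hfq, P, ψ, hψ⟩ :=
    Algebra.IsUnramifiedAt.exists_hasStandardEtaleSurjectionOn (R := A) q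
  -- the map `D₀[1/f] → D`
  have hfu : IsUnit (algebraMap D₀ D f) := by
    by_contra h
    exact hfq (by rw [Ideal.mem_comap]; exact (mem_maximalIdeal _).mpr h)
  have hpow : ∀ y : Submonoid.powers f, IsUnit ((IsScalarTower.toAlgHom A D₀ D) y) := by
    rintro ⟨y, n, rfl⟩
    change IsUnit (algebraMap D₀ D (f ^ n))
    rw [map_pow]
    exact hfu.pow n
  let g : Localization.Away f →ₐ[A] D :=
    IsLocalization.liftAlgHom (M := Submonoid.powers f) (f := IsScalarTower.toAlgHom A D₀ D) hpow
  have hg : ∀ x : D₀, g (algebraMap D₀ (Localization.Away f) x) = algebraMap D₀ D x := by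
    intro x
    change IsLocalization.liftAlgHom (M := Submonoid.powers f)
      (f := IsScalarTower.toAlgHom A D₀ D) hpow _ = _
    rw [IsLocalization.liftAlgHom_apply]
    exact IsLocalization.lift_eq _ _
  let φ : P.Ring →ₐ[A] S := D.val.comp (g.comp ψ)
  have hφD : ∀ x : P.Ring, φ x = ((g (ψ x) : D) : S) := fun x => rfl
  -- the range of `locLift φ` is `D`
  have hrange : D = (locLift φ).range := by
    apply le_antisymm
    · intro d hd
      obtain ⟨⟨a, t⟩, hat⟩ := IsLocalization.surj M (⟨d, hd⟩ : D)
      obtain ⟨a', ha'⟩ := hψ (algebraMap D₀ (Localization.Away f) a)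
      obtain ⟨t', ht'⟩ := hψ (algebraMap D₀ (Localization.Away f) (t : D₀))
      have hφa : φ a' = ((algebraMap D₀ D a : D) : S) := by rw [hφD, ha', hg]
      have hφt : φ t' = ((algebraMap D₀ D (t : D₀) : D) : S) := by rw [hφD, ht', hg]
      have htu : IsUnit (algebraMap D₀ D (t : D₀)) := t.2
      rw [mem_range_locLift_iff]
      refine ⟨a', t', ?_, ?_⟩
      · rw [hφt]; exact htu.map D.val
      · rw [hφt, hφa]
        have := congrArg (fun z : D => (z : S)) hat
        exact this
    · intro x hx
      rw [mem_range_locLift_iff] at hx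
      obtain ⟨a, s, hs, h⟩ := hx
      rw [hφD] at hs h
      rw [hφD] at h
      have hsu : IsUnit (g (ψ s)) := isUnit_of_isUnit_val D _ hs
      obtain ⟨c, hc⟩ := hsu.exists_right_inv
      have hx' : x = ((g (ψ a) * c : D) : S) := by
        have hc' : ((g (ψ s) : D) : S) * (c : S) = 1 := by
          have := congrArg (fun z : D => (z : S)) hc
          exact this
        calc x = x * (((g (ψ s) : D) : S) * (c : S)) := by rw [hc', mul_one]
          _ = (x * ((g (ψ s) : D) : S)) * (c : S) := by ring
          _ = ((g (ψ a) : D) : S) * (c : S) := by rw [h]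
          _ = ((g (ψ a) * c : D) : S) := rfl
      rw [hx']
      exact (g (ψ a) * c).2
  let e : D ≃ₐ[A] Localization.AtPrime (primeOf φ) :=
    (Subalgebra.equivOfEq D (locLift φ).range hrange).trans
      (AlgEquiv.ofInjective (locLift φ) (locLift_injective φ)).symm
  exact isEssentiallyEtale_of_algEquiv_loc φ D e

end Unram

end Groth.Agent.Lib.Helper3.EssEtaleSub
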