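import Groth.Agent.Lib.Helper3.NormalSepClosedEtale
import Groth.Agent.S10853

/-!
# Étale morphisms to a scheme with strictly henselian local rings are local isomorphisms

Variant of `NormalSepClosedEtale.exists_opens_isOpenImmersion_of_henselian_stalk` without the
germ-injectivity hypothesis: the spreading out is done with the finite presentation version
`Groth.Agent.S10853.spread_out_of_lfp` (helper55).
-/

set_option linter.style.haveILetI false
set_option linter.unusedSectionVars false
set_option autoImplicit false

universe u

open CategoryTheory CategoryTheory.Limits AlgebraicGeometry Opposite IsLocalRing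

namespace Groth.Agent.Lib.Helper3.EtaleLocalIsoSH

open Groth.Agent.Lib.Helper3 Groth.Agent.Lib.Helper3.NormalSepClosedEtale

set_option backward.isDefEq.respectTransparency.types false in
/-- Spreading out a morphism from the spectrum of a local ring, finite presentation version
(primed form of `Groth.Agent.S10853.spread_out_of_lfp`). -/
theorem spread_out_of_lfp' {X Y S : Scheme.{u}} (sX : X ⟶ S) (sY : Y ⟶ S)
    [LocallyOfFinitePresentation sY] {x : X}
    (φ : Spec (X.presheaf.stalk x) ⟶ Y)
    (h : φ ≫ sY = X.fromSpecStalk x ≫ sX) :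
    ∃ (U : X.Opens) (hxU : x ∈ U) (f : U.toScheme ⟶ Y),
      φ = U.fromSpecStalkOfMem x hxU ≫ f ∧ f ≫ sY = U.ι ≫ sX := by
  have := Groth.Agent.S10853.spread_out_of_lfp sX sY ?_ (Scheme.stalkClosedPointTo φ) ?_
  · simpa only [Scheme.Spec_stalkClosedPointTo_fromSpecStalk] using this
  · rw [← Scheme.Hom.comp_apply, h, Scheme.Hom.comp_apply, Scheme.fromSpecStalk_closedPoint]
  · apply Spec.map_injective
    rw [← cancel_mono (S.fromSpecStalk _)]
    simpa only [Spec.map_comp, Category.assoc, Scheme.SpecMap_stalkMap_fromSpecStalk,
      Scheme.Spec_stalkClosedPointTo_fromSpecStalk_assoc,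
      Scheme.SpecMap_stalkSpecializes_fromSpecStalk]

/-- **Local structure.** Let `g : U ⟶ X` be étale, `u : U`, and suppose the local ring of `X` at
`g u` is henselian with separably closed residue field.  Then `g` is an open immersion on a
neighbourhood of `u` (no germ-injectivity needed). -/
theorem exists_opens_isOpenImmersion_of_henselian_stalk' {U X : Scheme.{u}} (g : U ⟶ X) [Etale g]
    (u : U) [HenselianLocalRing (X.presheaf.stalk (g u))]
    [IsSepClosed (X.residueField (g u))] :
    ∃ W : U.Opens, u ∈ W ∧ IsOpenImmersion (W.ι ≫ g) := by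
  -- the residue field isomorphism
  have hbij := residueFieldMap_bijective g u
  let eκ : X.residueField (g u) ≃+* U.residueField u := RingEquiv.ofBijective _ hbij
  let ψinv : U.residueField u ⟶ X.residueField (g u) := CommRingCat.ofHom eκ.symm.toRingHom
  have hψ : g.residueFieldMap u ≫ ψinv = 𝟙 _ := by
    ext a
    exact eκ.symm_apply_apply a
  -- the base change to the local ring
  let gY := pullback.snd g (X.fromSpecStalk (g u))
  have hcompat : (Spec.map ψinv ≫ U.fromSpecResidueField u) ≫ g =
      Spec.map (X.residue (g u)) ≫ X.fromSpecStalk (g u) := by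
    rw [Category.assoc, ← Scheme.Hom.SpecMap_residueFieldMap_fromSpecResidueField,
      ← Spec.map_comp_assoc, hψ, Spec.map_id, Category.id_comp]
    rfl
  let y : Spec (X.residueField (g u)) ⟶ pullback g (X.fromSpecStalk (g u)) :=
    pullback.lift (Spec.map ψinv ≫ U.fromSpecResidueField u) (Spec.map (X.residue (g u))) hcompat
  have hy : y ≫ gY = Spec.map (X.residue (g u)) := pullback.lift_snd _ _ _
  have hHens : HenselianLocalRing (X.presheaf.stalk (g u)) := inferInstance
  obtain ⟨σ, hσ1, hσ2⟩ := @StrictHensSection.exists_section_of_etale_of_henselian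
    (X.presheaf.stalk (g u)) _ hHens _ gY inferInstance y hy
  let φ : Spec (X.presheaf.stalk (g u)) ⟶ U := σ ≫ pullback.fst g (X.fromSpecStalk (g u))
  have hφ : φ ≫ g = X.fromSpecStalk (g u) ≫ 𝟙 X := by
    rw [Category.comp_id, Category.assoc, pullback.condition, ← Category.assoc]
    change (σ ≫ gY) ≫ _ = _
    rw [hσ1]
    exact Category.id_comp _
  obtain ⟨O, hxO, s, hφs, hs⟩ := spread_out_of_lfp' (𝟙 X) g φ hφ
  rw [Category.comp_id] at hs
  -- `s` is an open immersion
  haveI : Etale (s ≫ g) := by rw [hs]; infer_instance
  haveI : Etale s := Etale.of_comp s g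
  haveI : Mono (s ≫ g) := by rw [hs]; infer_instance
  haveI : Mono s := mono_of_mono s g
  haveI : IsOpenImmersion s := IsOpenImmersion.of_flat_of_mono s
  refine ⟨s.opensRange, ?_, ?_⟩
  · -- `u = s (g u)`
    have h1 : φ (closedPoint (X.presheaf.stalk (g u))) = u := by
      have h2 : Spec.map (X.residue (g u)) ≫ φ = Spec.map ψinv ≫ U.fromSpecResidueField u := by
        change Spec.map (X.residue (g u)) ≫ σ ≫ _ = _
        rw [← Category.assoc]
        change (Spec.map (CommRingCat.ofHom (IsLocalRing.residue _)) ≫ σ) ≫ _ = _
        rw [hσ2]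
        exact pullback.lift_fst _ _ _
      have h3 : Spec.map (X.residue (g u)) (default : Spec (X.residueField (g u))) =
          closedPoint (X.presheaf.stalk (g u)) := Scheme.SpecMap_residue_apply _ _
      rw [← h3, ← Scheme.Hom.comp_apply, h2, Scheme.Hom.comp_apply,
        Scheme.fromSpecResidueField_apply]
    rw [hφs] at h1
    exact ⟨_, h1⟩
  · have : s.opensRange.ι ≫ g = (s.isoOpensRange).inv ≫ O.ι := by
      rw [← hs, ← Category.assoc]
      congr 1
      rw [Iso.eq_inv_comp]
      exact s.isoOpensRange_hom_ι
    rw [this]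
    infer_instance

end Groth.Agent.Lib.Helper3.EtaleLocalIsoSH
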