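import Groth.Prelude.Def_EtZar
import Groth.Agent.Lib.Helper3.EtaleLocalIsoSH
import Mathlib.CategoryTheory.Sites.DenseSubsite.SheafEquiv

/-!
# The Zariski site is a dense subsite of the small étale site when all stalks are strictly henselian
-/

set_option linter.style.haveILetI false
set_option linter.unusedSectionVars false
set_option autoImplicit false

universe u

open CategoryTheory CategoryTheory.Limits AlgebraicGeometry Opposite TopologicalSpace

namespace Groth.Agent.Lib.Helper3.EtZarDense

variable (S : Scheme.{u})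

set_option backward.isDefEq.respectTransparency.types false in
/-- Covering sieves of the small étale topology: pointwise criterion. -/
theorem mem_smallEtaleTopology_iff (X : S.Etale) (R : Sieve X) :
    R ∈ S.smallEtaleTopology X ↔
      ∀ x : X.left, ∃ (Y : S.Etale) (f : Y ⟶ X) (y : Y.left), R f ∧ f.left y = x := by
  have e : S.smallEtaleTopology =
      (S.smallPretopology (P := EtCoh.etaleMP) (Q := EtCoh.etaleMP)).toGrothendieck :=
    Scheme.smallGrothendieckTopology_eq_toGrothendieck_smallPretopology S le_rfl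
  rw [e]
  constructor
  · intro h x
    obtain ⟨Y, f, y, hf, -, hy⟩ := (Scheme.mem_toGrothendieck_smallPretopology X R).1 h x
    exact ⟨Y, f, y, hf, hy⟩
  · intro h
    refine (Scheme.mem_toGrothendieck_smallPretopology X R).2 fun x => ?_
    obtain ⟨Y, f, y, hf, hy⟩ := h x
    refine ⟨Y, f, y, hf, ?_, hy⟩
    have h1 : f.left ≫ X.hom = Y.hom := Over.w f.hom
    haveI : Etale X.hom := X.prop
    haveI : Etale (f.left ≫ X.hom) := by rw [h1]; exact Y.prop
    exact Etale.of_comp f.left X.hom

instance : (EtZar.zarToEt S).Faithful := ⟨fun _ => Subsingleton.elim _ _⟩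

set_option backward.isDefEq.respectTransparency.types false in
theorem zarToEt_map_left {U V : S.Opens} (h : U ⟶ V) :
    ((EtZar.zarToEt S).map h).left = S.homOfLE h.le := rfl

set_option backward.isDefEq.respectTransparency.types false in
theorem zarToEt_obj_hom (U : S.Opens) : ((EtZar.zarToEt S).obj U).hom = U.ι := rfl

set_option backward.isDefEq.respectTransparency.types false in
instance : (EtZar.zarToEt S).Full := by
  constructor
  intro U V f
  let φ : U.toScheme ⟶ V.toScheme := f.left
  have h1 : φ ≫ V.ι = U.ι := Over.w f.hom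
  have hle : U ≤ V := by
    intro x hx
    have h2 : (φ ≫ V.ι) ⟨x, hx⟩ = x := by rw [h1]; rfl
    rw [← h2, Scheme.Hom.comp_apply]
    exact (φ ⟨x, hx⟩).2
  refine ⟨homOfLE hle, ?_⟩
  apply MorphismProperty.Over.Hom.ext
  change S.homOfLE hle = φ
  rw [← cancel_mono V.ι, h1]
  exact S.homOfLE_ι hle

set_option backward.isDefEq.respectTransparency.types false in
/-- If all local rings of `S` are strictly henselian then every étale `S`-scheme is covered by
opens of `S`. -/
theorem isCoverDense
    (hS : ∀ s : S, EtCoh.IsStrictlyHenselianLocalRing (S.presheaf.stalk s)) :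
    (EtZar.zarToEt S).IsCoverDense S.smallEtaleTopology := by
  constructor
  intro X
  rw [mem_smallEtaleTopology_iff]
  intro x
  let g : X.left ⟶ S := X.hom
  haveI : Etale g := X.prop
  obtain ⟨hH, hK⟩ := hS (g x)
  haveI : HenselianLocalRing (S.presheaf.stalk (g x)) := hH
  haveI : IsSepClosed (S.residueField (g x)) := hK
  obtain ⟨W, hxW, hW⟩ :=
    EtaleLocalIsoSH.exists_opens_isOpenImmersion_of_henselian_stalk' g x
  let V : S.Opens := (W.ι ≫ g).opensRange
  let e : W.toScheme ≅ V.toScheme := (W.ι ≫ g).isoOpensRange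
  have he : e.hom ≫ V.ι = W.ι ≫ g := (W.ι ≫ g).isoOpensRange_hom_ι
  let Y : S.Etale := Scheme.Etale.mk (W.ι ≫ g)
  let f : Y ⟶ X := MorphismProperty.Over.homMk W.ι rfl
  let l : Y ⟶ (EtZar.zarToEt S).obj V := MorphismProperty.Over.homMk e.hom he
  let m : (EtZar.zarToEt S).obj V ⟶ X := MorphismProperty.Over.homMk (e.inv ≫ W.ι) (by
    change (e.inv ≫ W.ι) ≫ g = V.ι
    rw [Category.assoc, ← he, Iso.inv_hom_id_assoc])
  refine ⟨Y, f, ⟨x, hxW⟩, ⟨⟨V, l, m, ?_⟩⟩, rfl⟩
  apply MorphismProperty.Over.Hom.ext
  change e.hom ≫ e.inv ≫ W.ι = W.ι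
  rw [Iso.hom_inv_id_assoc]

set_option backward.isDefEq.respectTransparency.types false in
theorem functorPushforward_mem_iff {V : S.Opens} (R : Sieve V) :
    R.functorPushforward (EtZar.zarToEt S) ∈ S.smallEtaleTopology ((EtZar.zarToEt S).obj V) ↔
      R ∈ Opens.grothendieckTopology S V := by
  rw [mem_smallEtaleTopology_iff]
  constructor
  · intro h x hx
    obtain ⟨Y, f, y, ⟨W, g, l, hg, rfl⟩, hy⟩ := h ⟨x, hx⟩
    refine ⟨W, g, hg, ?_⟩
    let ll : Y.left ⟶ W.toScheme := l.left
    have h1 : ((ll ≫ S.homOfLE g.le) y).1 = x := congrArg Subtype.val hy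
    rw [Scheme.Hom.comp_apply, Scheme.homOfLE_apply] at h1
    rw [← h1]
    exact (ll y).2
  · intro h x
    obtain ⟨W, g, hg, hxW⟩ := h x.1 x.2
    exact ⟨(EtZar.zarToEt S).obj W, (EtZar.zarToEt S).map g, ⟨x.1, hxW⟩,
      Sieve.image_mem_functorPushforward _ _ hg, Subtype.ext (S.homOfLE_apply g.le _)⟩

/-- If all local rings of `S` are strictly henselian, the site of opens of `S` is a dense subsite
of the small étale site. -/
theorem isDenseSubsite
    (hS : ∀ s : S, EtCoh.IsStrictlyHenselianLocalRing (S.presheaf.stalk s)) :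
    (EtZar.zarToEt S).IsDenseSubsite (Opens.grothendieckTopology S) S.smallEtaleTopology where
  isCoverDense' := isCoverDense S hS
  functorPushforward_mem_iff := functorPushforward_mem_iff S _

end Groth.Agent.Lib.Helper3.EtZarDense
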