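import Groth.Agent.Lib.Helper3.FilteredSections
import Groth.Agent.Lib.Helper3.EtZarDense

/-!
# Sections over a quasi-compact quasi-separated étale scheme commute with filtered colimits
-/

set_option autoImplicit false
set_option linter.style.haveILetI false
set_option linter.unusedSectionVars false

universe u

open CategoryTheory CategoryTheory.Limits AlgebraicGeometry Opposite TopologicalSpace

namespace Groth.Agent.Lib.Helper3.EtFilteredSections

open Groth.Agent.Lib.Helper3 Groth.Agent.Lib.Helper3.FilteredSections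

variable {X : Scheme.{u}}

set_option backward.isDefEq.respectTransparency.types false in
/-- On a quasi-compact étale `X`-scheme, a pointwise-surjective class of arrows contains a finite
family generating a covering sieve. -/
theorem exists_fin_family (W : X.Etale) [CompactSpace W.left]
    (P : ∀ Y : X.Etale, (Y ⟶ W) → Prop)
    (hP : ∀ z : W.left, ∃ (Y : X.Etale) (f : Y ⟶ W) (y : Y.left), P Y f ∧ f.left y = z) :
    ∃ (n : ℕ) (V : Fin n → X.Etale) (g : ∀ k, V k ⟶ W),
      (∀ k, P (V k) (g k)) ∧ Sieve.ofArrows V g ∈ X.smallEtaleTopology W := by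
  classical
  let ι := Σ Y : X.Etale, {f : Y ⟶ W // P Y f}
  have hopen : ∀ i : ι, IsOpen (Set.range (i.2.1.left : i.1.left ⟶ W.left)) := by
    intro i
    have : Etale (i.2.1.left : i.1.left ⟶ W.left) := inferInstance
    exact (i.2.1.left : i.1.left ⟶ W.left).isOpenMap.isOpen_range
  have hcover : (Set.univ : Set W.left) ⊆ ⋃ i : ι, Set.range (i.2.1.left : i.1.left ⟶ W.left) := by
    intro z _
    obtain ⟨Y, f, y, hf, hy⟩ := hP z
    exact Set.mem_iUnion.2 ⟨⟨Y, f, hf⟩, y, hy⟩
  obtain ⟨t, ht⟩ := isCompact_univ.elim_finite_subcover _ hopen hcover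
  let e : Fin t.card ≃ t := t.equivFin.symm
  refine ⟨t.card, fun k => (e k).1.1, fun k => (e k).1.2.1, fun k => (e k).1.2.2, ?_⟩
  rw [EtZarDense.mem_smallEtaleTopology_iff]
  intro z
  have hz := ht (Set.mem_univ z)
  simp only [Set.mem_iUnion, Set.mem_range, exists_prop] at hz
  obtain ⟨i, hi, y, hy⟩ := hz
  refine ⟨i.1, i.2.1, y, ?_, hy⟩
  have : Sieve.ofArrows (fun k => (e k).1.1) (fun k => (e k).1.2.1) ((e (e.symm ⟨i, hi⟩)).1.2.1) :=
    Sieve.ofArrows_mk _ _ (e.symm ⟨i, hi⟩)
  rw [e.apply_symm_apply] at this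
  exact this

/-- A quasi-compact étale `X`-scheme is a quasi-compact object of the small étale site. -/
theorem qc_of_compactSpace (W : X.Etale) [CompactSpace W.left] :
    QC X.smallEtaleTopology W := by
  intro S hS
  rw [EtZarDense.mem_smallEtaleTopology_iff] at hS
  exact exists_fin_family W (fun Y f => S f) hS

set_option backward.isDefEq.respectTransparency.types false in
/-- Every covering sieve of an étale `X`-scheme is pointwise covered by its affine members. -/
theorem exists_affine_mem (U : X.Etale) (S : Sieve U) (hS : S ∈ X.smallEtaleTopology U)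
    (z : U.left) : ∃ (Y : X.Etale) (f : Y ⟶ U) (y : Y.left),
      (S f ∧ IsAffine Y.left) ∧ f.left y = z := by
  rw [EtZarDense.mem_smallEtaleTopology_iff] at hS
  obtain ⟨Y, f, y, hf, hy⟩ := hS z
  obtain ⟨A, hA, hyA, -⟩ := exists_isAffineOpen_mem_and_subset (U := (⊤ : Y.left.Opens))
    (x := y) trivial
  let j : Y.left ⟶ X := Y.hom
  haveI : Etale j := Y.prop
  let Y' : X.Etale := Scheme.Etale.mk (A.ι ≫ j)
  let m : Y' ⟶ Y := MorphismProperty.Over.homMk A.ι rfl
  refine ⟨Y', m ≫ f, (⟨y, hyA⟩ : A.toScheme), ⟨S.downward_closed hf m, hA⟩, ?_⟩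
  let φ : Y.left ⟶ U.left := f.left
  have h1 : (m ≫ f).left = A.ι ≫ φ := rfl
  have hy' : φ y = z := hy
  change (A.ι ≫ φ) (⟨y, hyA⟩ : A.toScheme) = z
  rw [Scheme.Hom.comp_apply]
  exact hy'

set_option backward.isDefEq.respectTransparency.types false in
/-- The finiteness condition needed for surjectivity, for a quasi-compact quasi-separated étale
`X`-scheme. -/
theorem exists_fin_family_pullbacks (U : X.Etale) [CompactSpace U.left]
    [QuasiSeparatedSpace U.left] (S : Sieve U) (hS : S ∈ X.smallEtaleTopology U) :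
    ∃ (n : ℕ) (V : Fin n → X.Etale) (g : ∀ k, V k ⟶ U),
      (∀ k, S (g k)) ∧ Sieve.ofArrows V g ∈ X.smallEtaleTopology U ∧
      ∃ (W : Fin n → Fin n → X.Etale) (p₁ : ∀ k l, W k l ⟶ V k) (p₂ : ∀ k l, W k l ⟶ V l),
        (∀ k l, p₁ k l ≫ g k = p₂ k l ≫ g l) ∧
        (∀ k l (Y : X.Etale) (a : Y ⟶ V k) (b : Y ⟶ V l), a ≫ g k = b ≫ g l →
          ∃ m : Y ⟶ W k l, m ≫ p₁ k l = a ∧ m ≫ p₂ k l = b) ∧
        ∀ k l, QC X.smallEtaleTopology (W k l) := by
  obtain ⟨n, V, g, hg, hT⟩ := exists_fin_family U (fun Y f => S f ∧ IsAffine Y.left)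
    (exists_affine_mem U S hS)
  refine ⟨n, V, g, fun k => (hg k).1, hT, ?_⟩
  have hAff : ∀ k, IsAffine (V k).left := fun k => (hg k).2
  let u : U.left ⟶ X := U.hom
  let v : ∀ k, (V k).left ⟶ X := fun k => (V k).hom
  let γ : ∀ k, (V k).left ⟶ U.left := fun k => (g k).left
  have hγ : ∀ k, γ k ≫ u = v k := fun k => Over.w (g k).hom
  haveI : ∀ k, Etale (v k) := fun k => (V k).prop
  haveI : ∀ k, Etale (γ k) := fun k => inferInstanceAs (Etale (g k).left)
  let W : Fin n → Fin n → X.Etale := fun k l =>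
    Scheme.Etale.mk (pullback.fst (γ k) (γ l) ≫ v k)
  let p₁ : ∀ k l, W k l ⟶ V k := fun k l =>
    MorphismProperty.Over.homMk (pullback.fst (γ k) (γ l)) rfl
  let p₂ : ∀ k l, W k l ⟶ V l := fun k l =>
    MorphismProperty.Over.homMk (pullback.snd (γ k) (γ l)) (by
      change pullback.snd (γ k) (γ l) ≫ v l = pullback.fst (γ k) (γ l) ≫ v k
      rw [← hγ k, ← hγ l, pullback.condition_assoc])
  refine ⟨W, p₁, p₂, ?_, ?_, ?_⟩
  · intro k l
    apply MorphismProperty.Over.Hom.ext
    change pullback.fst (γ k) (γ l) ≫ γ k = pullback.snd (γ k) (γ l) ≫ γ l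
    exact pullback.condition
  · intro k l Y a b hab
    let α : Y.left ⟶ (V k).left := a.left
    let β : Y.left ⟶ (V l).left := b.left
    let y : Y.left ⟶ X := Y.hom
    have hα : α ≫ v k = y := Over.w a.hom
    have hαβ : α ≫ γ k = β ≫ γ l := congrArg (fun m => m.left) hab
    let m : Y ⟶ W k l := MorphismProperty.Over.homMk (pullback.lift α β hαβ) (by
      change pullback.lift α β hαβ ≫ pullback.fst (γ k) (γ l) ≫ v k = y
      rw [pullback.lift_fst_assoc, hα])
    refine ⟨m, ?_, ?_⟩
    · apply MorphismProperty.Over.Hom.ext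
      change pullback.lift α β hαβ ≫ pullback.fst (γ k) (γ l) = α
      exact pullback.lift_fst _ _ _
    · apply MorphismProperty.Over.Hom.ext
      change pullback.lift α β hαβ ≫ pullback.snd (γ k) (γ l) = β
      exact pullback.lift_snd _ _ _
  · intro k l
    haveI : IsAffine (V k).left := hAff k
    haveI : IsAffine (V l).left := hAff l
    haveI : QuasiCompact (γ k) := quasiCompact_of_compactSpace (γ k)
    haveI : CompactSpace (W k l).left :=
      inferInstanceAs (CompactSpace ↑(pullback (γ k) (γ l)))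
    exact qc_of_compactSpace (W k l)

/-- Sections over a quasi-compact quasi-separated étale `X`-scheme commute with filtered colimits
of sheaves of sets. -/
theorem preservesColimitsOfShape_sections_of_qcqs (U : X.Etale) [CompactSpace U.left]
    [QuasiSeparatedSpace U.left] (I : Type (u + 1)) [SmallCategory I] [IsFiltered I] :
    PreservesColimitsOfShape I
      (sheafToPresheaf X.smallEtaleTopology (Type (u + 1)) ⋙
        (evaluation X.Etaleᵒᵖ (Type (u + 1))).obj (op U)) :=
  FilteredSections.preservesColimitsOfShape_sections X.smallEtaleTopology I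
    (qc_of_compactSpace U) (exists_fin_family_pullbacks U)

end Groth.Agent.Lib.Helper3.EtFilteredSections
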