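import Groth.Agent.Lib.Helper3.EtZarDense
import Mathlib.CategoryTheory.Sites.EpiMono
import Mathlib.Algebra.Homology.DerivedCategory.Ext.EnoughProjectives

/-!
# Vanishing of étale cohomology when every covering of the terminal object splits Zariski-locally

If every covering sieve of the terminal object of the small étale site of `X` contains a finite
family of pairwise disjoint opens covering `X`, then the global sections functor is exact, the
constant sheaf `ℤ` is projective, and `H^j(X_et, F) = 0` for `j ≥ 1`.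
-/

set_option linter.style.haveILetI false
set_option linter.unusedSectionVars false
set_option autoImplicit false

universe u

open CategoryTheory CategoryTheory.Limits AlgebraicGeometry Opposite TopologicalSpace

namespace Groth.Agent.Lib.Helper3.EtGammaExact

open Groth.Agent.Lib.Helper3

variable (X : Scheme.{u})

/-- The open `⊤` as an object of the small étale site. -/
noncomputable abbrev T : X.Etale := (EtZar.zarToEt X).obj ⊤

/-- The arrow from an open to the terminal object `T X`. -/
noncomputable abbrev toTop (U : X.Opens) : (EtZar.zarToEt X).obj U ⟶ T X :=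
  (EtZar.zarToEt X).map (homOfLE le_top)

set_option backward.isDefEq.respectTransparency.types false in
/-- Two morphisms of the small étale site into an open of `X` are equal. -/
theorem hom_zarToEt_ext {Z : X.Etale} {U : X.Opens} (a b : Z ⟶ (EtZar.zarToEt X).obj U) :
    a = b := by
  apply MorphismProperty.Over.Hom.ext
  let α : Z.left ⟶ U.toScheme := a.left
  let β : Z.left ⟶ U.toScheme := b.left
  let g : Z.left ⟶ X := Z.hom
  have h1 : α ≫ U.ι = g := Over.w a.hom
  have h2 : β ≫ U.ι = g := Over.w b.hom
  change α = β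
  rw [← cancel_mono U.ι, h1, h2]

set_option backward.isDefEq.respectTransparency.types false in
/-- The underlying point of `X` of the image of a point under a morphism to an open. -/
theorem hom_zarToEt_apply {Z : X.Etale} {U : X.Opens} (a : Z ⟶ (EtZar.zarToEt X).obj U)
    (z : Z.left) : ∃ hz : (Z.hom : Z.left ⟶ X) z ∈ U,
      (a.left : Z.left ⟶ U.toScheme) z = ⟨(Z.hom : Z.left ⟶ X) z, hz⟩ := by
  let α : Z.left ⟶ U.toScheme := a.left
  let g : Z.left ⟶ X := Z.hom
  have h1 : α ≫ U.ι = g := Over.w a.hom
  have h2 : (α z).1 = g z := by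
    rw [← h1, Scheme.Hom.comp_apply]
    rfl
  exact ⟨h2 ▸ (α z).2, Subtype.ext h2⟩

set_option backward.isDefEq.respectTransparency.types false in
/-- `T X` is a terminal object. -/
noncomputable def isTerminalT : IsTerminal (T X) := by
  have key : ∀ {A : Scheme.{u}} (g : A ⟶ X),
      (g ≫ (Scheme.topIso X).inv) ≫ (⊤ : X.Opens).ι = g := by
    intro A g
    rw [Category.assoc, Scheme.toIso_inv_ι, Category.comp_id]
  exact IsTerminal.ofUniqueHom
    (fun Y => MorphismProperty.Over.homMk (Y.hom ≫ (Scheme.topIso X).inv) (key Y.hom))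
    (fun Y m => hom_zarToEt_ext X _ _)

set_option backward.isDefEq.respectTransparency.types false in
/-- If the local ring of `X` at `s` is strictly henselian, every covering sieve of the terminal
object contains an open neighbourhood of `s`. -/
theorem exists_open_mem_sieve (s : X) [HenselianLocalRing (X.presheaf.stalk s)]
    [IsSepClosed (X.residueField s)] (R : Sieve (T X)) (hR : R ∈ X.smallEtaleTopology (T X)) :
    ∃ U : X.Opens, s ∈ U ∧ R (toTop X U) := by
  rw [EtZarDense.mem_smallEtaleTopology_iff] at hR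
  obtain ⟨Y, f, y, hf, hy⟩ := hR ⟨s, trivial⟩
  let g : Y.left ⟶ X := Y.hom
  haveI : Etale g := Y.prop
  obtain ⟨hz, hz'⟩ := hom_zarToEt_apply X f y
  have hgy : g y = s := by
    have := congrArg Subtype.val (hz'.symm.trans hy)
    exact this
  subst hgy
  obtain ⟨W, hyW, hW⟩ :=
    EtaleLocalIsoSH.exists_opens_isOpenImmersion_of_henselian_stalk' g y
  let U : X.Opens := (W.ι ≫ g).opensRange
  let e : W.toScheme ≅ U.toScheme := (W.ι ≫ g).isoOpensRange
  have he : e.hom ≫ U.ι = W.ι ≫ g := (W.ι ≫ g).isoOpensRange_hom_ι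
  let m : (EtZar.zarToEt X).obj U ⟶ Y := MorphismProperty.Over.homMk (e.inv ≫ W.ι) (by
    change (e.inv ≫ W.ι) ≫ g = U.ι
    rw [Category.assoc, ← he, Iso.inv_hom_id_assoc])
  refine ⟨U, ⟨⟨y, hyW⟩, rfl⟩, ?_⟩
  have h1 : toTop X U = m ≫ f := hom_zarToEt_ext X _ _
  rw [h1]
  exact R.downward_closed hf m

variable {X}

/-- The underlying sheaf of types of an abelian étale sheaf. -/
theorem isSheaf_forget (F : EtCoh.Ab X) :
    Presieve.IsSheaf X.smallEtaleTopology (F.obj ⋙ forget AddCommGrpCat.{u + 1}) := by
  rw [← isSheaf_iff_isSheaf_of_type]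
  exact (Presheaf.isSheaf_iff_isSheaf_forget _ _ (forget AddCommGrpCat.{u + 1})).1 F.2

/-- Sections of a sheaf over an empty étale `X`-scheme form a subsingleton. -/
theorem subsingleton_sections_of_isEmpty (F : EtCoh.Ab X) (Z : X.Etale) [IsEmpty Z.left] :
    Subsingleton (F.obj.obj (op Z)) := by
  have hbot : (⊥ : Sieve Z) ∈ X.smallEtaleTopology Z := by
    rw [EtZarDense.mem_smallEtaleTopology_iff]
    intro x
    exact isEmptyElim x
  have h := isSheaf_forget F ⊥ hbot
  constructor
  intro a b
  exact h.isSeparatedFor.ext (t₁ := a) (t₂ := b) (fun Y f hf => hf.elim)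

set_option backward.isDefEq.respectTransparency.types false in
/-- A finite family of opens covering `X` generates a covering sieve of the terminal object. -/
theorem ofArrows_mem {ι : Type*} (D : ι → X.Opens) (hcov : ⨆ i, D i = ⊤) :
    Sieve.ofArrows _ (fun i => toTop X (D i)) ∈ X.smallEtaleTopology (T X) := by
  rw [EtZarDense.mem_smallEtaleTopology_iff]
  intro x
  have hx : x.1 ∈ ⨆ i, D i := by rw [hcov]; trivial
  obtain ⟨i, hi⟩ := Opens.mem_iSup.mp hx
  refine ⟨(EtZar.zarToEt X).obj (D i), toTop X (D i), ⟨x.1, hi⟩,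
    Sieve.ofArrows_mk _ _ i, Subtype.ext (X.homOfLE_apply (le_top : D i ≤ ⊤) ⟨x.1, hi⟩)⟩

set_option backward.isDefEq.respectTransparency.types false in
/-- Sections over pairwise disjoint opens covering `X` glue uniquely. -/
theorem existsUnique_glue (F : EtCoh.Ab X) {ι : Type*} (D : ι → X.Opens)
    (hdisj : ∀ i j, i ≠ j → Disjoint (D i) (D j)) (hcov : ⨆ i, D i = ⊤)
    (t : ∀ i, F.obj.obj (op ((EtZar.zarToEt X).obj (D i)))) :
    ∃! s : F.obj.obj (op (T X)), ∀ i, F.obj.map (toTop X (D i)).op s = t i := by
  have hS' : Presieve.IsSheafFor (F.obj ⋙ forget AddCommGrpCat.{u + 1})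
      (Presieve.ofArrows _ (fun i => toTop X (D i))) :=
    (isSheaf_forget F).isSheafFor _ (ofArrows_mem D hcov)
  rw [Presieve.isSheafFor_arrows_iff] at hS'
  refine hS' t ?_
  intro i j Z gi gj _
  by_cases hij : i = j
  · subst hij
    rw [hom_zarToEt_ext X gi gj]
  · haveI : IsEmpty Z.left := by
      constructor
      intro z
      obtain ⟨h1, -⟩ := hom_zarToEt_apply X gi z
      obtain ⟨h2, -⟩ := hom_zarToEt_apply X gj z
      exact (hdisj i j hij).le_bot ⟨h1, h2⟩
    haveI := subsingleton_sections_of_isEmpty F Z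
    exact Subsingleton.elim _ _

/-- The hypothesis: every covering sieve of the terminal object contains a finite family of
pairwise disjoint opens covering `X`. -/
def SplitsCoverings (X : Scheme.{u}) : Prop :=
  ∀ R : Sieve (T X), R ∈ X.smallEtaleTopology (T X) →
    ∃ (n : ℕ) (D : Fin n → X.Opens), (∀ i j, i ≠ j → Disjoint (D i) (D j)) ∧ (⨆ i, D i = ⊤) ∧
      ∀ i, R (toTop X (D i))

/-- Under `SplitsCoverings`, global sections send epimorphisms to surjections. -/
theorem sections_surjective (hX : SplitsCoverings X) {E Y : EtCoh.Ab X} (e : E ⟶ Y) [Epi e] :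
    Function.Surjective (e.hom.app (op (T X))) := by
  intro s
  have hls : Sheaf.IsLocallySurjective e :=
    (Sheaf.isLocallySurjective_iff_epi' (φ := e)).2 inferInstance
  have h0 : Presheaf.imageSieve e.hom s ∈ X.smallEtaleTopology (T X) :=
    Presheaf.imageSieve_mem _ _ _
  obtain ⟨n, D, hdisj, hcov, hD⟩ := hX _ h0
  choose t ht using hD
  obtain ⟨a, ha, -⟩ := existsUnique_glue E D hdisj hcov t
  refine ⟨a, ?_⟩
  obtain ⟨b, hb, hb'⟩ := existsUnique_glue Y D hdisj hcov
    (fun i => Y.obj.map (toTop X (D i)).op s)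
  have h1 : e.hom.app (op (T X)) a = b := by
    apply hb'
    intro i
    have n1 : Y.obj.map (toTop X (D i)).op (e.hom.app (op (T X)) a) =
        e.hom.app (op _) (E.obj.map (toTop X (D i)).op a) :=
      (congrArg (fun m => m a) (e.hom.naturality (toTop X (D i)).op)).symm
    rw [n1, ha i]
    exact ht i
  have h2 : s = b := hb' s (fun i => rfl)
  rw [h1, h2]

/-- Under `SplitsCoverings`, the constant sheaf `ℤ` is a projective object. -/
theorem projective_constantSheaf (hX : SplitsCoverings X) :
    Projective ((constantSheaf X.smallEtaleTopology AddCommGrpCat.{u + 1}).obj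
      (AddCommGrpCat.of (ULift ℤ))) := by
  let adj := constantSheafAdj X.smallEtaleTopology AddCommGrpCat.{u + 1} (isTerminalT X)
  constructor
  intro E Y f e he
  let g : AddCommGrpCat.of (ULift ℤ) ⟶ Y.obj.obj (op (T X)) := adj.homEquiv _ _ f
  obtain ⟨t, ht⟩ := sections_surjective hX e (AddCommGrpCat.uliftZMultiplesAddEquiv _ g)
  let g' : AddCommGrpCat.of (ULift ℤ) ⟶ E.obj.obj (op (T X)) :=
    (AddCommGrpCat.uliftZMultiplesAddEquiv _).symm t
  refine ⟨(adj.homEquiv _ _).symm g', ?_⟩
  apply (adj.homEquiv _ _).injective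
  rw [adj.homEquiv_naturality_right, Equiv.apply_symm_apply]
  apply (AddCommGrpCat.uliftZMultiplesAddEquiv _).injective
  refine Eq.trans ?_ ht
  have h1 : (AddCommGrpCat.uliftZMultiplesAddEquiv _) g' = t := AddEquiv.apply_symm_apply _ t
  rw [← h1]
  simp [AddCommGrpCat.uliftZMultiplesAddEquiv_apply]
  rfl

/-- Under `SplitsCoverings`, étale cohomology vanishes in positive degrees. -/
theorem subsingleton_H (hX : SplitsCoverings X) (F : EtCoh.Ab X) (j : ℕ) (hj : 1 ≤ j) :
    Subsingleton (EtCoh.H X F j) := by
  haveI := projective_constantSheaf hX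
  obtain ⟨n, rfl⟩ : ∃ n, j = n + 1 := ⟨j - 1, by omega⟩
  exact Abelian.Ext.subsingleton_of_projective _ F n

end Groth.Agent.Lib.Helper3.EtGammaExact
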