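import Groth.Prelude.Def_EtBaseX
import Mathlib.RingTheory.Etale.StandardEtale
import Mathlib.RingTheory.Henselian
import Mathlib.FieldTheory.IsSepClosed
import Mathlib.AlgebraicGeometry.Sites.EtalePoint

/-!
# The étale local ring of a scheme at a geometric point is strictly henselian (helper3)

Port to schemes (Mathlib's small étale site and `Scheme.pointSmallEtale`) of helper53's proof for
algebraic spaces (`Groth.Agent.H53.EtStalkLocal`, `EtStalkHens`).
-/

set_option autoImplicit false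
set_option backward.isDefEq.respectTransparency false
set_option linter.unusedSectionVars false
set_option linter.style.haveILetI false

universe u

open CategoryTheory CategoryTheory.Limits AlgebraicGeometry Opposite IsLocalRing Polynomial

namespace Groth.Agent.Lib.Helper3.EtLocalRingScheme

/-- A global function whose non-vanishing locus is everything is a unit. -/
theorem isUnit_of_basicOpen_eq_top {Z : Scheme.{u}} (s : Γ(Z, ⊤)) (h : Z.basicOpen s = ⊤) :
    IsUnit s := by
  apply Z.toRingedSpace.isUnit_of_isUnit_germ ⊤ s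
  intro x hx
  have : x ∈ Z.basicOpen s := by rw [h]; trivial
  exact (Z.mem_basicOpen_top s x).1 this

/-- The restriction of a global function to its non-vanishing locus is a unit. -/
theorem isUnit_ι_appTop_basicOpen {Z : Scheme.{u}} (s : Γ(Z, ⊤)) :
    IsUnit ((Z.basicOpen s).ι.appTop.hom s) := by
  apply isUnit_of_basicOpen_eq_top
  rw [← Scheme.preimage_basicOpen_top]
  exact (Z.basicOpen s).ι_preimage_self

variable {X : Scheme.{u}} {Ω : Type u} [Field Ω] [IsSepClosed Ω]
  (ξ : Spec (CommRingCat.of Ω) ⟶ X)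

/-- Lifts of the geometric point to an étale `X`-scheme. -/
abbrev Fib (U : X.Etale) : Type u := (Scheme.pointSmallEtale ξ).fiber.obj U

/-- The underlying morphism of a lift of the geometric point. -/
noncomputable def ptHom {U : X.Etale} (u : Fib ξ U) : Spec (CommRingCat.of Ω) ⟶ U.left :=
  Over.Hom.left (show Over.mk ξ ⟶ (Scheme.Etale.forget X).obj U from u)

theorem ptHom_w {U : X.Etale} (u : Fib ξ U) : ptHom ξ u ≫ U.hom = ξ :=
  Over.w (show Over.mk ξ ⟶ (Scheme.Etale.forget X).obj U from u)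

theorem ptHom_map {U U' : X.Etale} (g : U' ⟶ U) (u' : Fib ξ U') :
    ptHom ξ ((Scheme.pointSmallEtale ξ).fiber.map g u') = ptHom ξ u' ≫ g.left := rfl

/-- The canonical map from the global functions of an étale neighbourhood to the étale local
ring. -/
noncomputable def ιA (U : X.Etale) (u : Fib ξ U) :
    Γ(U.left, ⊤) →+* ↑(EtBase.etaleLocalRing ξ) :=
  ((Scheme.pointSmallEtale ξ).toPresheafFiber U u (EtBase.OO X)).hom

theorem ιA_map {U U' : X.Etale} (g : U' ⟶ U) (u' : Fib ξ U') (a : Γ(U.left, ⊤)) :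
    ιA ξ U ((Scheme.pointSmallEtale ξ).fiber.map g u') a = ιA ξ U' u' (g.left.appTop.hom a) := by
  have h := (Scheme.pointSmallEtale ξ).toPresheafFiber_w g u' (EtBase.OO X)
  exact (ConcreteCategory.congr_hom h a).symm

theorem ιA_surjective (s : ↑(EtBase.etaleLocalRing ξ)) :
    ∃ (U : X.Etale) (u : Fib ξ U) (a : Γ(U.left, ⊤)), ιA ξ U u a = s :=
  (Scheme.pointSmallEtale ξ).toPresheafFiber_jointly_surjective (P := EtBase.OO X) s

/-- Evaluation of a global function of an étale neighbourhood at the geometric point. -/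
noncomputable def evA (U : X.Etale) (u : Fib ξ U) : Γ(U.left, ⊤) →+* Ω :=
  ((Scheme.ΓSpecIso (CommRingCat.of Ω)).hom.hom).comp (ptHom ξ u).appTop.hom

theorem evA_map {U U' : X.Etale} (g : U' ⟶ U) (u' : Fib ξ U') (a : Γ(U.left, ⊤)) :
    evA ξ U' u' (g.left.appTop.hom a) = evA ξ U ((Scheme.pointSmallEtale ξ).fiber.map g u') a := by
  have h2 : (ptHom ξ ((Scheme.pointSmallEtale ξ).fiber.map g u')).appTop =
      g.left.appTop ≫ (ptHom ξ u').appTop := by
    rw [ptHom_map, Scheme.Hom.comp_appTop]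
  change (Scheme.ΓSpecIso (CommRingCat.of Ω)).hom.hom
      ((ptHom ξ u').appTop.hom (g.left.appTop.hom a)) =
    (Scheme.ΓSpecIso (CommRingCat.of Ω)).hom.hom
      ((ptHom ξ ((Scheme.pointSmallEtale ξ).fiber.map g u')).appTop.hom a)
  rw [h2]
  rfl

/-- Evaluation at the geometric point, on the étale local ring. -/
noncomputable def evStalk : ↑(EtBase.etaleLocalRing ξ) →+* Ω :=
  ((Scheme.pointSmallEtale ξ).presheafFiberDesc (P := EtBase.OO X) (T := CommRingCat.of Ω)
    (fun U u => CommRingCat.ofHom (evA ξ U u))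
    (by
      intro U' U g u'
      apply CommRingCat.hom_ext
      apply RingHom.ext
      intro a
      exact evA_map ξ g u' a)).hom

theorem evStalk_ιA (U : X.Etale) (u : Fib ξ U) (a : Γ(U.left, ⊤)) :
    evStalk ξ (ιA ξ U u a) = evA ξ U u a := by
  have h := (Scheme.pointSmallEtale ξ).toPresheafFiber_presheafFiberDesc (P := EtBase.OO X)
    (T := CommRingCat.of Ω) (fun U u => CommRingCat.ofHom (evA ξ U u))
    (by
      intro U' U g u'
      apply CommRingCat.hom_ext
      apply RingHom.ext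
      intro a
      exact evA_map ξ g u' a) U u
  exact ConcreteCategory.congr_hom h a

section Shrink

variable {ξ}

/-- The point of the underlying scheme of an étale neighbourhood. -/
noncomputable def nbhdPt {U : X.Etale} (u : Fib ξ U) : ↥U.left :=
  ptHom ξ u (closedPoint Ω)

/-- An open subscheme of an étale `X`-scheme as an object of the small étale site. -/
noncomputable def openObj (U : X.Etale) (D : U.left.Opens) : X.Etale :=
  Scheme.Etale.mk (D.ι ≫ U.hom)

/-- The inclusion of an open subscheme. -/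
noncomputable def openHom (U : X.Etale) (D : U.left.Opens) : openObj U D ⟶ U :=
  MorphismProperty.Over.homMk D.ι rfl trivial

theorem range_subset_of_mem {U : X.Etale} (u : Fib ξ U) (D : U.left.Opens)
    (hD : nbhdPt u ∈ D) : Set.range (ptHom ξ u) ⊆ Set.range D.ι := by
  rintro _ ⟨t, rfl⟩
  rw [Scheme.Opens.range_ι]
  have : t = closedPoint Ω :=
    @Subsingleton.elim _ (inferInstanceAs (Subsingleton (PrimeSpectrum Ω))) _ _
  rw [this]
  exact hD

/-- The lift of the geometric point to an open neighbourhood of its image. -/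
noncomputable def openPt {U : X.Etale} (u : Fib ξ U) (D : U.left.Opens)
    (hD : nbhdPt u ∈ D) : Fib ξ (openObj U D) :=
  Over.homMk (IsOpenImmersion.lift D.ι (ptHom ξ u) (range_subset_of_mem u D hD)) (by
    change IsOpenImmersion.lift D.ι (ptHom ξ u) _ ≫ D.ι ≫ U.hom = ξ
    rw [← Category.assoc, IsOpenImmersion.lift_fac]
    exact ptHom_w ξ u)

theorem map_openPt {U : X.Etale} (u : Fib ξ U) (D : U.left.Opens) (hD : nbhdPt u ∈ D) :
    (Scheme.pointSmallEtale ξ).fiber.map (openHom U D) (openPt u D hD) = u := by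
  apply Over.OverMorphism.ext
  exact IsOpenImmersion.lift_fac _ _ _

theorem nbhdPt_mem_basicOpen {U : X.Etale} (u : Fib ξ U) (a : Γ(U.left, ⊤))
    (h : evA ξ U u a ≠ 0) : nbhdPt u ∈ U.left.basicOpen a := by
  have hb : IsUnit ((ptHom ξ u).appTop.hom a) := by
    have h1 : IsUnit ((Scheme.ΓSpecIso (CommRingCat.of Ω)).hom.hom ((ptHom ξ u).appTop.hom a)) :=
      isUnit_iff_ne_zero.2 h
    have h2 := h1.map (Scheme.ΓSpecIso (CommRingCat.of Ω)).inv.hom
    have h3 : (Scheme.ΓSpecIso (CommRingCat.of Ω)).inv.hom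
        ((Scheme.ΓSpecIso (CommRingCat.of Ω)).hom.hom ((ptHom ξ u).appTop.hom a)) =
        (ptHom ξ u).appTop.hom a := by
      have := ConcreteCategory.congr_hom (Scheme.ΓSpecIso (CommRingCat.of Ω)).hom_inv_id
        ((ptHom ξ u).appTop.hom a)
      exact this
    rwa [h3] at h2
  have h4 : (ptHom ξ u) ⁻¹ᵁ U.left.basicOpen a = ⊤ := by
    rw [Scheme.preimage_basicOpen_top]
    exact Scheme.basicOpen_of_isUnit _ hb
  have h5 : (closedPoint Ω : ↥(Spec (CommRingCat.of Ω))) ∈
      (ptHom ξ u) ⁻¹ᵁ U.left.basicOpen a := by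
    rw [h4]; trivial
  exact h5

end Shrink

theorem isUnit_of_evStalk_ne_zero (s : ↑(EtBase.etaleLocalRing ξ)) (h : evStalk ξ s ≠ 0) :
    IsUnit s := by
  obtain ⟨U, u, a, rfl⟩ := ιA_surjective ξ s
  rw [evStalk_ιA] at h
  have hz := nbhdPt_mem_basicOpen u a h
  rw [← map_openPt u _ hz, ιA_map ξ (openHom U _) (openPt u _ hz) a]
  exact (isUnit_ι_appTop_basicOpen a).map (ιA ξ _ (openPt u _ hz))

theorem isUnit_iff_evStalk_ne_zero (s : ↑(EtBase.etaleLocalRing ξ)) :
    IsUnit s ↔ evStalk ξ s ≠ 0 :=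
  ⟨fun h => (h.map (evStalk ξ)).ne_zero, isUnit_of_evStalk_ne_zero ξ s⟩

theorem isLocalRing_etaleLocalRing : IsLocalRing ↑(EtBase.etaleLocalRing ξ) := by
  have hnt : Nontrivial ↑(EtBase.etaleLocalRing ξ) := by
    refine ⟨0, 1, fun h => ?_⟩
    have := congrArg (evStalk ξ) h
    rw [map_zero, map_one] at this
    exact zero_ne_one this
  refine IsLocalRing.of_nonunits_add fun a b ha hb => ?_
  rw [mem_nonunits_iff, isUnit_iff_evStalk_ne_zero ξ, not_not] at ha hb ⊢
  rw [map_add, ha, hb, add_zero]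

theorem mem_maximalIdeal_iff (s : ↑(EtBase.etaleLocalRing ξ)) :
    letI := isLocalRing_etaleLocalRing ξ
    s ∈ maximalIdeal ↑(EtBase.etaleLocalRing ξ) ↔ evStalk ξ s = 0 := by
  letI := isLocalRing_etaleLocalRing ξ
  rw [mem_maximalIdeal, mem_nonunits_iff, isUnit_iff_evStalk_ne_zero ξ, not_not]

/-- Finitely many elements of the étale local ring come from a common étale neighbourhood. -/
theorem exists_common_nbhd (m : ℕ) (x : Fin m → ↑(EtBase.etaleLocalRing ξ)) :
    ∃ (U : X.Etale) (u : Fib ξ U) (y : Fin m → Γ(U.left, ⊤)), ∀ i, ιA ξ U u (y i) = x i := by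
  induction m with
  | zero =>
    obtain ⟨N⟩ := IsCofiltered.nonempty (C := (Scheme.pointSmallEtale ξ).fiber.Elements)
    exact ⟨N.1, N.2, Fin.elim0, fun i => i.elim0⟩
  | succ m ih =>
    obtain ⟨U₁, u₁, y₁, hy₁⟩ := ih (fun i => x i.castSucc)
    obtain ⟨U₂, u₂, a₂, ha₂⟩ := ιA_surjective ξ (x (Fin.last m))
    let N₁ : (Scheme.pointSmallEtale ξ).fiber.Elements := ⟨U₁, u₁⟩
    let N₂ : (Scheme.pointSmallEtale ξ).fiber.Elements := ⟨U₂, u₂⟩
    let N₃ := IsCofiltered.min N₁ N₂
    let g₁ : N₃ ⟶ N₁ := IsCofiltered.minToLeft N₁ N₂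
    let g₂ : N₃ ⟶ N₂ := IsCofiltered.minToRight N₁ N₂
    have hg₁ : (Scheme.pointSmallEtale ξ).fiber.map g₁.1 N₃.2 = u₁ := g₁.2
    have hg₂ : (Scheme.pointSmallEtale ξ).fiber.map g₂.1 N₃.2 = u₂ := g₂.2
    refine ⟨N₃.1, N₃.2, Fin.lastCases (g₂.1.left.appTop.hom a₂)
      (fun i => g₁.1.left.appTop.hom (y₁ i)), fun i => ?_⟩
    induction i using Fin.lastCases with
    | last =>
      beta_reduce
      rw [Fin.lastCases_last, ← ιA_map ξ g₂.1 N₃.2 a₂, hg₂, ha₂]
    | cast i =>
      beta_reduce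
      rw [Fin.lastCases_castSucc, ← ιA_map ξ g₁.1 N₃.2 (y₁ i), hg₁, hy₁]

/-- A monic polynomial over the étale local ring comes from a monic polynomial over an étale
neighbourhood. -/
theorem exists_monic_descent (f : Polynomial ↑(EtBase.etaleLocalRing ξ)) (hf : f.Monic) :
    ∃ (U : X.Etale) (u : Fib ξ U) (fN : Polynomial Γ(U.left, ⊤)),
      fN.Monic ∧ fN.map (ιA ξ U u) = f := by
  obtain ⟨U, u, y, hy⟩ := exists_common_nbhd ξ f.natDegree (fun i => f.coeff i)
  refine ⟨U, u, Polynomial.X ^ f.natDegree +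
    ∑ i : Fin f.natDegree, C (y i) * Polynomial.X ^ (i : ℕ), ?_, ?_⟩
  · exact monic_X_pow_add (degree_sum_fin_lt _)
  · rw [Polynomial.map_add, Polynomial.map_pow, map_X, Polynomial.map_sum]
    conv_rhs => rw [hf.as_sum, Finset.sum_range]
    congr 1
    refine Finset.sum_congr rfl fun i _ => ?_
    rw [Polynomial.map_mul, Polynomial.map_pow, map_X, map_C, hy]

/-- Lifting simple roots from the residue field of the geometric point to the étale local ring. -/
theorem exists_root_of_simple_root (f : Polynomial ↑(EtBase.etaleLocalRing ξ)) (hf : f.Monic)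
    (x : Ω) (h0 : (f.map (evStalk ξ)).eval x = 0)
    (h1 : (f.map (evStalk ξ)).derivative.eval x ≠ 0) :
    ∃ a : ↑(EtBase.etaleLocalRing ξ), f.IsRoot a ∧ evStalk ξ a = x := by
  obtain ⟨U, u, fN, hfN, rfl⟩ := exists_monic_descent ξ f hf
  let Z : Scheme.{u} := U.left
  let A : CommRingCat.{u} := Γ(Z, ⊤)
  let l : Spec (CommRingCat.of Ω) ⟶ Z := ptHom ξ u
  letI algK : Algebra A Ω := (evA ξ U u).toAlgebra
  let P : StandardEtalePair A := ⟨fN, hfN, derivative fN, ⟨1, 0, 1, by simp⟩⟩
  have hmap : (fN.map (ιA ξ U u)).map (evStalk ξ) = fN.map (evA ξ U u) := by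
    rw [Polynomial.map_map]
    congr 1
    ext a
    exact evStalk_ιA ξ U u a
  rw [hmap] at h0 h1
  have hP : P.HasMap x := by
    constructor
    · change aeval x fN = 0
      rw [aeval_def, ← Polynomial.eval_map]
      exact h0
    · change IsUnit (aeval x (derivative fN))
      rw [aeval_def, ← Polynomial.eval_map, ← derivative_map]
      exact isUnit_iff_ne_zero.2 h1
  let β : P.Ring →ₐ[A] Ω := P.lift x hP
  have hβX : β P.X = x := P.lift_X x hP
  let B : CommRingCat.{u} := CommRingCat.of P.Ring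
  let φ : A ⟶ B := CommRingCat.ofHom (algebraMap A P.Ring)
  let βc : B ⟶ CommRingCat.of Ω := CommRingCat.ofHom β.toRingHom
  have hφβ : φ ≫ βc = l.appTop ≫ (Scheme.ΓSpecIso (CommRingCat.of Ω)).hom := by
    apply CommRingCat.hom_ext
    apply RingHom.ext
    intro a
    exact β.commutes a
  have hφ : Etale (Spec.map φ) := by
    rw [HasRingHomProperty.Spec_iff (P := @Etale)]
    exact RingHom.etale_algebraMap.2 inferInstance
  let Z' : Scheme.{u} := pullback Z.toSpecΓ (Spec.map φ)
  let π : Z' ⟶ Z := pullback.fst _ _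
  let σ : Z' ⟶ Spec B := pullback.snd _ _
  have hπ : Etale π := inferInstance
  have hcond : π ≫ Z.toSpecΓ = σ ≫ Spec.map φ := pullback.condition
  have hcompat : l ≫ Z.toSpecΓ = Spec.map βc ≫ Spec.map φ := by
    rw [Scheme.toSpecΓ_naturality, ← SpecMap_ΓSpecIso_hom, ← Spec.map_comp, ← Spec.map_comp, hφβ]
  let l' : Spec (CommRingCat.of Ω) ⟶ Z' := pullback.lift l (Spec.map βc) hcompat
  have hl'π : l' ≫ π = l := pullback.lift_fst _ _ _
  have hl'σ : l' ≫ σ = Spec.map βc := pullback.lift_snd _ _ _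
  -- the new étale neighbourhood
  haveI : Etale (π ≫ U.hom) := inferInstance
  let U' : X.Etale := Scheme.Etale.mk (π ≫ U.hom)
  let g : U' ⟶ U := MorphismProperty.Over.homMk π rfl trivial
  have hl'str : l' ≫ π ≫ U.hom = ξ := by
    rw [← Category.assoc, hl'π]
    exact ptHom_w ξ u
  let u' : Fib ξ U' := Over.homMk l' hl'str
  have hu' : (Scheme.pointSmallEtale ξ).fiber.map g u' = u := by
    apply Over.OverMorphism.ext
    exact hl'π
  have hptu' : ptHom ξ u' = l' := rfl
  -- the root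
  let γ : B ⟶ Γ(Z', ⊤) := (Scheme.ΓSpecIso B).inv ≫ σ.appTop
  have hγ : π.appTop = φ ≫ γ := by
    have h2 := congrArg Scheme.Hom.appTop hcond
    rw [Scheme.Hom.comp_appTop, Scheme.Hom.comp_appTop, Scheme.toSpecΓ_appTop] at h2
    have h3 : π.appTop = (Scheme.ΓSpecIso A).inv ≫ (Spec.map φ).appTop ≫ σ.appTop := by
      rw [← h2, Iso.inv_hom_id_assoc]
    rw [h3, ← Category.assoc, ← Scheme.ΓSpecIso_inv_naturality, Category.assoc]
  let t : Γ(Z', ⊤) := γ.hom P.X
  have hroot : eval₂ π.appTop.hom t fN = 0 := by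
    have h4 : π.appTop.hom = γ.hom.comp (algebraMap A P.Ring) := congrArg CommRingCat.Hom.hom hγ
    rw [h4, ← Polynomial.hom_eval₂]
    have h5 : eval₂ (algebraMap A P.Ring) P.X fN = 0 := P.hasMap_X.1
    rw [h5, map_zero]
  have hιA : ιA ξ U u = (ιA ξ U' u').comp π.appTop.hom := by
    apply RingHom.ext
    intro a
    rw [← hu']
    exact ιA_map ξ g u' a
  refine ⟨ιA ξ U' u' t, ?_, ?_⟩
  · change Polynomial.eval (ιA ξ U' u' t) (fN.map (ιA ξ U u)) = 0
    rw [Polynomial.eval_map, hιA, ← Polynomial.hom_eval₂, hroot, map_zero]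
  · rw [evStalk_ιA]
    change (Scheme.ΓSpecIso (CommRingCat.of Ω)).hom.hom
      (l'.appTop.hom (σ.appTop.hom ((Scheme.ΓSpecIso B).inv.hom P.X))) = x
    have h6 : (Scheme.ΓSpecIso B).inv ≫ σ.appTop ≫ l'.appTop ≫
        (Scheme.ΓSpecIso (CommRingCat.of Ω)).hom = βc := by
      rw [← Category.assoc σ.appTop, ← Scheme.Hom.comp_appTop, hl'σ, ← Category.assoc,
        ← Scheme.ΓSpecIso_inv_naturality, Category.assoc, Iso.inv_hom_id, Category.comp_id]
    have h7 := ConcreteCategory.congr_hom h6 P.X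
    exact h7.trans hβX

theorem henselianLocalRing_etaleLocalRing : HenselianLocalRing ↑(EtBase.etaleLocalRing ξ) := by
  have hloc := isLocalRing_etaleLocalRing ξ
  refine { toIsLocalRing := hloc, is_henselian := fun f hf a₀ h₁ h₂ => ?_ }
  have h0 : (f.map (evStalk ξ)).eval (evStalk ξ a₀) = 0 := by
    rw [Polynomial.eval_map, Polynomial.eval₂_hom]
    exact (mem_maximalIdeal_iff ξ _).1 h₁
  have h1 : (f.map (evStalk ξ)).derivative.eval (evStalk ξ a₀) ≠ 0 := by
    rw [derivative_map, Polynomial.eval_map, Polynomial.eval₂_hom]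
    exact (isUnit_iff_evStalk_ne_zero ξ _).1 h₂
  obtain ⟨a, ha, hax⟩ := exists_root_of_simple_root ξ f hf _ h0 h1
  refine ⟨a, ha, ?_⟩
  rw [mem_maximalIdeal_iff ξ, map_sub, hax, sub_self]

theorem isSepClosed_residueField_etaleLocalRing :
    letI := isLocalRing_etaleLocalRing ξ
    IsSepClosed (IsLocalRing.ResidueField ↑(EtBase.etaleLocalRing ξ)) := by
  letI := isLocalRing_etaleLocalRing ξ
  have hlh : IsLocalHom (evStalk ξ) :=
    ⟨fun s hs => isUnit_of_evStalk_ne_zero ξ s hs.ne_zero⟩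
  let evbar : IsLocalRing.ResidueField ↑(EtBase.etaleLocalRing ξ) →+* Ω :=
    IsLocalRing.ResidueField.lift (evStalk ξ)
  have hevbar : evbar.comp (residue ↑(EtBase.etaleLocalRing ξ)) = evStalk ξ :=
    IsLocalRing.ResidueField.lift_comp_residue (evStalk ξ)
  refine IsSepClosed.of_exists_root _ fun q hqm hqi hqs => ?_
  obtain ⟨f, hfq, -, hfm⟩ := Polynomial.lifts_and_natDegree_eq_and_monic
    (Polynomial.mem_lifts_of_surjective (residue_surjective (R := ↑(EtBase.etaleLocalRing ξ))) q)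
    hqm
  have hdeg : (q.map evbar).degree ≠ 0 := by
    rw [Polynomial.degree_map]
    exact Polynomial.degree_pos_of_irreducible hqi |>.ne'
  obtain ⟨x, hx⟩ := IsSepClosed.exists_root (q.map evbar) hdeg (hqs.map)
  have hfmap : f.map (evStalk ξ) = q.map evbar := by
    rw [← hevbar, ← Polynomial.map_map, hfq]
  have h0 : (f.map (evStalk ξ)).eval x = 0 := by rw [hfmap]; exact hx
  have h1 : (f.map (evStalk ξ)).derivative.eval x ≠ 0 := by
    rw [hfmap, derivative_map, Polynomial.eval_map]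
    refine hqs.eval₂_derivative_ne_zero evbar ?_
    rw [← Polynomial.eval_map]
    exact hx
  obtain ⟨a, ha, -⟩ := exists_root_of_simple_root ξ f hfm x h0 h1
  refine ⟨residue _ a, ?_⟩
  rw [← hfq, Polynomial.eval_map, Polynomial.eval₂_hom, ha, map_zero]

theorem isStrictlyHenselianLocalRing_etaleLocalRing :
    EtCoh.IsStrictlyHenselianLocalRing ↑(EtBase.etaleLocalRing ξ) :=
  ⟨henselianLocalRing_etaleLocalRing ξ, isSepClosed_residueField_etaleLocalRing ξ⟩

end Groth.Agent.Lib.Helper3.EtLocalRingScheme
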