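import Groth.Agent.Lib.Helper3.GabberTrick
import Groth.Agent.Lib.Helper3.PairBasics

/-!
# Lifting sections of finite algebras which are étale along the section (helper3)

Main result `exists_algHom_lift_of_finite_of_away`: let `A` be Henselian at `I`, `R` a finite,
finitely presented `A`-algebra, `Δ ∈ R` such that `R[1/Δ]` is formally étale over `A`. Then every
`A`-algebra map `R[1/Δ] → A/I` comes from an `A`-algebra map `R → A`.
-/

set_option autoImplicit false

namespace Groth.Agent.Lib.Helper3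

section

variable {A : Type*} [CommRing A] (I : Ideal A)
  {R : Type*} [CommRing R] [Algebra A R]
  {R' : Type*} [CommRing R'] [Algebra A R'] [Algebra R R'] [IsScalarTower A R R']

/-- Step P2: the kernel `J` of a section which lies in the unramified locus satisfies
`J ≤ J² + IR`. -/
theorem ker_le_sq_sup_map (Δ : R) [IsLocalization.Away Δ R'] [Algebra.FormallyUnramified A R']
    (s' : R' →ₐ[A] A ⧸ I) :
    RingHom.ker (s'.comp (IsScalarTower.toAlgHom A R R')).toRingHom ≤
      RingHom.ker (s'.comp (IsScalarTower.toAlgHom A R R')).toRingHom *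
        RingHom.ker (s'.comp (IsScalarTower.toAlgHom A R R')).toRingHom ⊔
      I.map (algebraMap A R) := by
  set s : R →ₐ[A] A ⧸ I := s'.comp (IsScalarTower.toAlgHom A R R') with hs
  set J₀ := RingHom.ker s.toRingHom with hJ₀
  set IU := I.map (algebraMap A R) with hIU
  set K := J₀ * J₀ ⊔ IU with hK
  have hsmk : ∀ a : A, s (algebraMap A R a) = Ideal.Quotient.mk I a := fun a => s.commutes a
  have hmemJ : ∀ x, x ∈ J₀ ↔ s x = 0 := fun x => Iff.rfl
  -- `Δ` becomes a unit in `B = R ⧸ K`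
  have hΔ' : IsUnit (s Δ) := by
    have : s Δ = s' (algebraMap R R' Δ) := rfl
    rw [this]
    exact (IsLocalization.Away.algebraMap_isUnit Δ).map s'
  obtain ⟨c, hc⟩ := hΔ'.exists_right_inv
  obtain ⟨c₀, rfl⟩ := Ideal.Quotient.mk_surjective c
  have hx : Δ * algebraMap A R c₀ - 1 ∈ J₀ := by
    rw [hmemJ, map_sub, map_mul, hsmk, hc, map_one, sub_self]
  have hunit : IsUnit (Ideal.Quotient.mkₐ A K Δ) := by
    have hnil : IsNilpotent (Ideal.Quotient.mk K (Δ * algebraMap A R c₀ - 1)) := by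
      refine ⟨2, ?_⟩
      rw [← map_pow, Ideal.Quotient.eq_zero_iff_mem, pow_two]
      exact Ideal.mem_sup_left (Ideal.mul_mem_mul hx hx)
    have := hnil.isUnit_add_one
    rw [map_sub, map_one, sub_add_cancel, map_mul] at this
    exact isUnit_of_mul_isUnit_left this
  let π' : R' →ₐ[A] R ⧸ K := IsLocalization.Away.liftAlgHom Δ (f := Ideal.Quotient.mkₐ A K) hunit
  have hπ' : ∀ x : R, π' (algebraMap R R' x) = Ideal.Quotient.mk K x := fun x => by
    simp [π', IsLocalization.Away.liftAlgHom_apply, IsLocalization.Away.lift_eq]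
  let ι : A ⧸ I →ₐ[A] R ⧸ K := Ideal.Quotient.liftₐ I (Algebra.ofId A (R ⧸ K)) (by
    intro a ha
    show algebraMap A (R ⧸ K) a = 0
    rw [IsScalarTower.algebraMap_apply A R (R ⧸ K), Ideal.Quotient.algebraMap_eq,
      Ideal.Quotient.eq_zero_iff_mem]
    exact Ideal.mem_sup_right (Ideal.mem_map_of_mem _ ha))
  have hι : ∀ a : A, ι (Ideal.Quotient.mk I a) = Ideal.Quotient.mk K (algebraMap A R a) :=
    fun a => rfl
  let ψ' : R' →ₐ[A] R ⧸ K := ι.comp s'
  let N : Ideal (R ⧸ K) := J₀.map (Ideal.Quotient.mk K)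
  have hN : IsNilpotent N := by
    refine ⟨2, ?_⟩
    rw [Ideal.zero_eq_bot, eq_bot_iff, ← Ideal.map_pow, pow_two, ← Ideal.map_quotient_self K]
    exact Ideal.map_mono le_sup_left
  have hπψ : π' = ψ' := by
    apply Algebra.FormallyUnramified.ext N hN
    have : (Ideal.Quotient.mk N).comp π'.toRingHom = (Ideal.Quotient.mk N).comp ψ'.toRingHom := by
      apply IsLocalization.ringHom_ext (Submonoid.powers Δ)
      ext x
      simp only [RingHom.coe_comp, Function.comp_apply, AlgHom.toRingHom_eq_coe, RingHom.coe_coe,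
        hπ']
      obtain ⟨a, ha⟩ := Ideal.Quotient.mk_surjective (s x)
      have h1 : ψ' (algebraMap R R' x) = Ideal.Quotient.mk K (algebraMap A R a) := by
        show ι (s x) = _
        rw [← ha, hι]
      rw [h1, Ideal.Quotient.eq, ← map_sub]
      apply Ideal.mem_map_of_mem
      rw [hmemJ, map_sub, hsmk, ha, sub_self]
    intro x
    exact congr($this x)
  intro x hx
  rw [← Ideal.Quotient.eq_zero_iff_mem, ← hπ', hπψ]
  show ι (s x) = 0
  rw [(hmemJ x).mp hx, map_zero]

/-- Existence of the element `e₀` (Nakayama). -/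
theorem exists_elem_of_ker_le_sq_sup_map [Module.Finite A R] (s : R →ₐ[A] A ⧸ I)
    (hP2 : RingHom.ker s.toRingHom ≤
      RingHom.ker s.toRingHom * RingHom.ker s.toRingHom ⊔ I.map (algebraMap A R)) :
    ∃ e₀ : R, e₀ - 1 ∈ RingHom.ker s.toRingHom ∧
      ∀ j ∈ RingHom.ker s.toRingHom, e₀ * j ∈ I.map (algebraMap A R) := by
  set J₀ := RingHom.ker s.toRingHom with hJ₀
  set IU := I.map (algebraMap A R) with hIU
  have hsmk : ∀ a : A, s (algebraMap A R a) = Ideal.Quotient.mk I a := fun a => s.commutes a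
  have hmemJ : ∀ x, x ∈ J₀ ↔ s x = 0 := fun x => Iff.rfl
  have hIUJ : IU ≤ J₀ := by
    rw [hIU, Ideal.map_le_iff_le_comap]
    intro a ha
    rw [Ideal.mem_comap, hmemJ, hsmk]
    exact Ideal.Quotient.eq_zero_iff_mem.mpr ha
  obtain ⟨n, x, hx⟩ := Module.Finite.exists_fin (R := A) (M := R)
  choose a₀ ha₀ using fun i => Ideal.Quotient.mk_surjective (s (x i))
  let F : Ideal R := Ideal.span (Set.range fun i => x i - algebraMap A R (a₀ i))
  have hFJ : F ≤ J₀ := by
    rw [Ideal.span_le]; rintro _ ⟨i, rfl⟩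
    show s _ = 0; rw [map_sub, hsmk, ha₀, sub_self]
  have hJF : J₀ ≤ F ⊔ IU := by
    intro u hu
    have hmem : u ∈ Submodule.span A (Set.range x) := hx ▸ Submodule.mem_top
    obtain ⟨c, rfl⟩ := (Submodule.mem_span_range_iff_exists_fun A).mp hmem
    have h1 : ∑ i, c i • x i = ∑ i, algebraMap A R (c i) * (x i - algebraMap A R (a₀ i))
        + algebraMap A R (∑ i, c i * a₀ i) := by
      rw [map_sum, ← Finset.sum_add_distrib]
      refine Finset.sum_congr rfl fun i _ => ?_
      rw [Algebra.smul_def, map_mul]; ring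
    have h2 : s (∑ i, algebraMap A R (c i) * (x i - algebraMap A R (a₀ i))) = 0 := by
      rw [map_sum]; refine Finset.sum_eq_zero fun i _ => ?_
      rw [map_mul, (hmemJ _).mp (hFJ (Ideal.subset_span ⟨i, rfl⟩)), mul_zero]
    have h3 : (∑ i, c i * a₀ i) ∈ I := by
      rw [← Ideal.Quotient.eq_zero_iff_mem, ← hsmk]
      have := (hmemJ _).mp hu
      rw [h1, map_add, h2, zero_add] at this
      exact this
    rw [h1]
    exact Ideal.add_mem _ (Ideal.mem_sup_left (Ideal.sum_mem _ fun i _ =>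
      Ideal.mul_mem_left _ _ (Ideal.subset_span ⟨i, rfl⟩)))
      (Ideal.mem_sup_right (Ideal.mem_map_of_mem _ h3))
  set Jb : Ideal (R ⧸ IU) := J₀.map (Ideal.Quotient.mk IU) with hJb
  have hJbF : Jb = F.map (Ideal.Quotient.mk IU) := by
    apply le_antisymm
    · calc Jb ≤ (F ⊔ IU).map (Ideal.Quotient.mk IU) := Ideal.map_mono hJF
        _ = F.map (Ideal.Quotient.mk IU) := by
          rw [Ideal.map_sup, Ideal.map_quotient_self, sup_bot_eq]
    · exact Ideal.map_mono hFJ
  have hJbfg : Jb.FG := by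
    rw [hJbF]
    have hF : F.FG := Submodule.fg_span (Set.finite_range fun i => x i - algebraMap A R (a₀ i))
    exact hF.map _
  have hJbsq : Jb ≤ Jb • Jb := by
    calc Jb ≤ (J₀ * J₀ ⊔ IU).map (Ideal.Quotient.mk IU) := Ideal.map_mono hP2
      _ = Jb • Jb := by
        rw [Ideal.map_sup, Ideal.map_quotient_self, sup_bot_eq, Ideal.map_mul, smul_eq_mul]
  obtain ⟨r, hr1, hr2⟩ :=
    Submodule.exists_sub_one_mem_and_smul_eq_zero_of_fg_of_le_smul Jb Jb hJbfg hJbsq
  obtain ⟨e₀, rfl⟩ := Ideal.Quotient.mk_surjective r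
  refine ⟨e₀, ?_, fun j hj => ?_⟩
  · rw [← map_one (Ideal.Quotient.mk IU), ← map_sub, hJb,
      Ideal.mem_map_iff_of_surjective _ Ideal.Quotient.mk_surjective] at hr1
    obtain ⟨j, hj, hje⟩ := hr1
    have : e₀ - 1 = j - (j - (e₀ - 1)) := by ring
    rw [this]
    exact J₀.sub_mem hj (hIUJ (Ideal.Quotient.eq.mp hje))
  · have := hr2 _ (Ideal.mem_map_of_mem (Ideal.Quotient.mk IU) hj)
    rw [smul_eq_mul, ← map_mul, Ideal.Quotient.eq_zero_iff_mem] at this
    exact this

/-- **Lifting sections**: Let `A` be Henselian at `I`, `R` a finite, finitely presented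
`A`-algebra and `Δ ∈ R` such that `R' = R[1/Δ]` is formally étale over `A`. Every `A`-algebra map
`R' → A/I` is induced by an `A`-algebra map `R → A`. -/
theorem exists_algHom_lift_of_finite_of_away [HenselianRing A I] (Δ : R)
    [IsLocalization.Away Δ R'] [Module.Finite A R] [Algebra.FinitePresentation A R]
    [Algebra.FormallyEtale A R'] (s' : R' →ₐ[A] A ⧸ I) :
    ∃ τ : R →ₐ[A] A,
      (Ideal.Quotient.mkₐ A I).comp τ = s'.comp (IsScalarTower.toAlgHom A R R') := by
  classical
  have hjac : I ≤ Ideal.jacobson ⊥ := HenselianRing.jac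
  set s : R →ₐ[A] A ⧸ I := s'.comp (IsScalarTower.toAlgHom A R R') with hs
  set J₀ := RingHom.ker s.toRingHom with hJ₀
  set IU := I.map (algebraMap A R) with hIU
  have hsmk : ∀ a : A, s (algebraMap A R a) = Ideal.Quotient.mk I a := fun a => s.commutes a
  have hmemJ : ∀ x, x ∈ J₀ ↔ s x = 0 := fun x => Iff.rfl
  have hIUJ : IU ≤ J₀ := by
    rw [hIU, Ideal.map_le_iff_le_comap]
    intro a ha
    rw [Ideal.mem_comap, hmemJ, hsmk]
    exact Ideal.Quotient.eq_zero_iff_mem.mpr ha
  have hP2 : J₀ ≤ J₀ * J₀ ⊔ IU := ker_le_sq_sup_map I Δ s'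
  obtain ⟨e₀, he₀1, he₀J⟩ := exists_elem_of_ker_le_sq_sup_map I s hP2
  have hlift : ∀ u : R, ∃ a : A, u - algebraMap A R a ∈ J₀ := by
    intro u
    obtain ⟨a, ha⟩ := Ideal.Quotient.mk_surjective (s u)
    exact ⟨a, by rw [hmemJ, map_sub, hsmk, ha, sub_self]⟩
  obtain ⟨e, he, hee₀⟩ := exists_idempotent_of_cyclic (I := I) e₀
    (by
      have : e₀ * e₀ - e₀ = e₀ * (e₀ - 1) := by ring
      rw [this]; exact he₀J _ he₀1)
    (by
      intro u
      obtain ⟨a, ha⟩ := hlift u
      refine ⟨a, ?_⟩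
      have : e₀ * u - a • e₀ = e₀ * (u - algebraMap A R a) := by rw [Algebra.smul_def]; ring
      rw [this]; exact he₀J _ ha)
  have he1 : e - 1 ∈ J₀ := by
    have : e - 1 = (e - e₀) + (e₀ - 1) := by ring
    rw [this]; exact J₀.add_mem (hIUJ hee₀) he₀1
  have hse : s e = 1 := by
    have := (hmemJ _).mp he1
    rwa [map_sub, map_one, sub_eq_zero] at this
  have heJ : ∀ j ∈ J₀, e * j ∈ IU := by
    intro j hj
    have : e * j = e₀ * j + (e - e₀) * j := by ring
    rw [this]; exact IU.add_mem (he₀J j hj) (IU.mul_mem_right _ hee₀)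
  -- the quotient `E = R ⧸ (1 - e)`
  set L : Ideal R := Ideal.span {1 - e} with hL
  have hmkE : Function.Surjective (Ideal.Quotient.mk L) := Ideal.Quotient.mk_surjective
  have hEfin : Module.Finite A (R ⧸ L) :=
    Module.Finite.of_surjective (Ideal.Quotient.mkₐ A L).toLinearMap hmkE
  have hmke : Ideal.Quotient.mk L e = 1 := by
    rw [← map_one (Ideal.Quotient.mk L), eq_comm, Ideal.Quotient.eq]
    exact Ideal.subset_span rfl
  have hIE : ∀ x ∈ IU, Ideal.Quotient.mk L x ∈ I.map (algebraMap A (R ⧸ L)) := by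
    intro x hx
    have : I.map (algebraMap A (R ⧸ L)) = IU.map (Ideal.Quotient.mk L) := by
      rw [hIU, Ideal.map_map]; rfl
    rw [this]; exact Ideal.mem_map_of_mem _ hx
  have hkey : ∀ u : R, ∀ a : A, u - algebraMap A R a ∈ J₀ →
      Ideal.Quotient.mk L u - algebraMap A (R ⧸ L) a ∈ I.map (algebraMap A (R ⧸ L)) := by
    intro u a h
    have : Ideal.Quotient.mk L u - algebraMap A (R ⧸ L) a =
        Ideal.Quotient.mk L (e * (u - algebraMap A R a)) := by
      rw [map_mul, hmke, one_mul, map_sub]; rfl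
    rw [this]; exact hIE _ (heJ _ h)
  have hsurj : Function.Surjective (algebraMap A (R ⧸ L)) := by
    have hle : (⊤ : Submodule A (R ⧸ L)) ≤ LinearMap.range (Algebra.linearMap A (R ⧸ L)) := by
      apply Submodule.le_of_le_smul_of_le_jacobson_bot Module.Finite.fg_top hjac
      intro y _
      obtain ⟨u, rfl⟩ := hmkE y
      obtain ⟨a, ha⟩ := hlift u
      have : Ideal.Quotient.mk L u = algebraMap A (R ⧸ L) a +
          (Ideal.Quotient.mk L u - algebraMap A (R ⧸ L) a) := by ring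
      rw [this]
      refine Submodule.add_mem_sup ⟨a, rfl⟩ ?_
      rw [Ideal.smul_top_eq_map]
      exact hkey u a ha
    intro y
    obtain ⟨a, ha⟩ := hle (Submodule.mem_top (x := y))
    exact ⟨a, ha⟩
  let sE : (R ⧸ L) →ₐ[A] A ⧸ I := Ideal.Quotient.liftₐ L s (by
    intro x hx
    rw [hL, Ideal.mem_span_singleton] at hx
    obtain ⟨y, rfl⟩ := hx
    rw [map_mul, map_sub, map_one, hse, sub_self, zero_mul])
  have hsE : ∀ u, sE (Ideal.Quotient.mk L u) = s u := fun u => rfl
  have hker : RingHom.ker (algebraMap A (R ⧸ L)) ≤ I := by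
    intro a ha
    have : sE (algebraMap A (R ⧸ L) a) = 0 := by rw [RingHom.mem_ker.mp ha, map_zero]
    rw [AlgHom.commutes] at this
    exact Ideal.Quotient.eq_zero_iff_mem.mp this
  have hint : Algebra.IsIntegral A (R ⧸ L) := Algebra.IsIntegral.of_finite A (R ⧸ L)
  have hΔE : IsUnit (Ideal.Quotient.mkₐ A L Δ) := by
    have hΔ' : IsUnit (s Δ) := ((IsLocalization.Away.algebraMap_isUnit Δ).map s')
    obtain ⟨c, hc⟩ := hΔ'.exists_right_inv
    obtain ⟨c₀, rfl⟩ := Ideal.Quotient.mk_surjective c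
    have hx : Δ * algebraMap A R c₀ - algebraMap A R 1 ∈ J₀ := by
      rw [hmemJ, map_sub, map_mul, hsmk, hsmk, hc, map_one, sub_self]
    have h1 := hkey _ 1 hx
    have hjE := map_le_jacobson_bot_of_isIntegral (B := R ⧸ L) hjac h1
    have h2 := isUnit_add_of_mem_jacobson_bot isUnit_one hjE
    rw [map_one, add_sub_cancel, map_mul] at h2
    exact isUnit_of_mul_isUnit_left h2
  let ρ : R' →ₐ[A] R ⧸ L := IsLocalization.Away.liftAlgHom Δ (f := Ideal.Quotient.mkₐ A L) hΔE
  have hρ : ∀ x : R, ρ (algebraMap R R' x) = Ideal.Quotient.mk L x := fun x => by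
    simp [ρ, IsLocalization.Away.liftAlgHom_apply, IsLocalization.Away.lift_eq]
  let algR'E : Algebra R' (R ⧸ L) := ρ.toRingHom.toAlgebra
  have hst1 : IsScalarTower R R' (R ⧸ L) :=
    IsScalarTower.of_algebraMap_eq (fun x => (hρ x).symm)
  have hst2 : IsScalarTower A R' (R ⧸ L) :=
    IsScalarTower.of_algebraMap_eq (fun a => (ρ.commutes a).symm)
  have hlocE : IsLocalization.Away e (R ⧸ L) :=
    IsLocalization.away_of_isIdempotentElem he
      (by rw [Ideal.Quotient.algebraMap_eq, Ideal.mk_ker]) hmkE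
  let Nm : Submonoid R := Submonoid.powers e ⊔ Submonoid.powers Δ
  have hlocN : IsLocalization Nm (R ⧸ L) := by
    apply IsLocalization.of_le (Submonoid.powers e) Nm le_sup_left
    intro r hr
    obtain ⟨y, ⟨m, rfl⟩, z, ⟨k, rfl⟩, rfl⟩ := Submonoid.mem_sup.mp hr
    rw [map_mul, map_pow, map_pow]
    have hue : IsUnit (algebraMap R (R ⧸ L) e) := by
      rw [Ideal.Quotient.algebraMap_eq, hmke]; exact isUnit_one
    exact (hue.pow m).mul (hΔE.pow k)
  have hloc' : IsLocalization (Nm.map (algebraMap R R')) (R ⧸ L) :=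
    IsLocalization.isLocalization_of_submonoid_le R' (R ⧸ L) (Submonoid.powers Δ) Nm le_sup_right
  have hfe1 : Algebra.FormallyEtale R' (R ⧸ L) :=
    Algebra.FormallyEtale.of_isLocalization (Nm.map (algebraMap R R'))
  have hfe : Algebra.FormallyEtale A (R ⧸ L) := Algebra.FormallyEtale.comp A R' (R ⧸ L)
  have hKidem := (Algebra.FormallyEtale.iff_of_surjective hsurj).mp hfe
  have hfp : Algebra.FinitePresentation A (R ⧸ L) :=
    Algebra.FinitePresentation.quotient (Submodule.fg_span_singleton _)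
  have hKfg : (RingHom.ker (algebraMap A (R ⧸ L))).FG :=
    Algebra.FinitePresentation.ker_fG_of_surjective (Algebra.ofId A (R ⧸ L)) hsurj
  obtain ⟨ε, hε, hKε⟩ := (Ideal.isIdempotentElem_iff_of_fg _ hKfg).mp hKidem
  have hε0 : ε = 0 := eq_zero_of_isIdempotentElem_of_mem_jacobson hε
    (hjac (hker (hKε ▸ Ideal.subset_span rfl)))
  have hinj : Function.Injective (algebraMap A (R ⧸ L)) := by
    rw [RingHom.injective_iff_ker_eq_bot, hKε, hε0]; simp
  let eqv : A ≃ₐ[A] (R ⧸ L) := AlgEquiv.ofBijective (Algebra.ofId A (R ⧸ L)) ⟨hinj, hsurj⟩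
  refine ⟨eqv.symm.toAlgHom.comp (Ideal.Quotient.mkₐ A L), ?_⟩
  ext u
  show Ideal.Quotient.mk I (eqv.symm (Ideal.Quotient.mk L u)) = s u
  obtain ⟨a, ha⟩ := hsurj (Ideal.Quotient.mk L u)
  have h1 : eqv.symm (Ideal.Quotient.mk L u) = a := by
    rw [← ha]; exact eqv.symm_apply_apply a
  rw [h1, ← hsE, ← ha, AlgHom.commutes]; rfl

end

end Groth.Agent.Lib.Helper3
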