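import Groth.Agent.Lib.Helper33.DeltaPrecomp
import Mathlib.CategoryTheory.Preadditive.Injective.Basic
import Mathlib.CategoryTheory.Adjunction.Limits
import Mathlib.CategoryTheory.Adjunction.Additive

/-!
# `Ext` and adjunctions between exact functors (helper3)

For an adjunction `L ⊣ R` between abelian categories with `L` and `R` exact,
`Extⁿ(Z, R -) ≅ Extⁿ(L Z, -)` as functors, by universality of δ-functors.
-/

set_option autoImplicit false
universe v u u'
open CategoryTheory CategoryTheory.Limits Opposite Abelian DeltaF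

namespace Groth.Agent.Lib.Helper3.ExtAdj

open Groth.Agent.Lib.Helper33.ExtDelta

variable {A : Type u} [Category.{v} A] [Abelian A] [HasExt.{v} A]
  {B : Type u'} [Category.{v} B] [Abelian B] [HasExt.{v} B]
  [EnoughInjectives B]
  {L : A ⥤ B} {R : B ⥤ A} (adj : L ⊣ R) [L.Additive] [R.Additive] [PreservesFiniteLimits R]
  [PreservesFiniteColimits R] [L.PreservesMonomorphisms] (Z : A)

/-- `Hom(Z, R -) ≅ Hom(L Z, -)` -/
noncomputable def coyonedaAdjIso :
    R ⋙ preadditiveCoyoneda.obj (op Z) ≅ preadditiveCoyoneda.obj (op (L.obj Z)) :=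
  NatIso.ofComponents
    (fun N => (adj.homAddEquiv Z N).symm.toAddCommGrpIso)
    (by
      intro N N' f
      ext (g : Z ⟶ R.obj N)
      exact adj.homEquiv_naturality_right_symm g f)

include adj

/-- **`Extⁿ(Z, R -) ≅ Extⁿ(L Z, -)` for an adjunction `L ⊣ R` of exact functors.** -/
theorem nonempty_extFunctor_iso (n : ℕ) :
    Nonempty (R ⋙ (extFunctor.{v} n).obj (op Z) ≅ (extFunctor.{v} n).obj (op (L.obj Z))) := by
  have hT : (precompDelta R (extDelta.{v} Z)).IsUniversal := by
    apply Groth.Agent.S6773.result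
    rw [Groth.Agent.S14349.result]
    intro n I hI
    have : Injective (R.obj I) := Injective.injective_of_adjoint adj I
    have : Subsingleton (Ext.{v} Z (R.obj I) (n + 1)) :=
      subsingleton_of_forall_eq 0 (fun x => Ext.eq_zero_of_injective x)
    exact AddCommGrpCat.isZero_of_subsingleton
      (AddCommGrpCat.of (Ext.{v} Z (R.obj I) (n + 1)))
  exact nonempty_iso_of_isUniversal (precompDelta R (extDelta.{v} Z)) (extDelta.{v} (L.obj Z)) hT
    (extDelta_isUniversal (L.obj Z))
    (Functor.isoWhiskerLeft R (coyonedaIsoExtZero Z).symm ≪≫ coyonedaAdjIso adj Z ≪≫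
      coyonedaIsoExtZero (L.obj Z)) n

theorem subsingleton_ext (n : ℕ) (G : B) (h : Subsingleton (Ext.{v} (L.obj Z) G n)) :
    Subsingleton (Ext.{v} Z (R.obj G) n) := by
  obtain ⟨e⟩ := nonempty_extFunctor_iso adj Z n
  let e' := (e.app G).addCommGroupIsoToAddEquiv
  haveI : Subsingleton ↑(((extFunctor n).obj (op (L.obj Z))).obj G) := h
  exact e'.toEquiv.subsingleton

end Groth.Agent.Lib.Helper3.ExtAdj
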