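import Groth.Agent.Lib.Helper3.EtaleSection

/-!
# Lifting coprime monic factorizations over a Henselian pair (helper3)
-/

set_option autoImplicit false
universe u

namespace Groth.Agent.Lib.Helper3

open Polynomial

section UFR

variable {R : Type u} [CommRing R] {n : ℕ} (m k : ℕ) (hn : n = m + k) (p : MonicDegreeEq R n)
  {S T : Type*} [CommRing S] [Algebra R S] [CommRing T] [Algebra R T]

set_option backward.isDefEq.respectTransparency.types false in
theorem ufr_homEquiv_comp_fst (f : UniversalFactorizationRing m k hn p →ₐ[R] S) (g : S →ₐ[R] T) :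
    (UniversalFactorizationRing.homEquiv T m k hn p (g.comp f)).1.1 =
      (UniversalFactorizationRing.homEquiv S m k hn p f).1.1.map g := by
  ext1
  simp [UniversalFactorizationRing.homEquiv, Polynomial.map_map]
  rfl

set_option backward.isDefEq.respectTransparency.types false in
theorem ufr_homEquiv_comp_snd (f : UniversalFactorizationRing m k hn p →ₐ[R] S) (g : S →ₐ[R] T) :
    (UniversalFactorizationRing.homEquiv T m k hn p (g.comp f)).1.2 =
      (UniversalFactorizationRing.homEquiv S m k hn p f).1.2.map g := by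
  ext1
  simp [UniversalFactorizationRing.homEquiv, Polynomial.map_map]
  rfl

theorem ucfr_homEquiv_val (f : UniversalCoprimeFactorizationRing m k hn p →ₐ[R] S) :
    (UniversalCoprimeFactorizationRing.homEquiv S m k hn p f).1 =
    (UniversalFactorizationRing.homEquiv S m k hn p (f.comp (IsScalarTower.toAlgHom R _ _))).1 :=
  rfl

end UFR

/-- **Hensel's lemma for factorizations** over a Henselian pair (in Mathlib's root-lifting sense):
coprime monic factorizations modulo `I` of a monic polynomial lift. -/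
theorem exists_factorization_lift {A : Type u} [CommRing A] (I : Ideal A) [HenselianRing A I]
    (f : A[X]) (hf : f.Monic) (g₀ h₀ : (A ⧸ I)[X]) (hg₀ : g₀.Monic) (hh₀ : h₀.Monic)
    (hcop : IsCoprime g₀ h₀) (H : f.map (Ideal.Quotient.mk I) = g₀ * h₀) :
    ∃ g h : A[X], g.Monic ∧ h.Monic ∧ f = g * h ∧
      g.map (Ideal.Quotient.mk I) = g₀ ∧ h.map (Ideal.Quotient.mk I) = h₀ := by
  rcases subsingleton_or_nontrivial (A ⧸ I) with hsub | hnt
  · have h1 : (1 : A) ∈ I := by
      rw [← Ideal.Quotient.eq_zero_iff_mem]; exact Subsingleton.elim _ _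
    have h3 : (1 : A) ∈ Ideal.jacobson (⊥ : Ideal A) := HenselianRing.jac h1
    have h4 : IsUnit ((1 : A) * (-1) + 1) := Ideal.mem_jacobson_bot.mp h3 (-1)
    have h5 : (0 : A) = 1 := by
      have : IsUnit (0 : A) := by simpa using h4
      exact isUnit_zero_iff.mp this
    have : Subsingleton A := subsingleton_of_zero_eq_one h5
    exact ⟨1, 1, monic_one, monic_one, Subsingleton.elim _ _, Subsingleton.elim _ _,
      Subsingleton.elim _ _⟩
  · set m := g₀.natDegree with hm
    set k := h₀.natDegree with hk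
    have hn : f.natDegree = m + k := by
      have := congrArg natDegree H
      rwa [hf.natDegree_map, hg₀.natDegree_mul hh₀] at this
    let p : MonicDegreeEq A f.natDegree := .mk f hf rfl
    let q₀ : { q : MonicDegreeEq (A ⧸ I) m × MonicDegreeEq (A ⧸ I) k //
        q.1.1 * q.2.1 = p.1.map (algebraMap A (A ⧸ I)) ∧ IsCoprime q.1.1 q.2.1 } :=
      ⟨(.mk g₀ hg₀ rfl, .mk h₀ hh₀ rfl), H.symm, hcop⟩
    let s' := (UniversalCoprimeFactorizationRing.homEquiv (A ⧸ I) m k hn p).symm q₀
    obtain ⟨τ, hτ⟩ := exists_algHom_lift_of_finite_of_away I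
      (R := UniversalFactorizationRing m k hn p)
      (R' := UniversalCoprimeFactorizationRing m k hn p)
      (UniversalFactorizationRing.presentation m k hn p).jacobian s'
    let q := UniversalFactorizationRing.homEquiv A m k hn p τ
    have hs' : (UniversalFactorizationRing.homEquiv (A ⧸ I) m k hn p
        (s'.comp (IsScalarTower.toAlgHom A _ _))).1 = q₀.1 := by
      rw [← ucfr_homEquiv_val]
      exact congrArg Subtype.val
        ((UniversalCoprimeFactorizationRing.homEquiv (A ⧸ I) m k hn p).apply_symm_apply q₀)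
    have hq1 := ufr_homEquiv_comp_fst m k hn p τ (Ideal.Quotient.mkₐ A I)
    have hq2 := ufr_homEquiv_comp_snd m k hn p τ (Ideal.Quotient.mkₐ A I)
    rw [hτ, hs'] at hq1 hq2
    refine ⟨q.1.1.1, q.1.2.1, q.1.1.monic, q.1.2.monic, ?_, ?_, ?_⟩
    · have h1 : q.1.1.1 * q.1.2.1 = Polynomial.map (algebraMap A A) p.1 := q.2
      have h2 : Polynomial.map (algebraMap A A) p.1 = f := by
        rw [Algebra.algebraMap_self, Polynomial.map_id]; rfl
      exact (h1.trans h2).symm
    · exact (congrArg Subtype.val hq1).symm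
    · exact (congrArg Subtype.val hq2).symm

/-- The converse: lifting of coprime monic factorizations (and `I ≤ jac`) gives root lifting. -/
theorem henselianRing_of_factor_lift {A : Type u} [CommRing A] (I : Ideal A)
    (hjac : I ≤ Ideal.jacobson ⊥)
    (hlift : ∀ f : A[X], f.Monic → ∀ g₀ h₀ : (A ⧸ I)[X], g₀.Monic → h₀.Monic →
      IsCoprime g₀ h₀ → f.map (Ideal.Quotient.mk I) = g₀ * h₀ →
      ∃ g h : A[X], g.Monic ∧ h.Monic ∧ f = g * h ∧
        g.map (Ideal.Quotient.mk I) = g₀ ∧ h.map (Ideal.Quotient.mk I) = h₀) :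
    HenselianRing A I where
  jac := hjac
  is_henselian := by
    intro f hf a₀ h₁ h₂
    rcases subsingleton_or_nontrivial (A ⧸ I) with hsub | hnt
    · have := subsingleton_of_subsingleton_quotient hjac
      exact ⟨a₀, Subsingleton.elim _ _, by simp⟩
    set fb := f.map (Ideal.Quotient.mk I) with hfb
    set ab := Ideal.Quotient.mk I a₀ with hab
    have hroot : fb.IsRoot ab := by
      rw [IsRoot, hfb, hab, ← mk_eval_eq]
      exact Ideal.Quotient.eq_zero_iff_mem.mpr h₁
    set hb := fb /ₘ (X - C ab) with hhb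
    have hfact : (X - C ab) * hb = fb := mul_divByMonic_eq_iff_isRoot.mpr hroot
    have hfbm : fb.Monic := hf.map _
    have hhbm : hb.Monic := (monic_X_sub_C ab).of_mul_monic_left (hfact ▸ hfbm)
    have hder : hb.eval ab = Ideal.Quotient.mk I (f.derivative.eval a₀) := by
      rw [mk_eval_eq, ← derivative_map, ← hfb, ← hfact, ← hab]
      simp [derivative_mul]
    have hu : IsUnit (hb.eval ab) := hder ▸ h₂
    have hcop : IsCoprime (X - C ab) hb := by
      obtain ⟨v, hv⟩ := hu
      have hdiv : hb = (X - C ab) * (hb /ₘ (X - C ab)) + C (hb.eval ab) := by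
        have := modByMonic_add_div hb (X - C ab)
        rw [modByMonic_X_sub_C_eq_C_eval] at this
        exact this.symm.trans (by ring)
      refine ⟨-(C (↑v⁻¹ : A ⧸ I) * (hb /ₘ (X - C ab))), C (↑v⁻¹ : A ⧸ I), ?_⟩
      have h1 : C (↑v⁻¹ : A ⧸ I) * C (hb.eval ab) = 1 := by
        rw [← C_mul, ← hv, Units.inv_mul, C_1]
      linear_combination (C (↑v⁻¹ : A ⧸ I)) * hdiv + h1
    obtain ⟨g, h, hg, hh, hfgh, hgmap, hhmap⟩ := hlift f hf _ _ (monic_X_sub_C ab) hhbm hcop
      hfact.symm
    have hgdeg : g.natDegree = 1 := by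
      have := hg.natDegree_map (Ideal.Quotient.mk I)
      rw [hgmap, natDegree_X_sub_C] at this
      exact this.symm
    have hgeq := hg.eq_X_add_C hgdeg
    refine ⟨-g.coeff 0, ?_, ?_⟩
    · rw [IsRoot, hfgh, eval_mul]
      have : g.eval (-g.coeff 0) = 0 := by
        rw [hgeq]; simp
      rw [this, zero_mul]
    · have h0 : (g.map (Ideal.Quotient.mk I)).coeff 0 = -ab := by
        rw [hgmap]; simp
      rw [coeff_map] at h0
      rw [← Ideal.Quotient.eq_zero_iff_mem, map_sub, map_neg, h0, ← hab]
      ring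

end Groth.Agent.Lib.Helper3
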