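import Mathlib

/-!
# Sections of a filtered colimit of sheaves of sets over a quasi-compact object

Let `F : I ⥤ Cᵒᵖ ⥤ Type w` be a filtered diagram of sheaves on a site `(C, J)` with presheaf
colimit `Q`. If `U` is quasi-compact (every covering sieve contains a finite family generating a
covering sieve), the map `Q(U) → Q^#(U)` is injective; under a finiteness condition on fibre
products it is bijective.
-/

set_option autoImplicit false
set_option linter.style.haveILetI false
set_option linter.unusedSectionVars false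

universe w v₁ u₁

namespace Groth.Agent.Lib.Helper3.FilteredSections

open CategoryTheory CategoryTheory.Limits Opposite

section

variable {C : Type u₁} [Category.{v₁} C] {I : Type w} [SmallCategory I]
  (F : I ⥤ Cᵒᵖ ⥤ Type w) (c : Cocone F) (hc : IsColimit c)

include hc

/-- Every section of the colimit presheaf comes from some stage. -/
theorem colim_jointly_surjective (U : Cᵒᵖ) (x : c.pt.obj U) :
    ∃ (i : I) (y : (F.obj i).obj U), (c.ι.app i).app U y = x :=
  Types.jointly_surjective_of_isColimit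
    (isColimitOfPreserves ((evaluation Cᵒᵖ (Type w)).obj U) hc) x

/-- Two sections at the same stage that agree in the colimit agree at a later stage. -/
theorem colim_eq_iff [IsFiltered I] (U : Cᵒᵖ) {i : I} (a b : (F.obj i).obj U) :
    (c.ι.app i).app U a = (c.ι.app i).app U b ↔
      ∃ (j : I) (f : i ⟶ j), (F.map f).app U a = (F.map f).app U b :=
  Types.FilteredColimit.isColimit_eq_iff' (F := F ⋙ (evaluation Cᵒᵖ (Type w)).obj U)
    (isColimitOfPreserves ((evaluation Cᵒᵖ (Type w)).obj U) hc) a b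

omit hc in
/-- Compatibility of the cocone with transition maps, elementwise. -/
theorem colim_ι_map (U : Cᵒᵖ) {i j : I} (f : i ⟶ j) (y : (F.obj i).obj U) :
    (c.ι.app j).app U ((F.map f).app U y) = (c.ι.app i).app U y := by
  have := congrArg (fun t => t.app U y) (c.w f)
  exact this

omit hc in
/-- Naturality of the cocone legs, elementwise. -/
theorem colim_ι_naturality {U V : Cᵒᵖ} (φ : U ⟶ V) (i : I) (y : (F.obj i).obj U) :
    (c.ι.app i).app V ((F.obj i).map φ y) = c.pt.map φ ((c.ι.app i).app U y) :=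
  NatTrans.naturality_apply (c.ι.app i) φ y

/-- Finitely many sections of the colimit presheaf come from a common stage. -/
theorem colim_common_lift [IsFiltered I] {κ : Type} [Finite κ] (U : κ → Cᵒᵖ)
    (x : ∀ k, c.pt.obj (U k)) :
    ∃ (i : I) (y : ∀ k, (F.obj i).obj (U k)), ∀ k, (c.ι.app i).app (U k) (y k) = x k := by
  classical
  have := Fintype.ofFinite κ
  choose i₀ y₀ hy₀ using fun k => colim_jointly_surjective F c hc (U k) (x k)
  obtain ⟨S, hS⟩ := IsFiltered.sup_objs_exists (Finset.univ.image i₀)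
  have hu : ∀ k, Nonempty (i₀ k ⟶ S) := fun k =>
    hS (Finset.mem_image_of_mem _ (Finset.mem_univ k))
  refine ⟨S, fun k => (F.map (hu k).some).app (U k) (y₀ k), fun k => ?_⟩
  rw [colim_ι_map F c, hy₀]

/-- Finitely many pairs of sections at a common stage which agree in the colimit agree at a common
later stage. -/
theorem colim_common_eq [IsFiltered I] {κ : Type} [Finite κ] (U : κ → Cᵒᵖ) {i : I}
    (a b : ∀ k, (F.obj i).obj (U k))
    (h : ∀ k, (c.ι.app i).app (U k) (a k) = (c.ι.app i).app (U k) (b k)) :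
    ∃ (j : I) (f : i ⟶ j), ∀ k, (F.map f).app (U k) (a k) = (F.map f).app (U k) (b k) := by
  classical
  have := Fintype.ofFinite κ
  suffices H : ∀ s : Finset κ, ∃ (j : I) (f : i ⟶ j),
      ∀ k ∈ s, (F.map f).app (U k) (a k) = (F.map f).app (U k) (b k) by
    obtain ⟨j, f, hf⟩ := H Finset.univ
    exact ⟨j, f, fun k => hf k (Finset.mem_univ k)⟩
  intro s
  induction s using Finset.induction_on with
  | empty => exact ⟨i, 𝟙 i, by simp⟩
  | insert k₀ s hk₀ ih =>
    obtain ⟨j, f, hf⟩ := ih
    have h0 : (c.ι.app j).app (U k₀) ((F.map f).app (U k₀) (a k₀)) =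
        (c.ι.app j).app (U k₀) ((F.map f).app (U k₀) (b k₀)) := by
      rw [colim_ι_map F c, colim_ι_map F c, h k₀]
    obtain ⟨j', g, hg⟩ := (colim_eq_iff F c hc (U k₀) _ _).mp h0
    refine ⟨j', f ≫ g, fun k hk => ?_⟩
    rw [F.map_comp]
    rcases Finset.mem_insert.mp hk with rfl | hk'
    · exact hg
    · exact congrArg ((F.map g).app (U k)) (hf k hk')

end

section sheaf

variable {C : Type u₁} [Category.{v₁} C] {I : Type w} [SmallCategory I] [IsFiltered I]
  (F : I ⥤ Cᵒᵖ ⥤ Type w) (c : Cocone F) (hc : IsColimit c)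
  (J : GrothendieckTopology C) (hF : ∀ i, Presieve.IsSheaf J (F.obj i))

include hc hF

/-- Sections of the colimit presheaf agreeing on a finite family generating a covering sieve are
equal. -/
theorem colim_eq_of_forall_map_eq {X : C} {n : ℕ} (V : Fin n → C) (g : ∀ k, V k ⟶ X)
    (hT : Sieve.ofArrows V g ∈ J X) (t₁ t₂ : c.pt.obj (op X))
    (h : ∀ k, c.pt.map (g k).op t₁ = c.pt.map (g k).op t₂) : t₁ = t₂ := by
  classical
  obtain ⟨i, y, hy⟩ := colim_common_lift F c hc (κ := Fin 2) (fun _ => op X) ![t₁, t₂]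
  have hy₁ : (c.ι.app i).app (op X) (y 0) = t₁ := hy 0
  have hy₂ : (c.ι.app i).app (op X) (y 1) = t₂ := hy 1
  obtain ⟨j, f, hf⟩ := colim_common_eq F c hc (fun k => op (V k))
    (fun k => (F.obj i).map (g k).op (y 0)) (fun k => (F.obj i).map (g k).op (y 1)) (by
      intro k
      rw [colim_ι_naturality, colim_ι_naturality, hy₁, hy₂, h k])
  have hsep : Presieve.IsSeparatedFor (F.obj j) (Presieve.ofArrows V g) :=
    Presieve.isSeparatedFor_iff_generate.mpr (hF j _ hT).isSeparatedFor
  have hz : (F.map f).app (op X) (y 0) = (F.map f).app (op X) (y 1) := by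
    apply hsep.ext
    rintro Y _ ⟨k⟩
    have h1 := NatTrans.naturality_apply (F.map f) (g k).op (y 0)
    have h2 := NatTrans.naturality_apply (F.map f) (g k).op (y 1)
    rw [← h1, ← h2]
    exact hf k
  rw [← hy₁, ← hy₂, ← colim_ι_map F c (op X) f (y 0), ← colim_ι_map F c (op X) f (y 1), hz]

/-- Gluing sections of the colimit presheaf along a finite family generating a covering sieve,
given (weak) fibre products on which the sections are compatible. -/
theorem colim_exists_glue {X : C} {n : ℕ} (V : Fin n → C) (g : ∀ k, V k ⟶ X)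
    (hT : Sieve.ofArrows V g ∈ J X)
    (W : Fin n → Fin n → C) (p₁ : ∀ k l, W k l ⟶ V k) (p₂ : ∀ k l, W k l ⟶ V l)
    (hW : ∀ k l (Y : C) (a : Y ⟶ V k) (b : Y ⟶ V l), a ≫ g k = b ≫ g l →
      ∃ m : Y ⟶ W k l, m ≫ p₁ k l = a ∧ m ≫ p₂ k l = b)
    (x : ∀ k, c.pt.obj (op (V k)))
    (hx : ∀ k l, c.pt.map (p₁ k l).op (x k) = c.pt.map (p₂ k l).op (x l)) :
    ∃ t : c.pt.obj (op X), ∀ k, c.pt.map (g k).op t = x k := by
  classical
  obtain ⟨i, y, hy⟩ := colim_common_lift F c hc (fun k => op (V k)) x
  obtain ⟨j, f, hf⟩ := colim_common_eq F c hc (κ := Fin n × Fin n)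
    (fun kl => op (W kl.1 kl.2))
    (fun kl => (F.obj i).map (p₁ kl.1 kl.2).op (y kl.1))
    (fun kl => (F.obj i).map (p₂ kl.1 kl.2).op (y kl.2)) (by
      rintro ⟨k, l⟩
      dsimp only
      rw [colim_ι_naturality, colim_ι_naturality, hy, hy]
      exact hx k l)
  have hsh : Presieve.IsSheafFor (F.obj j) (Presieve.ofArrows V g) :=
    (Presieve.isSheafFor_iff_generate _).mpr (hF j _ hT)
  rw [Presieve.isSheafFor_arrows_iff] at hsh
  obtain ⟨t', ht', -⟩ := hsh (fun k => (F.map f).app (op (V k)) (y k)) (by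
    intro k l Y a b hab
    obtain ⟨m, hm₁, hm₂⟩ := hW k l Y a b hab
    have h1 := NatTrans.naturality_apply (F.map f) (p₁ k l).op (y k)
    have h2 := NatTrans.naturality_apply (F.map f) (p₂ k l).op (y l)
    have h3 : (F.obj j).map (p₁ k l).op ((F.map f).app (op (V k)) (y k)) =
        (F.obj j).map (p₂ k l).op ((F.map f).app (op (V l)) (y l)) := by
      rw [← h1, ← h2]
      exact hf (k, l)
    rw [← hm₁, ← hm₂, op_comp, op_comp, Functor.map_comp_apply,
      Functor.map_comp_apply, h3])
  refine ⟨(c.ι.app j).app (op X) t', fun k => ?_⟩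
  rw [← colim_ι_naturality, ht' k, colim_ι_map, hy]

end sheaf

section main

variable {C : Type u₁} [Category.{v₁} C] {I : Type w} [SmallCategory I] [IsFiltered I]
  (F : I ⥤ Cᵒᵖ ⥤ Type w) (c : Cocone F) (hc : IsColimit c)
  (J : GrothendieckTopology C) (hF : ∀ i, Presieve.IsSheaf J (F.obj i))
  {R : Cᵒᵖ ⥤ Type w} (φ : c.pt ⟶ R)

/-- An object is quasi-compact if each of its covering sieves contains a finite family generating
a covering sieve. -/
def QC (V : C) : Prop :=
  ∀ S ∈ J V, ∃ (n : ℕ) (W : Fin n → C) (g : ∀ k, W k ⟶ V),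
    (∀ k, S (g k)) ∧ Sieve.ofArrows W g ∈ J V

include hc hF

/-- A locally injective map out of the colimit presheaf is injective on sections over a
quasi-compact object. -/
theorem injective_of_qc [Presheaf.IsLocallyInjective J φ] {U : C} (hU : QC J U) :
    Function.Injective (φ.app (op U)) := by
  intro a b hab
  have hS := Presheaf.equalizerSieve_mem J φ a b hab
  obtain ⟨n, W, g, hg, hT⟩ := hU _ hS
  exact colim_eq_of_forall_map_eq F c hc J hF W g hT a b hg

/-- A locally bijective map from the colimit presheaf to a separated presheaf is surjective on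
sections over an object whose covering sieves contain finite generating families with
quasi-compact (weak) fibre products. -/
theorem surjective_of_qc [Presheaf.IsLocallyInjective J φ] [Presheaf.IsLocallySurjective J φ]
    (hR : Presieve.IsSeparated J R) {U : C}
    (hU : ∀ S ∈ J U, ∃ (n : ℕ) (V : Fin n → C) (g : ∀ k, V k ⟶ U),
      (∀ k, S (g k)) ∧ Sieve.ofArrows V g ∈ J U ∧
      ∃ (W : Fin n → Fin n → C) (p₁ : ∀ k l, W k l ⟶ V k) (p₂ : ∀ k l, W k l ⟶ V l),
        (∀ k l, p₁ k l ≫ g k = p₂ k l ≫ g l) ∧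
        (∀ k l (Y : C) (a : Y ⟶ V k) (b : Y ⟶ V l), a ≫ g k = b ≫ g l →
          ∃ m : Y ⟶ W k l, m ≫ p₁ k l = a ∧ m ≫ p₂ k l = b) ∧
        ∀ k l, QC J (W k l)) :
    Function.Surjective (φ.app (op U)) := by
  intro s
  obtain ⟨n, V, g, hg, hT, W, p₁, p₂, hp, hW, hqc⟩ := hU _ (Presheaf.imageSieve_mem J φ s)
  choose x hx using hg
  have hcompat : ∀ k l, c.pt.map (p₁ k l).op (x k) = c.pt.map (p₂ k l).op (x l) := by
    intro k l
    apply injective_of_qc F c hc J hF φ (hqc k l)
    have h1 := NatTrans.naturality_apply φ (p₁ k l).op (x k)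
    have h2 := NatTrans.naturality_apply φ (p₂ k l).op (x l)
    rw [h1, h2, hx k, hx l, ← Functor.map_comp_apply, ← Functor.map_comp_apply,
      ← op_comp, ← op_comp, hp k l]
  obtain ⟨t, ht⟩ := colim_exists_glue F c hc J hF V g hT W p₁ p₂ hW x hcompat
  refine ⟨t, ?_⟩
  refine (hR _ hT).ext ?_
  rintro Y f ⟨Z, h, _, ⟨k⟩, rfl⟩
  have h1 := NatTrans.naturality_apply φ (g k).op t
  rw [op_comp, Functor.map_comp_apply, Functor.map_comp_apply, ← h1, ht k, hx k]

end main

section functor

variable {C : Type u₁} [Category.{v₁} C] (J : GrothendieckTopology C)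
  [HasSheafify J (Type w)] [J.WEqualsLocallyBijective (Type w)]
  (I : Type w) [SmallCategory I] [IsFiltered I]

/-- Sections over `U` commute with filtered colimits of sheaves of sets, if `U` is quasi-compact
and every covering sieve of `U` contains a finite generating family with quasi-compact (weak) fibre
products. -/
theorem preservesColimitsOfShape_sections {U : C} (hqc : QC J U)
    (hU : ∀ S ∈ J U, ∃ (n : ℕ) (V : Fin n → C) (g : ∀ k, V k ⟶ U),
      (∀ k, S (g k)) ∧ Sieve.ofArrows V g ∈ J U ∧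
      ∃ (W : Fin n → Fin n → C) (p₁ : ∀ k l, W k l ⟶ V k) (p₂ : ∀ k l, W k l ⟶ V l),
        (∀ k l, p₁ k l ≫ g k = p₂ k l ≫ g l) ∧
        (∀ k l (Y : C) (a : Y ⟶ V k) (b : Y ⟶ V l), a ≫ g k = b ≫ g l →
          ∃ m : Y ⟶ W k l, m ≫ p₁ k l = a ∧ m ≫ p₂ k l = b) ∧
        ∀ k l, QC J (W k l)) :
    PreservesColimitsOfShape I
      (sheafToPresheaf J (Type w) ⋙ (evaluation Cᵒᵖ (Type w)).obj (op U)) := by
  constructor
  intro K
  let P := K ⋙ sheafToPresheaf J (Type w)
  let cP := colimit.cocone P
  have hcP : IsColimit cP := colimit.isColimit P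
  have hcol := Sheaf.isColimitSheafifyCocone cP hcP
  apply preservesColimit_of_preserves_colimit_cocone hcol
  have h1 : IsColimit (((evaluation Cᵒᵖ (Type w)).obj (op U)).mapCocone cP) :=
    isColimitOfPreserves _ hcP
  have hF : ∀ i, Presieve.IsSheaf J (P.obj i) := fun i =>
    (isSheaf_iff_isSheaf_of_type J _).1 (K.obj i).2
  have hR : Presieve.IsSeparated J (sheafify J cP.pt) :=
    ((isSheaf_iff_isSheaf_of_type J _).1 ((presheafToSheaf J (Type w)).obj cP.pt).2).isSeparated
  have hbij : Function.Bijective ((toSheafify J cP.pt).app (op U)) :=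
    ⟨injective_of_qc P cP hcP J hF _ hqc, surjective_of_qc P cP hcP J hF _ hR hU⟩
  let e : cP.pt.obj (op U) ≅ (sheafify J cP.pt).obj (op U) :=
    (Equiv.ofBijective _ hbij).toIso
  refine IsColimit.ofIsoColimit h1 (Cocone.ext e (fun i => ?_))
  have := congrArg (fun m => m.app (op U)) (Sheaf.sheafifyCocone_ι_app_val cP i)
  exact this.symm

end functor

end Groth.Agent.Lib.Helper3.FilteredSections
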