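import Groth.Agent.Lib.Helper3.IntPropC
import Groth.Agent.Lib.Helper43.Recoll
import Groth.Agent.Lib.Helper43.SuppPush
import Mathlib.AlgebraicGeometry.Morphisms.UniversallyInjective

/-!
# Integral universally injective morphisms: `f_*` is fully faithful (helper3)

Built on helper43's stalk library (`ClosedStalk`, `PullStalk`, `EtStalk`) and on the local form of
condition (C) for integral morphisms injective on points (`IntPropC.propC_local`).
-/

set_option linter.style.haveILetI false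
set_option linter.unusedSectionVars false
set_option autoImplicit false
set_option backward.isDefEq.respectTransparency.types false

universe u

open CategoryTheory CategoryTheory.Limits AlgebraicGeometry Opposite TopologicalSpace

namespace Groth.Agent.Lib.Helper3.IntUnivInj

open Groth.Agent.Lib.Helper3 Groth.Agent.Lib.Helper43 Groth.Agent.Lib.Helper43.EtStalk
  Groth.Agent.S0100 Groth.Agent.Lib.Helper43.ClosedStalk

/-- étale neighbourhoods lift along integral morphisms injective on points, locally around a point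
(the analogue of `EtLift.lift_at`). -/
lemma lift_at {X Y : Scheme.{u}} (f : X ⟶ Y) [IsIntegralHom f] (hf : Function.Injective f)
    (U : X.Etale) (x : U.left) :
    ∃ (V : Y.Etale) (h : pullback V.hom f ⟶ U.left),
      h ≫ U.hom = pullback.snd V.hom f ∧ Etale h ∧ ∃ y, h.base y = x := by
  let g : U.left ⟶ X := U.hom
  haveI : Etale g := inferInstanceAs (Etale U.hom)
  obtain ⟨V, v, hv, h₀, hh₀, z, hz⟩ := IntPropC.propC_local f hf g x
  haveI : Etale v := hv
  let σ : pullback v f ≅ pullback f v := pullbackSymmetry v f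
  have hσ : σ.hom ≫ pullback.fst f v = pullback.snd v f := pullbackSymmetry_hom_comp_fst v f
  let h : pullback v f ⟶ U.left := σ.hom ≫ h₀
  have hh : h ≫ g = pullback.snd v f := by
    rw [Category.assoc, hh₀, hσ]
  have hEt : Etale h := by
    haveI : Etale (h ≫ g) := by rw [hh]; infer_instance
    exact MorphismProperty.of_postcomp (W := @Etale) (W' := @Etale) h g inferInstance inferInstance
  refine ⟨Scheme.Etale.mk v, h, hh, hEt, σ.inv z, ?_⟩
  change h₀ (σ.hom (σ.inv z)) = x
  rw [← Scheme.Hom.comp_apply σ.inv, Iso.inv_hom_id]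
  exact hz

section Helpers

variable {Z X : Scheme.{u}} (i : Z ⟶ X) (G : EtCoh.Ab Z)
  {Ω : Type u} [Field Ω] [IsSepClosed Ω] (ζ : Spec (CommRingCat.of Ω) ⟶ Z)

lemma pushStalkMap_surjective' [IsIntegralHom i] [UniversallyInjective i] : Function.Surjective (pushStalkMap i G ζ) := by
  intro b
  let Φ := Scheme.pointSmallEtale ζ
  obtain ⟨V, y, s, rfl⟩ := Φ.toPresheafFiber_jointly_surjective (P := G.obj) b
  let yl : Spec (CommRingCat.of Ω) ⟶ V.left := y.left
  have hyl : yl ≫ V.hom = ζ := Over.w y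
  obtain ⟨W, h, h1, h2, p, hp⟩ := lift_at i i.injective V (yl.base default)
  obtain ⟨l, hl₁, hl₂⟩ := Scheme.exists_fac_of_etale_of_isSepClosed h yl p hp
  let h' : (EtCoh.bc i).obj W ⟶ V := MorphismProperty.Over.homMk h h1
  let y' : Φ.fiber.obj ((EtCoh.bc i).obj W) := Over.homMk l (by
    change l ≫ pullback.snd W.hom i = ζ
    rw [← h1, ← Category.assoc, hl₁]
    exact hyl)
  have hy' : Φ.fiber.map h' y' = y := Over.OverMorphism.ext hl₁
  let z := (fiberEquiv i ζ W).symm y'
  refine ⟨(Scheme.pointSmallEtale (ζ ≫ i)).toPresheafFiber W z ((EtCoh.push i).obj G).obj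
    (G.obj.map h'.op s), ?_⟩
  rw [toFiber_pushStalkMap_apply]
  rw [show fiberEquiv i ζ W z = y' from (fiberEquiv i ζ W).apply_symm_apply y']
  rw [Φ.toPresheafFiber_w_apply h' y' G.obj, hy']

lemma pushStalkMap_injective' [IsIntegralHom i] [UniversallyInjective i] : Function.Injective (pushStalkMap i G ζ) := by
  intro a₁ a₂ ha
  let Φ := Scheme.pointSmallEtale ζ
  let Φ' := Scheme.pointSmallEtale (ζ ≫ i)
  obtain ⟨W, z, s₁, s₂, rfl, rfl⟩ := Φ'.toPresheafFiber_jointly_surjective₂
    (P := ((EtCoh.push i).obj G).obj) a₁ a₂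
  rw [toFiber_pushStalkMap_apply, toFiber_pushStalkMap_apply] at ha
  obtain ⟨V, g, y, hy, hs⟩ := (Φ.toPresheafFiber_eq_iff' _ _ _ _).1 ha
  let WL : Scheme.{u} := W.left
  let wh : WL ⟶ X := W.hom
  let BW : Scheme.{u} := pullback wh i
  let iW : BW ⟶ WL := pullback.fst wh i
  let VL : Scheme.{u} := V.left
  let vh : VL ⟶ Z := V.hom
  let gl : VL ⟶ BW := g.left
  have hgl : gl ≫ pullback.snd wh i = vh := MorphismProperty.Over.w g
  have hgl_et : Etale gl := inferInstanceAs (Etale g.left)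
  let VB : BW.Etale := Scheme.Etale.mk gl
  let yl : Spec (CommRingCat.of Ω) ⟶ VL := y.left
  let zl : Spec (CommRingCat.of Ω) ⟶ WL := z.left
  have hzl : zl ≫ wh = ζ ≫ i := Over.w z
  have hyg : yl ≫ gl = pullback.lift zl ζ hzl := congrArg (fun t => Over.Hom.left t) hy
  haveI : IsIntegralHom iW := inferInstanceAs (IsIntegralHom (pullback.fst wh i))
  haveI : UniversallyInjective iW :=
    MorphismProperty.pullback_fst (P := @UniversallyInjective) wh i inferInstance
  obtain ⟨W', h, h1, h2, p, hp⟩ := lift_at iW iW.injective VB (yl.base default)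
  let WL' : Scheme.{u} := W'.left
  let wh' : WL' ⟶ WL := W'.hom
  let h₀ : pullback wh' iW ⟶ VL := h
  have h1' : h₀ ≫ gl = pullback.snd wh' iW := h1
  obtain ⟨l, hl₁, hl₂⟩ := Scheme.exists_fac_of_etale_of_isSepClosed h yl p hp
  let l₀ : Spec (CommRingCat.of Ω) ⟶ pullback wh' iW := l
  have hl₁' : l₀ ≫ h₀ = yl := hl₁
  let W'' : X.Etale := Scheme.Etale.mk (wh' ≫ wh)
  let w : W'' ⟶ W := MorphismProperty.Over.homMk wh' rfl
  have hcond : (pullback.fst (wh' ≫ wh) i ≫ wh') ≫ wh = pullback.snd (wh' ≫ wh) i ≫ i :=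
    (Category.assoc _ _ _).trans pullback.condition
  let ν : pullback (wh' ≫ wh) i ⟶ BW :=
    pullback.lift (pullback.fst (wh' ≫ wh) i ≫ wh') (pullback.snd (wh' ≫ wh) i) hcond
  have hν1 : ν ≫ iW = pullback.fst (wh' ≫ wh) i ≫ wh' := pullback.lift_fst _ _ _
  have hν2 : ν ≫ pullback.snd wh i = pullback.snd (wh' ≫ wh) i := pullback.lift_snd _ _ _
  let μ : pullback (wh' ≫ wh) i ⟶ pullback wh' iW :=
    pullback.lift (pullback.fst (wh' ≫ wh) i) ν hν1.symm
  have hμ1 : μ ≫ pullback.fst wh' iW = pullback.fst (wh' ≫ wh) i := pullback.lift_fst _ _ _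
  have hμ2 : μ ≫ pullback.snd wh' iW = ν := pullback.lift_snd _ _ _
  have hμg : (μ ≫ h₀) ≫ gl = ν :=
    (Category.assoc _ _ _).trans ((congrArg (fun t => μ ≫ t) h1').trans hμ2)
  have hm0 : (μ ≫ h₀) ≫ vh = pullback.snd (wh' ≫ wh) i :=
    (congrArg (fun t => (μ ≫ h₀) ≫ t) hgl.symm).trans
      ((Category.assoc _ _ _).symm.trans
        ((congrArg (fun t => t ≫ pullback.snd wh i) hμg).trans hν2))
  let m : (EtCoh.bc i).obj W'' ⟶ V := MorphismProperty.Over.homMk (μ ≫ h₀) hm0
  have hm : m ≫ g = (EtCoh.bc i).map w := by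
    apply MorphismProperty.Over.Hom.ext
    change (μ ≫ h₀) ≫ gl = ((EtCoh.bc i).map w).left
    rw [hμg]
    apply pullback.hom_ext
    · exact hν1.trans (bc_map_left_fst i w).symm
    · exact hν2.trans (bc_map_left_snd i w).symm
  have hc : (l₀ ≫ pullback.fst wh' iW) ≫ wh' = zl := by
    calc (l₀ ≫ pullback.fst wh' iW) ≫ wh' = l₀ ≫ (pullback.fst wh' iW ≫ wh') :=
          Category.assoc _ _ _
      _ = l₀ ≫ (pullback.snd wh' iW ≫ iW) := by rw [pullback.condition]
      _ = l₀ ≫ ((h₀ ≫ gl) ≫ iW) := by rw [h1']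
      _ = ((l₀ ≫ h₀) ≫ gl) ≫ iW := by simp only [Category.assoc]
      _ = (pullback.lift zl ζ hzl) ≫ iW := by rw [hl₁', hyg]
      _ = zl := pullback.lift_fst _ _ _
  let z'' : Φ'.fiber.obj W'' := Over.homMk (l₀ ≫ pullback.fst wh' iW) (by
    change (l₀ ≫ pullback.fst wh' iW) ≫ wh' ≫ wh = ζ ≫ i
    rw [← Category.assoc, hc]
    exact hzl)
  have hz'' : Φ'.fiber.map w z'' = z := Over.OverMorphism.ext hc
  rw [← hz'', ← Φ'.toPresheafFiber_w_apply w z'', ← Φ'.toPresheafFiber_w_apply w z'']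
  congr 1
  change G.obj.map ((EtCoh.bc i).map w).op s₁ = G.obj.map ((EtCoh.bc i).map w).op s₂
  rw [← hm, op_comp, G.obj.map_comp]
  exact congrArg (G.obj.map m.op) hs

theorem isIso_pushStalkMap' [IsIntegralHom i] [UniversallyInjective i] :
    IsIso (pushStalkMap i G ζ) :=
  (ConcreteCategory.isIso_iff_bijective _).2
    ⟨pushStalkMap_injective' i G ζ, pushStalkMap_surjective' i G ζ⟩

/-- on stalks the counit is an isomorphism -/
lemma isIso_stalk_counit' [IsIntegralHom i] [UniversallyInjective i] :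
    IsIso ((Scheme.pointSmallEtale ζ).presheafFiber.map (ε i G).hom) := by
  have h1 := pullStalkMap_counit i G ζ
  have h2 : IsIso (PullStalk.pullStalkMap i ((EtCoh.push i).obj G) ζ) :=
    PullStalk.isIso_pullStalkMap i _ ζ
  have h3 : IsIso (pushStalkMap i G ζ) := isIso_pushStalkMap' i G ζ
  have h4 : (Scheme.pointSmallEtale ζ).presheafFiber.map (ε i G).hom =
      inv (PullStalk.pullStalkMap i ((EtCoh.push i).obj G) ζ) ≫ pushStalkMap i G ζ := by
    rw [IsIso.eq_inv_comp]
    exact h1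
  rw [h4]
  infer_instance

/-- the unit `F ⟶ i_* i^{-1} F` is an isomorphism on stalks at geometric points of `Z` -/
lemma isIso_stalk_unit' [IsIntegralHom i] [UniversallyInjective i] (F : EtCoh.Ab X) :
    IsIso ((Scheme.pointSmallEtale (ζ ≫ i)).presheafFiber.map (PullStalk.η i F).hom) := by
  have h1 := stalk_unit_pushStalkMap i F ζ
  have h2 : IsIso (PullStalk.pullStalkMap i F ζ) := PullStalk.isIso_pullStalkMap i _ ζ
  have h3 : IsIso (pushStalkMap i ((EtCoh.pull i).obj F) ζ) := isIso_pushStalkMap' i _ ζ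
  have h4 : (Scheme.pointSmallEtale (ζ ≫ i)).presheafFiber.map (PullStalk.η i F).hom =
      PullStalk.pullStalkMap i F ζ ≫ inv (pushStalkMap i ((EtCoh.pull i).obj F) ζ) := by
    rw [IsIso.eq_comp_inv]
    exact h1
  rw [h4]
  infer_instance

end Helpers

/-- the counit `i^{-1} i_* G ⟶ G` is an isomorphism for an integral universally injective
morphism -/
lemma isIso_counit' {Z X : Scheme.{u}} (i : Z ⟶ X) [IsIntegralHom i] [UniversallyInjective i]
    (G : EtCoh.Ab Z) : IsIso (ε i G) := by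
  have key : ∀ (Ω : Type u) [Field Ω] [IsSepClosed Ω] (ζ : Spec (CommRingCat.of Ω) ⟶ Z),
      IsIso (((Scheme.pointSmallEtale ζ).sheafFiber (A := AddCommGrpCat.{u + 1})).map (ε i G)) :=
    fun Ω _ _ ζ => isIso_stalk_counit' i G ζ
  have hm : Mono (ε i G) := mono_of_stalks_ab _ (fun Ω _ _ ζ =>
    haveI := key Ω ζ
    (ConcreteCategory.bijective_of_isIso _).1)
  have he : Epi (ε i G) := epi_of_stalks_ab _ (fun Ω _ _ ζ =>
    haveI := key Ω ζ
    (ConcreteCategory.bijective_of_isIso _).2)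
  exact isIso_of_mono_of_epi _

/-- If the stalk at a geometric point vanishes after enlarging the separably closed field, then it
vanishes. -/
lemma subsingleton_stalk_of_extension {Y : Scheme.{u}} (H : EtCoh.Ab Y) {Ω Ω' : Type u}
    [Field Ω] [IsSepClosed Ω] [Field Ω'] [IsSepClosed Ω']
    (ξ : Spec (CommRingCat.of Ω) ⟶ Y) (π : Spec (CommRingCat.of Ω') ⟶ Spec (CommRingCat.of Ω))
    (h : Subsingleton ↑((Scheme.pointSmallEtale (π ≫ ξ)).presheafFiber.obj H.obj)) :
    Subsingleton ↑((Scheme.pointSmallEtale ξ).presheafFiber.obj H.obj) := by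
  let Φ := Scheme.pointSmallEtale ξ
  let Φ' := Scheme.pointSmallEtale (π ≫ ξ)
  constructor
  suffices h0 : ∀ a : ↑(Φ.presheafFiber.obj H.obj), a = 0 by
    intro a b
    rw [h0 a, h0 b]
  intro a
  obtain ⟨U, y, s, rfl⟩ := Φ.toPresheafFiber_jointly_surjective (P := H.obj) a
  let yl : Spec (CommRingCat.of Ω) ⟶ U.left := y.left
  have hyl : yl ≫ U.hom = ξ := Over.w y
  let y' : Φ'.fiber.obj U := Over.homMk (π ≫ yl) (by
    change (π ≫ yl) ≫ U.hom = π ≫ ξ
    rw [Category.assoc, hyl])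
  have heq : Φ'.toPresheafFiber U y' H.obj s = Φ'.toPresheafFiber U y' H.obj 0 :=
    Subsingleton.elim _ _
  obtain ⟨V, g, yV, hyV, hs⟩ := (Φ'.toPresheafFiber_eq_iff' _ _ _ _).1 heq
  let gl : V.left ⟶ U.left := g.left
  haveI : Etale gl := inferInstanceAs (Etale g.left)
  let yVl : Spec (CommRingCat.of Ω') ⟶ V.left := yV.left
  have hyVl : yVl ≫ gl = π ≫ yl := congrArg (fun t => Over.Hom.left t) hyV
  have hp : gl (yVl default) = yl default := by
    rw [← Scheme.Hom.comp_apply, hyVl, Scheme.Hom.comp_apply]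
    congr 1
    exact Subsingleton.elim _ _
  obtain ⟨l, hl₁, hl₂⟩ := Scheme.exists_fac_of_etale_of_isSepClosed gl yl (yVl default) hp
  have hgV : gl ≫ U.hom = V.hom := MorphismProperty.Over.w g
  let yV' : Φ.fiber.obj V := Over.homMk l (by
    change l ≫ V.hom = ξ
    rw [← hgV, ← Category.assoc, hl₁]
    exact hyl)
  have hyV' : Φ.fiber.map g yV' = y := Over.OverMorphism.ext hl₁
  rw [← hyV', ← Φ.toPresheafFiber_w_apply g yV' H.obj, hs, map_zero, map_zero]

/-- Geometric points with values in an algebraically closed field lift along integral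
morphisms. -/
lemma exists_lift_of_isAlgClosed {X Y : Scheme.{u}} (f : X ⟶ Y) [IsIntegralHom f]
    {Ω' : Type u} [Field Ω'] [IsAlgClosed Ω'] (ξ' : Spec (CommRingCat.of Ω') ⟶ Y)
    (h : ξ' default ∈ Set.range f) : ∃ ζ' : Spec (CommRingCat.of Ω') ⟶ X, ζ' ≫ f = ξ' := by
  obtain ⟨x, hx⟩ := h
  obtain ⟨p₀, -, -⟩ := Scheme.Pullback.exists_preimage_pullback (f := ξ') (g := f) default x hx.symm
  let P : Scheme.{u} := pullback ξ' f
  let p' : P ⟶ Spec (CommRingCat.of Ω') := pullback.fst ξ' f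
  haveI : IsIntegralHom p' := inferInstanceAs (IsIntegralHom (pullback.fst ξ' f))
  haveI : IsAffine P := isAffine_of_isAffineHom p'
  let B : CommRingCat.{u} := Γ(P, ⊤)
  obtain ⟨ψ, hψ⟩ := Spec.map_surjective (P.isoSpec.inv ≫ p')
  have hint : IsIntegralHom (Spec.map ψ) := by rw [hψ]; infer_instance
  rw [IsIntegralHom.SpecMap_iff] at hint
  haveI : Nontrivial B := by
    by_contra hB
    rw [not_nontrivial_iff_subsingleton] at hB
    have : IsEmpty (Spec B) := inferInstanceAs (IsEmpty (PrimeSpectrum B))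
    exact this.false (P.isoSpec.hom p₀)
  obtain ⟨m, hm⟩ := Ideal.exists_maximal B
  let κ := B ⧸ m
  letI : Field κ := Ideal.Quotient.field m
  let θ : Ω' →+* κ := (Ideal.Quotient.mk m).comp ψ.hom
  letI : Algebra Ω' κ := θ.toAlgebra
  haveI : Algebra.IsIntegral Ω' κ := by
    have h1 : θ.IsIntegral := RingHom.IsIntegral.trans _ _ hint
      (RingHom.isIntegral_of_surjective _ Ideal.Quotient.mk_surjective)
    exact algebraMap_isIntegral_iff.mp h1
  have hbij : Function.Bijective (algebraMap Ω' κ) :=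
    IsAlgClosed.algebraMap_bijective_of_isIntegral
  let e : Ω' ≃+* κ := RingEquiv.ofBijective (algebraMap Ω' κ) hbij
  let ρ : B →+* Ω' := e.symm.toRingHom.comp (Ideal.Quotient.mk m)
  have hρ : ρ.comp ψ.hom = RingHom.id Ω' := by
    ext a
    change e.symm (θ a) = a
    exact e.symm_apply_apply a
  let ζ'' : Spec (CommRingCat.of Ω') ⟶ Spec B := Spec.map (CommRingCat.ofHom ρ)
  have hζ'' : ζ'' ≫ Spec.map ψ = 𝟙 _ := by
    rw [← Spec.map_comp]
    have : ψ ≫ CommRingCat.ofHom ρ = 𝟙 _ := by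
      ext a
      exact congrArg (fun t => t a) hρ
    rw [this, Spec.map_id]
  refine ⟨ζ'' ≫ P.isoSpec.inv ≫ pullback.snd ξ' f, ?_⟩
  calc (ζ'' ≫ P.isoSpec.inv ≫ pullback.snd ξ' f) ≫ f
      = ζ'' ≫ P.isoSpec.inv ≫ (pullback.snd ξ' f ≫ f) := by simp only [Category.assoc]
    _ = ζ'' ≫ P.isoSpec.inv ≫ (p' ≫ ξ') := by rw [← pullback.condition]
    _ = ζ'' ≫ (P.isoSpec.inv ≫ p') ≫ ξ' := by simp only [Category.assoc]
    _ = (ζ'' ≫ Spec.map ψ) ≫ ξ' := by rw [← hψ, Category.assoc]
    _ = ξ' := by rw [hζ'', Category.id_comp]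

section Main

variable {X Y : Scheme.{u}} (f : X ⟶ Y) [IsIntegralHom f]

lemma isClosedMap_bc (WL : Scheme.{u}) (w : WL ⟶ Y) : IsClosedMap (pullback.fst w f).base := by
  haveI : IsIntegralHom (pullback.fst w f) := inferInstance
  exact (pullback.fst w f).isClosedMap

/-- The stalks of `f_* F` vanish outside the image of `f`. -/
lemma isZero_stalk_push_of_notMem (F : EtCoh.Ab X) {Ω : Type u} [Field Ω] [IsSepClosed Ω]
    (ξ : Spec (CommRingCat.of Ω) ⟶ Y) (hξ : ξ.base default ∉ Set.range f.base) :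
    IsZero ((EtCoh.stalk ξ).obj ((EtCoh.push f).obj F)) :=
  SuppPush.isZero_stalk_push f (fun WL w _ => isClosedMap_bc f WL w) F (Set.range f.base)
    (fun x _ => ⟨x, rfl⟩) ξ hξ

lemma range_eq_singleton {Ω : Type u} [Field Ω] (ξ : Spec (CommRingCat.of Ω) ⟶ Y) :
    Set.range ξ = {ξ default} := by
  ext y
  constructor
  · rintro ⟨t, rfl⟩
    rw [Subsingleton.elim t default]
    rfl
  · rintro rfl
    exact ⟨default, rfl⟩

variable [UniversallyInjective f]

/-- The vanishing of the stalks of kernel and cokernel of the unit at geometric points with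
algebraically closed field. -/
lemma subsingleton_stalk_kernel_cokernel_unit (G : EtCoh.Ab Y)
    (hG : EtPBC.supp G ⊆ Set.range f.base)
    {Ω' : Type u} [Field Ω'] [IsAlgClosed Ω'] (ξ' : Spec (CommRingCat.of Ω') ⟶ Y) :
    Subsingleton ↑((EtCoh.stalk ξ').obj (kernel (PullStalk.η f G))) ∧
      Subsingleton ↑((EtCoh.stalk ξ').obj (cokernel (PullStalk.η f G))) := by
  let η := PullStalk.η f G
  let S := EtCoh.stalk ξ'
  have hι : Function.Injective (S.map (kernel.ι η)) :=
    (mono_iff_stalks_ab (kernel.ι η)).1 inferInstance Ω' ξ'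
  have hπ : Function.Surjective (S.map (cokernel.π η)) :=
    (epi_iff_stalks_ab (cokernel.π η)).1 inferInstance Ω' ξ'
  have hιη : ∀ k, S.map η (S.map (kernel.ι η) k) = 0 := by
    intro k
    have h1 : S.map (kernel.ι η) ≫ S.map η = 0 := by
      rw [← S.map_comp, kernel.condition, S.map_zero]
    exact congrArg (fun t => t.hom k) h1
  have hηπ : ∀ a, S.map (cokernel.π η) (S.map η a) = 0 := by
    intro a
    have h1 : S.map η ≫ S.map (cokernel.π η) = 0 := by
      rw [← S.map_comp, cokernel.condition, S.map_zero]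
    exact congrArg (fun t => t.hom a) h1
  by_cases hmem : ξ'.base default ∈ Set.range f.base
  · obtain ⟨ζ', rfl⟩ := exists_lift_of_isAlgClosed f ξ' hmem
    have hiso : IsIso (S.map η) := isIso_stalk_unit' f ζ' G
    have hbij : Function.Bijective (S.map η) := ConcreteCategory.bijective_of_isIso _
    constructor
    · constructor
      intro k₁ k₂
      apply hι
      apply hbij.1
      rw [hιη, hιη]
    · constructor
      suffices h0 : ∀ c : ↑(S.obj (cokernel η)), c = 0 by
        intro c₁ c₂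
        rw [h0 c₁, h0 c₂]
      intro c
      obtain ⟨b, rfl⟩ := hπ c
      obtain ⟨a, rfl⟩ := hbij.2 b
      exact hηπ a
  · have hG0 : IsZero (S.obj G) := by
      by_contra hne
      exact hmem (hG ⟨Ω', inferInstance, inferInstance, ξ', range_eq_singleton ξ', hne⟩)
    have hP0 : IsZero (S.obj ((EtCoh.push f).obj ((EtCoh.pull f).obj G))) :=
      isZero_stalk_push_of_notMem f _ ξ' hmem
    have hG0' : Subsingleton ↑(S.obj G) := AddCommGrpCat.subsingleton_of_isZero hG0
    have hP0' : Subsingleton ↑(S.obj ((EtCoh.push f).obj ((EtCoh.pull f).obj G))) :=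
      AddCommGrpCat.subsingleton_of_isZero hP0
    constructor
    · constructor
      intro k₁ k₂
      apply hι
      exact Subsingleton.elim _ _
    · constructor
      intro c₁ c₂
      obtain ⟨b₁, rfl⟩ := hπ c₁
      obtain ⟨b₂, rfl⟩ := hπ c₂
      rw [Subsingleton.elim b₁ b₂]

/-- The unit `G ⟶ f_* f^{-1} G` is an isomorphism when the support of `G` is contained in the image
of `f`. -/
lemma isIso_unit_of_supp_subset (G : EtCoh.Ab Y) (hG : EtPBC.supp G ⊆ Set.range f.base) :
    IsIso (PullStalk.η f G) := by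
  let η := PullStalk.η f G
  have key : ∀ (Ω : Type u) [Field Ω] [IsSepClosed Ω] (ξ : Spec (CommRingCat.of Ω) ⟶ Y),
      Subsingleton ↑((EtCoh.stalk ξ).obj (kernel η)) ∧
        Subsingleton ↑((EtCoh.stalk ξ).obj (cokernel η)) := by
    intro Ω _ _ ξ
    let Ω' := AlgebraicClosure Ω
    let π : Spec (CommRingCat.of Ω') ⟶ Spec (CommRingCat.of Ω) :=
      Spec.map (CommRingCat.ofHom (algebraMap Ω Ω'))
    obtain ⟨h1, h2⟩ := subsingleton_stalk_kernel_cokernel_unit f G hG (π ≫ ξ)
    exact ⟨subsingleton_stalk_of_extension (kernel η) ξ π h1,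
      subsingleton_stalk_of_extension (cokernel η) ξ π h2⟩
  have hK : IsZero (kernel η) := isZero_of_stalks_ab _ (fun Ω _ _ ξ =>
    haveI := (key Ω ξ).1
    AddCommGrpCat.isZero_of_subsingleton _)
  have hC : IsZero (cokernel η) := isZero_of_stalks_ab _ (fun Ω _ _ ξ =>
    haveI := (key Ω ξ).2
    AddCommGrpCat.isZero_of_subsingleton _)
  haveI : Mono η := Preadditive.mono_of_isZero_kernel η hK
  haveI : Epi η := Preadditive.epi_of_isZero_cokernel η hC
  exact isIso_of_mono_of_epi η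

/-- **Main theorem.** -/
theorem main :
    (EtCoh.push f).Full ∧ (EtCoh.push f).Faithful ∧
    (∀ G : EtCoh.Ab Y, (EtCoh.push f).essImage G ↔ EtPBC.supp G ⊆ Set.range f.base) ∧
    ∀ F : EtCoh.Ab X, IsIso ((EtCoh.pullPushAdj f).counit.app F) := by
  have hcounit : ∀ F : EtCoh.Ab X, IsIso ((EtCoh.pullPushAdj f).counit.app F) :=
    fun F => isIso_counit' f F
  haveI : IsIso (EtCoh.pullPushAdj f).counit := NatIso.isIso_of_isIso_app _
  let ff := (EtCoh.pullPushAdj f).fullyFaithfulROfIsIsoCounit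
  refine ⟨ff.full, ff.faithful, fun G => ⟨?_, ?_⟩, hcounit⟩
  · rintro ⟨F, ⟨e⟩⟩ x ⟨Ω, _, _, ξ, hξ, hne⟩
    by_contra hx
    apply hne
    have hx' : ξ.base default ∉ Set.range f.base := by
      have : ξ default ∈ Set.range ξ := ⟨default, rfl⟩
      rw [hξ] at this
      rw [Set.mem_singleton_iff.mp this]
      exact hx
    exact (isZero_stalk_push_of_notMem f F ξ hx').of_iso ((EtCoh.stalk ξ).mapIso e.symm)
  · intro hG
    haveI := isIso_unit_of_supp_subset f G hG
    exact ⟨(EtCoh.pull f).obj G, ⟨(asIso (PullStalk.η f G)).symm⟩⟩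

end Main

end Groth.Agent.Lib.Helper3.IntUnivInj
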