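import Groth.Agent.Lib.Helper3.FinPushStalk
import Groth.Agent.Lib.Helper43.ClosedCounit
import Groth.Agent.Lib.Helper3.IntUnivInj

/-!
# Finite base change in degree zero (helper3)

For a cartesian square with `f` finite, the base change map `g⁻¹ f_* F ⟶ f'_* g'⁻¹ F` is an
isomorphism: on stalks at geometric points with algebraically closed field both sides are the
product of the stalks of `F` at the lifts of the geometric point.
-/

set_option autoImplicit false
set_option backward.isDefEq.respectTransparency false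
set_option linter.unusedSectionVars false
set_option linter.style.haveILetI false

universe u

open CategoryTheory CategoryTheory.Limits AlgebraicGeometry Opposite IsLocalRing

namespace Groth.Agent.Lib.Helper3.FinBC0

open Groth.Agent.Lib.Helper3.EtLocalRingScheme Groth.Agent.Lib.Helper3.FinPushPts
  Groth.Agent.Lib.Helper3.FinPushSep Groth.Agent.Lib.Helper3.FinPushSplit Groth.Agent.S0100
  Groth.Agent.Lib.Helper3.FinPushCore Groth.Agent.Lib.Helper43 Groth.Agent.Lib.Helper3.FinPushStalk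
  Groth.Agent.Lib.Helper43.EtStalk

section Criterion

variable {Y : Scheme.{u}} {A B : EtCoh.Ab Y} (φ : A ⟶ B)

/-- A morphism of abelian étale sheaves is an isomorphism as soon as it is bijective on the stalks
at all geometric points with values in algebraically closed fields. -/
theorem isIso_of_stalks_algClosed
    (h : ∀ (Ω : Type u) [Field Ω] [IsAlgClosed Ω] (ξ : Spec (CommRingCat.of Ω) ⟶ Y),
      Function.Bijective ((EtCoh.stalk ξ).map φ)) : IsIso φ := by
  have key' : ∀ (Ω' : Type u) [Field Ω'] [IsAlgClosed Ω'] (ξ' : Spec (CommRingCat.of Ω') ⟶ Y),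
      Subsingleton ↑((EtCoh.stalk ξ').obj (kernel φ)) ∧
        Subsingleton ↑((EtCoh.stalk ξ').obj (cokernel φ)) := by
    intro Ω' _ _ ξ'
    let S := EtCoh.stalk ξ'
    have hι : Function.Injective (S.map (kernel.ι φ)) :=
      (mono_iff_stalks_ab (kernel.ι φ)).1 inferInstance Ω' ξ'
    have hπ : Function.Surjective (S.map (cokernel.π φ)) :=
      (epi_iff_stalks_ab (cokernel.π φ)).1 inferInstance Ω' ξ'
    have hιη : ∀ k, S.map φ (S.map (kernel.ι φ) k) = 0 := by
      intro k
      have h1 : S.map (kernel.ι φ) ≫ S.map φ = 0 := by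
        rw [← S.map_comp, kernel.condition, S.map_zero]
      exact congrArg (fun t => t.hom k) h1
    have hηπ : ∀ a, S.map (cokernel.π φ) (S.map φ a) = 0 := by
      intro a
      have h1 : S.map φ ≫ S.map (cokernel.π φ) = 0 := by
        rw [← S.map_comp, cokernel.condition, S.map_zero]
      exact congrArg (fun t => t.hom a) h1
    have hbij : Function.Bijective (S.map φ) := h Ω' ξ'
    constructor
    · constructor
      intro k₁ k₂
      apply hι
      apply hbij.1
      rw [hιη, hιη]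
    · constructor
      suffices h0 : ∀ c : ↑(S.obj (cokernel φ)), c = 0 by
        intro c₁ c₂
        rw [h0 c₁, h0 c₂]
      intro c
      obtain ⟨b, rfl⟩ := hπ c
      obtain ⟨a, rfl⟩ := hbij.2 b
      exact hηπ a
  have key : ∀ (Ω : Type u) [Field Ω] [IsSepClosed Ω] (ξ : Spec (CommRingCat.of Ω) ⟶ Y),
      Subsingleton ↑((EtCoh.stalk ξ).obj (kernel φ)) ∧
        Subsingleton ↑((EtCoh.stalk ξ).obj (cokernel φ)) := by
    intro Ω _ _ ξ
    let Ω' := AlgebraicClosure Ω
    let π : Spec (CommRingCat.of Ω') ⟶ Spec (CommRingCat.of Ω) :=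
      Spec.map (CommRingCat.ofHom (algebraMap Ω Ω'))
    obtain ⟨h1, h2⟩ := key' Ω' (π ≫ ξ)
    exact ⟨IntUnivInj.subsingleton_stalk_of_extension (kernel φ) ξ π h1,
      IntUnivInj.subsingleton_stalk_of_extension (cokernel φ) ξ π h2⟩
  have hK : IsZero (kernel φ) := isZero_of_stalks_ab _ (fun Ω _ _ ξ =>
    haveI := (key Ω ξ).1
    AddCommGrpCat.isZero_of_subsingleton _)
  have hC : IsZero (cokernel φ) := isZero_of_stalks_ab _ (fun Ω _ _ ξ =>
    haveI := (key Ω ξ).2
    AddCommGrpCat.isZero_of_subsingleton _)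
  haveI : Mono φ := Preadditive.mono_of_isZero_kernel φ hK
  haveI : Epi φ := Preadditive.epi_of_isZero_cokernel φ hC
  exact isIso_of_mono_of_epi φ

end Criterion

section Lifts

variable {X Y X' Y' : Scheme.{u}} {f : X ⟶ Y} {g : Y' ⟶ Y} {f' : X' ⟶ Y'} {g' : X' ⟶ X}
  (h : IsPullback g' f' f g) {Ω : Type u} [Field Ω] [IsSepClosed Ω]
  (η' : Spec (CommRingCat.of Ω) ⟶ Y')

/-- The lifts of `η'` to `X'` correspond to the lifts of `η' ≫ g` to `X`. -/
noncomputable def liftsMap (w : g' ≫ f = f' ≫ g) (ξ' : Lifts f' η') : Lifts f (η' ≫ g) :=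
  ⟨ξ'.1 ≫ g', by rw [Category.assoc, w, ← Category.assoc, ξ'.2]⟩

include h in
theorem liftsMap_bijective : Function.Bijective (liftsMap η' h.w) := by
  constructor
  · intro ξ₁ ξ₂ e
    apply Subtype.ext
    apply h.hom_ext
    · exact congrArg Subtype.val e
    · rw [ξ₁.2, ξ₂.2]
  · intro ξ
    refine ⟨⟨h.lift ξ.1 η' ξ.2, h.lift_snd _ _ _⟩, ?_⟩
    apply Subtype.ext
    exact h.lift_fst _ _ _

end Lifts

section Compat

variable {X Y X' Y' : Scheme.{u}} (f : X ⟶ Y) (g : Y' ⟶ Y) (f' : X' ⟶ Y') (g' : X' ⟶ X)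
  (w : g' ≫ f = f' ≫ g) (F : EtCoh.Ab X)

/-- The comparison `(V ×_Y Y') ×_{Y'} X' ⟶ (V ×_Y X) ×_X X'`. -/
noncomputable def iotaV (V : Y.Etale) :
    (EtCoh.bc f').obj ((EtCoh.bc g).obj V) ⟶ (EtCoh.bc g').obj ((EtCoh.bc f).obj V) :=
  (MorphismProperty.Over.pullbackComp (P := EtCoh.etaleMP) (Q := ⊤) f' g).inv.app V ≫
    (MorphismProperty.Over.pullbackCongr (P := EtCoh.etaleMP) (Q := ⊤) w).inv.app V ≫
      (MorphismProperty.Over.pullbackComp (P := EtCoh.etaleMP) (Q := ⊤) g' f).hom.app V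

/-- The adjoint of the base change map. -/
noncomputable def gammaMap : (EtCoh.push f).obj F ⟶
    (EtCoh.push g).obj ((EtCoh.push f').obj ((EtCoh.pull g').obj F)) :=
  (EtCoh.push f).map ((EtCoh.pullPushAdj g').unit.app F) ≫ (EtCoh.pushComp f g').hom.app _ ≫
      (EtCoh.pushCongr w).hom.app _ ≫ (EtCoh.pushComp g f').inv.app _

theorem gammaMap_app (V : Y.Etale) :
    (gammaMap f g f' g' w F).hom.app (op V) =
      (PullStalk.η g' F).hom.app (op ((EtCoh.bc f).obj V)) ≫
        ((EtCoh.pull g').obj F).obj.map (iotaV f g f' g' w V).op := by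
  dsimp only [gammaMap, iotaV]
  simp only [ObjectProperty.FullSubcategory.comp_hom, NatTrans.comp_app]
  dsimp only [EtCoh.pushComp, EtCoh.pushCongr]
  rw [Functor.sheafPushforwardContinuousComp'_hom_app_hom_app,
    Functor.sheafPushforwardContinuousComp'_inv_app_hom_app]
  rw [op_comp, op_comp, Functor.map_comp, Functor.map_comp]
  rfl

theorem iotaV_left_fst_fst (V : Y.Etale) :
    (iotaV f g f' g' w V).left ≫ pullback.fst ((EtCoh.bc f).obj V).hom g' ≫
        pullback.fst V.hom f =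
      pullback.fst ((EtCoh.bc g).obj V).hom f' ≫ pullback.fst V.hom g := by
  have hC := MorphismProperty.Over.pullbackComp_left_fst_fst (P := EtCoh.etaleMP) (Q := ⊤) g' f V
  have hA := MorphismProperty.Over.pullbackComp_left_fst_fst (P := EtCoh.etaleMP) (Q := ⊤) f' g V
  have hB := MorphismProperty.Over.pullbackCongr_hom_app_left_fst (P := EtCoh.etaleMP) (Q := ⊤) w V
  have hB' : ((MorphismProperty.Over.pullbackCongr (P := EtCoh.etaleMP) (Q := ⊤) w).inv.app V).left ≫
      pullback.fst V.hom (g' ≫ f) = pullback.fst V.hom (f' ≫ g) := by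
    rw [← hB, ← Category.assoc, ← MorphismProperty.Comma.comp_left, Iso.inv_hom_id_app]
    exact Category.id_comp _
  have hA' : ((MorphismProperty.Over.pullbackComp (P := EtCoh.etaleMP) (Q := ⊤) f' g).inv.app V).left ≫
      pullback.fst V.hom (f' ≫ g) =
      pullback.fst ((EtCoh.bc g).obj V).hom f' ≫ pullback.fst V.hom g := by
    rw [← hA, ← Category.assoc, ← MorphismProperty.Comma.comp_left, Iso.inv_hom_id_app]
    exact Category.id_comp _
  dsimp only [iotaV]
  rw [MorphismProperty.Comma.comp_left, MorphismProperty.Comma.comp_left, Category.assoc,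
    Category.assoc]
  erw [hC, hB', hA']

theorem unit_baseChange0 :
    PullStalk.η g ((EtCoh.push f).obj F) ≫ (EtCoh.push g).map (EtCoh.baseChange0 f g f' g' w F) =
      gammaMap f g f' g' w F := by
  rw [← Adjunction.homEquiv_unit]
  exact Equiv.apply_symm_apply _ _

theorem unit_baseChange0_app (V : Y.Etale) :
    (PullStalk.η g ((EtCoh.push f).obj F)).hom.app (op V) ≫
      (EtCoh.baseChange0 f g f' g' w F).hom.app (op ((EtCoh.bc g).obj V)) =
      (gammaMap f g f' g' w F).hom.app (op V) :=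
  congrArg (fun t => t.hom.app (op V)) (unit_baseChange0 f g f' g' w F)

variable {Ω : Type u} [Field Ω] [IsSepClosed Ω]

theorem fib_ext_bc_bc (ξ' : Spec (CommRingCat.of Ω) ⟶ X') (V : Y.Etale)
    (p₁ p₂ : Fib ξ' ((EtCoh.bc g').obj ((EtCoh.bc f).obj V)))
    (e : ptHom ξ' p₁ ≫ pullback.fst ((EtCoh.bc f).obj V).hom g' ≫ pullback.fst V.hom f =
      ptHom ξ' p₂ ≫ pullback.fst ((EtCoh.bc f).obj V).hom g' ≫ pullback.fst V.hom f) :
    p₁ = p₂ := by
  apply Over.OverMorphism.ext
  change ptHom ξ' p₁ = ptHom ξ' p₂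
  have h1 := ptHom_w ξ' p₁
  have h2 := ptHom_w ξ' p₂
  change ptHom ξ' p₁ ≫ pullback.snd ((EtCoh.bc f).obj V).hom g' = ξ' at h1
  change ptHom ξ' p₂ ≫ pullback.snd ((EtCoh.bc f).obj V).hom g' = ξ' at h2
  have hc : pullback.fst ((EtCoh.bc f).obj V).hom g' ≫ pullback.snd V.hom f =
      pullback.snd ((EtCoh.bc f).obj V).hom g' ≫ g' := pullback.condition
  apply pullback.hom_ext
  · apply pullback.hom_ext
    · simpa only [Category.assoc] using e
    · rw [Category.assoc, Category.assoc, hc, ← Category.assoc, ← Category.assoc, h1, h2]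
  · rw [h1, h2]

lemma toFiber_pullStalkMap_apply {X Y : Scheme.{u}} (f : X ⟶ Y) (H : EtCoh.Ab Y)
    (ξ : Spec (CommRingCat.of Ω) ⟶ X) (W : Y.Etale)
    (z : (Scheme.pointSmallEtale (ξ ≫ f)).fiber.obj W) (s : H.obj.obj (op W)) :
    PullStalk.pullStalkMap f H ξ ((Scheme.pointSmallEtale (ξ ≫ f)).toPresheafFiber W z H.obj s) =
    (Scheme.pointSmallEtale ξ).toPresheafFiber ((EtCoh.bc f).obj W) (fiberEquiv f ξ W z)
        ((EtCoh.pull f).obj H).obj ((PullStalk.η f H).hom.app (op W) s) :=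
  congrArg (fun t => t.hom s) (PullStalk.toFiber_pullStalkMap f H ξ W z)

/-- **Compatibility of the base change map with the stalk maps.** -/
theorem compat (η' : Spec (CommRingCat.of Ω) ⟶ Y') (ξ' : Lifts f' η')
    (a : ToType ((Scheme.pointSmallEtale (η' ≫ g)).presheafFiber.obj
      ((EtCoh.push f).obj F).obj)) :
    pushStalkMapL f' ((EtCoh.pull g').obj F) ξ'
      ((Scheme.pointSmallEtale η').presheafFiber.map (EtCoh.baseChange0 f g f' g' w F).hom
        (PullStalk.pullStalkMap g ((EtCoh.push f).obj F) η' a)) =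
    PullStalk.pullStalkMap g' F ξ'.1 (pushStalkMapL f F (liftsMap η' w ξ') a) := by
  obtain ⟨V, v, s, rfl⟩ := (Scheme.pointSmallEtale (η' ≫ g)).toPresheafFiber_jointly_surjective
    (P := ((EtCoh.push f).obj F).obj) a
  rw [toFiber_pullStalkMap_apply, toFiber_pushStalkMapL_apply,
    (Scheme.pointSmallEtale η').toPresheafFiber_naturality_apply]
  have h1 : (EtCoh.baseChange0 f g f' g' w F).hom.app (op ((EtCoh.bc g).obj V))
      ((PullStalk.η g ((EtCoh.push f).obj F)).hom.app (op V) s) =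
      ((EtCoh.pull g').obj F).obj.map (iotaV f g f' g' w V).op
        ((PullStalk.η g' F).hom.app (op ((EtCoh.bc f).obj V)) s) := by
    have := congrArg (fun t => t.hom s) (unit_baseChange0_app f g f' g' w F V)
    rw [gammaMap_app] at this
    exact this
  rw [h1, toFiber_pushStalkMapL_apply]
  refine Eq.trans ?_ (toFiber_pullStalkMap_apply g' F ξ'.1 ((EtCoh.bc f).obj V)
    (zbar (liftsMap η' w ξ') v) s).symm
  rw [(Scheme.pointSmallEtale ξ'.1).toPresheafFiber_w_apply (iotaV f g f' g' w V)]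
  have hp : (Scheme.pointSmallEtale ξ'.1).fiber.map (iotaV f g f' g' w V)
      (zbar ξ' (fiberEquiv g η' V v)) =
      fiberEquiv g' ξ'.1 ((EtCoh.bc f).obj V) (zbar (liftsMap η' w ξ') v) := by
    apply fib_ext_bc_bc
    rw [ptHom_map, Category.assoc, iotaV_left_fst_fst, ← Category.assoc, ptHom_zbar_fst]
    have e1 : ptHom η' (fiberEquiv g η' V v) ≫ pullback.fst V.hom g = ptHom (η' ≫ g) v :=
      pullback.lift_fst _ _ _
    have e2 : ptHom ξ'.1 (fiberEquiv g' ξ'.1 ((EtCoh.bc f).obj V) (zbar (liftsMap η' w ξ') v)) ≫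
        pullback.fst ((EtCoh.bc f).obj V).hom g' = ptHom (liftsMap η' w ξ').1
          (zbar (liftsMap η' w ξ') v) :=
      pullback.lift_fst _ _ _
    rw [e1, ← Category.assoc, e2, ptHom_zbar_fst]
  rw [hp]

end Compat

section Main

variable {X Y X' Y' : Scheme.{u}} (f : X ⟶ Y) [IsFinite f] (g : Y' ⟶ Y) (f' : X' ⟶ Y')
  (g' : X' ⟶ X) (h : IsPullback g' f' f g) (F : EtCoh.Ab X)

include h in
theorem stalk_bijective {Ω : Type u} [Field Ω] [IsAlgClosed Ω]
    (η' : Spec (CommRingCat.of Ω) ⟶ Y') :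
    Function.Bijective ((Scheme.pointSmallEtale η').presheafFiber.map
      (EtCoh.baseChange0 f g f' g' h.w F).hom) := by
  haveI : IsFinite f' := MorphismProperty.of_isPullback (P := @IsFinite) h ‹_›
  let G := (EtCoh.pull g').obj F
  have hπ : Function.Bijective (PullStalk.pullStalkMap g ((EtCoh.push f).obj F) η') :=
    ConcreteCategory.bijective_of_isIso _
  have hπ' : ∀ ξ' : Lifts f' η', Function.Bijective (PullStalk.pullStalkMap g' F ξ'.1) :=
    fun ξ' => ConcreteCategory.bijective_of_isIso _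
  have hθ := liftsMap_bijective h η'
  constructor
  · intro b₁ b₂ hb
    obtain ⟨a₁, rfl⟩ := hπ.2 b₁
    obtain ⟨a₂, rfl⟩ := hπ.2 b₂
    congr 1
    apply pushStalkMapL_jointly_injective f F a₁ a₂
    intro ξ
    obtain ⟨ξ', rfl⟩ := hθ.2 ξ
    apply (hπ' ξ').1
    rw [← compat, ← compat, hb]
  · intro c
    let e : Lifts f' η' ≃ Lifts f (η' ≫ g) := Equiv.ofBijective _ hθ
    let M : Lifts f (η' ≫ g) → Type (u + 1) := fun ξ =>
      ToType ((Scheme.pointSmallEtale ξ.1).presheafFiber.obj F.obj)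
    let σ' : ∀ ξ' : Lifts f' η', M (e ξ') := fun ξ' =>
      (Equiv.ofBijective _ (hπ' ξ')).symm (pushStalkMapL f' G ξ' c)
    obtain ⟨a, ha⟩ := pushStalkMapL_jointly_surjective f F (Equiv.piCongrLeft M e σ')
    refine ⟨PullStalk.pullStalkMap g ((EtCoh.push f).obj F) η' a, ?_⟩
    apply pushStalkMapL_jointly_injective f' G
    intro ξ'
    rw [compat]
    have h1 := ha (e ξ')
    rw [Equiv.piCongrLeft_apply_apply] at h1
    have h2 : pushStalkMapL f F (liftsMap η' h.w ξ') a = σ' ξ' := h1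
    rw [h2]
    exact (Equiv.ofBijective _ (hπ' ξ')).apply_symm_apply _

include h in
/-- **Finite base change in degree zero.** -/
theorem isIso_baseChange0 : IsIso (EtCoh.baseChange0 f g f' g' h.w F) :=
  isIso_of_stalks_algClosed _ (fun _ _ _ η' => stalk_bijective f g f' g' h F η')

end Main

end Groth.Agent.Lib.Helper3.FinBC0
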