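import Groth.Agent.Lib.Helper3.FinBC0
import Groth.Agent.Lib.Helper3.IntPushEpi

/-!
# Higher direct images along integral morphisms vanish; finite base change in all degrees (helper3)
-/

set_option autoImplicit false
set_option backward.isDefEq.respectTransparency false
set_option linter.unusedSectionVars false
set_option linter.style.haveILetI false

universe u

open CategoryTheory CategoryTheory.Limits AlgebraicGeometry Opposite

namespace Groth.Agent.Lib.Helper3.FinBCq

lemma isZero_rightDerived_succ_of_preservesHomology {C : Type*} [Category C] [Abelian C]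
    [HasInjectiveResolutions C] {D : Type*} [Category D] [Abelian D] (F : C ⥤ D) [F.Additive]
    [F.PreservesHomology] (A : C) (n : ℕ) : IsZero ((F.rightDerived (n + 1)).obj A) := by
  let I := injectiveResolution A
  refine IsZero.of_iso ?_ (I.isoRightDerivedObj F (n + 1))
  have h : (I.cocomplex.sc (n + 1)).Exact := I.cocomplex_exactAt_succ n
  have h2 : (((F.mapHomologicalComplex _).obj I.cocomplex).sc (n + 1)).Exact := h.map F
  exact (HomologicalComplex.exactAt_iff_isZero_homology _ _).1 h2

variable {X Y : Scheme.{u}} (f : X ⟶ Y) [IsIntegralHom f]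

theorem preservesFiniteLimits_push {X Y : Scheme.{u}} (f : X ⟶ Y) :
    PreservesFiniteLimits (EtCoh.push f) := by
  have := (EtCoh.pullPushAdj f).rightAdjoint_preservesLimits
  infer_instance

theorem preservesHomology_push : (EtCoh.push f).PreservesHomology := by
  have hl : PreservesFiniteLimits (EtCoh.push f) := preservesFiniteLimits_push f
  haveI := IntPushEpi.push_preservesEpimorphisms f
  refine ((Functor.exact_tfae (EtCoh.push f)).out 0 2).1 ?_
  intro S hS
  have h1 := (Functor.preservesFiniteLimits_iff_forall_exact_map_and_mono (EtCoh.push f)).1 hl S hS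
  have : Epi S.g := hS.epi_g
  have h2 : Epi ((EtCoh.push f).map S.g) := inferInstance
  have : Mono (S.map (EtCoh.push f)).f := h1.2
  have : Epi (S.map (EtCoh.push f)).g := h2
  exact ⟨h1.1⟩

/-- `R^q f_* = 0` for `q > 0` and `f` integral. -/
theorem isZero_Rpush (G : EtCoh.Ab X) (n : ℕ) :
    IsZero ((EtCoh.Rpush f (n + 1)).obj G) := by
  have := preservesHomology_push f
  exact isZero_rightDerived_succ_of_preservesHomology (EtCoh.push f) G n

/-- `R^0 f_* ≅ f_*`. -/
noncomputable def rpushZeroIso {X Y : Scheme.{u}} (f : X ⟶ Y) (G : EtCoh.Ab X) :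
    (EtCoh.Rpush f 0).obj G ≅ (EtCoh.push f).obj G := by
  haveI := preservesFiniteLimits_push f
  exact ((EtCoh.push f).rightDerivedZeroIsoSelf).app G

theorem cohCommutesWithBC {X Y : Scheme.{u}} (f : X ⟶ Y) [IsFinite f] :
    EtPBC.CohCommutesWithBC f := by
  intro X' Y' f' g' g _ _ _ h F _ q
  haveI : IsFinite f' := MorphismProperty.of_isPullback (P := @IsFinite) h ‹_›
  cases q with
  | zero =>
    haveI := FinBC0.isIso_baseChange0 f g f' g' h F
    exact ⟨(EtCoh.pull g).mapIso (rpushZeroIso f F) ≪≫
      asIso (EtCoh.baseChange0 f g f' g' h.w F) ≪≫ (rpushZeroIso f' _).symm⟩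
  | succ n =>
    have h1 : IsZero ((EtCoh.Rpush f (n + 1)).obj F) := isZero_Rpush f F n
    have h2 : IsZero ((EtCoh.Rpush f' (n + 1)).obj ((EtCoh.pull g').obj F)) := isZero_Rpush f' _ n
    haveI : (EtCoh.pull g).IsLeftAdjoint := (EtCoh.pullPushAdj g).isLeftAdjoint
    have h3 : IsZero ((EtCoh.pull g).obj ((EtCoh.Rpush f (n + 1)).obj F)) :=
      (EtCoh.pull g).map_isZero h1
    exact ⟨h3.iso h2⟩

end Groth.Agent.Lib.Helper3.FinBCq
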