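import Groth.Agent.Lib.Helper3.FinEtaleTrace
import Groth.Agent.Lib.Helper3.ExtAdj
import Groth.Agent.S8525
import Groth.Prelude.Def_EtCore
import Groth.Prelude.Def_EtAcyc

/-!
# Cohomology vanishing along a finite étale cover of degree prime to the torsion (helper3)
-/

set_option autoImplicit false
set_option backward.isDefEq.respectTransparency false
set_option linter.unusedSectionVars false
set_option linter.style.haveILetI false

universe u

open CategoryTheory CategoryTheory.Limits AlgebraicGeometry Opposite IsLocalRing Abelian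

namespace Groth.Agent.Lib.Helper3.FinEtaleCohVanish

open Groth.Agent.Lib.Helper3.FinEtaleTrace Groth.Agent.Lib.Helper3.FinEtaleCount

section Degree

variable {X' X : Scheme.{u}} (f : X' ⟶ X) [IsFinite f] [AlgebraicGeometry.Etale f] [Flat f]

/-- constant number of geometric points in the fibres gives constant rank -/
theorem finrank_eq_of_card (d : ℕ)
    (hd : ∀ (Ω : Type u) [Field Ω] [IsSepClosed Ω] (ξ : Spec (CommRingCat.of Ω) ⟶ X),
      Nat.card ↥(pullback f ξ) = d) (x : X) : f.finrank x = d := by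
  let Ω := AlgebraicClosure (X.residueField x)
  let ξ : Spec (CommRingCat.of Ω) ⟶ X :=
    Spec.map (CommRingCat.ofHom (algebraMap (X.residueField x) Ω)) ≫ X.fromSpecResidueField x
  have hξ : ξ (closedPoint Ω) = x := by
    simp only [ξ, Scheme.Hom.comp_apply]
    exact X.fromSpecResidueField_apply x _
  rw [← hξ, ← card_geomFibre f ξ]
  exact hd Ω ξ

end Degree

section Torsion

variable {X : Scheme.{u}}

/-- multiplication by `d` is invertible on an `L`-torsion sheaf if `d` is prime to `L` -/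
theorem isIso_nsmul_id (d : ℕ) (L : Set ℕ) (hL : ∀ p : ℕ, p.Prime → p ∈ L → ¬ p ∣ d)
    (F : EtCoh.Ab X) (hF : EtAcyc.IsLTorsion L F) : IsIso (d • 𝟙 F) := by
  have hst := (Groth.Agent.S8525.result L F).1 hF
  have hcop : ∀ m : ℕ, EtAcyc.PrimesIn L m → Nat.Coprime d m := by
    intro m hm
    apply Nat.Coprime.symm
    rw [Nat.coprime_iff_gcd_eq_one]
    by_contra hne
    obtain ⟨p, hp, hpd⟩ := Nat.exists_prime_and_dvd hne
    exact hL p hp (hm.2 p hp (hpd.trans (Nat.gcd_dvd_left _ _))) (hpd.trans (Nat.gcd_dvd_right _ _))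
  have hmap : ∀ (Ω : Type u) [Field Ω] [IsSepClosed Ω] (ξ : Spec (CommRingCat.of Ω) ⟶ X)
      (t : (EtCoh.stalk ξ).obj F), (EtCoh.stalk ξ).map (d • 𝟙 F) t = d • t := by
    intro Ω _ _ ξ t
    rw [Functor.map_nsmul, CategoryTheory.Functor.map_id]
    rfl
  have hbez : ∀ (Ω : Type u) [Field Ω] [IsSepClosed Ω] (ξ : Spec (CommRingCat.of Ω) ⟶ X)
      (t : (EtCoh.stalk ξ).obj F), ∃ a : ℤ, t = d • (a • t) := by
    intro Ω _ _ ξ t
    obtain ⟨m, hm, hmt⟩ := hst Ω ξ t
    have h1 : IsCoprime (d : ℤ) (m : ℤ) := Nat.isCoprime_iff_coprime.2 (hcop m hm)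
    obtain ⟨a, b, hab⟩ := h1
    refine ⟨a, ?_⟩
    have h3 : (m : ℤ) • t = 0 := by rw [natCast_zsmul]; exact hmt
    have h4 : t = (d : ℤ) • (a • t) := by
      calc t = (a * d + b * m) • t := by rw [hab, one_smul]
        _ = (d : ℤ) • (a • t) + b • ((m : ℤ) • t) := by
            rw [add_smul, mul_smul, mul_smul, smul_comm a]
        _ = (d : ℤ) • (a • t) := by rw [h3, smul_zero, add_zero]
    rw [natCast_zsmul] at h4
    exact h4
  haveI : Mono (d • 𝟙 F) := by
    apply Groth.Agent.Lib.Helper43.EtStalk.mono_of_stalks_ab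
    intro Ω _ _ ξ
    rw [injective_iff_map_eq_zero]
    intro t ht
    have ht' : d • t = 0 := (hmap Ω ξ t).symm.trans ht
    obtain ⟨a, ha⟩ := hbez Ω ξ t
    rw [ha, smul_comm, ht', smul_zero]
  haveI : Epi (d • 𝟙 F) := by
    apply Groth.Agent.Lib.Helper43.EtStalk.epi_of_stalks_ab
    intro Ω _ _ ξ t
    obtain ⟨a, ha⟩ := hbez Ω ξ t
    exact ⟨a • t, (hmap Ω ξ _).trans ha.symm⟩
  exact isIso_of_mono_of_epi _

end Torsion


section Main

open Groth.Agent.Lib.Helper4

theorem main {X X' : Scheme.{u}} (f : X' ⟶ X) [IsFinite f] [AlgebraicGeometry.Etale f]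
    (d : ℕ) (hd : ∀ (Ω : Type u) [Field Ω] [IsSepClosed Ω] (ξ : Spec (CommRingCat.of Ω) ⟶ X),
      Nat.card ↥(pullback f ξ) = d)
    (L : Set ℕ) (hL : ∀ p : ℕ, p.Prime → p ∈ L → ¬ p ∣ d) (F : EtCoh.Ab X)
    (hF : EtAcyc.IsLTorsion L F)
    [PreservesFiniteLimits (EtCoh.pull f)] (q : ℕ)
    (h : Subsingleton (EtCoh.H X' ((EtCoh.pull f).obj F) q)) :
    Subsingleton (EtCoh.H X F q) := by
  haveI : Flat f := inferInstance
  haveI : EtShriek.JCont f := EtRestr.jCont f
  have hfr := finrank_eq_of_card f d hd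
  have hadj : (EtCoh.pullPushAdj f).unit.app F ≫ (adjTr f).counit.app F = d • 𝟙 F := by
    rw [unit_counit]
    exact trF_eq f d hfr F
  haveI : PreservesFiniteColimits (EtCoh.push f) := by
    have : PreservesColimitsOfSize.{0, 0} (EtCoh.push f) :=
      (adjTr f).leftAdjoint_preservesColimits
    exact PreservesColimitsOfSize.preservesFiniteColimits _
  haveI : PreservesFiniteLimits (EtCoh.push f) := by
    have : PreservesLimitsOfSize.{0, 0} (EtCoh.push f) :=
      (EtCoh.pullPushAdj f).rightAdjoint_preservesLimits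
    exact PreservesLimitsOfSize.preservesFiniteLimits _
  haveI : (EtCoh.push f).Additive := (EtCoh.pullPushAdj f).right_adjoint_additive
  haveI : (EtCoh.pull f).PreservesMonomorphisms := inferInstance
  -- `Ext^q(f^*ℤ, f^*F) = 0`
  have hsub : Subsingleton (Ext.{u + 1} ((EtCoh.pull f).obj (EtCoh.const X ℤ))
      ((EtCoh.pull f).obj F) q) := by
    refine subsingleton_of_forall_eq 0 (fun y => ?_)
    have h1 : (Ext.mk₀ (EtCore.pullConst f ℤ).inv).comp y (zero_add q) = 0 :=
      Subsingleton.elim (α := EtCoh.H X' ((EtCoh.pull f).obj F) q) _ _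
    have h2 : y = (Ext.mk₀ (EtCore.pullConst f ℤ).hom).comp
        ((Ext.mk₀ (EtCore.pullConst f ℤ).inv).comp y (zero_add q)) (zero_add q) := by
      rw [← Ext.comp_assoc_of_second_deg_zero, Ext.mk₀_comp_mk₀, Iso.hom_inv_id, Ext.mk₀_id_comp]
    rw [h2, h1, Ext.comp_zero]
  have hsub2 : Subsingleton (Ext.{u + 1} (EtCoh.const X ℤ)
      ((EtCoh.push f).obj ((EtCoh.pull f).obj F)) q) :=
    Groth.Agent.Lib.Helper3.ExtAdj.subsingleton_ext (EtCoh.pullPushAdj f) (EtCoh.const X ℤ) q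
      ((EtCoh.pull f).obj F) hsub
  haveI := isIso_nsmul_id d L hL F hF
  refine subsingleton_of_forall_eq 0 (fun x => ?_)
  have h3 : (x : Ext.{u + 1} (EtCoh.const X ℤ) F q).comp
      (Ext.mk₀ ((EtCoh.pullPushAdj f).unit.app F)) (add_zero q) = 0 :=
    @Subsingleton.elim _ hsub2 _ _
  have h4 : 𝟙 F = (EtCoh.pullPushAdj f).unit.app F ≫ ((adjTr f).counit.app F ≫ inv (d • 𝟙 F)) := by
    rw [← Category.assoc, hadj, IsIso.hom_inv_id]
    rfl
  have h5 : x = ((x : Ext.{u + 1} (EtCoh.const X ℤ) F q).comp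
      (Ext.mk₀ ((EtCoh.pullPushAdj f).unit.app F)) (add_zero q)).comp
      (Ext.mk₀ ((adjTr f).counit.app F ≫ inv (d • 𝟙 F))) (add_zero q) := by
    rw [Ext.comp_assoc_of_third_deg_zero, Ext.mk₀_comp_mk₀, ← h4, Ext.comp_mk₀_id]
  rw [h5, h3, Ext.zero_comp]

end Main

end Groth.Agent.Lib.Helper3.FinEtaleCohVanish
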