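import Groth.Agent.Lib.Helper3.FinEtaleTrace
import Groth.Agent.Lib.Helper43.EtOverEquiv
import Groth.Agent.Lib.Helper43.ExtZeroSplit
import Groth.Agent.Lib.Helper43.EtConstrStalk
import Groth.Agent.S3508
import Groth.Agent.S0129
import Groth.Agent.S0127
import Groth.Agent.S0621

/-!
# Pushforward of constructible sheaves along a finite étale morphism (helper3)
-/

set_option autoImplicit false
set_option backward.isDefEq.respectTransparency false
set_option linter.unusedSectionVars false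
set_option linter.style.haveILetI false

universe u

open CategoryTheory CategoryTheory.Limits AlgebraicGeometry Opposite

namespace Groth.Agent.Lib.Helper3.FinEtaleConstr

open Groth.Agent.Lib.Helper3.FinEtaleTrace Groth.Agent.Lib.Helper43 Groth.Agent.Lib.Helper4

section Gen

variable {X Y : Scheme.{u}} (f : X ⟶ Y) [IsFinite f] [AlgebraicGeometry.Etale f]

/-- `f_* (j_! M) ≅ (f ∘ j)_! M` for `f` finite étale -/
noncomputable def pushExtZeroConst (U : X.Etale) (M : Type) [AddCommGroup M] :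
    (EtCoh.push f).obj (EtPBC.extZeroConst U M) ≅
      EtPBC.extZeroConst ((EtShriek.compEtale f).obj U) M :=
  haveI : EtShriek.JCont f := EtRestr.jCont f
  haveI : EtShriek.JCont (EtOverEquiv.jU U) := EtRestr.jCont _
  haveI : EtShriek.JCont (EtOverEquiv.jU ((EtShriek.compEtale f).obj U)) := EtRestr.jCont _
  haveI : EtShriek.JCont (EtOverEquiv.jU U ≫ f) := EtRestr.jCont _
  (EtCoh.push f).mapIso (EtOverEquiv.extZeroConstIso U M) ≪≫
    ((α f).symm.app _) ≪≫
    ((ExtZeroSplit.extZeroComp (EtOverEquiv.jU U) f).app _) ≪≫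
    (EtOverEquiv.extZeroConstIso ((EtShriek.compEtale f).obj U) M).symm


variable [CompactSpace X] [QuasiSeparatedSpace X] [CompactSpace Y] [QuasiSeparatedSpace Y]

theorem constructible_push_of_qcqs (F : EtCoh.Ab X) (hF : EtPBC.IsConstructible F) :
    EtPBC.IsConstructible ((EtCoh.push f).obj F) := by
  haveI : EtShriek.JCont f := EtRestr.jCont f
  haveI : (EtCoh.push f).Additive := (EtCoh.pullPushAdj f).right_adjoint_additive
  haveI : PreservesColimitsOfSize.{0, 0} (EtCoh.push f) :=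
    (adjTr f).leftAdjoint_preservesColimits
  obtain ⟨a, b, U, V, n, m, hU, hV, φ, ⟨e⟩⟩ := (Groth.Agent.S3508.result X F).1 hF
  rw [Groth.Agent.S3508.result Y]
  let isoU : (EtCoh.push f).obj (⨁ fun i => EtPBC.extZeroConst (U i) (ZMod (n i))) ≅
      ⨁ fun i => EtPBC.extZeroConst ((EtShriek.compEtale f).obj (U i)) (ZMod (n i)) :=
    (EtCoh.push f).mapBiproduct _ ≪≫
      biproduct.mapIso (fun i => pushExtZeroConst f (U i) (ZMod (n i)))
  let isoV : (EtCoh.push f).obj (⨁ fun j => EtPBC.extZeroConst (V j) (ZMod (m j))) ≅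
      ⨁ fun j => EtPBC.extZeroConst ((EtShriek.compEtale f).obj (V j)) (ZMod (m j)) :=
    (EtCoh.push f).mapBiproduct _ ≪≫
      biproduct.mapIso (fun j => pushExtZeroConst f (V j) (ZMod (m j)))
  let ψ := isoV.inv ≫ (EtCoh.push f).map φ ≫ isoU.hom
  refine ⟨a, b, fun i => (EtShriek.compEtale f).obj (U i), fun j => (EtShriek.compEtale f).obj (V j),
    n, m, fun i => hU i, fun j => hV j, ψ, ⟨?_⟩⟩
  refine (EtCoh.push f).mapIso e ≪≫ PreservesCokernel.iso (EtCoh.push f) φ ≪≫
    cokernel.mapIso ((EtCoh.push f).map φ) ψ isoV isoU ?_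
  simp [ψ]

end Gen


section Main

variable {X Y : Scheme.{u}} (f : X ⟶ Y) [IsFinite f] [AlgebraicGeometry.Etale f]

theorem constructible_push (F : EtCoh.Ab X) (hF : EtPBC.IsConstructible F) :
    EtPBC.IsConstructible ((EtCoh.push f).obj F) := by
  refine Groth.Agent.S0129.result ((EtCoh.push f).obj F) (ι := Y.affineOpens)
    (fun V => V.1) (iSup_affineOpens_eq_top Y) ?_
  intro V
  have hV : IsAffineOpen V.1 := V.2
  haveI : IsAffine (V.1 : Scheme.{u}) := hV
  haveI : IsAffine ((f ⁻¹ᵁ V.1 : X.Opens) : Scheme.{u}) := hV.preimage f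
  have h : IsPullback (f ⁻¹ᵁ V.1).ι (f ∣_ V.1) f V.1.ι := (isPullback_morphismRestrict f V.1).flip
  haveI := Groth.Agent.S0621.result f V.1.ι (f ∣_ V.1) (f ⁻¹ᵁ V.1).ι h F
  refine EtConstrStalk.constructible_of_iso
    (asIso (EtCoh.baseChange0 f V.1.ι (f ∣_ V.1) (f ⁻¹ᵁ V.1).ι h.w F)).symm ?_
  exact constructible_push_of_qcqs (f ∣_ V.1) _ (Groth.Agent.S0127.result _ F hF)

end Main

end Groth.Agent.Lib.Helper3.FinEtaleConstr
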