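import Groth.Agent.Lib.Helper3.FinPushPts
import Groth.Agent.S0100
import Mathlib.AlgebraicGeometry.Morphisms.Integral

/-!
# Separating the geometric points of a fibre of a finite morphism (helper3)

For a finite morphism `f : X ⟶ Y` and a geometric point `η` of `Y`, there is an affine étale
neighbourhood `(V, v)` of `η` such that the lifts of `η` to `X` give pairwise distinct points of
`X ×_Y V`.
-/

set_option autoImplicit false
set_option backward.isDefEq.respectTransparency false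
set_option linter.unusedSectionVars false
set_option linter.style.haveILetI false

universe u

open CategoryTheory CategoryTheory.Limits AlgebraicGeometry Opposite IsLocalRing Polynomial

namespace Groth.Agent.Lib.Helper3.FinPushSep

open Groth.Agent.Lib.Helper3.EtLocalRingScheme Groth.Agent.Lib.Helper3.FinPushPts
  Groth.Agent.S0100

variable {X Y : Scheme.{u}} (f : X ⟶ Y) {Ω : Type u} [Field Ω] [IsSepClosed Ω]
  (η : Spec (CommRingCat.of Ω) ⟶ Y)

/-- The lifts of the geometric point `η` along `f`. -/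
abbrev Lifts : Type u := {ξ : Spec (CommRingCat.of Ω) ⟶ X // ξ ≫ f = η}

variable {f η}

/-- The point of `X ×_Y V` given by a lift `ξ` of `η` and a point `v` of `V` over `η`. -/
noncomputable def zbar (ξ : Lifts f η) {V : Y.Etale} (v : Fib η V) :
    Fib ξ.1 ((EtCoh.bc f).obj V) :=
  Over.homMk (pullback.lift (ptHom η v) ξ.1 ((ptHom_w η v).trans ξ.2.symm) :
    Spec (CommRingCat.of Ω) ⟶ pullback V.hom f) (pullback.lift_snd _ _ _)

theorem ptHom_zbar (ξ : Lifts f η) {V : Y.Etale} (v : Fib η V) :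
    ptHom ξ.1 (zbar ξ v) =
      pullback.lift (ptHom η v) ξ.1 ((ptHom_w η v).trans ξ.2.symm) := rfl

theorem ptHom_zbar_fst (ξ : Lifts f η) {V : Y.Etale} (v : Fib η V) :
    ptHom ξ.1 (zbar ξ v) ≫ pullback.fst V.hom f = ptHom η v :=
  pullback.lift_fst _ _ _

theorem ptHom_zbar_snd (ξ : Lifts f η) {V : Y.Etale} (v : Fib η V) :
    ptHom ξ.1 (zbar ξ v) ≫ pullback.snd V.hom f = ξ.1 :=
  pullback.lift_snd _ _ _

theorem zbar_map (ξ : Lifts f η) {V V' : Y.Etale} (g : V' ⟶ V) (v' : Fib η V') :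
    (Scheme.pointSmallEtale ξ.1).fiber.map ((EtCoh.bc f).map g) (zbar ξ v') =
      zbar ξ ((Scheme.pointSmallEtale η).fiber.map g v') := by
  apply Over.OverMorphism.ext
  change ptHom ξ.1 (zbar ξ v') ≫ ((EtCoh.bc f).map g).left =
    ptHom ξ.1 (zbar ξ ((Scheme.pointSmallEtale η).fiber.map g v'))
  apply pullback.hom_ext
  · rw [Category.assoc, bc_map_left_fst, ← Category.assoc, ptHom_zbar_fst, ptHom_zbar_fst,
      ptHom_map]
  · rw [Category.assoc, bc_map_left_snd, ptHom_zbar_snd, ptHom_zbar_snd]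

theorem ptHom_zbar_map (ξ : Lifts f η) {V V' : Y.Etale} (g : V' ⟶ V) (v' : Fib η V') :
    ptHom ξ.1 (zbar ξ v') ≫ ((EtCoh.bc f).map g).left =
      ptHom ξ.1 (zbar ξ ((Scheme.pointSmallEtale η).fiber.map g v')) := by
  rw [← zbar_map]
  rfl

theorem nbhdPt_zbar_map (ξ : Lifts f η) {V V' : Y.Etale} (g : V' ⟶ V) (v' : Fib η V') :
    ((EtCoh.bc f).map g).left (nbhdPt (zbar ξ v')) =
      nbhdPt (zbar ξ ((Scheme.pointSmallEtale η).fiber.map g v')) := by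
  change ((EtCoh.bc f).map g).left (ptHom ξ.1 (zbar ξ v') (closedPoint Ω)) =
    ptHom ξ.1 (zbar ξ ((Scheme.pointSmallEtale η).fiber.map g v')) (closedPoint Ω)
  rw [← ptHom_zbar_map, Scheme.Hom.comp_apply]

/-- Separation persists under refinement. -/
theorem sep_of_map (ξ ξ' : Lifts f η) {V V' : Y.Etale} (g : V' ⟶ V) (v' : Fib η V')
    (h : nbhdPt (zbar ξ ((Scheme.pointSmallEtale η).fiber.map g v')) ≠
      nbhdPt (zbar ξ' ((Scheme.pointSmallEtale η).fiber.map g v'))) :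
    nbhdPt (zbar ξ v') ≠ nbhdPt (zbar ξ' v') := by
  intro h'
  apply h
  rw [← nbhdPt_zbar_map, ← nbhdPt_zbar_map, h']

/-- Affine étale neighbourhoods are cofinal. -/
theorem exists_affine_nbhd {V : Y.Etale} (v : Fib η V) :
    ∃ (V' : Y.Etale) (g : V' ⟶ V) (v' : Fib η V'), IsAffine V'.left ∧
      (Scheme.pointSmallEtale η).fiber.map g v' = v := by
  obtain ⟨D, hD, hmem, -⟩ :=
    exists_isAffineOpen_mem_and_subset (U := ⊤) (x := nbhdPt v) (by trivial)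
  exact ⟨openObj V D, openHom V D, openPt v D hmem, hD, map_openPt v D hmem⟩

/-- Two distinct lifts of `η` are separated in some étale neighbourhood. -/
theorem exists_sep_pair [IsIntegralHom f] (ξ ξ' : Lifts f η) (h : ξ ≠ ξ') :
    ∃ (V : Y.Etale) (v : Fib η V), nbhdPt (zbar ξ v) ≠ nbhdPt (zbar ξ' v) := by
  obtain ⟨N⟩ := IsCofiltered.nonempty (C := (Scheme.pointSmallEtale η).fiber.Elements)
  obtain ⟨V₀, -, v₀, hV₀, -⟩ := exists_affine_nbhd (η := η) N.2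
  let vh₀ : V₀.left ⟶ Y := V₀.hom
  let X₀ : Scheme.{u} := pullback vh₀ f
  let p₀ : X₀ ⟶ V₀.left := pullback.fst vh₀ f
  haveI : IsIntegralHom p₀ := inferInstanceAs (IsIntegralHom (pullback.fst vh₀ f))
  haveI : IsAffine X₀ := isAffine_of_isAffineHom p₀
  let z₀ : Spec (CommRingCat.of Ω) ⟶ X₀ := ptHom ξ.1 (zbar ξ v₀)
  let z₀' : Spec (CommRingCat.of Ω) ⟶ X₀ := ptHom ξ'.1 (zbar ξ' v₀)
  have hz₀ : z₀ ≫ p₀ = ptHom η v₀ := ptHom_zbar_fst ξ v₀
  have hz₀' : z₀' ≫ p₀ = ptHom η v₀ := ptHom_zbar_fst ξ' v₀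
  have hne : z₀ ≠ z₀' := by
    intro e
    apply h
    apply Subtype.ext
    rw [← ptHom_zbar_snd ξ v₀, ← ptHom_zbar_snd ξ' v₀]
    exact congrArg (fun t => t ≫ pullback.snd vh₀ f) e
  obtain ⟨b, hb⟩ : ∃ b : Γ(X₀, ⊤), evPt z₀ b ≠ evPt z₀' b := by
    by_contra hcon
    push Not at hcon
    exact hne (hom_ext_of_evPt z₀ z₀' hcon)
  let ω : Ω := evPt z₀ b
  let ω' : Ω := evPt z₀' b
  -- integrality
  have hint : (p₀.app ⊤).hom.IsIntegral := IsIntegralHom.isIntegral_app p₀ ⊤ (isAffineOpen_top _)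
  obtain ⟨P₀, hP₀m, hP₀⟩ := hint b
  have hev : (evPt z₀).comp (p₀.app ⊤).hom = evA η V₀ v₀ := by
    ext a
    change evPt z₀ (p₀.appTop.hom a) = evPt (ptHom η v₀) a
    rw [← evPt_comp, hz₀]
  have hroot : ((P₀.map (ιA η V₀ v₀)).map (evStalk η)).eval ω = 0 := by
    rw [Polynomial.map_map, Polynomial.eval_map]
    have h1 : (evStalk η).comp (ιA η V₀ v₀) = evA η V₀ v₀ := by
      ext a
      exact evStalk_ιA η V₀ v₀ a
    rw [h1, ← hev]
    change Polynomial.eval₂ ((evPt z₀).comp (p₀.app ⊤).hom) (evPt z₀ b) P₀ = 0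
    rw [← Polynomial.hom_eval₂, hP₀, map_zero]
  obtain ⟨m, r, hr⟩ := exists_pow_mem_range_evStalk η ω ⟨P₀.map (ιA η V₀ v₀), hP₀m.map _, hroot⟩
  let Q : ℕ := ringExpChar Ω ^ m
  obtain ⟨V₁, v₁, a₁, ha₁⟩ := ιA_surjective η r
  have hev₁ : evA η V₁ v₁ a₁ = ω ^ Q := by
    rw [← evStalk_ιA, ha₁, hr]
  -- common refinement
  let N₀ : (Scheme.pointSmallEtale η).fiber.Elements := ⟨V₀, v₀⟩
  let N₁ : (Scheme.pointSmallEtale η).fiber.Elements := ⟨V₁, v₁⟩
  let N₃ := IsCofiltered.min N₀ N₁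
  let g₀ : N₃ ⟶ N₀ := IsCofiltered.minToLeft N₀ N₁
  let g₁ : N₃ ⟶ N₁ := IsCofiltered.minToRight N₀ N₁
  have hg₀ : (Scheme.pointSmallEtale η).fiber.map g₀.1 N₃.2 = v₀ := g₀.2
  have hg₁ : (Scheme.pointSmallEtale η).fiber.map g₁.1 N₃.2 = v₁ := g₁.2
  let V : Y.Etale := N₃.1
  let v : Fib η V := N₃.2
  let a : Γ(V.left, ⊤) := g₁.1.left.appTop.hom a₁
  have hav : evA η V v a = ω ^ Q := by
    rw [evA_map, hg₁, hev₁]
  refine ⟨V, v, ?_⟩
  let G : (EtCoh.bc f).obj V ⟶ (EtCoh.bc f).obj V₀ := (EtCoh.bc f).map g₀.1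
  let XV : Scheme.{u} := pullback V.hom f
  let Gℓ : XV ⟶ X₀ := G.left
  let pV : XV ⟶ V.left := pullback.fst V.hom f
  let c : Γ(XV, ⊤) := Gℓ.appTop.hom b ^ Q - pV.appTop.hom a
  let z : Spec (CommRingCat.of Ω) ⟶ XV := ptHom ξ.1 (zbar ξ v)
  let z' : Spec (CommRingCat.of Ω) ⟶ XV := ptHom ξ'.1 (zbar ξ' v)
  have hzG : z ≫ Gℓ = z₀ := by
    change ptHom ξ.1 (zbar ξ v) ≫ ((EtCoh.bc f).map g₀.1).left = ptHom ξ.1 (zbar ξ v₀)
    rw [ptHom_zbar_map, hg₀]
  have hzG' : z' ≫ Gℓ = z₀' := by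
    change ptHom ξ'.1 (zbar ξ' v) ≫ ((EtCoh.bc f).map g₀.1).left = ptHom ξ'.1 (zbar ξ' v₀)
    rw [ptHom_zbar_map, hg₀]
  have hzp : z ≫ pV = ptHom η v := ptHom_zbar_fst ξ v
  have hzp' : z' ≫ pV = ptHom η v := ptHom_zbar_fst ξ' v
  have hc : evPt z c = 0 := by
    change evPt z (Gℓ.appTop.hom b ^ Q - pV.appTop.hom a) = 0
    rw [map_sub, map_pow, ← evPt_comp, ← evPt_comp, hzG, hzp]
    change ω ^ Q - evA η V v a = 0
    rw [hav, sub_self]
  have hc' : evPt z' c ≠ 0 := by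
    change evPt z' (Gℓ.appTop.hom b ^ Q - pV.appTop.hom a) ≠ 0
    rw [map_sub, map_pow, ← evPt_comp, ← evPt_comp, hzG', hzp']
    change ω' ^ Q - evA η V v a ≠ 0
    rw [hav]
    have h1 : ω' ^ Q - ω ^ Q = (ω' - ω) ^ Q := (sub_pow_expChar_pow ω' ω m (p := ringExpChar Ω)).symm
    rw [h1]
    exact pow_ne_zero _ (sub_ne_zero.mpr (Ne.symm hb))
  intro heq
  exact hc' ((evPt_eq_zero_iff_of_eq z z' heq c).1 hc)

end Groth.Agent.Lib.Helper3.FinPushSep
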