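import Groth.Agent.Lib.Helper3.FinPushSplit
import Groth.Agent.Lib.Helper43.DisjGlue

/-!
# Sections of sheaves on `X ×_Y V` near the geometric points of a fibre (helper3)

For a finite morphism `f : X ⟶ Y`, a geometric point `η` of `Y` with values in an algebraically
closed field and a sheaf of sets `G` on the small étale site of `X`:

* `coreInj`: two sections of `G` over `X ×_Y V` with the same germs at all the lifts of `η` agree
  after shrinking `(V, v)`.
* `coreSurj`: any family of germs at the lifts of `η` comes from a section over some `X ×_Y V`.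
-/

set_option autoImplicit false
set_option backward.isDefEq.respectTransparency false
set_option linter.unusedSectionVars false
set_option linter.style.haveILetI false

universe u w

open CategoryTheory CategoryTheory.Limits AlgebraicGeometry Opposite IsLocalRing

namespace Groth.Agent.Lib.Helper3.FinPushCore

open Groth.Agent.Lib.Helper3.EtLocalRingScheme Groth.Agent.Lib.Helper3.FinPushPts
  Groth.Agent.Lib.Helper3.FinPushSep Groth.Agent.Lib.Helper3.FinPushSplit Groth.Agent.S0100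
  Groth.Agent.Lib.Helper3.IntSplitScheme Groth.Agent.Lib.Helper43

variable {X Y : Scheme.{u}} (f : X ⟶ Y) {Ω : Type u} [Field Ω]

section Lift

variable [IsSepClosed Ω] {η : Spec (CommRingCat.of Ω) ⟶ Y}

/-- Lifting a geometric point to an étale neighbourhood through a prescribed point. -/
theorem exists_fib_lift {V V' : Y.Etale} (g : V' ⟶ V) (v : Fib η V) (x : V'.left)
    (hx : g.left x = nbhdPt v) :
    ∃ v' : Fib η V', (Scheme.pointSmallEtale η).fiber.map g v' = v ∧ nbhdPt v' = x := by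
  let gl : V'.left ⟶ V.left := g.left
  haveI : Etale gl := inferInstanceAs (Etale g.left)
  have e : (default : ↥(Spec (CommRingCat.of Ω))) = closedPoint Ω :=
    @Subsingleton.elim _ (inferInstanceAs (Subsingleton (PrimeSpectrum Ω))) _ _
  have hx' : gl x = (ptHom η v) default := by
    rw [e]
    exact hx
  obtain ⟨l, hl₁, hl₂⟩ := Scheme.exists_fac_of_etale_of_isSepClosed gl (ptHom η v) x hx'
  have hglw : gl ≫ V.hom = V'.hom := MorphismProperty.Over.w g
  let v' : Fib η V' := Over.homMk l (by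
    change l ≫ V'.hom = η
    rw [← hglw, ← Category.assoc, hl₁]
    exact ptHom_w η v)
  refine ⟨v', Over.OverMorphism.ext hl₁, ?_⟩
  change l (closedPoint Ω) = x
  rw [← e]
  exact hl₂

end Lift

section AlgClosed

variable [IsAlgClosed Ω] {η : Spec (CommRingCat.of Ω) ⟶ Y}

/-- Every point of `X ×_Y V` over the image of `v` comes from a lift of `η` (for `f` integral and
`Ω` algebraically closed). -/
theorem exists_lift_at [IsIntegralHom f] {V : Y.Etale} (v : Fib η V)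
    (z : ↥(pullback (V.hom : V.left ⟶ Y) f))
    (hz : (pullback.fst (V.hom : V.left ⟶ Y) f) z = nbhdPt v) :
    ∃ ξ : Lifts f η, nbhdPt (zbar ξ v) = z := by
  let vh : V.left ⟶ Y := V.hom
  let XV : Scheme.{u} := pullback vh f
  let pV : XV ⟶ V.left := pullback.fst vh f
  haveI : IsIntegralHom pV := inferInstanceAs (IsIntegralHom (pullback.fst vh f))
  let vl : Spec (CommRingCat.of Ω) ⟶ V.left := ptHom η v
  obtain ⟨p₀, -, hp₀⟩ := Scheme.Pullback.exists_preimage_pullback (f := vl) (g := pV)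
    (closedPoint Ω) z hz.symm
  let P : Scheme.{u} := pullback vl pV
  let p' : P ⟶ Spec (CommRingCat.of Ω) := pullback.fst vl pV
  haveI : IsIntegralHom p' := inferInstanceAs (IsIntegralHom (pullback.fst vl pV))
  haveI : IsAffine P := isAffine_of_isAffineHom p'
  let B : CommRingCat.{u} := Γ(P, ⊤)
  obtain ⟨ψ, hψ⟩ := Spec.map_surjective (P.isoSpec.inv ≫ p')
  have hint : IsIntegralHom (Spec.map ψ) := by rw [hψ]; infer_instance
  rw [IsIntegralHom.SpecMap_iff] at hint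
  letI : Algebra Ω B := ψ.hom.toAlgebra
  haveI : Algebra.IsIntegral Ω B := algebraMap_isIntegral_iff.mp hint
  let q : PrimeSpectrum B := P.isoSpec.hom p₀
  let m : Ideal B := q.asIdeal
  haveI : m.IsPrime := q.2
  haveI : m.IsMaximal := by
    apply Ideal.isMaximal_of_isIntegral_of_isMaximal_comap (R := Ω) m
    have : Ideal.comap (algebraMap Ω B) m = ⊥ := by
      have hne : Ideal.comap (algebraMap Ω B) m ≠ ⊤ := Ideal.IsPrime.ne_top inferInstance
      exact (Ideal.eq_bot_or_top _).resolve_right hne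
    rw [this]
    exact Ideal.bot_isMaximal
  let κ := B ⧸ m
  letI : Field κ := Ideal.Quotient.field m
  let θ : Ω →+* κ := (Ideal.Quotient.mk m).comp ψ.hom
  letI : Algebra Ω κ := θ.toAlgebra
  haveI : Algebra.IsIntegral Ω κ := by
    have h1 : θ.IsIntegral := RingHom.IsIntegral.trans _ _ hint
      (RingHom.isIntegral_of_surjective _ Ideal.Quotient.mk_surjective)
    exact algebraMap_isIntegral_iff.mp h1
  have hbij : Function.Bijective (algebraMap Ω κ) :=
    IsAlgClosed.algebraMap_bijective_of_isIntegral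
  let e : Ω ≃+* κ := RingEquiv.ofBijective (algebraMap Ω κ) hbij
  let ρ : B →+* Ω := e.symm.toRingHom.comp (Ideal.Quotient.mk m)
  have hρ : ρ.comp ψ.hom = RingHom.id Ω := by
    ext a
    change e.symm (θ a) = a
    exact e.symm_apply_apply a
  have hker : RingHom.ker ρ = m := by
    ext b
    rw [RingHom.mem_ker]
    change e.symm (Ideal.Quotient.mk m b) = 0 ↔ b ∈ m
    rw [map_eq_zero_iff _ e.symm.injective, Ideal.Quotient.eq_zero_iff_mem]
  let ζ'' : Spec (CommRingCat.of Ω) ⟶ Spec B := Spec.map (CommRingCat.ofHom ρ)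
  have hζ'' : ζ'' ≫ Spec.map ψ = 𝟙 _ := by
    rw [← Spec.map_comp]
    have : ψ ≫ CommRingCat.ofHom ρ = 𝟙 _ := by
      ext a
      exact congrArg (fun t => t a) hρ
    rw [this, Spec.map_id]
  have hζpt : ζ'' (closedPoint Ω) = q := by
    apply PrimeSpectrum.ext
    change Ideal.comap ρ (closedPoint Ω).asIdeal = m
    rw [← hker]
    have : (closedPoint Ω).asIdeal = ⊥ := IsLocalRing.maximalIdeal_eq_bot
    rw [this]
    rfl
  let σ : Spec (CommRingCat.of Ω) ⟶ P := ζ'' ≫ P.isoSpec.inv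
  have hσ1 : σ ≫ p' = 𝟙 _ := by
    change (ζ'' ≫ P.isoSpec.inv) ≫ p' = 𝟙 _
    rw [Category.assoc, ← hψ, hζ'']
  have hσpt : σ (closedPoint Ω) = p₀ := by
    change (ζ'' ≫ P.isoSpec.inv) (closedPoint Ω) = p₀
    rw [Scheme.Hom.comp_apply, hζpt]
    change (P.isoSpec.hom ≫ P.isoSpec.inv) p₀ = p₀
    rw [Iso.hom_inv_id]
    rfl
  let zl : Spec (CommRingCat.of Ω) ⟶ XV := σ ≫ pullback.snd vl pV
  have hzl1 : zl ≫ pV = vl := by
    change (σ ≫ pullback.snd vl pV) ≫ pV = vl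
    rw [Category.assoc, ← pullback.condition, ← Category.assoc, hσ1, Category.id_comp]
  let ξ₀ : Spec (CommRingCat.of Ω) ⟶ X := zl ≫ pullback.snd vh f
  have hξ₀ : ξ₀ ≫ f = η := by
    change (zl ≫ pullback.snd vh f) ≫ f = η
    rw [Category.assoc, ← pullback.condition, ← Category.assoc, hzl1]
    exact ptHom_w η v
  refine ⟨⟨ξ₀, hξ₀⟩, ?_⟩
  have hz2 : ptHom ξ₀ (zbar (⟨ξ₀, hξ₀⟩ : Lifts f η) v) = zl := by
    apply pullback.hom_ext
    · exact (ptHom_zbar_fst (⟨ξ₀, hξ₀⟩ : Lifts f η) v).trans hzl1.symm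
    · exact ptHom_zbar_snd (⟨ξ₀, hξ₀⟩ : Lifts f η) v
  change ptHom ξ₀ (zbar (⟨ξ₀, hξ₀⟩ : Lifts f η) v) (closedPoint Ω) = z
  rw [hz2]
  change (σ ≫ pullback.snd vl pV) (closedPoint Ω) = z
  rw [Scheme.Hom.comp_apply, hσpt]
  exact hp₀

theorem nbhdPt_map {Z : Scheme.{u}} {ζ : Spec (CommRingCat.of Ω) ⟶ Z} {U U' : Z.Etale}
    (k : U' ⟶ U) (u' : Fib ζ U') :
    nbhdPt ((Scheme.pointSmallEtale ζ).fiber.map k u') = k.left (nbhdPt u') := rfl

variable (η) (G : Sheaf X.smallEtaleTopology (Type w))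

/-- Sections with the same germs at all lifts of `η` agree after shrinking `(V, v)`. -/
theorem coreInj [IsIntegralHom f] {V : Y.Etale} [IsAffine V.left] (v : Fib η V)
    (s₁ s₂ : G.obj.obj (op ((EtCoh.bc f).obj V)))
    (h : ∀ ξ : Lifts f η, ∃ (U : X.Etale) (k : U ⟶ (EtCoh.bc f).obj V) (ū : Fib ξ.1 U),
      (Scheme.pointSmallEtale ξ.1).fiber.map k ū = zbar ξ v ∧
        G.obj.map k.op s₁ = G.obj.map k.op s₂) :
    ∃ (V' : Y.Etale) (g : V' ⟶ V) (v' : Fib η V'),
      (Scheme.pointSmallEtale η).fiber.map g v' = v ∧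
      G.obj.map ((EtCoh.bc f).map g).op s₁ = G.obj.map ((EtCoh.bc f).map g).op s₂ := by
  classical
  let 𝒵 : X.Etale := (EtCoh.bc f).obj V
  let R : Sieve 𝒵 :=
    { arrows := fun T k => G.obj.map k.op s₁ = G.obj.map k.op s₂
      downward_closed := by
        intro T T' k hk s
        change G.obj.map (s ≫ k).op s₁ = G.obj.map (s ≫ k).op s₂
        rw [op_comp, G.obj.map_comp]
        exact congrArg (G.obj.map s.op) hk }
  have hRv : ∀ z : ↥(pullback (V.hom : V.left ⟶ Y) f),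
      (pullback.fst (V.hom : V.left ⟶ Y) f) z = nbhdPt v →
      ∃ (U : X.Etale) (u : U ⟶ (EtCoh.bc f).obj V) (x : U.left), R u ∧
        (u.left : U.left ⟶ pullback (V.hom : V.left ⟶ Y) f) x = z := by
    intro z hz
    obtain ⟨ξ, hξ⟩ := exists_lift_at f v z hz
    obtain ⟨U, k, ū, hk, hs⟩ := h ξ
    refine ⟨U, k, nbhdPt ū, hs, ?_⟩
    rw [← hξ, ← hk]
    rfl
  obtain ⟨V', g, x, hgx, n, D, hdisj, hcov, hR⟩ := splitAt_of_isAffine' f V R (nbhdPt v) hRv
  obtain ⟨v', hv', -⟩ := exists_fib_lift g v x hgx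
  refine ⟨V', g, v', hv', ?_⟩
  let th : pullback (V'.hom : V'.left ⟶ Y) f ⟶ X := pullback.snd (V'.hom : V'.left ⟶ Y) f
  haveI : Etale th := inferInstanceAs (Etale ((EtCoh.bc f).obj V').hom)
  refine DisjGlue.ext_of_cover th G D hcov _ _ (fun i => ?_)
  have hi : G.obj.map (openHom ((EtCoh.bc f).obj V') (D i) ≫ (EtCoh.bc f).map g).op s₁ =
      G.obj.map (openHom ((EtCoh.bc f).obj V') (D i) ≫ (EtCoh.bc f).map g).op s₂ := hR i
  rw [op_comp, G.obj.map_comp] at hi
  exact hi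

/-- Any family of germs at the lifts of `η` comes from a section over some `X ×_Y V`. -/
theorem coreSurj [IsFinite f]
    (h0 : ∃ (V : Y.Etale) (_ : Fib η V), Nonempty (G.obj.obj (op ((EtCoh.bc f).obj V))))
    (Vx : Lifts f η → Y.Etale) (vx : ∀ ξ, Fib η (Vx ξ))
    (sx : ∀ ξ, G.obj.obj (op ((EtCoh.bc f).obj (Vx ξ)))) :
    ∃ (V : Y.Etale) (v : Fib η V) (s : G.obj.obj (op ((EtCoh.bc f).obj V))),
      ∀ ξ : Lifts f η, ∃ (W : X.Etale) (w : Fib ξ.1 W) (a : W ⟶ (EtCoh.bc f).obj V)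
        (b : W ⟶ (EtCoh.bc f).obj (Vx ξ)),
        (Scheme.pointSmallEtale ξ.1).fiber.map a w = zbar ξ v ∧
        (Scheme.pointSmallEtale ξ.1).fiber.map b w = zbar ξ (vx ξ) ∧
        G.obj.map a.op s = G.obj.map b.op (sx ξ) := by
  classical
  haveI : Finite (Lifts f η) := finite_lifts f η
  haveI := Fintype.ofFinite (Lifts f η)
  obtain ⟨V₀, v₀, n, D, hdisj, hcov, hsep⟩ := exists_split f η
  obtain ⟨Vh, vh, ⟨t₀⟩⟩ := h0
  let N₀ : (Scheme.pointSmallEtale η).fiber.Elements := ⟨V₀, v₀⟩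
  let Nh : (Scheme.pointSmallEtale η).fiber.Elements := ⟨Vh, vh⟩
  let Nx : Lifts f η → (Scheme.pointSmallEtale η).fiber.Elements := fun ξ => ⟨Vx ξ, vx ξ⟩
  let O : Finset (Scheme.pointSmallEtale η).fiber.Elements :=
    insert N₀ (insert Nh (Finset.univ.image Nx))
  obtain ⟨S, hS⟩ := IsCofiltered.inf_objs_exists O
  obtain ⟨g₀⟩ := hS (X := N₀) (Finset.mem_insert_self _ _)
  obtain ⟨gh⟩ := hS (X := Nh) (Finset.mem_insert_of_mem (Finset.mem_insert_self _ _))
  have hgx : ∀ ξ, Nonempty (S ⟶ Nx ξ) := fun ξ =>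
    hS (Finset.mem_insert_of_mem (Finset.mem_insert_of_mem
      (Finset.mem_image_of_mem Nx (Finset.mem_univ ξ))))
  let gx : ∀ ξ, S ⟶ Nx ξ := fun ξ => (hgx ξ).some
  let V : Y.Etale := S.1
  let v : Fib η V := S.2
  have hg₀ : (Scheme.pointSmallEtale η).fiber.map g₀.1 v = v₀ := g₀.2
  have hgxv : ∀ ξ, (Scheme.pointSmallEtale η).fiber.map (gx ξ).1 v = vx ξ := fun ξ => (gx ξ).2
  let 𝒵 : X.Etale := (EtCoh.bc f).obj V
  let G₀ : 𝒵 ⟶ (EtCoh.bc f).obj V₀ := (EtCoh.bc f).map g₀.1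
  let D' : Fin n → 𝒵.left.Opens := fun i => G₀.left ⁻¹ᵁ D i
  have hdisj' : ∀ i j, i ≠ j → Disjoint (D' i) (D' j) := by
    intro i j hij
    rw [← TopologicalSpace.Opens.coe_disjoint, Set.disjoint_left]
    intro x hx hx'
    exact Set.disjoint_left.1 ((TopologicalSpace.Opens.coe_disjoint).2 (hdisj i j hij)) hx hx'
  have hcov' : (⨆ i, D' i) = ⊤ := by
    apply top_unique
    intro x _
    have hx : G₀.left x ∈ (⨆ i, D i) := by rw [hcov]; trivial
    obtain ⟨i, hi⟩ := TopologicalSpace.Opens.mem_iSup.1 hx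
    exact TopologicalSpace.Opens.mem_iSup.2 ⟨i, hi⟩
  have hmem_iff : ∀ (ξ : Lifts f η) (i : Fin n),
      nbhdPt (zbar ξ v) ∈ D' i ↔ nbhdPt (zbar ξ v₀) ∈ D i := by
    intro ξ i
    have e : G₀.left (nbhdPt (zbar ξ v)) = nbhdPt (zbar ξ v₀) := by
      rw [nbhdPt_zbar_map, hg₀]
    rw [← e]
    rfl
  have hidx : ∀ ξ : Lifts f η, ∃ i, nbhdPt (zbar ξ v) ∈ D' i := by
    intro ξ
    have hx : nbhdPt (zbar ξ v) ∈ (⨆ i, D' i) := by rw [hcov']; trivial
    exact TopologicalSpace.Opens.mem_iSup.1 hx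
  choose idx hidx' using hidx
  -- the sections on the pieces
  let sec : ∀ (i : Fin n) (ξ : Lifts f η), G.obj.obj (op (openObj 𝒵 (D' i))) := fun i ξ =>
    G.obj.map (openHom 𝒵 (D' i) ≫ (EtCoh.bc f).map (gx ξ).1).op (sx ξ)
  let t : ∀ i : Fin n, G.obj.obj (op (openObj 𝒵 (D' i))) := fun i =>
    if h : ∃ ξ : Lifts f η, nbhdPt (zbar ξ v) ∈ D' i then sec i h.choose
    else G.obj.map (openHom 𝒵 (D' i) ≫ (EtCoh.bc f).map gh.1).op t₀
  let th : pullback (V.hom : V.left ⟶ Y) f ⟶ X := pullback.snd (V.hom : V.left ⟶ Y) f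
  haveI : Etale th := inferInstanceAs (Etale ((EtCoh.bc f).obj V).hom)
  obtain ⟨s, hs⟩ := DisjGlue.glue_disjoint th G D' hdisj' hcov' t
  refine ⟨V, v, s, fun ξ => ?_⟩
  let i := idx ξ
  have hi : nbhdPt (zbar ξ v) ∈ D' i := hidx' ξ
  refine ⟨openObj 𝒵 (D' i), openPt (zbar ξ v) (D' i) hi, openHom 𝒵 (D' i),
    openHom 𝒵 (D' i) ≫ (EtCoh.bc f).map (gx ξ).1, map_openPt _ _ hi, ?_, ?_⟩
  · rw [Functor.map_comp_apply, map_openPt, zbar_map, hgxv]
  · have h1 : G.obj.map (openHom 𝒵 (D' i)).op s = t i := hs i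
    rw [h1]
    have hex : ∃ ξ' : Lifts f η, nbhdPt (zbar ξ' v) ∈ D' i := ⟨ξ, hi⟩
    have hch : hex.choose = ξ := by
      apply hsep i
      · exact (hmem_iff _ i).1 hex.choose_spec
      · exact (hmem_iff _ i).1 hi
    change (if h : ∃ ξ : Lifts f η, nbhdPt (zbar ξ v) ∈ D' i then sec i h.choose
      else G.obj.map (openHom 𝒵 (D' i) ≫ (EtCoh.bc f).map gh.1).op t₀) = sec i ξ
    rw [dif_pos hex, hch]

end AlgClosed

end Groth.Agent.Lib.Helper3.FinPushCore
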