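import Groth.Agent.Lib.Helper3.EtLocalRingScheme
import Mathlib.FieldTheory.IsSepClosed
import Mathlib.RingTheory.Polynomial.SeparableDegree
import Mathlib.AlgebraicGeometry.Morphisms.QuasiFinite

/-!
# Geometric points in the fibres of finite morphisms (helper3)

* `exists_pow_mem_range_evStalk`: an element of `Ω` integral over the étale local ring at a
  geometric point has a `q`-power in the image of the étale local ring (`q` the exponential
  characteristic).
* `finite_lifts`: a geometric point has finitely many lifts along a finite morphism.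
-/

set_option autoImplicit false
set_option backward.isDefEq.respectTransparency false
set_option linter.unusedSectionVars false
set_option linter.style.haveILetI false

universe u

open CategoryTheory CategoryTheory.Limits AlgebraicGeometry Opposite IsLocalRing Polynomial

namespace Groth.Agent.Lib.Helper3.FinPushPts

open Groth.Agent.Lib.Helper3.EtLocalRingScheme

section Field

variable {Y : Scheme.{u}} {Ω : Type u} [Field Ω] [IsSepClosed Ω]
  (η : Spec (CommRingCat.of Ω) ⟶ Y)

/-- An element of `Ω` which is integral over the étale local ring at `η` has a `q^m`-th power in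
the image of the étale local ring. -/
theorem exists_pow_mem_range_evStalk (ω : Ω)
    (hω : ∃ P : Polynomial ↑(EtBase.etaleLocalRing η), P.Monic ∧ (P.map (evStalk η)).eval ω = 0) :
    ∃ (m : ℕ) (r : ↑(EtBase.etaleLocalRing η)), evStalk η r = ω ^ (ringExpChar Ω ^ m) := by
  letI := isLocalRing_etaleLocalRing η
  haveI hlh : IsLocalHom (evStalk η) :=
    ⟨fun s hs => isUnit_of_evStalk_ne_zero η s hs.ne_zero⟩
  let κ := IsLocalRing.ResidueField ↑(EtBase.etaleLocalRing η)
  let evbar : κ →+* Ω := IsLocalRing.ResidueField.lift (evStalk η)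
  have hevbar : evbar.comp (residue ↑(EtBase.etaleLocalRing η)) = evStalk η :=
    IsLocalRing.ResidueField.lift_comp_residue (evStalk η)
  letI : Algebra κ Ω := evbar.toAlgebra
  haveI : IsSepClosed κ := isSepClosed_residueField_etaleLocalRing η
  let q := ringExpChar Ω
  haveI : ExpChar κ q := evbar.expChar evbar.injective q
  obtain ⟨P, hPm, hP0⟩ := hω
  have hint : IsIntegral κ ω := by
    refine ⟨P.map (residue _), hPm.map _, ?_⟩
    rw [Polynomial.eval₂_map]
    change Polynomial.eval₂ (evbar.comp (residue _)) ω P = 0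
    rw [hevbar, ← Polynomial.eval_map]
    exact hP0
  obtain ⟨g, hgsep, m, hm⟩ := (minpoly.irreducible hint).hasSeparableContraction q
  let lam : Ω := ω ^ (q ^ m)
  have hlam0 : Polynomial.aeval lam g = 0 := by
    rw [← Polynomial.expand_aeval, hm, minpoly.aeval]
  have hlint : IsIntegral κ lam := hint.pow _
  have hsep : (minpoly κ lam).Separable := hgsep.of_dvd (minpoly.dvd κ lam hlam0)
  have hdeg : (minpoly κ lam).degree = 1 :=
    IsSepClosed.degree_eq_one_of_irreducible κ (minpoly.irreducible hlint) hsep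
  obtain ⟨t, ht⟩ := minpoly.mem_range_of_degree_eq_one κ lam hdeg
  obtain ⟨r, rfl⟩ := residue_surjective t
  refine ⟨m, r, ?_⟩
  have h1 : evbar (residue _ r) = lam := ht
  change evStalk η r = lam
  rw [← h1, ← hevbar]
  rfl

end Field

section BasicOpen

variable {Ω : Type u} [Field Ω]

/-- Value of a global function at a field-valued point. -/
noncomputable def evPt {Z : Scheme.{u}} (t : Spec (CommRingCat.of Ω) ⟶ Z) : Γ(Z, ⊤) →+* Ω :=
  ((Scheme.ΓSpecIso (CommRingCat.of Ω)).hom.hom).comp t.appTop.hom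

theorem evPt_comp {Z Z' : Scheme.{u}} (t : Spec (CommRingCat.of Ω) ⟶ Z) (g : Z ⟶ Z')
    (a : Γ(Z', ⊤)) : evPt (t ≫ g) a = evPt t (g.appTop.hom a) := by
  change (Scheme.ΓSpecIso (CommRingCat.of Ω)).hom.hom ((t ≫ g).appTop.hom a) =
    (Scheme.ΓSpecIso (CommRingCat.of Ω)).hom.hom (t.appTop.hom (g.appTop.hom a))
  rw [Scheme.Hom.comp_appTop]
  rfl

theorem ΓSpecIso_hom_injective :
    Function.Injective (Scheme.ΓSpecIso (CommRingCat.of Ω)).hom.hom := by
  intro a b h
  have h2 := congrArg (Scheme.ΓSpecIso (CommRingCat.of Ω)).inv.hom h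
  have h3 : ∀ c, (Scheme.ΓSpecIso (CommRingCat.of Ω)).inv.hom
      ((Scheme.ΓSpecIso (CommRingCat.of Ω)).hom.hom c) = c := fun c =>
    ConcreteCategory.congr_hom (Scheme.ΓSpecIso (CommRingCat.of Ω)).hom_inv_id c
  rwa [h3, h3] at h2

theorem mem_basicOpen_iff {Z : Scheme.{u}} (t : Spec (CommRingCat.of Ω) ⟶ Z) (a : Γ(Z, ⊤)) :
    t (closedPoint Ω) ∈ Z.basicOpen a ↔ evPt t a ≠ 0 := by
  have hpre : t ⁻¹ᵁ Z.basicOpen a = (Spec (CommRingCat.of Ω)).basicOpen (t.appTop.hom a) :=
    Scheme.preimage_basicOpen_top t a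
  constructor
  · intro h h0
    have h1 : t.appTop.hom a = 0 := by
      apply ΓSpecIso_hom_injective
      rw [map_zero]
      exact h0
    have h2 : (closedPoint Ω : ↥(Spec (CommRingCat.of Ω))) ∈ t ⁻¹ᵁ Z.basicOpen a := h
    rw [hpre, h1, Scheme.basicOpen_zero] at h2
    exact h2
  · intro h
    have hb : IsUnit (t.appTop.hom a) := by
      have h1 : IsUnit ((Scheme.ΓSpecIso (CommRingCat.of Ω)).hom.hom (t.appTop.hom a)) :=
        isUnit_iff_ne_zero.2 h
      have h2 := h1.map (Scheme.ΓSpecIso (CommRingCat.of Ω)).inv.hom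
      have h3 : (Scheme.ΓSpecIso (CommRingCat.of Ω)).inv.hom
          ((Scheme.ΓSpecIso (CommRingCat.of Ω)).hom.hom (t.appTop.hom a)) = t.appTop.hom a :=
        ConcreteCategory.congr_hom (Scheme.ΓSpecIso (CommRingCat.of Ω)).hom_inv_id _
      rwa [h3] at h2
    have h5 : (closedPoint Ω : ↥(Spec (CommRingCat.of Ω))) ∈ t ⁻¹ᵁ Z.basicOpen a := by
      rw [hpre, Scheme.basicOpen_of_isUnit _ hb]; trivial
    exact h5

/-- Two field-valued points with the same image point vanish on the same global functions. -/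
theorem evPt_eq_zero_iff_of_eq {Z : Scheme.{u}} (t t' : Spec (CommRingCat.of Ω) ⟶ Z)
    (h : t (closedPoint Ω) = t' (closedPoint Ω)) (a : Γ(Z, ⊤)) :
    evPt t a = 0 ↔ evPt t' a = 0 := by
  rw [← not_iff_not]
  change evPt t a ≠ 0 ↔ evPt t' a ≠ 0
  rw [← mem_basicOpen_iff, ← mem_basicOpen_iff, h]

/-- Two morphisms from `Spec Ω` to an affine scheme with the same values on global functions are
equal. -/
theorem hom_ext_of_evPt {Z : Scheme.{u}} [IsAffine Z] (t t' : Spec (CommRingCat.of Ω) ⟶ Z)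
    (h : ∀ a, evPt t a = evPt t' a) : t = t' := by
  apply ext_of_isAffine
  apply CommRingCat.hom_ext
  apply RingHom.ext
  intro a
  exact ΓSpecIso_hom_injective (h a)

end BasicOpen

section Finite

variable {X Y : Scheme.{u}} (f : X ⟶ Y) {Ω : Type u} [Field Ω]
  (η : Spec (CommRingCat.of Ω) ⟶ Y)

/-- Sections of a scheme over `Spec Ω` are determined by their image point. -/
theorem section_ext {P : Scheme.{u}} [IsAffine P] (π : P ⟶ Spec (CommRingCat.of Ω))
    (s s' : Spec (CommRingCat.of Ω) ⟶ P) (hs : s ≫ π = 𝟙 _) (hs' : s' ≫ π = 𝟙 _)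
    (h : s (closedPoint Ω) = s' (closedPoint Ω)) : s = s' := by
  apply hom_ext_of_evPt
  intro c
  -- the structure map `Ω → Γ(P)`
  let j : Ω →+* Γ(P, ⊤) := π.appTop.hom.comp (Scheme.ΓSpecIso (CommRingCat.of Ω)).inv.hom
  have hj : ∀ (t : Spec (CommRingCat.of Ω) ⟶ P), t ≫ π = 𝟙 _ → ∀ x : Ω, evPt t (j x) = x := by
    intro t ht x
    change evPt t (π.appTop.hom ((Scheme.ΓSpecIso (CommRingCat.of Ω)).inv.hom x)) = x
    rw [← evPt_comp, ht]
    change (Scheme.ΓSpecIso (CommRingCat.of Ω)).hom.hom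
      ((𝟙 (Spec (CommRingCat.of Ω)) : _ ⟶ _).appTop.hom
        ((Scheme.ΓSpecIso (CommRingCat.of Ω)).inv.hom x)) = x
    rw [Scheme.Hom.id_appTop]
    exact ConcreteCategory.congr_hom (Scheme.ΓSpecIso (CommRingCat.of Ω)).inv_hom_id x
  have h0 : evPt s (c - j (evPt s c)) = 0 := by
    rw [map_sub, hj s hs, sub_self]
  have h1 : evPt s' (c - j (evPt s c)) = 0 := (evPt_eq_zero_iff_of_eq s s' h _).1 h0
  rw [map_sub, hj s' hs', sub_eq_zero] at h1
  exact h1.symm

/-- A geometric point has only finitely many lifts along a finite morphism. -/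
theorem finite_lifts [IsFinite f] :
    Finite {ξ : Spec (CommRingCat.of Ω) ⟶ X // ξ ≫ f = η} := by
  let P : Scheme.{u} := pullback η f
  let π : P ⟶ Spec (CommRingCat.of Ω) := pullback.fst η f
  haveI : IsFinite π := inferInstanceAs (IsFinite (pullback.fst η f))
  haveI : IsAffine P := isAffine_of_isAffineHom π
  have hfin : Finite P := by
    have h1 : (π ⁻¹' {closedPoint Ω}).Finite := π.finite_preimage_singleton _
    have h2 : (π ⁻¹' {closedPoint Ω}) = Set.univ := by
      ext p
      simp only [Set.mem_preimage, Set.mem_singleton_iff, Set.mem_univ, iff_true]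
      exact @Subsingleton.elim _ (inferInstanceAs (Subsingleton (PrimeSpectrum Ω))) _ _
    rw [h2] at h1
    exact Set.finite_univ_iff.mp h1
  let sec : {ξ : Spec (CommRingCat.of Ω) ⟶ X // ξ ≫ f = η} → (Spec (CommRingCat.of Ω) ⟶ P) :=
    fun ξ => pullback.lift (𝟙 _) ξ.1 (by rw [Category.id_comp]; exact ξ.2.symm)
  have hsec1 : ∀ ξ, sec ξ ≫ π = 𝟙 _ := fun ξ => pullback.lift_fst _ _ _
  have hsec2 : ∀ ξ, sec ξ ≫ pullback.snd η f = ξ.1 := fun ξ => pullback.lift_snd _ _ _
  refine Finite.of_injective (fun ξ => (sec ξ) (closedPoint Ω)) ?_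
  intro ξ ξ' h
  have h1 : sec ξ = sec ξ' := section_ext π _ _ (hsec1 ξ) (hsec1 ξ') h
  apply Subtype.ext
  rw [← hsec2 ξ, ← hsec2 ξ', h1]

end Finite

end Groth.Agent.Lib.Helper3.FinPushPts
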