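import Groth.Agent.Lib.Helper3.FinPushStalk

/-!
# The stalk of `f_* G` for a finite morphism `f` and a sheaf of sets `G` (helper3)
-/

set_option autoImplicit false
set_option backward.isDefEq.respectTransparency false
set_option linter.unusedSectionVars false
set_option linter.style.haveILetI false

universe u w

open CategoryTheory CategoryTheory.Limits AlgebraicGeometry Opposite IsLocalRing

namespace Groth.Agent.Lib.Helper3.FinPushSets

open Groth.Agent.Lib.Helper3.EtLocalRingScheme Groth.Agent.Lib.Helper3.FinPushPts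
  Groth.Agent.Lib.Helper3.FinPushSep Groth.Agent.Lib.Helper3.FinPushSplit Groth.Agent.S0100
  Groth.Agent.Lib.Helper3.FinPushCore Groth.Agent.Lib.Helper43
  Groth.Agent.Lib.Helper3.IntSplitScheme

section OpenLift

variable {X : Scheme.{u}}

/-- A morphism of étale `X`-schemes restricts to open subschemes. -/
noncomputable def openLift {T Z : X.Etale} (m : T ⟶ Z) (D : T.left.Opens) (D' : Z.left.Opens)
    (hle : D ≤ m.left ⁻¹ᵁ D') : openObj T D ⟶ openObj Z D' :=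
  have hr : Set.range (D.ι ≫ m.left) ⊆ Set.range D'.ι := by
    rw [Scheme.Opens.range_ι]
    rintro _ ⟨x, rfl⟩
    exact hle x.2
  MorphismProperty.Over.homMk (IsOpenImmersion.lift D'.ι (D.ι ≫ m.left) hr) (by
    change IsOpenImmersion.lift D'.ι (D.ι ≫ m.left) hr ≫ D'.ι ≫ Z.hom = D.ι ≫ T.hom
    rw [← Category.assoc, IsOpenImmersion.lift_fac, Category.assoc]
    congr 1
    exact MorphismProperty.Over.w m) trivial

theorem openLift_openHom {T Z : X.Etale} (m : T ⟶ Z) (D : T.left.Opens) (D' : Z.left.Opens)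
    (hle : D ≤ m.left ⁻¹ᵁ D') : openLift m D D' hle ≫ openHom Z D' = openHom T D ≫ m := by
  apply MorphismProperty.Over.Hom.ext
  exact IsOpenImmersion.lift_fac _ _ _

variable {Ω : Type u} [Field Ω] [IsSepClosed Ω] {ξ : Spec (CommRingCat.of Ω) ⟶ X}

theorem fib_ext_open {U : X.Etale} (D : U.left.Opens) (p₁ p₂ : Fib ξ (openObj U D))
    (h : (Scheme.pointSmallEtale ξ).fiber.map (openHom U D) p₁ =
      (Scheme.pointSmallEtale ξ).fiber.map (openHom U D) p₂) : p₁ = p₂ := by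
  apply Over.OverMorphism.ext
  have h1 : ptHom ξ p₁ ≫ D.ι = ptHom ξ p₂ ≫ D.ι := congrArg (fun t => ptHom ξ t) h
  exact (cancel_mono D.ι).1 h1

theorem nbhdPt_openPt {U : X.Etale} (u : Fib ξ U) (D : U.left.Opens) (hD : nbhdPt u ∈ D) :
    D.ι (nbhdPt (openPt u D hD)) = nbhdPt u := by
  have := congrArg nbhdPt (map_openPt u D hD)
  exact this

end OpenLift

section Rep

variable {X Y : Scheme.{u}} (f : X ⟶ Y) {Ω : Type u} [Field Ω] [IsSepClosed Ω]
  {η : Spec (CommRingCat.of Ω) ⟶ Y}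

/-- Open and closed pieces of the `X ×_Y V` are cofinal among the étale neighbourhoods of a lift of
`η` (a pointed form of condition (A)). -/
theorem exists_clopen_rep (hA : BigSite.PropA f) (ξ : Lifts f η) {U : X.Etale} (y : Fib ξ.1 U) :
    ∃ (V : Y.Etale) (v : Fib η V) (W : ((EtCoh.bc f).obj V).left.Opens)
      (_ : IsClosed (W : Set ((EtCoh.bc f).obj V).left)) (hmem : nbhdPt (zbar ξ v) ∈ W)
      (k : openObj ((EtCoh.bc f).obj V) W ⟶ U),
      (Scheme.pointSmallEtale ξ.1).fiber.map k (openPt (zbar ξ v) W hmem) = y := by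
  obtain ⟨ξ₀, hξ₀⟩ := ξ
  subst hξ₀
  let Φ := Scheme.pointSmallEtale ξ₀
  let UL : Scheme.{u} := U.left
  let uh : UL ⟶ X := U.hom
  let yl : Spec (CommRingCat.of Ω) ⟶ UL := y.left
  have hyl : yl ≫ uh = ξ₀ := Over.w y
  obtain ⟨V, v, hv, W, hWc, h, hh, ⟨w₀, hw₀⟩⟩ := hA UL uh (yl.base default)
  let V' : Y.Etale := Scheme.Etale.mk v
  let σ : pullback v f ≅ pullback f v := pullbackSymmetry v f
  have hσ1 : σ.hom ≫ pullback.fst f v = pullback.snd v f := pullbackSymmetry_hom_comp_fst v f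
  let th : pullback v f ⟶ X := pullback.snd v f
  let W₁ : (pullback v f).Opens := σ.hom ⁻¹ᵁ W
  have hW₁c : IsClosed (W₁ : Set ↥(pullback v f)) := hWc.preimage σ.hom.continuous
  have hr : Set.range (W₁.ι ≫ σ.hom).base ⊆ Set.range W.ι.base := by
    rw [Scheme.Opens.range_ι]
    rintro _ ⟨x, rfl⟩
    exact x.2
  let l₀ : (W₁ : Scheme.{u}) ⟶ W := IsOpenImmersion.lift W.ι (W₁.ι ≫ σ.hom) hr
  have hl₀ : l₀ ≫ W.ι = W₁.ι ≫ σ.hom := IsOpenImmersion.lift_fac _ _ _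
  let h₁ : (W₁ : Scheme.{u}) ⟶ UL := l₀ ≫ h
  have hh₁ : h₁ ≫ uh = W₁.ι ≫ th := by
    change (l₀ ≫ h) ≫ uh = W₁.ι ≫ th
    rw [Category.assoc, hh, ← Category.assoc, hl₀, Category.assoc, hσ1]
  have hmem : σ.inv.base (W.ι.base w₀) ∈ W₁ := by
    change σ.hom.base (σ.inv.base (W.ι.base w₀)) ∈ W
    have : σ.hom.base (σ.inv.base (W.ι.base w₀)) = W.ι.base w₀ := by
      change (σ.inv ≫ σ.hom).base (W.ι.base w₀) = _
      rw [Iso.inv_hom_id]
      rfl
    rw [this]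
    exact w₀.2
  let w₁ : ↥(W₁ : Scheme.{u}) := ⟨σ.inv.base (W.ι.base w₀), hmem⟩
  have hw₁ : h₁.base w₁ = yl.base default := by
    change h.base (l₀.base w₁) = _
    have h1 : l₀.base w₁ = w₀ := by
      apply W.ι.isOpenEmbedding.injective
      change (l₀ ≫ W.ι).base w₁ = W.ι.base w₀
      rw [hl₀]
      change σ.hom.base (σ.inv.base (W.ι.base w₀)) = W.ι.base w₀
      change (σ.inv ≫ σ.hom).base (W.ι.base w₀) = _
      rw [Iso.inv_hom_id]
      rfl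
    rw [h1]
    exact hw₀
  let T : X.Etale := (EtCoh.bc f).obj V'
  let T₁ : X.Etale := openObj T W₁
  let ι₁ : T₁ ⟶ T := openHom T W₁
  let h₁' : T₁ ⟶ U := MorphismProperty.Over.homMk h₁ hh₁
  have hh₁et : Etale h₁ := inferInstanceAs (Etale h₁'.left)
  obtain ⟨l, hl₁, hl₂⟩ := Scheme.exists_fac_of_etale_of_isSepClosed h₁ yl w₁ hw₁
  let y₁ : Φ.fiber.obj T₁ := Over.homMk l (by
    change l ≫ W₁.ι ≫ th = ξ₀
    rw [← hh₁, ← Category.assoc, hl₁]
    exact hyl)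
  have hy₁ : Φ.fiber.map h₁' y₁ = y := Over.OverMorphism.ext hl₁
  let yT : Φ.fiber.obj T := Φ.fiber.map ι₁ y₁
  let z : Fib (ξ₀ ≫ f) V' := (fiberEquiv f ξ₀ V').symm yT
  have hz : zbar (⟨ξ₀, rfl⟩ : Lifts f (ξ₀ ≫ f)) z = yT := (fiberEquiv f ξ₀ V').apply_symm_apply yT
  have hmem' : nbhdPt (zbar (⟨ξ₀, rfl⟩ : Lifts f (ξ₀ ≫ f)) z) ∈ W₁ := by
    rw [hz]
    change W₁.ι (nbhdPt y₁) ∈ W₁
    exact (nbhdPt y₁).2
  refine ⟨V', z, W₁, hW₁c, hmem', h₁', ?_⟩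
  rw [← hy₁]
  congr 1
  apply fib_ext_open
  rw [map_openPt, hz]

end Rep

section Core

variable {X Y : Scheme.{u}} (f : X ⟶ Y) {Ω : Type u} [Field Ω] [IsAlgClosed Ω]
  (η : Spec (CommRingCat.of Ω) ⟶ Y) (G : Sheaf X.smallEtaleTopology (Type w))

/-- Any family of germs at the lifts of `η`, given by sections over open and closed pieces, comes
from a section over some `X ×_Y V` (version for sheaves of sets: no default sections needed). -/
theorem coreSurjSets [IsFinite f]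
    (Vx : Lifts f η → Y.Etale) (vx : ∀ ξ, Fib η (Vx ξ))
    (Wx : ∀ ξ, ((EtCoh.bc f).obj (Vx ξ)).left.Opens)
    (hWm : ∀ ξ, nbhdPt (zbar ξ (vx ξ)) ∈ Wx ξ)
    (sx : ∀ ξ, G.obj.obj (op (openObj ((EtCoh.bc f).obj (Vx ξ)) (Wx ξ)))) :
    ∃ (V : Y.Etale) (v : Fib η V) (s : G.obj.obj (op ((EtCoh.bc f).obj V))),
      ∀ ξ : Lifts f η, ∃ (W : X.Etale) (w : Fib ξ.1 W) (a : W ⟶ (EtCoh.bc f).obj V)
        (b : W ⟶ openObj ((EtCoh.bc f).obj (Vx ξ)) (Wx ξ)),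
        (Scheme.pointSmallEtale ξ.1).fiber.map a w = zbar ξ v ∧
        (Scheme.pointSmallEtale ξ.1).fiber.map b w = openPt (zbar ξ (vx ξ)) (Wx ξ) (hWm ξ) ∧
        G.obj.map a.op s = G.obj.map b.op (sx ξ) := by
  classical
  haveI : Finite (Lifts f η) := finite_lifts f η
  haveI := Fintype.ofFinite (Lifts f η)
  obtain ⟨V₀, v₀, n, D, hdisj, hcov, hsep⟩ := exists_split f η
  let N₀ : (Scheme.pointSmallEtale η).fiber.Elements := ⟨V₀, v₀⟩
  let Nx : Lifts f η → (Scheme.pointSmallEtale η).fiber.Elements := fun ξ => ⟨Vx ξ, vx ξ⟩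
  let O : Finset (Scheme.pointSmallEtale η).fiber.Elements :=
    insert N₀ (Finset.univ.image Nx)
  obtain ⟨S, hS⟩ := IsCofiltered.inf_objs_exists O
  obtain ⟨g₀⟩ := hS (X := N₀) (Finset.mem_insert_self _ _)
  have hgx : ∀ ξ, Nonempty (S ⟶ Nx ξ) := fun ξ =>
    hS (Finset.mem_insert_of_mem (Finset.mem_image_of_mem Nx (Finset.mem_univ ξ)))
  let gx : ∀ ξ, S ⟶ Nx ξ := fun ξ => (hgx ξ).some
  let V₁ : Y.Etale := S.1
  let v₁ : Fib η V₁ := S.2
  have hg₀ : (Scheme.pointSmallEtale η).fiber.map g₀.1 v₁ = v₀ := g₀.2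
  have hgxv : ∀ ξ, (Scheme.pointSmallEtale η).fiber.map (gx ξ).1 v₁ = vx ξ := fun ξ => (gx ξ).2
  let 𝒵₁ : X.Etale := (EtCoh.bc f).obj V₁
  let G₀ : 𝒵₁ ⟶ (EtCoh.bc f).obj V₀ := (EtCoh.bc f).map g₀.1
  let D' : Fin n → 𝒵₁.left.Opens := fun i => G₀.left ⁻¹ᵁ D i
  have hdisj' : ∀ i j, i ≠ j → Disjoint (D' i) (D' j) := by
    intro i j hij
    rw [← TopologicalSpace.Opens.coe_disjoint, Set.disjoint_left]
    intro x hx hx'
    exact Set.disjoint_left.1 ((TopologicalSpace.Opens.coe_disjoint).2 (hdisj i j hij)) hx hx'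
  have hcov' : (⨆ i, D' i) = ⊤ := by
    apply top_unique
    intro x _
    have hx : G₀.left x ∈ (⨆ i, D i) := by rw [hcov]; trivial
    obtain ⟨i, hi⟩ := TopologicalSpace.Opens.mem_iSup.1 hx
    exact TopologicalSpace.Opens.mem_iSup.2 ⟨i, hi⟩
  have hmem_iff : ∀ (ξ : Lifts f η) (i : Fin n),
      nbhdPt (zbar ξ v₁) ∈ D' i ↔ nbhdPt (zbar ξ v₀) ∈ D i := by
    intro ξ i
    have e : G₀.left (nbhdPt (zbar ξ v₁)) = nbhdPt (zbar ξ v₀) := by
      rw [nbhdPt_zbar_map, hg₀]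
    rw [← e]
    rfl
  have hidx : ∀ ξ : Lifts f η, ∃ i, nbhdPt (zbar ξ v₁) ∈ D' i := by
    intro ξ
    have hx : nbhdPt (zbar ξ v₁) ∈ (⨆ i, D' i) := by rw [hcov']; trivial
    exact TopologicalSpace.Opens.mem_iSup.1 hx
  choose idx hidx' using hidx
  have hidx_inj : ∀ ξ ξ', idx ξ = idx ξ' → ξ = ξ' := by
    intro ξ ξ' e
    apply hsep (idx ξ)
    · exact (hmem_iff ξ _).1 (hidx' ξ)
    · rw [e]
      exact (hmem_iff ξ' _).1 (hidx' ξ')
  let Gx : ∀ ξ, 𝒵₁ ⟶ (EtCoh.bc f).obj (Vx ξ) := fun ξ => (EtCoh.bc f).map (gx ξ).1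
  let W' : Lifts f η → 𝒵₁.left.Opens := fun ξ => (Gx ξ).left ⁻¹ᵁ Wx ξ
  have hW'm : ∀ ξ, nbhdPt (zbar ξ v₁) ∈ W' ξ := by
    intro ξ
    change (Gx ξ).left (nbhdPt (zbar ξ v₁)) ∈ Wx ξ
    rw [nbhdPt_zbar_map, hgxv]
    exact hWm ξ
  let E : Lifts f η → 𝒵₁.left.Opens := fun ξ => D' (idx ξ) ⊓ W' ξ
  have hEm : ∀ ξ, nbhdPt (zbar ξ v₁) ∈ E ξ := fun ξ => ⟨hidx' ξ, hW'm ξ⟩
  -- the closed complement
  let C : Set 𝒵₁.left := (⋃ ξ, (E ξ : Set 𝒵₁.left))ᶜ
  have hCc : IsClosed C := (isOpen_iUnion (fun ξ => (E ξ).2)).isClosed_compl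
  let p₁ : 𝒵₁.left ⟶ V₁.left := pullback.fst (V₁.hom : V₁.left ⟶ Y) f
  haveI : IsFinite p₁ := inferInstanceAs (IsFinite (pullback.fst (V₁.hom : V₁.left ⟶ Y) f))
  have hpC : IsClosed (p₁ '' C) := p₁.isClosedMap _ hCc
  have hv₁C : nbhdPt v₁ ∈ (p₁ '' C)ᶜ := by
    rintro ⟨x, hxC, hx⟩
    obtain ⟨ξ, hξ⟩ := exists_lift_at f v₁ x hx
    apply hxC
    rw [← hξ]
    exact Set.mem_iUnion.2 ⟨ξ, hEm ξ⟩
  let O₂ : V₁.left.Opens := ⟨(p₁ '' C)ᶜ, hpC.isOpen_compl⟩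
  let V₂ : Y.Etale := openObj V₁ O₂
  let v₂ : Fib η V₂ := openPt v₁ O₂ hv₁C
  let j : V₂ ⟶ V₁ := openHom V₁ O₂
  have hj : (Scheme.pointSmallEtale η).fiber.map j v₂ = v₁ := map_openPt _ _ _
  let 𝒵₂ : X.Etale := (EtCoh.bc f).obj V₂
  let K : 𝒵₂ ⟶ 𝒵₁ := (EtCoh.bc f).map j
  let E₂ : Lifts f η → 𝒵₂.left.Opens := fun ξ => K.left ⁻¹ᵁ E ξ
  have hE₂m : ∀ ξ, nbhdPt (zbar ξ v₂) ∈ E₂ ξ := by
    intro ξ
    change K.left (nbhdPt (zbar ξ v₂)) ∈ E ξ
    rw [nbhdPt_zbar_map, hj]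
    exact hEm ξ
  have hdisj₂ : ∀ ξ ξ', ξ ≠ ξ' → Disjoint (E₂ ξ) (E₂ ξ') := by
    intro ξ ξ' hne
    rw [← TopologicalSpace.Opens.coe_disjoint, Set.disjoint_left]
    intro x hx hx'
    have hne' : idx ξ ≠ idx ξ' := fun e => hne (hidx_inj _ _ e)
    exact Set.disjoint_left.1 ((TopologicalSpace.Opens.coe_disjoint).2 (hdisj' _ _ hne'))
      hx.1 hx'.1
  have hcov₂ : (⨆ ξ, E₂ ξ) = ⊤ := by
    apply top_unique
    intro x _
    by_contra hx
    have hxC : K.left x ∈ C := by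
      intro hmem
      obtain ⟨ξ, hξ⟩ := Set.mem_iUnion.1 hmem
      exact hx (TopologicalSpace.Opens.mem_iSup.2 ⟨ξ, hξ⟩)
    have h1 : p₁ (K.left x) = j.left ((pullback.fst (V₂.hom : V₂.left ⟶ Y) f) x) := by
      have e : K.left ≫ p₁ = pullback.fst (V₂.hom : V₂.left ⟶ Y) f ≫ j.left :=
        bc_map_left_fst f j
      exact (Scheme.Hom.comp_apply _ _ _).symm.trans
        ((congrArg (fun t : 𝒵₂.left ⟶ V₁.left => t x) e).trans (Scheme.Hom.comp_apply _ _ _))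
    have h2 : j.left ((pullback.fst (V₂.hom : V₂.left ⟶ Y) f) x) ∈ O₂ := by
      change O₂.ι ((pullback.fst (V₂.hom : V₂.left ⟶ Y) f) x) ∈ O₂
      exact ((pullback.fst (V₂.hom : V₂.left ⟶ Y) f) x).2
    exact h2 (h1 ▸ ⟨K.left x, hxC, rfl⟩)
  -- the sections
  let bξ : ∀ ξ, openObj 𝒵₂ (E₂ ξ) ⟶ openObj ((EtCoh.bc f).obj (Vx ξ)) (Wx ξ) := fun ξ =>
    openLift (K ≫ Gx ξ) (E₂ ξ) (Wx ξ) (by
      intro x hx
      exact hx.2)
  let t : ∀ ξ, G.obj.obj (op (openObj 𝒵₂ (E₂ ξ))) := fun ξ => G.obj.map (bξ ξ).op (sx ξ)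
  let th : pullback (V₂.hom : V₂.left ⟶ Y) f ⟶ X := pullback.snd (V₂.hom : V₂.left ⟶ Y) f
  haveI : Etale th := inferInstanceAs (Etale ((EtCoh.bc f).obj V₂).hom)
  obtain ⟨s, hs⟩ := DisjGlue.glue_disjoint th G E₂ hdisj₂ hcov₂ t
  refine ⟨V₂, v₂, s, fun ξ => ⟨openObj 𝒵₂ (E₂ ξ), openPt (zbar ξ v₂) (E₂ ξ) (hE₂m ξ),
    openHom 𝒵₂ (E₂ ξ), bξ ξ, map_openPt _ _ _, ?_, hs ξ⟩⟩
  apply fib_ext_open
  rw [map_openPt, ← Functor.map_comp_apply, openLift_openHom, Functor.map_comp_apply, map_openPt,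
    Functor.map_comp_apply, zbar_map, hj, zbar_map, hgxv]

end Core

section Stalk

variable {X Y : Scheme.{u}} (f : X ⟶ Y) (G : EtDesc.Sh X) {Ω : Type u} [Field Ω]

section Def

variable [IsSepClosed Ω] {η : Spec (CommRingCat.of Ω) ⟶ Y}

/-- The canonical map `(f_* G)_η ⟶ G_ξ` for a lift `ξ` of `η` (sheaves of sets). -/
noncomputable def pushStalkMapT (ξ : Lifts f η) :
    (Scheme.pointSmallEtale η).presheafFiber.obj ((EtDesc.pushSh f).obj G).obj ⟶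
      (Scheme.pointSmallEtale ξ.1).presheafFiber.obj G.obj :=
  (Scheme.pointSmallEtale η).presheafFiberDesc
    (fun V v => (Scheme.pointSmallEtale ξ.1).toPresheafFiber ((EtCoh.bc f).obj V)
      (zbar ξ v) G.obj)
    (by
      intro V₁ V₂ g v
      have h2 := (Scheme.pointSmallEtale ξ.1).toPresheafFiber_w ((EtCoh.bc f).map g)
        (zbar ξ v) G.obj
      refine Eq.trans ?_ (congrArg (fun t => (Scheme.pointSmallEtale ξ.1).toPresheafFiber
        ((EtCoh.bc f).obj V₂) t G.obj) (zbar_map ξ g v))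
      exact h2)

lemma toFiber_pushStalkMapT (ξ : Lifts f η) (V : Y.Etale) (v : Fib η V) :
    (Scheme.pointSmallEtale η).toPresheafFiber V v ((EtDesc.pushSh f).obj G).obj ≫
      pushStalkMapT f G ξ =
    (Scheme.pointSmallEtale ξ.1).toPresheafFiber ((EtCoh.bc f).obj V) (zbar ξ v) G.obj :=
  (Scheme.pointSmallEtale η).toPresheafFiber_presheafFiberDesc _ _ V v

lemma toFiber_pushStalkMapT_apply (ξ : Lifts f η) (V : Y.Etale) (v : Fib η V)
    (s : G.obj.obj (op ((EtCoh.bc f).obj V))) :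
    pushStalkMapT f G ξ ((Scheme.pointSmallEtale η).toPresheafFiber V v
      ((EtDesc.pushSh f).obj G).obj s) =
    (Scheme.pointSmallEtale ξ.1).toPresheafFiber ((EtCoh.bc f).obj V) (zbar ξ v) G.obj s :=
  congrArg (fun t => t.hom s) (toFiber_pushStalkMapT f G ξ V v)

lemma pushStalkMapT_naturality {G G' : EtDesc.Sh X} (φ : G ⟶ G') (ξ : Lifts f η) :
    (Scheme.pointSmallEtale η).presheafFiber.map ((EtDesc.pushSh f).map φ).hom ≫
      pushStalkMapT f G' ξ =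
    pushStalkMapT f G ξ ≫ (Scheme.pointSmallEtale ξ.1).presheafFiber.map φ.hom := by
  refine (Scheme.pointSmallEtale η).presheafFiber_hom_ext (fun V v => ?_)
  rw [← Category.assoc, (Scheme.pointSmallEtale η).toPresheafFiber_naturality, Category.assoc,
    toFiber_pushStalkMapT, ← Category.assoc, toFiber_pushStalkMapT,
    (Scheme.pointSmallEtale ξ.1).toPresheafFiber_naturality]
  rfl

end Def

section Main

variable [IsAlgClosed Ω] {η : Spec (CommRingCat.of Ω) ⟶ Y}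

theorem pushStalkMapT_jointly_injective [IsIntegralHom f]
    (a₁ a₂ : ToType ((Scheme.pointSmallEtale η).presheafFiber.obj ((EtDesc.pushSh f).obj G).obj))
    (h : ∀ ξ : Lifts f η, pushStalkMapT f G ξ a₁ = pushStalkMapT f G ξ a₂) : a₁ = a₂ := by
  let Φ := Scheme.pointSmallEtale η
  let P := ((EtDesc.pushSh f).obj G).obj
  obtain ⟨V, v, s₁, s₂, rfl, rfl⟩ := Φ.toPresheafFiber_jointly_surjective₂ (P := P) a₁ a₂
  obtain ⟨V', g, v', hV', hgv'⟩ := exists_affine_nbhd (η := η) v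
  haveI : IsAffine V'.left := hV'
  rw [← hgv', ← Φ.toPresheafFiber_w_apply g v' P, ← Φ.toPresheafFiber_w_apply g v' P] at h ⊢
  let t₁ : G.obj.obj (op ((EtCoh.bc f).obj V')) := P.map g.op s₁
  let t₂ : G.obj.obj (op ((EtCoh.bc f).obj V')) := P.map g.op s₂
  have hyp : ∀ ξ : Lifts f η, ∃ (U : X.Etale) (k : U ⟶ (EtCoh.bc f).obj V') (ū : Fib ξ.1 U),
      (Scheme.pointSmallEtale ξ.1).fiber.map k ū = zbar ξ v' ∧
        G.obj.map k.op t₁ = G.obj.map k.op t₂ := by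
    intro ξ
    have hξ := h ξ
    rw [toFiber_pushStalkMapT_apply, toFiber_pushStalkMapT_apply] at hξ
    obtain ⟨U, k, ū, hū, hs⟩ := ((Scheme.pointSmallEtale ξ.1).toPresheafFiber_eq_iff' _ _ _ _).1 hξ
    exact ⟨U, k, ū, hū, hs⟩
  obtain ⟨V'', g', v'', hv'', hs⟩ := coreInj f η G v' t₁ t₂ hyp
  have hs' : P.map g'.op t₁ = P.map g'.op t₂ := hs
  change Φ.toPresheafFiber V' v' P t₁ = Φ.toPresheafFiber V' v' P t₂
  rw [← hv'', ← Φ.toPresheafFiber_w_apply g' v'' P, ← Φ.toPresheafFiber_w_apply g' v'' P, hs']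

theorem pushStalkMapT_jointly_surjective [IsFinite f]
    (σ : ∀ ξ : Lifts f η, ToType ((Scheme.pointSmallEtale ξ.1).presheafFiber.obj G.obj)) :
    ∃ a : ToType ((Scheme.pointSmallEtale η).presheafFiber.obj ((EtDesc.pushSh f).obj G).obj),
      ∀ ξ, pushStalkMapT f G ξ a = σ ξ := by
  let Φ := Scheme.pointSmallEtale η
  let P := ((EtDesc.pushSh f).obj G).obj
  have hrep : ∀ ξ : Lifts f η, ∃ (U : X.Etale) (y : Fib ξ.1 U) (s : G.obj.obj (op U)),
      (Scheme.pointSmallEtale ξ.1).toPresheafFiber U y G.obj s = σ ξ := fun ξ =>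
    (Scheme.pointSmallEtale ξ.1).toPresheafFiber_jointly_surjective (P := G.obj) (σ ξ)
  choose Ux yx sx0 hsx0 using hrep
  have hcl := fun ξ => exists_clopen_rep f (IntPropA.propA f) ξ (yx ξ)
  choose Vx vx Wx hWc hWm kx hkx using hcl
  let sx : ∀ ξ, G.obj.obj (op (openObj ((EtCoh.bc f).obj (Vx ξ)) (Wx ξ))) := fun ξ =>
    G.obj.map (kx ξ).op (sx0 ξ)
  obtain ⟨V, v, s, H⟩ := coreSurjSets f η G Vx vx Wx hWm sx
  let s' : P.obj (op V) := s
  refine ⟨Φ.toPresheafFiber V v P s', fun ξ => ?_⟩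
  rw [toFiber_pushStalkMapT_apply]
  obtain ⟨W, w, a, b, ha, hb, hab⟩ := H ξ
  have hab' : G.obj.map a.op s' = G.obj.map b.op (G.obj.map (kx ξ).op (sx0 ξ)) := hab
  rw [← hsx0 ξ, ← hkx ξ, ← hb, ← ha,
    ← (Scheme.pointSmallEtale ξ.1).toPresheafFiber_w_apply a w G.obj, hab',
    (Scheme.pointSmallEtale ξ.1).toPresheafFiber_w_apply b w G.obj,
    (Scheme.pointSmallEtale ξ.1).toPresheafFiber_w_apply (kx ξ) _ G.obj]

end Main

section Functor

variable [IsAlgClosed Ω] (η : Spec (CommRingCat.of Ω) ⟶ Y)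

/-- The stalk maps as a natural transformation. -/
noncomputable def tauξ (ξ : Lifts f η) :
    EtDesc.pushSh f ⋙ (Scheme.pointSmallEtale η).sheafFiber (A := Type (u + 1)) ⟶
      ((Scheme.pointSmallEtale ξ.1).sheafFiber (A := Type (u + 1)) : EtDesc.Sh X ⥤ Type (u + 1)) where
  app G := pushStalkMapT f G ξ
  naturality _ _ φ := pushStalkMapT_naturality f φ ξ

/-- The comparison from the stalk of the direct image to the product of the stalks. -/
noncomputable def tau :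
    EtDesc.pushSh f ⋙ (Scheme.pointSmallEtale η).sheafFiber (A := Type (u + 1)) ⟶
      ∏ᶜ fun ξ : Lifts f η =>
        ((Scheme.pointSmallEtale ξ.1).sheafFiber (A := Type (u + 1)) :
          EtDesc.Sh X ⥤ Type (u + 1)) :=
  Pi.lift (tauξ f η)

noncomputable abbrev stalkFun (ξ : Lifts f η) : EtDesc.Sh X ⥤ Type (u + 1) :=
  (Scheme.pointSmallEtale ξ.1).sheafFiber (A := Type (u + 1))

lemma tau_π_app (ξ : Lifts f η) (G : EtDesc.Sh X)
    (a : ToType ((Scheme.pointSmallEtale η).presheafFiber.obj ((EtDesc.pushSh f).obj G).obj)) :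
    (Pi.π (stalkFun f η) ξ).app G ((tau f η).app G a) = pushStalkMapT f G ξ a := by
  have h1 : tau f η ≫ Pi.π (stalkFun f η) ξ = tauξ f η ξ := Pi.lift_π _ _
  have h2 := congrArg (fun t => t.app G) h1
  exact congrArg (fun t => t.hom a) h2

lemma pi_ext (G : EtDesc.Sh X) (y₁ y₂ : ToType ((∏ᶜ stalkFun f η).obj G))
    (h : ∀ ξ, (Pi.π (stalkFun f η) ξ).app G y₁ = (Pi.π (stalkFun f η) ξ).app G y₂) :
    y₁ = y₂ := by
  have hlim := isLimitOfPreserves ((evaluation (EtDesc.Sh X) (Type (u + 1))).obj G)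
    (limit.isLimit (Discrete.functor (stalkFun f η)))
  refine Concrete.isLimit_ext _ hlim y₁ y₂ ?_
  rintro ⟨ξ⟩
  exact h ξ

theorem isIso_tau [IsFinite f] : IsIso (tau f η) := by
  haveI : ∀ G, IsIso ((tau f η).app G) := by
    intro G
    rw [isIso_iff_bijective]
    constructor
    · intro a₁ a₂ h
      apply pushStalkMapT_jointly_injective f G
      intro ξ
      rw [← tau_π_app, ← tau_π_app]
      exact congrArg _ h
    · intro y
      obtain ⟨a, ha⟩ := pushStalkMapT_jointly_surjective f G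
        (fun ξ => (Pi.π (stalkFun f η) ξ).app G y)
      refine ⟨a, ?_⟩
      apply pi_ext
      intro ξ
      rw [← ha ξ]
      exact tau_π_app f η ξ G a
  exact NatIso.isIso_of_isIso_app _

theorem nonempty_iso [IsFinite f] :
    Nonempty (EtDesc.pushSh f ⋙ (Scheme.pointSmallEtale η).sheafFiber (A := Type (u + 1)) ≅
      ∏ᶜ fun ξ : {ξ : Spec (CommRingCat.of Ω) ⟶ X // ξ ≫ f = η} =>
        ((Scheme.pointSmallEtale ξ.1).sheafFiber (A := Type (u + 1)) :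
          EtDesc.Sh X ⥤ Type (u + 1))) := by
  haveI := isIso_tau f η
  exact ⟨asIso (tau f η)⟩

end Functor

end Stalk

end Groth.Agent.Lib.Helper3.FinPushSets
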