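import Groth.Agent.Lib.Helper3.IntSplitScheme

/-!
# Integral morphisms and étale coverings: splitting with a partial covering hypothesis (helper3)

A variant of `IntSplitScheme.splitAt_of_isAffine` where the sieve is only assumed to cover the points
of `X ×_Y V` lying over the given point `v` of `V`.
-/

set_option linter.style.haveILetI false
set_option linter.unusedSectionVars false
set_option autoImplicit false

universe u

open CategoryTheory CategoryTheory.Limits AlgebraicGeometry Opposite TopologicalSpace TensorProduct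

namespace Groth.Agent.Lib.Helper3.IntSplitScheme

open Groth.Agent.Lib.Helper3 Groth.Agent.Lib.Helper3.EtLocalRingScheme
  Groth.Agent.Lib.Helper9.HensK

variable {X Y : Scheme.{u}} (f : X ⟶ Y)

set_option backward.isDefEq.respectTransparency.types false in
set_option maxHeartbeats 800000 in
/-- The affine case, with the covering hypothesis only at the points over `v`. -/
theorem splitAt_of_isAffine' [IsIntegralHom f] (V : Y.Etale) [IsAffine V.left]
    (R : Sieve ((EtCoh.bc f).obj V)) (v : V.left)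
    (hRv : ∀ z : ↥(pullback (V.hom : V.left ⟶ Y) f), (pullback.fst (V.hom : V.left ⟶ Y) f) z = v →
      ∃ (U : X.Etale) (u : U ⟶ (EtCoh.bc f).obj V) (x : U.left), R u ∧
        (u.left : U.left ⟶ pullback (V.hom : V.left ⟶ Y) f) x = z) :
    SplitAt f V R v := by
  classical
  let 𝒵 : X.Etale := (EtCoh.bc f).obj V
  let vh : V.left ⟶ Y := V.hom
  let Z : Scheme.{u} := pullback vh f
  let p : Z ⟶ V.left := pullback.fst vh f
  haveI : IsIntegralHom p := inferInstance
  haveI : IsAffine Z := isAffine_of_isAffineHom p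
  let C : CommRingCat.{u} := Γ(V.left, ⊤)
  let D : CommRingCat.{u} := Γ(Z, ⊤)
  let φ : C ⟶ D := p.appTop
  letI algCD : Algebra C D := φ.hom.toAlgebra
  haveI : Algebra.IsIntegral C D := by
    have h1 : φ.hom.IsIntegral := IsIntegralHom.isIntegral_app p ⊤ (isAffineOpen_top _)
    exact algebraMap_isIntegral_iff.mp h1
  -- the point and the field
  let q : PrimeSpectrum C := V.left.isoSpec.hom v
  let κ := q.asIdeal.ResidueField
  let K := AlgebraicClosure κ
  letI algCK : Algebra C K := ((algebraMap κ K).comp (algebraMap C κ)).toAlgebra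
  have hker : ∀ c : C, algebraMap C K c = 0 ↔ c ∈ q.asIdeal := by
    intro c
    change algebraMap κ K (algebraMap C κ c) = 0 ↔ _
    rw [map_eq_zero_iff _ (algebraMap κ K).injective, Ideal.algebraMap_residueField_eq_zero]
  -- the predicate
  let 𝒢 : ∀ (E : Type u) [CommRing E], (D →+* E) → Prop := fun E _ ψ =>
    ∃ (U : X.Etale) (u : U ⟶ 𝒵) (m : Spec (CommRingCat.of E) ⟶ U.left), R u ∧
      m ≫ (u.left : U.left ⟶ Z) = Spec.map (CommRingCat.ofHom ψ) ≫ Z.isoSpec.inv
  have h𝒢 : ∀ (E E' : Type u) [CommRing E] [CommRing E'] (ψ : D →+* E) (h : E →+* E'),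
      𝒢 E ψ → 𝒢 E' (h.comp ψ) := by
    intro E E' iE iE' ψ h hG
    obtain ⟨U, u, m, hu, hm⟩ := hG
    refine ⟨U, u, Spec.map (CommRingCat.ofHom h) ≫ m, hu, ?_⟩
    calc (Spec.map (CommRingCat.ofHom h) ≫ m) ≫ (u.left : U.left ⟶ Z)
        = Spec.map (CommRingCat.ofHom h) ≫ (m ≫ (u.left : U.left ⟶ Z)) := Category.assoc _ _ _
      _ = Spec.map (CommRingCat.ofHom h) ≫ Spec.map (CommRingCat.ofHom ψ) ≫ Z.isoSpec.inv :=
          congrArg (fun t => Spec.map (CommRingCat.ofHom h) ≫ t) hm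
      _ = Spec.map (CommRingCat.ofHom (h.comp ψ)) ≫ Z.isoSpec.inv := by
          rw [← Category.assoc, ← Spec.map_comp]
          rfl
  have hcov : ∀ 𝔭 : Ideal D, 𝔭.IsPrime →
      𝔭.comap (algebraMap C D) = RingHom.ker (algebraMap C K) →
      ∃ (E : Type u) (_ : CommRing E) (_ : Algebra D E),
      Algebra.Etale D E ∧ 𝒢 E (algebraMap D E) ∧
        ∃ 𝔓 : Ideal E, 𝔓.IsPrime ∧ 𝔓.comap (algebraMap D E) = 𝔭 := by
    intro 𝔭 h𝔭 hcomap
    let zs : Spec D := (⟨𝔭, h𝔭⟩ : PrimeSpectrum D)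
    let z : Z := Z.isoSpec.inv zs
    have hpz : p z = v := by
      have h1 : (Z.isoSpec.inv ≫ p) zs = (Spec.map φ ≫ V.left.isoSpec.inv) zs := by
        rw [Scheme.isoSpec_inv_naturality p]
      rw [Scheme.Hom.comp_apply, Scheme.Hom.comp_apply] at h1
      have h2 : (Spec.map φ) zs = V.left.isoSpec.hom v := by
        apply PrimeSpectrum.ext
        ext c
        change c ∈ 𝔭.comap (algebraMap C D) ↔ c ∈ q.asIdeal
        rw [hcomap, RingHom.mem_ker, hker]
      change p z = V.left.isoSpec.inv ((Spec.map φ) zs) at h1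
      rw [h1, h2, ← Scheme.Hom.comp_apply, Iso.hom_inv_id]
      rfl
    obtain ⟨U, u, x, hu, hux⟩ := hRv z hpz
    let w : U.left ⟶ Z := u.left
    haveI : Etale w := inferInstanceAs (Etale u.left)
    obtain ⟨W, hW, hxW, hle, hEt, hfac, hprime⟩ := exists_affine_etale_chart w x
    letI algDE : Algebra D Γ(U.left, W) := (w.appLE ⊤ W hle).hom.toAlgebra
    refine ⟨Γ(U.left, W), inferInstance, algDE, hEt, ⟨U, u, hW.fromSpec, hu, hfac⟩,
      (hW.primeIdealOf ⟨x, hxW⟩).asIdeal, (hW.primeIdealOf ⟨x, hxW⟩).2, ?_⟩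
    rw [show algebraMap D Γ(U.left, W) = (w.appLE ⊤ W hle).hom from rfl, hprime]
    have : w x = z := hux
    rw [this]
    change (Z.isoSpec.hom (Z.isoSpec.inv (⟨𝔭, h𝔭⟩ : PrimeSpectrum D)) : PrimeSpectrum D).asIdeal = 𝔭
    rw [← Scheme.Hom.comp_apply, Iso.inv_hom_id]
    rfl
  obtain ⟨N, m, e, he, hgood⟩ := IntSplitStage.exists_split_stage' (C := C) (D := D) K 𝒢 h𝒢 hcov
  -- the étale neighbourhood
  let ψN : C ⟶ CommRingCat.of N.S := CommRingCat.ofHom (algebraMap C N.S)
  let g₀ : Spec (CommRingCat.of N.S) ⟶ V.left := Spec.map ψN ≫ V.left.isoSpec.inv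
  haveI : Etale (Spec.map ψN) :=
    (HasRingHomProperty.Spec_iff (P := @Etale)).mpr (RingHom.etale_algebraMap.mpr inferInstance)
  haveI : Etale g₀ := inferInstance
  haveI : Etale (g₀ ≫ vh) := inferInstance
  let V' : Y.Etale := Scheme.Etale.mk (g₀ ≫ vh)
  let g : V' ⟶ V := MorphismProperty.Over.homMk g₀ rfl trivial
  let v' : Spec (CommRingCat.of N.S) :=
    (⟨RingHom.ker N.σ.toRingHom, RingHom.ker_isPrime _⟩ : PrimeSpectrum N.S)
  have hv' : g₀ v' = v := by
    have h1 : (Spec.map ψN) v' = V.left.isoSpec.hom v := by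
      apply PrimeSpectrum.ext
      ext c
      change N.σ (algebraMap C N.S c) = 0 ↔ c ∈ q.asIdeal
      rw [N.σ.commutes, hker]
    change V.left.isoSpec.inv ((Spec.map ψN) v') = v
    rw [h1, ← Scheme.Hom.comp_apply, Iso.hom_inv_id]
    rfl
  -- the two cartesian squares
  let 𝒵' : X.Etale := (EtCoh.bc f).obj V'
  let v'h : Spec (CommRingCat.of N.S) ⟶ Y := g₀ ≫ vh
  let Z' : Scheme.{u} := pullback v'h f
  let p' : Z' ⟶ Spec (CommRingCat.of N.S) := pullback.fst v'h f
  let bg : Z' ⟶ Z := ((EtCoh.bc f).map g).left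
  have hP1 : IsPullback bg p' p g₀ := EtCoh.isPullback_bc_map f g
  let inl : D ⟶ CommRingCat.of (D ⊗[C] N.S) :=
    CommRingCat.ofHom Algebra.TensorProduct.includeLeftRingHom
  let inr : CommRingCat.of N.S ⟶ CommRingCat.of (D ⊗[C] N.S) :=
    CommRingCat.ofHom Algebra.TensorProduct.includeRight.toRingHom
  have hP2 : IsPullback (Spec.map inl) (Spec.map inr) (Spec.map φ) (Spec.map ψN) :=
    isPullback_SpecMap_of_isPushout _ _ _ _ (CommRingCat.isPushout_tensorProduct C D N.S)
  have hP2' : IsPullback (Spec.map inl ≫ Z.isoSpec.inv) (Spec.map inr) p g₀ :=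
    IsPullback.of_iso hP2 (Iso.refl _) Z.isoSpec.symm (Iso.refl _) V.left.isoSpec.symm
      (by simp) (by simp) (Scheme.isoSpec_inv_naturality p) (by simp [g₀])
  let τ : Spec (CommRingCat.of (D ⊗[C] N.S)) ≅ Z' := hP2'.isoIsPullback _ _ hP1
  have hτ : τ.hom ≫ bg = Spec.map inl ≫ Z.isoSpec.inv :=
    IsPullback.isoIsPullback_hom_fst _ _ hP2' hP1
  obtain ⟨hdisj, hcover⟩ := opensRange_disjoint_cover e he τ
  let j : ∀ a : Fin m, Spec (CommRingCat.of (Localization.Away (e a))) ⟶ Z' := fun a =>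
    Spec.map (CommRingCat.ofHom (algebraMap (D ⊗[C] N.S) (Localization.Away (e a)))) ≫ τ.hom
  haveI hjo : ∀ a, IsOpenImmersion (j a) := fun a => inferInstance
  refine ⟨V', g, v', hv', m, fun a => (j a).opensRange, hdisj, hcover, fun a => ?_⟩
  obtain ⟨U, u, mm, hu, hmm⟩ := hgood a
  let uZ : U.left ⟶ Z := u.left
  have h1 : mm ≫ uZ = j a ≫ bg := by
    have h2 : Spec.map (CommRingCat.ofHom
        ((algebraMap (D ⊗[C] N.S) (Localization.Away (e a))).comp
          Algebra.TensorProduct.includeLeftRingHom)) =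
        Spec.map (CommRingCat.ofHom (algebraMap (D ⊗[C] N.S) (Localization.Away (e a)))) ≫
          Spec.map inl := by
      rw [← Spec.map_comp]
      rfl
    calc mm ≫ uZ = Spec.map (CommRingCat.ofHom
          ((algebraMap (D ⊗[C] N.S) (Localization.Away (e a))).comp
            Algebra.TensorProduct.includeLeftRingHom)) ≫ Z.isoSpec.inv := hmm
      _ = Spec.map (CommRingCat.ofHom (algebraMap (D ⊗[C] N.S) (Localization.Away (e a)))) ≫
            (Spec.map inl ≫ Z.isoSpec.inv) := by rw [h2, Category.assoc]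
      _ = Spec.map (CommRingCat.ofHom (algebraMap (D ⊗[C] N.S) (Localization.Away (e a)))) ≫
            (τ.hom ≫ bg) := by rw [hτ]
      _ = j a ≫ bg := (Category.assoc _ _ _).symm
  let Da : Z'.Opens := (j a).opensRange
  let k₀ : Da.toScheme ⟶ U.left := (j a).isoOpensRange.inv ≫ mm
  have hι : (j a).isoOpensRange.inv ≫ j a = Da.ι := by
    rw [Iso.inv_comp_eq]
    exact ((j a).isoOpensRange_hom_ι).symm
  have hk₀ : k₀ ≫ uZ = Da.ι ≫ bg := by
    calc k₀ ≫ uZ = (j a).isoOpensRange.inv ≫ (mm ≫ uZ) := Category.assoc _ _ _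
      _ = (j a).isoOpensRange.inv ≫ (j a ≫ bg) := by rw [h1]
      _ = ((j a).isoOpensRange.inv ≫ j a) ≫ bg := (Category.assoc _ _ _).symm
      _ = Da.ι ≫ bg := by rw [hι]
  let zh : Z ⟶ X := 𝒵.hom
  let z'h : Z' ⟶ X := 𝒵'.hom
  let uh : U.left ⟶ X := U.hom
  have hu1 : uZ ≫ zh = uh := Over.w u.hom
  have hbg1 : bg ≫ zh = z'h := Over.w ((EtCoh.bc f).map g).hom
  have hkw : k₀ ≫ uh = Da.ι ≫ z'h := by
    rw [← hu1, ← Category.assoc, hk₀, Category.assoc, hbg1]
  let k : openObj 𝒵' Da ⟶ U := MorphismProperty.Over.homMk k₀ hkw trivial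
  have hk : k ≫ u = openHom 𝒵' Da ≫ (EtCoh.bc f).map g := by
    apply MorphismProperty.Over.Hom.ext
    exact hk₀
  change R (openHom 𝒵' Da ≫ (EtCoh.bc f).map g)
  rw [← hk]
  exact R.downward_closed hu k


end Groth.Agent.Lib.Helper3.IntSplitScheme
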