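import Groth.Agent.Lib.Helper3.FinPushSep
import Groth.Agent.Lib.Helper3.IntSplitScheme2

/-!
# Splitting `X ×_Y V` along the geometric points of a fibre of a finite morphism (helper3)

For a finite morphism `f : X ⟶ Y` and a geometric point `η` of `Y`, there is an étale neighbourhood
`(V, v)` of `η` and a finite decomposition of `X ×_Y V` into pairwise disjoint opens each of which
contains at most one of the points given by the lifts of `η`.
-/

set_option autoImplicit false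
set_option backward.isDefEq.respectTransparency false
set_option linter.unusedSectionVars false
set_option linter.style.haveILetI false

universe u

open CategoryTheory CategoryTheory.Limits AlgebraicGeometry Opposite IsLocalRing

namespace Groth.Agent.Lib.Helper3.FinPushSplit

open Groth.Agent.Lib.Helper3.EtLocalRingScheme Groth.Agent.Lib.Helper3.FinPushPts
  Groth.Agent.Lib.Helper3.FinPushSep Groth.Agent.S0100 Groth.Agent.Lib.Helper3.IntSplitScheme

variable {X Y : Scheme.{u}} (f : X ⟶ Y) {Ω : Type u} [Field Ω] [IsSepClosed Ω]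
  (η : Spec (CommRingCat.of Ω) ⟶ Y)

/-- All the lifts of `η` are separated in some affine étale neighbourhood. -/
theorem exists_sep [IsFinite f] :
    ∃ (V : Y.Etale) (v : Fib η V), IsAffine V.left ∧
      ∀ ξ ξ' : Lifts f η, ξ ≠ ξ' → nbhdPt (zbar ξ v) ≠ nbhdPt (zbar ξ' v) := by
  classical
  haveI : Finite (Lifts f η) := finite_lifts f η
  haveI := Fintype.ofFinite (Lifts f η)
  obtain ⟨N₀⟩ := IsCofiltered.nonempty (C := (Scheme.pointSmallEtale η).fiber.Elements)
  have hex : ∀ p : Lifts f η × Lifts f η, ∃ N : (Scheme.pointSmallEtale η).fiber.Elements,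
      p.1 ≠ p.2 → nbhdPt (zbar p.1 N.2) ≠ nbhdPt (zbar p.2 N.2) := by
    intro p
    by_cases h : p.1 = p.2
    · exact ⟨N₀, fun h' => (h' h).elim⟩
    · obtain ⟨V, v, hv⟩ := exists_sep_pair p.1 p.2 h
      exact ⟨⟨V, v⟩, fun _ => hv⟩
  choose N hN using hex
  let O : Finset (Scheme.pointSmallEtale η).fiber.Elements := Finset.univ.image N
  obtain ⟨S, hS⟩ := IsCofiltered.inf_objs_exists O
  obtain ⟨V', g, v', hV', hgv'⟩ := exists_affine_nbhd (η := η) S.2
  refine ⟨V', v', hV', fun ξ ξ' hne => ?_⟩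
  obtain ⟨k⟩ := hS (X := N (ξ, ξ')) (Finset.mem_image_of_mem N (Finset.mem_univ _))
  have hk : (Scheme.pointSmallEtale η).fiber.map k.1 S.2 = (N (ξ, ξ')).2 := k.2
  have h1 : (Scheme.pointSmallEtale η).fiber.map (g ≫ k.1) v' = (N (ξ, ξ')).2 := by
    rw [Functor.map_comp_apply, hgv', hk]
  apply sep_of_map ξ ξ' (g ≫ k.1) v'
  rw [h1]
  exact hN (ξ, ξ') hne

theorem closedPoint_eq_default : (closedPoint Ω : ↥(Spec (CommRingCat.of Ω))) = default :=
  @Subsingleton.elim _ (inferInstanceAs (Subsingleton (PrimeSpectrum Ω))) _ _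

/-- In the fibre of a locally quasi-finite morphism every point is isolated. -/
theorem exists_open_isolating' {U X : Scheme.{u}} (g : U ⟶ X) [LocallyQuasiFinite g] (u : U) :
    ∃ U' : U.Opens, u ∈ U' ∧ ∀ u' ∈ U', g u' = g u → u' = u := by
  have hdisc : _root_.IsDiscrete (g ⁻¹' {g u}) := g.isDiscrete_preimage_singleton (g u)
  haveI : DiscreteTopology ↥(g ⁻¹' {g u}) := hdisc.to_subtype
  let pt : ↥(g ⁻¹' {g u}) := ⟨u, rfl⟩
  have hopen : IsOpen ({pt} : Set ↥(g ⁻¹' {g u})) := isOpen_discrete _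
  obtain ⟨t, ht, hteq⟩ := isOpen_induced_iff.mp hopen
  refine ⟨⟨t, ht⟩, ?_, ?_⟩
  · have : pt ∈ Subtype.val ⁻¹' t := by rw [hteq]; rfl
    exact this
  · intro u' hu' hgu'
    have : (⟨u', hgu'⟩ : ↥(g ⁻¹' {g u})) ∈ Subtype.val ⁻¹' t := hu'
    rw [hteq] at this
    exact congrArg Subtype.val (Set.mem_singleton_iff.mp this)

/-- The splitting. -/
theorem exists_split [IsFinite f] :
    ∃ (V : Y.Etale) (v : Fib η V) (n : ℕ) (D : Fin n → ((EtCoh.bc f).obj V).left.Opens),
      (∀ i j, i ≠ j → Disjoint (D i) (D j)) ∧ (⨆ i, D i = ⊤) ∧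
      ∀ (i : Fin n) (ξ ξ' : Lifts f η), nbhdPt (zbar ξ v) ∈ D i → nbhdPt (zbar ξ' v) ∈ D i →
        ξ = ξ' := by
  classical
  obtain ⟨V, v, hV, hsep⟩ := exists_sep f η
  let vh : V.left ⟶ Y := V.hom
  let XV : Scheme.{u} := pullback vh f
  let pV : XV ⟶ V.left := pullback.fst vh f
  haveI : IsFinite pV := inferInstanceAs (IsFinite (pullback.fst vh f))
  let pt : V.left := nbhdPt v
  let 𝒵 : X.Etale := (EtCoh.bc f).obj V
  let R : Sieve 𝒵 :=
    { arrows := fun T u => ∀ t t' : T.left, pV ((u.left : T.left ⟶ XV) t) = pt →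
        pV ((u.left : T.left ⟶ XV) t') = pt →
        (u.left : T.left ⟶ XV) t = (u.left : T.left ⟶ XV) t'
      downward_closed := by
        intro T T' u hu s t t' ht ht'
        have e : ∀ τ : T'.left, ((s ≫ u).left : T'.left ⟶ XV) τ =
            (u.left : T.left ⟶ XV) ((s.left : T'.left ⟶ T.left) τ) := fun τ => rfl
        rw [e] at ht ht' ⊢
        rw [e]
        exact hu _ _ ht ht' }
  have hRv : ∀ z : ↥(pullback (V.hom : V.left ⟶ Y) f),
      (pullback.fst (V.hom : V.left ⟶ Y) f) z = pt →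
      ∃ (U : X.Etale) (u : U ⟶ (EtCoh.bc f).obj V) (x : U.left), R u ∧
        (u.left : U.left ⟶ pullback (V.hom : V.left ⟶ Y) f) x = z := by
    intro z hz
    obtain ⟨U', hzU', hU'⟩ := exists_open_isolating' pV z
    refine ⟨openObj 𝒵 U', openHom 𝒵 U', ⟨z, hzU'⟩, ?_, rfl⟩
    intro t t' ht ht'
    have hmem : ∀ τ : (openObj 𝒵 U').left, ((openHom 𝒵 U').left : _ ⟶ XV) τ ∈ U' := by
      intro τ
      have h0 : ((openHom 𝒵 U').left : _ ⟶ XV) τ ∈ Set.range U'.ι := ⟨τ, rfl⟩
      rw [Scheme.Opens.range_ι] at h0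
      exact h0
    have h1 : ((openHom 𝒵 U').left : _ ⟶ XV) t = z := hU' _ (hmem t) (ht.trans hz.symm)
    have h2 : ((openHom 𝒵 U').left : _ ⟶ XV) t' = z := hU' _ (hmem t') (ht'.trans hz.symm)
    exact h1.trans h2.symm
  obtain ⟨V', g, v'pt, hgv', n, D, hdisj, hcov, hR⟩ := splitAt_of_isAffine' f V R pt hRv
  -- lift the geometric point
  let gl : V'.left ⟶ V.left := g.left
  haveI : Etale gl := inferInstanceAs (Etale g.left)
  have hx : gl v'pt = (ptHom η v) default := by
    have e : (default : ↥(Spec (CommRingCat.of Ω))) = closedPoint Ω :=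
      @Subsingleton.elim _ (inferInstanceAs (Subsingleton (PrimeSpectrum Ω))) _ _
    rw [e]
    exact hgv'
  obtain ⟨l, hl₁, hl₂⟩ := Scheme.exists_fac_of_etale_of_isSepClosed gl (ptHom η v) v'pt hx
  have hglw : gl ≫ V.hom = V'.hom := MorphismProperty.Over.w g
  let v' : Fib η V' := Over.homMk l (by
    change l ≫ V'.hom = η
    rw [← hglw, ← Category.assoc, hl₁]
    exact ptHom_w η v)
  have hv' : (Scheme.pointSmallEtale η).fiber.map g v' = v := Over.OverMorphism.ext hl₁
  refine ⟨V', v', n, D, hdisj, hcov, ?_⟩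
  intro i ξ ξ' hm hm'
  by_contra hne
  apply hsep ξ ξ' hne
  have hRi := hR i
  let t : (openObj ((EtCoh.bc f).obj V') (D i)).left := ⟨nbhdPt (zbar ξ v'), hm⟩
  let t' : (openObj ((EtCoh.bc f).obj V') (D i)).left := ⟨nbhdPt (zbar ξ' v'), hm'⟩
  have e1 : ∀ (ζ : Lifts f η),
      ((EtCoh.bc f).map g).left (nbhdPt (zbar ζ v')) = nbhdPt (zbar ζ v) := by
    intro ζ
    rw [nbhdPt_zbar_map, hv']
  have e2 : ∀ (ζ : Lifts f η), pV (nbhdPt (zbar ζ v)) = pt := by
    intro ζ
    change pV (ptHom ζ.1 (zbar ζ v) (closedPoint Ω)) = ptHom η v (closedPoint Ω)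
    rw [← ptHom_zbar_fst ζ v, Scheme.Hom.comp_apply]
    rfl
  have h3 := hRi t t' ((congrArg pV (e1 ξ)).trans (e2 ξ)) ((congrArg pV (e1 ξ')).trans (e2 ξ'))
  exact (e1 ξ).symm.trans (h3.trans (e1 ξ'))

end Groth.Agent.Lib.Helper3.FinPushSplit
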