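import Groth.Agent.Lib.Helper3.IntSplitScheme2
import Groth.Prelude.Def_BigSite
import Mathlib.AlgebraicGeometry.Morphisms.QuasiFinite

/-!
# Integral morphisms satisfy condition (A) (helper3)
-/

set_option linter.style.haveILetI false
set_option linter.unusedSectionVars false
set_option autoImplicit false

universe u

open CategoryTheory CategoryTheory.Limits AlgebraicGeometry Opposite TopologicalSpace

namespace Groth.Agent.Lib.Helper3.IntPropA

open Groth.Agent.Lib.Helper3 Groth.Agent.Lib.Helper3.EtLocalRingScheme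

/-- Étale morphisms are locally quasi-finite. -/
theorem locallyQuasiFinite_of_etale {X Y : Scheme.{u}} (f : X ⟶ Y) [Etale f] :
    LocallyQuasiFinite f := by
  rw [HasRingHomProperty.iff_appLE (P := @LocallyQuasiFinite)]
  intro U V e
  have h : (f.appLE U.1 V.1 e).hom.Etale := HasRingHomProperty.appLE @Etale f ‹_› U V e
  algebraize [(f.appLE U.1 V.1 e).hom]
  change Algebra.QuasiFinite Γ(Y, U.1) Γ(X, V.1)
  infer_instance

/-- Incomparability for integral morphisms: there are no nontrivial specialisations within a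
fibre. -/
theorem eq_of_specializes {X Y : Scheme.{u}} (f : X ⟶ Y) [IsIntegralHom f] {x x' : X}
    (h : x ⤳ x') (hf : f x = f x') : x = x' := by
  obtain ⟨Y₀, hY₀, hy, -⟩ := exists_isAffineOpen_mem_and_subset (U := ⊤) (x := f x') (by simp)
  let W : X.Opens := f ⁻¹ᵁ Y₀
  have hW : IsAffineOpen W := hY₀.preimage f
  have hx' : x' ∈ W := hy
  have hx : x ∈ W := by change f x ∈ Y₀; rw [hf]; exact hy
  let φ : Γ(Y, Y₀) ⟶ Γ(X, W) := f.app Y₀
  letI : Algebra Γ(Y, Y₀) Γ(X, W) := φ.hom.toAlgebra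
  haveI : Algebra.IsIntegral Γ(Y, Y₀) Γ(X, W) := by
    have h1 : φ.hom.IsIntegral := IsIntegralHom.isIntegral_app f Y₀ hY₀
    exact algebraMap_isIntegral_iff.mp h1
  let P : Spec Γ(X, W) := hW.primeIdealOf ⟨x, hx⟩
  let P' : Spec Γ(X, W) := hW.primeIdealOf ⟨x', hx'⟩
  have hP : hW.fromSpec P = x := hW.fromSpec_primeIdealOf ⟨x, hx⟩
  have hP' : hW.fromSpec P' = x' := hW.fromSpec_primeIdealOf ⟨x', hx'⟩
  have hle : (P : PrimeSpectrum Γ(X, W)).asIdeal ≤ (P' : PrimeSpectrum Γ(X, W)).asIdeal := by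
    have h1 : (⟨x, hx⟩ : W) ⤳ ⟨x', hx'⟩ := (subtype_specializes_iff _ _).mpr h
    have h2 : (P : PrimeSpectrum Γ(X, W)) ⤳ (P' : PrimeSpectrum Γ(X, W)) :=
      h1.map (hW.isoSpec.hom.continuous)
    exact (PrimeSpectrum.le_iff_specializes _ _).mpr h2
  have hfac : hW.fromSpec ≫ f = Spec.map φ ≫ hY₀.fromSpec := by
    have := (IsAffineOpen.SpecMap_appLE_fromSpec f hY₀ hW le_rfl).symm
    rwa [← Scheme.Hom.app_eq_appLE] at this
  have hcomap : (Spec.map φ) P = (Spec.map φ) P' := by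
    have hinj : Function.Injective hY₀.fromSpec :=
      (Scheme.Hom.isOpenEmbedding hY₀.fromSpec).injective
    apply hinj
    rw [← Scheme.Hom.comp_apply, ← Scheme.Hom.comp_apply, ← hfac, Scheme.Hom.comp_apply,
      Scheme.Hom.comp_apply, hP, hP', hf]
  have hcomap' : (P : PrimeSpectrum Γ(X, W)).asIdeal.comap (algebraMap Γ(Y, Y₀) Γ(X, W)) =
      (P' : PrimeSpectrum Γ(X, W)).asIdeal.comap (algebraMap Γ(Y, Y₀) Γ(X, W)) :=
    congrArg PrimeSpectrum.asIdeal hcomap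
  have hPP' : (P : PrimeSpectrum Γ(X, W)) = P' := by
    by_contra hne
    have hlt : (P : PrimeSpectrum Γ(X, W)).asIdeal < (P' : PrimeSpectrum Γ(X, W)).asIdeal := by
      refine lt_of_le_of_ne hle (fun h => hne (PrimeSpectrum.ext h))
    haveI := (P : PrimeSpectrum Γ(X, W)).2
    have := Ideal.IsIntegral.comap_lt_comap (R := Γ(Y, Y₀)) hlt
    rw [hcomap'] at this
    exact lt_irrefl _ this
  rw [← hP, ← hP']
  exact congrArg _ hPP'

/-- In the fibre of an étale morphism every point is isolated. -/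
theorem exists_open_isolating {U X : Scheme.{u}} (g : U ⟶ X) [Etale g] (u : U) :
    ∃ U' : U.Opens, u ∈ U' ∧ ∀ u' ∈ U', g u' = g u → u' = u := by
  haveI : LocallyQuasiFinite g := locallyQuasiFinite_of_etale g
  have hdisc : _root_.IsDiscrete (g ⁻¹' {g u}) := g.isDiscrete_preimage_singleton (g u)
  haveI : DiscreteTopology ↥(g ⁻¹' {g u}) := hdisc.to_subtype
  let pt : ↥(g ⁻¹' {g u}) := ⟨u, rfl⟩
  have hopen : IsOpen ({pt} : Set ↥(g ⁻¹' {g u})) := isOpen_discrete _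
  obtain ⟨t, ht, hteq⟩ := isOpen_induced_iff.mp hopen
  refine ⟨⟨t, ht⟩, ?_, ?_⟩
  · have : pt ∈ Subtype.val ⁻¹' t := by rw [hteq]; rfl
    exact this
  · intro u' hu' hgu'
    have : (⟨u', hgu'⟩ : ↥(g ⁻¹' {g u})) ∈ Subtype.val ⁻¹' t := hu'
    rw [hteq] at this
    exact congrArg Subtype.val (Set.mem_singleton_iff.mp this)

set_option backward.isDefEq.respectTransparency.types false in
set_option maxHeartbeats 800000 in
theorem propA {X Y : Scheme.{u}} (f : X ⟶ Y) [IsIntegralHom f] : BigSite.PropA f := by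
  intro U g _ u
  classical
  let x : X := g u
  let y : Y := f x
  obtain ⟨Y₀, hY₀, hy, -⟩ := exists_isAffineOpen_mem_and_subset (U := ⊤) (x := y) (by simp)
  obtain ⟨U', huU', hU'⟩ := exists_open_isolating g u
  let 𝒱 : Y.Etale := Scheme.Etale.mk Y₀.ι
  haveI : IsAffine 𝒱.left := hY₀
  let 𝒵 : X.Etale := (EtCoh.bc f).obj 𝒱
  let Z : Scheme.{u} := pullback Y₀.ι f
  let p : Z ⟶ Y₀.toScheme := pullback.fst Y₀.ι f
  let zh : Z ⟶ X := pullback.snd Y₀.ι f
  let v : Y₀.toScheme := ⟨y, hy⟩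
  -- the sieve
  let R : Sieve 𝒵 :=
    { arrows := fun T _ => (∃ k : T.left ⟶ U'.toScheme, k ≫ U'.ι ≫ g = (T.hom : T.left ⟶ X)) ∨
        (∀ τ : T.left, (T.hom : T.left ⟶ X) τ ∉ closure ({x} : Set X))
      downward_closed := by
        intro T T' t ht s
        have hs : (s.left : T'.left ⟶ T.left) ≫ (T.hom : T.left ⟶ X) = T'.hom := Over.w s.hom
        rcases ht with ⟨k, hk⟩ | ht
        · refine Or.inl ⟨s.left ≫ k, ?_⟩
          rw [Category.assoc, hk, hs]
        · refine Or.inr (fun τ => ?_)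
          rw [← hs, Scheme.Hom.comp_apply]
          exact ht _ }
  have hRv : ∀ z : ↥(pullback (𝒱.hom : 𝒱.left ⟶ Y) f),
      (pullback.fst (𝒱.hom : 𝒱.left ⟶ Y) f) z = v →
      ∃ (T : X.Etale) (t : T ⟶ (EtCoh.bc f).obj 𝒱) (τ : T.left), R t ∧
        (t.left : T.left ⟶ pullback (𝒱.hom : 𝒱.left ⟶ Y) f) τ = z := by
    intro z hz
    have hfz : f (zh z) = y := by
      have h1 : (pullback.fst Y₀.ι f ≫ Y₀.ι) z = (pullback.snd Y₀.ι f ≫ f) z := by
        rw [pullback.condition]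
      rw [Scheme.Hom.comp_apply, Scheme.Hom.comp_apply] at h1
      change Y₀.ι (p z) = f (zh z) at h1
      rw [← h1]
      have : p z = v := hz
      rw [this]
      rfl
    by_cases hzx : zh z = x
    · -- the chart `U'`
      let U'' : U.Opens := U' ⊓ (g ≫ f) ⁻¹ᵁ Y₀
      have huU'' : u ∈ U'' := ⟨huU', hy⟩
      have hrange : Set.range (U''.ι ≫ g ≫ f) ⊆ Set.range Y₀.ι := by
        rintro _ ⟨w, rfl⟩
        rw [Scheme.Opens.range_ι]
        exact w.2.2
      let l : U''.toScheme ⟶ Y₀.toScheme := IsOpenImmersion.lift Y₀.ι (U''.ι ≫ g ≫ f) hrange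
      have hl : l ≫ Y₀.ι = U''.ι ≫ g ≫ f := IsOpenImmersion.lift_fac _ _ _
      let t₀ : U''.toScheme ⟶ Z := pullback.lift l (U''.ι ≫ g) (by rw [hl, Category.assoc])
      have ht₀ : t₀ ≫ zh = U''.ι ≫ g := pullback.lift_snd _ _ _
      let T : X.Etale := Scheme.Etale.mk (U''.ι ≫ g)
      let t : T ⟶ 𝒵 := MorphismProperty.Over.homMk t₀ ht₀ trivial
      let τ : U''.toScheme := ⟨u, huU''⟩
      have hle'' : U'' ≤ U' := inf_le_left
      have h3 : U.homOfLE hle'' ≫ U'.ι = U''.ι := Scheme.homOfLE_ι _ _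
      refine ⟨T, t, τ, Or.inl ⟨U.homOfLE hle'', ?_⟩, ?_⟩
      · calc U.homOfLE hle'' ≫ U'.ι ≫ g = (U.homOfLE hle'' ≫ U'.ι) ≫ g :=
              (Category.assoc _ _ _).symm
          _ = U''.ι ≫ g := by rw [h3]
      · have hinj : Function.Injective zh := (Scheme.Hom.isOpenEmbedding zh).injective
        apply hinj
        change zh (t₀ τ) = zh z
        rw [← Scheme.Hom.comp_apply, ht₀, hzx]
        rfl
    · -- the complement of the closure of `x`
      have hzcl : zh z ∉ closure ({x} : Set X) := by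
        intro hcl
        have hsp : x ⤳ zh z := specializes_iff_mem_closure.mpr hcl
        exact hzx (eq_of_specializes f hsp hfz.symm).symm
      let Ω : Z.Opens := ⟨(zh ⁻¹' closure ({x} : Set X))ᶜ,
        (isClosed_closure.preimage zh.continuous).isOpen_compl⟩
      have hzΩ : z ∈ Ω := hzcl
      refine ⟨openObj 𝒵 Ω, openHom 𝒵 Ω, (⟨z, hzΩ⟩ : Ω), Or.inr (fun τ => ?_), rfl⟩
      exact τ.2
  obtain ⟨V', gV, v', hv', n, D, hdisj, hcover, hD⟩ :=
    IntSplitScheme.splitAt_of_isAffine' f 𝒱 R v hRv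
  let vy : V'.left ⟶ Y := V'.hom
  haveI : Etale vy := inferInstanceAs (Etale V'.hom)
  let 𝒵' : X.Etale := (EtCoh.bc f).obj V'
  let Z' : Scheme.{u} := pullback vy f
  let z'h : Z' ⟶ X := pullback.snd vy f
  let D' : Fin n → Z'.Opens := D
  have hdisj' : ∀ i j, i ≠ j → D' i ⊓ D' j = ⊥ := fun i j hij => disjoint_iff.mp (hdisj i j hij)
  have hcover' : ⨆ i, D' i = ⊤ := hcover
  -- a point of `Z'` over `x` and `v'`
  have hvy : vy v' = f x := by
    have h1 : (gV.left : V'.left ⟶ Y₀.toScheme) ≫ Y₀.ι = vy := Over.w gV.hom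
    rw [← h1, Scheme.Hom.comp_apply]
    have : (gV.left : V'.left ⟶ Y₀.toScheme) v' = v := hv'
    rw [this]
    rfl
  obtain ⟨z', hz'1, hz'2⟩ := Scheme.Pullback.exists_preimage_pullback v' x hvy
  have hz'mem : z' ∈ ⨆ i, D' i := by rw [hcover']; trivial
  obtain ⟨i, hi⟩ := Opens.mem_iSup.mp hz'mem
  let Da : Z'.Opens := D' i
  -- `Da` is closed
  have hDa_closed : IsClosed (Da : Set Z') := by
    have hcompl : (Da : Set Z')ᶜ = ((⨆ j : {j : Fin n // j ≠ i}, D' j.1 : Z'.Opens) : Set Z') := by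
      ext w
      simp only [Set.mem_compl_iff, SetLike.mem_coe, Opens.mem_iSup]
      constructor
      · intro hw
        have hw' : w ∈ ⨆ j, D' j := by rw [hcover']; trivial
        obtain ⟨j, hj⟩ := Opens.mem_iSup.mp hw'
        refine ⟨⟨j, fun hji => hw (by subst hji; exact hj)⟩, hj⟩
      · rintro ⟨⟨j, hji⟩, hj⟩ hw
        have : w ∈ D' j ⊓ D' i := ⟨hj, hw⟩
        rw [hdisj' j i hji] at this
        exact this
    rw [← isOpen_compl_iff, hcompl]
    exact (⨆ j : {j : Fin n // j ≠ i}, D' j.1 : Z'.Opens).2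
  -- the sieve condition
  have hRi := hD i
  change (∃ k : Da.toScheme ⟶ U'.toScheme, k ≫ U'.ι ≫ g = Da.ι ≫ z'h) ∨
    (∀ τ : Da.toScheme, (Da.ι ≫ z'h) τ ∉ closure ({x} : Set X)) at hRi
  have hcase : ∃ k : Da.toScheme ⟶ U'.toScheme, k ≫ U'.ι ≫ g = Da.ι ≫ z'h := by
    rcases hRi with hk | hno
    · exact hk
    · exfalso
      apply hno (⟨z', hi⟩ : Da)
      rw [Scheme.Hom.comp_apply]
      change z'h z' ∈ closure ({x} : Set X)
      have : z'h z' = x := hz'2
      rw [this]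
      exact subset_closure rfl
  obtain ⟨k, hk⟩ := hcase
  -- transport to `pullback f vy`
  let θ : pullback f vy ≅ Z' := pullbackSymmetry f vy
  have hθ2 : θ.hom ≫ z'h = pullback.fst f vy := pullbackSymmetry_hom_comp_snd f vy
  let W : (pullback f vy).Opens := θ.hom ⁻¹ᵁ Da
  have hW_closed : IsClosed (W : Set ↥(pullback f vy)) := hDa_closed.preimage θ.hom.continuous
  let h : W.toScheme ⟶ U := (θ.hom ∣_ Da) ≫ k ≫ U'.ι
  refine ⟨V'.left, vy, inferInstance, W, hW_closed, h, ?_, ?_⟩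
  · calc h ≫ g = (θ.hom ∣_ Da) ≫ (k ≫ U'.ι ≫ g) := by simp only [h, Category.assoc]
      _ = (θ.hom ∣_ Da) ≫ (Da.ι ≫ z'h) := by rw [hk]
      _ = ((θ.hom ∣_ Da) ≫ Da.ι) ≫ z'h := (Category.assoc _ _ _).symm
      _ = (W.ι ≫ θ.hom) ≫ z'h := by rw [morphismRestrict_ι]
      _ = W.ι ≫ (θ.hom ≫ z'h) := Category.assoc _ _ _
      _ = W.ι ≫ pullback.fst f vy := by rw [hθ2]
  · have hw : θ.inv z' ∈ W := by
      change θ.hom (θ.inv z') ∈ Da
      rw [← Scheme.Hom.comp_apply, Iso.inv_hom_id]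
      exact hi
    let w : W.toScheme := ⟨θ.inv z', hw⟩
    have hw1 : (θ.hom ∣_ Da) w = (⟨z', hi⟩ : Da) := by
      apply Subtype.ext
      change Da.ι ((θ.hom ∣_ Da) w) = z'
      rw [← Scheme.Hom.comp_apply, morphismRestrict_ι, Scheme.Hom.comp_apply]
      change θ.hom (θ.inv z') = z'
      rw [← Scheme.Hom.comp_apply, Iso.inv_hom_id]
      rfl
    refine ⟨w, ?_⟩
    have h1 : h w = U'.ι (k (⟨z', hi⟩ : Da)) := by
      change ((θ.hom ∣_ Da) ≫ k ≫ U'.ι) w = _
      rw [Scheme.Hom.comp_apply, Scheme.Hom.comp_apply, hw1]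
    rw [h1]
    apply hU' _ (k (⟨z', hi⟩ : Da)).2
    have h2 : (k ≫ U'.ι ≫ g) (⟨z', hi⟩ : Da) = (Da.ι ≫ z'h) (⟨z', hi⟩ : Da) := by rw [hk]
    rw [Scheme.Hom.comp_apply, Scheme.Hom.comp_apply, Scheme.Hom.comp_apply] at h2
    exact h2.trans hz'2

end Groth.Agent.Lib.Helper3.IntPropA
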