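import Groth.Agent.Lib.Helper3.FinPushCore
import Groth.Agent.Lib.Helper3.IntPropA
import Groth.Agent.S6626

/-!
# The stalk of `f_* F` for a finite morphism `f` (helper3)

For a finite morphism `f : X ⟶ Y`, an abelian sheaf `F` on `X_ét` and a geometric point `η` of `Y`
with values in an algebraically closed field, the canonical map
`(f_* F)_η ⟶ ∏_ξ F_ξ` (`ξ` running over the lifts of `η`) is bijective.
-/

set_option autoImplicit false
set_option backward.isDefEq.respectTransparency false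
set_option linter.unusedSectionVars false
set_option linter.style.haveILetI false

universe u

open CategoryTheory CategoryTheory.Limits AlgebraicGeometry Opposite IsLocalRing

namespace Groth.Agent.Lib.Helper3.FinPushStalk

open Groth.Agent.Lib.Helper3.EtLocalRingScheme Groth.Agent.Lib.Helper3.FinPushPts
  Groth.Agent.Lib.Helper3.FinPushSep Groth.Agent.Lib.Helper3.FinPushSplit Groth.Agent.S0100
  Groth.Agent.Lib.Helper3.FinPushCore Groth.Agent.Lib.Helper43

variable {X Y : Scheme.{u}} (f : X ⟶ Y) [EtCoh.BCCont f] (F : EtCoh.Ab X)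
  {Ω : Type u} [Field Ω]

section Def

variable [IsSepClosed Ω] {η : Spec (CommRingCat.of Ω) ⟶ Y}

/-- The canonical map `(f_* F)_η ⟶ F_ξ` for a lift `ξ` of `η`. -/
noncomputable def pushStalkMapL (ξ : Lifts f η) :
    (Scheme.pointSmallEtale η).presheafFiber.obj ((EtCoh.push f).obj F).obj ⟶
      (Scheme.pointSmallEtale ξ.1).presheafFiber.obj F.obj :=
  (Scheme.pointSmallEtale η).presheafFiberDesc
    (fun V v => (Scheme.pointSmallEtale ξ.1).toPresheafFiber ((EtCoh.bc f).obj V)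
      (zbar ξ v) F.obj)
    (by
      intro V₁ V₂ g v
      have h2 := (Scheme.pointSmallEtale ξ.1).toPresheafFiber_w ((EtCoh.bc f).map g)
        (zbar ξ v) F.obj
      refine Eq.trans ?_ (congrArg (fun t => (Scheme.pointSmallEtale ξ.1).toPresheafFiber
        ((EtCoh.bc f).obj V₂) t F.obj) (zbar_map ξ g v))
      exact h2)

lemma toFiber_pushStalkMapL (ξ : Lifts f η) (V : Y.Etale) (v : Fib η V) :
    (Scheme.pointSmallEtale η).toPresheafFiber V v ((EtCoh.push f).obj F).obj ≫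
      pushStalkMapL f F ξ =
    (Scheme.pointSmallEtale ξ.1).toPresheafFiber ((EtCoh.bc f).obj V) (zbar ξ v) F.obj :=
  (Scheme.pointSmallEtale η).toPresheafFiber_presheafFiberDesc _ _ V v

lemma toFiber_pushStalkMapL_apply (ξ : Lifts f η) (V : Y.Etale) (v : Fib η V)
    (s : F.obj.obj (op ((EtCoh.bc f).obj V))) :
    pushStalkMapL f F ξ ((Scheme.pointSmallEtale η).toPresheafFiber V v
      ((EtCoh.push f).obj F).obj s) =
    (Scheme.pointSmallEtale ξ.1).toPresheafFiber ((EtCoh.bc f).obj V) (zbar ξ v) F.obj s :=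
  congrArg (fun t => t.hom s) (toFiber_pushStalkMapL f F ξ V v)

/-- The sheaf of sets underlying an abelian sheaf. -/
noncomputable def underlying : Sheaf X.smallEtaleTopology (Type (u + 1)) :=
  ⟨F.obj ⋙ forget AddCommGrpCat,
    (Presheaf.isSheaf_iff_isSheaf_forget _ F.obj (forget AddCommGrpCat)).1 F.property⟩

end Def

section Main

variable [IsAlgClosed Ω] {η : Spec (CommRingCat.of Ω) ⟶ Y}

theorem pushStalkMapL_jointly_injective [IsIntegralHom f]
    (a₁ a₂ : ToType ((Scheme.pointSmallEtale η).presheafFiber.obj ((EtCoh.push f).obj F).obj))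
    (h : ∀ ξ : Lifts f η, pushStalkMapL f F ξ a₁ = pushStalkMapL f F ξ a₂) : a₁ = a₂ := by
  let Φ := Scheme.pointSmallEtale η
  let P := ((EtCoh.push f).obj F).obj
  obtain ⟨V, v, s₁, s₂, rfl, rfl⟩ := Φ.toPresheafFiber_jointly_surjective₂ (P := P) a₁ a₂
  obtain ⟨V', g, v', hV', hgv'⟩ := exists_affine_nbhd (η := η) v
  haveI : IsAffine V'.left := hV'
  rw [← hgv', ← Φ.toPresheafFiber_w_apply g v' P, ← Φ.toPresheafFiber_w_apply g v' P] at h ⊢
  let t₁ : F.obj.obj (op ((EtCoh.bc f).obj V')) := P.map g.op s₁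
  let t₂ : F.obj.obj (op ((EtCoh.bc f).obj V')) := P.map g.op s₂
  have hyp : ∀ ξ : Lifts f η, ∃ (U : X.Etale) (k : U ⟶ (EtCoh.bc f).obj V') (ū : Fib ξ.1 U),
      (Scheme.pointSmallEtale ξ.1).fiber.map k ū = zbar ξ v' ∧
        (underlying F).obj.map k.op t₁ = (underlying F).obj.map k.op t₂ := by
    intro ξ
    have hξ := h ξ
    rw [toFiber_pushStalkMapL_apply, toFiber_pushStalkMapL_apply] at hξ
    obtain ⟨U, k, ū, hū, hs⟩ := ((Scheme.pointSmallEtale ξ.1).toPresheafFiber_eq_iff' _ _ _ _).1 hξ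
    exact ⟨U, k, ū, hū, hs⟩
  obtain ⟨V'', g', v'', hv'', hs⟩ := coreInj f η (underlying F) v' t₁ t₂ hyp
  have hs' : P.map g'.op t₁ = P.map g'.op t₂ := hs
  change Φ.toPresheafFiber V' v' P t₁ = Φ.toPresheafFiber V' v' P t₂
  rw [← hv'', ← Φ.toPresheafFiber_w_apply g' v'' P, ← Φ.toPresheafFiber_w_apply g' v'' P, hs']

/-- Every germ of `F` at a lift `ξ` is the image of a section over some `X ×_Y V`. -/
lemma exists_rep_at [IsIntegralHom f] (ξ : Lifts f η)
    (b : ToType ((Scheme.pointSmallEtale ξ.1).presheafFiber.obj F.obj)) :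
    ∃ (V : Y.Etale) (v : Fib η V) (s : F.obj.obj (op ((EtCoh.bc f).obj V))),
      (Scheme.pointSmallEtale ξ.1).toPresheafFiber ((EtCoh.bc f).obj V) (zbar ξ v) F.obj s = b := by
  obtain ⟨ξ₀, hξ₀⟩ := ξ
  subst hξ₀
  obtain ⟨a, ha⟩ := Groth.Agent.S6626.pushStalkMap_surjective f (IntPropA.propA f) F ξ₀ b
  obtain ⟨V, z, s, rfl⟩ := (Scheme.pointSmallEtale (ξ₀ ≫ f)).toPresheafFiber_jointly_surjective
    (P := ((EtCoh.push f).obj F).obj) a
  rw [ClosedStalk.toFiber_pushStalkMap_apply] at ha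
  exact ⟨V, z, s, ha⟩

theorem pushStalkMapL_jointly_surjective [IsFinite f]
    (σ : ∀ ξ : Lifts f η, ToType ((Scheme.pointSmallEtale ξ.1).presheafFiber.obj F.obj)) :
    ∃ a : ToType ((Scheme.pointSmallEtale η).presheafFiber.obj ((EtCoh.push f).obj F).obj),
      ∀ ξ, pushStalkMapL f F ξ a = σ ξ := by
  let Φ := Scheme.pointSmallEtale η
  let P := ((EtCoh.push f).obj F).obj
  have hrep := fun ξ => exists_rep_at f F ξ (σ ξ)
  choose Vx vx sx hsx using hrep
  obtain ⟨N⟩ := IsCofiltered.nonempty (C := (Scheme.pointSmallEtale η).fiber.Elements)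
  have h0 : ∃ (V : Y.Etale) (_ : Fib η V),
      Nonempty ((underlying F).obj.obj (op ((EtCoh.bc f).obj V))) :=
    ⟨N.1, N.2, ⟨(0 : F.obj.obj (op ((EtCoh.bc f).obj N.1)))⟩⟩
  obtain ⟨V, v, s, H⟩ := coreSurj f η (underlying F) h0 Vx vx sx
  let s' : F.obj.obj (op ((EtCoh.bc f).obj V)) := s
  refine ⟨Φ.toPresheafFiber V v P s', fun ξ => ?_⟩
  rw [toFiber_pushStalkMapL_apply]
  obtain ⟨W, w, a, b, ha, hb, hab⟩ := H ξ
  have hab' : F.obj.map a.op s' = F.obj.map b.op (sx ξ) := hab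
  rw [← hsx ξ, ← ha, ← hb, ← (Scheme.pointSmallEtale ξ.1).toPresheafFiber_w_apply a w F.obj,
    ← (Scheme.pointSmallEtale ξ.1).toPresheafFiber_w_apply b w F.obj, hab']

/-- **The stalk of `f_* F` for `f` finite** is the direct sum of the stalks of `F` at the lifts
of the geometric point. -/
theorem nonempty_stalk_iso [IsFinite f] (η : Spec (CommRingCat.of Ω) ⟶ Y) :
    Nonempty ((EtCoh.stalk η).obj ((EtCoh.push f).obj F) ≅
      ∐ fun ξ : Lifts f η => (EtCoh.stalk ξ.1).obj F) := by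
  classical
  haveI : Finite (Lifts f η) := finite_lifts f η
  let A₀ : AddCommGrpCat.{u + 1} :=
    (Scheme.pointSmallEtale η).presheafFiber.obj ((EtCoh.push f).obj F).obj
  let Fx : Lifts f η → AddCommGrpCat.{u + 1} := fun ξ =>
    (Scheme.pointSmallEtale ξ.1).presheafFiber.obj F.obj
  let φ : ↑A₀ →+ (∀ ξ, ↑(Fx ξ)) := AddMonoidHom.pi (fun ξ => (pushStalkMapL f F ξ).hom)
  have hbij : Function.Bijective φ :=
    ⟨fun a b hab => pushStalkMapL_jointly_injective f F a b (fun ξ => congrFun hab ξ),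
      fun σ => by
        obtain ⟨a, ha⟩ := pushStalkMapL_jointly_surjective f F σ
        exact ⟨a, funext ha⟩⟩
  let e : ↑A₀ ≃+ (∀ ξ, ↑(Fx ξ)) := AddEquiv.ofBijective φ hbij
  let i₁ : A₀ ≅ AddCommGrpCat.of (∀ ξ, ↑(Fx ξ)) := e.toAddCommGrpIso
  let i₂ : ∏ᶜ Fx ≅ AddCommGrpCat.of (∀ ξ, ↑(Fx ξ)) :=
    limit.isoLimitCone (AddCommGrpCat.HasLimit.productLimitCone.{u, u + 1} Fx)
  let i₃ : ⨁ Fx ≅ ∏ᶜ Fx := biproduct.isoProduct Fx
  let i₄ : ⨁ Fx ≅ ∐ Fx := biproduct.isoCoproduct Fx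
  exact ⟨i₁ ≪≫ i₂.symm ≪≫ i₃.symm ≪≫ i₄⟩

end Main

end Groth.Agent.Lib.Helper3.FinPushStalk
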