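import Groth.Agent.Lib.Helper3.ZeroDimEtale

/-!
# Schemes finite over a strictly henselian local ring split all étale coverings
-/

set_option linter.style.haveILetI false
set_option linter.unusedSectionVars false
set_option autoImplicit false

universe u

open CategoryTheory CategoryTheory.Limits AlgebraicGeometry Opposite TopologicalSpace

namespace Groth.Agent.Lib.Helper3.FiniteHensSplit

open Groth.Agent.Lib.Helper3

section Algebra

variable {B : Type*} [CommRing B] (e : B) (he : IsIdempotentElem e) (m : Ideal B) [hm : m.IsMaximal]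
  (hem : e ∉ m) (h : ∀ q : Ideal B, q.IsMaximal → q ≠ m → e ∈ q)

include he hem h

/-- Localization at an "isolated" maximal ideal is a quotient. -/
theorem algebraMap_surjective_of_atPrime (T : Type*) [CommRing T] [Algebra B T]
    [IsLocalization.AtPrime T m] : Function.Surjective (algebraMap B T) := by
  have h0 : e * (1 - e) = 0 := by
    have := he.eq
    linear_combination -this
  have he1 : algebraMap B T (1 - e) = 0 := by
    have hu : IsUnit (algebraMap B T e) :=
      IsLocalization.map_units T (⟨e, hem⟩ : m.primeCompl)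
    have : algebraMap B T e * algebraMap B T (1 - e) = 0 := by
      rw [← map_mul, h0, map_zero]
    exact (hu.mul_right_eq_zero).mp this
  intro t
  obtain ⟨a, s, rfl⟩ := IsLocalization.exists_mk'_eq m.primeCompl t
  have hs : (s : B) ∉ m := s.2
  have htop : Ideal.span {(s : B)} ⊔ Ideal.span {1 - e} = ⊤ := by
    by_contra hne
    obtain ⟨m', hm', hle⟩ := Ideal.exists_le_maximal _ hne
    have h1 : (s : B) ∈ m' := hle (Ideal.mem_sup_left (Ideal.mem_span_singleton_self _))
    have h2 : 1 - e ∈ m' := hle (Ideal.mem_sup_right (Ideal.mem_span_singleton_self _))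
    have h3 : m' ≠ m := by
      rintro rfl
      exact hs h1
    have h4 : e ∈ m' := h m' hm' h3
    have h5 : (1 : B) ∈ m' := by
      have := m'.add_mem h2 h4
      rwa [sub_add_cancel] at this
    exact hm'.ne_top ((Ideal.eq_top_iff_one _).mpr h5)
  have h1 : (1 : B) ∈ Ideal.span {(s : B)} ⊔ Ideal.span {1 - e} := by rw [htop]; trivial
  obtain ⟨x, hx, y, hy, hxy⟩ := Submodule.mem_sup.mp h1
  obtain ⟨b, rfl⟩ := Ideal.mem_span_singleton'.mp hx
  obtain ⟨c, rfl⟩ := Ideal.mem_span_singleton'.mp hy
  refine ⟨a * b, ?_⟩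
  rw [eq_comm, IsLocalization.mk'_eq_iff_eq_mul, ← map_mul]
  have h6 : algebraMap B T (b * s + c * (1 - e)) = 1 := by rw [hxy, map_one]
  have h7 : algebraMap B T (c * (1 - e)) = 0 := by rw [map_mul, he1, mul_zero]
  rw [map_add, h7, add_zero] at h6
  calc algebraMap B T a = algebraMap B T a * algebraMap B T (b * s) := by rw [h6, mul_one]
    _ = algebraMap B T (a * b * s) := by rw [← map_mul]; ring_nf

/-- A prime not containing `e` lies in `m`. -/
theorem le_of_notMem (q : Ideal B) [q.IsPrime] (hq : e ∉ q) : q ≤ m := by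
  have h0 : e * (1 - e) = 0 := by
    have := he.eq
    linear_combination -this
  have h1 : 1 - e ∈ q := by
    have : e * (1 - e) ∈ q := by rw [h0]; exact q.zero_mem
    exact (Ideal.IsPrime.mem_or_mem ‹_› this).resolve_left hq
  obtain ⟨m', hm', hle⟩ := Ideal.exists_le_maximal q (Ideal.IsPrime.ne_top ‹_›)
  by_cases h3 : m' = m
  · exact h3 ▸ hle
  · exfalso
    have h4 : e ∈ m' := h m' hm' h3
    have h5 : (1 : B) ∈ m' := by
      have := m'.add_mem (hle h1) h4
      rwa [sub_add_cancel] at this
    exact hm'.ne_top ((Ideal.eq_top_iff_one _).mpr h5)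

end Algebra

/-- Reindexing a finite family of opens by `Fin n`. -/
theorem exists_fin_of_fintype {X : Scheme.{u}} {ι : Type*} [Fintype ι] (D : ι → X.Opens)
    (P : X.Opens → Prop)
    (hdisj : ∀ i j, i ≠ j → Disjoint (D i) (D j)) (hcov : ⨆ i, D i = ⊤) (hP : ∀ i, P (D i)) :
    ∃ (n : ℕ) (D' : Fin n → X.Opens), (∀ i j, i ≠ j → Disjoint (D' i) (D' j)) ∧
      (⨆ i, D' i = ⊤) ∧ ∀ i, P (D' i) := by
  let e := Fintype.equivFin ι
  refine ⟨Fintype.card ι, fun k => D (e.symm k), fun i j hij => hdisj _ _ (e.symm.injective.ne hij),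
    ?_, fun i => hP _⟩
  rw [← hcov]
  exact e.symm.iSup_comp (g := D)

set_option backward.isDefEq.respectTransparency.types false in
/-- A scheme finite over the spectrum of a strictly henselian local ring splits all étale
coverings. -/
theorem splitsCoverings_of_finite (R : Type u) [CommRing R] [HenselianLocalRing R]
    [IsSepClosed (IsLocalRing.ResidueField R)] (X : Scheme.{u})
    (f : X ⟶ Spec (CommRingCat.of R)) [IsFinite f] : EtGammaExact.SplitsCoverings X := by
  classical
  haveI : IsAffine X := isAffine_of_isAffineHom f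
  have hU : IsAffineOpen (⊤ : X.Opens) := isAffineOpen_top X
  let φ : CommRingCat.of R ⟶ Γ(X, ⊤) := (Scheme.ΓSpecIso (CommRingCat.of R)).inv ≫ f.appTop
  have hφ : φ.hom.Finite := by
    have h1 : (f.app ⊤).hom.Finite := IsFinite.finite_app f ⊤ (isAffineOpen_top _)
    have h2 : ((Scheme.ΓSpecIso (CommRingCat.of R)).inv).hom.Finite :=
      RingHom.Finite.of_surjective _
        (ConcreteCategory.bijective_of_isIso (Scheme.ΓSpecIso (CommRingCat.of R)).inv).2
    exact h1.comp h2
  letI : Algebra R Γ(X, ⊤) := φ.hom.toAlgebra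
  haveI : Module.Finite R Γ(X, ⊤) := hφ
  haveI : Algebra.IsIntegral R Γ(X, ⊤) := inferInstance
  have hfin : {m : Ideal Γ(X, ⊤) | m.IsMaximal}.Finite := by
    refine (Algebra.QuasiFinite.finite_primesOver (R := R) (S := Γ(X, ⊤))
      (IsLocalRing.maximalIdeal R)).subset ?_
    intro m hm
    haveI : m.IsMaximal := hm
    refine ⟨hm.isPrime, ⟨?_⟩⟩
    have : (m.comap (algebraMap R Γ(X, ⊤))).IsMaximal :=
      Ideal.isMaximal_comap_of_isIntegral_of_isMaximal m
    exact (IsLocalRing.eq_maximalIdeal this).symm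
  haveI : Finite {m : Ideal Γ(X, ⊤) // m.IsMaximal} := hfin.to_subtype
  haveI : Fintype {m : Ideal Γ(X, ⊤) // m.IsMaximal} := Fintype.ofFinite _
  obtain ⟨e, he, henot, hemem⟩ :=
    IntegralHensSplit.exists_idempotents_of_isIntegral_of_finite_maximal R Γ(X, ⊤)
  intro Rs hRs
  refine exists_fin_of_fintype (fun m => X.basicOpen (e m))
    (fun U => Rs (EtGammaExact.toTop X U)) ?_ ?_ ?_
  · intro m m' hmm
    rw [disjoint_iff, ← Scheme.basicOpen_mul, he.ortho hmm, Scheme.basicOpen_zero]
  · rw [eq_top_iff]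
    intro x _
    by_contra hx
    have h1 : ∀ m, X.presheaf.germ ⊤ x trivial (e m) ∈
        IsLocalRing.maximalIdeal (X.presheaf.stalk x) := by
      intro m
      rw [IsLocalRing.mem_maximalIdeal, mem_nonunits_iff, ← Scheme.mem_basicOpen_top]
      intro hxm
      exact hx (Opens.mem_iSup.mpr ⟨m, hxm⟩)
    have h2 : X.presheaf.germ ⊤ x trivial (∑ m, e m) ∈
        IsLocalRing.maximalIdeal (X.presheaf.stalk x) := by
      rw [map_sum]
      exact Ideal.sum_mem _ (fun m _ => h1 m)
    rw [he.complete, map_one] at h2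
    exact (Ideal.ne_top_iff_one _).mp (IsLocalRing.maximalIdeal.isMaximal _).ne_top h2
  · intro m
    haveI hmmax : m.1.IsMaximal := m.2
    haveI hmprime : m.1.IsPrime := m.2.isPrime
    let p : PrimeSpectrum Γ(X, ⊤) := ⟨m.1, hmprime⟩
    let x : X := hU.fromSpec p
    have hpx : hU.primeIdealOf ⟨x, trivial⟩ = p := by
      apply hU.fromSpec.isOpenEmbedding.injective
      exact hU.fromSpec_primeIdealOf ⟨x, trivial⟩
    -- the stalk at `x`
    letI algS : Algebra Γ(X, ⊤) (X.presheaf.stalk x) :=
      TopCat.Presheaf.algebra_section_stalk X.presheaf (⟨x, trivial⟩ : (⊤ : X.Opens))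
    have hloc : IsLocalization.AtPrime (X.presheaf.stalk x) m.1 := by
      have := hU.isLocalization_stalk ⟨x, trivial⟩
      rw [hpx] at this
      exact this
    have hsurj : Function.Surjective (algebraMap Γ(X, ⊤) (X.presheaf.stalk x)) :=
      algebraMap_surjective_of_atPrime (e m) (he.idem m) m.1 (henot m)
        (fun q hq hqm => hemem m ⟨q, hq⟩ (fun h => hqm (congrArg Subtype.val h))) _
    letI : Algebra R (X.presheaf.stalk x) :=
      ((algebraMap Γ(X, ⊤) (X.presheaf.stalk x)).comp (algebraMap R Γ(X, ⊤))).toAlgebra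
    haveI : IsScalarTower R Γ(X, ⊤) (X.presheaf.stalk x) := IsScalarTower.of_algebraMap_eq' rfl
    haveI : Algebra.IsIntegral Γ(X, ⊤) (X.presheaf.stalk x) :=
      Algebra.isIntegral_of_surjective hsurj
    haveI : Algebra.IsIntegral R (X.presheaf.stalk x) := Algebra.IsIntegral.trans Γ(X, ⊤)
    haveI : HenselianLocalRing (X.presheaf.stalk x) :=
      IntegralHensSplit.henselianLocalRing_of_isIntegral' R _
    haveI : IsSepClosed (X.residueField x) :=
      IntegralHensSplit.isSepClosed_residueField_of_isIntegral R (X.presheaf.stalk x)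
    obtain ⟨U, hxU, hU'⟩ := EtGammaExact.exists_open_mem_sieve X x Rs hRs
    have hle : X.basicOpen (e m) ≤ U := by
      intro y hy
      have hy' : e m ∉ (hU.primeIdealOf ⟨y, trivial⟩).asIdeal := by
        rw [hU.primeIdealOf_eq_map_closedPoint]
        intro hmem
        rw [Scheme.mem_basicOpen_top] at hy
        exact ((IsLocalRing.mem_maximalIdeal _).mp hmem) hy
      have hq : (hU.primeIdealOf ⟨y, trivial⟩).asIdeal ≤ m.1 :=
        le_of_notMem (e m) (he.idem m) m.1 (henot m)
          (fun q hq hqm => hemem m ⟨q, hq⟩ (fun h => hqm (congrArg Subtype.val h))) _ hy'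
      have hsp : hU.primeIdealOf ⟨y, trivial⟩ ⤳ p :=
        (PrimeSpectrum.le_iff_specializes _ _).mp hq
      have hsp' : y ⤳ x := by
        have := hsp.map hU.fromSpec.continuous
        rwa [hU.fromSpec_primeIdealOf ⟨y, trivial⟩] at this
      exact hsp'.mem_open U.2 hxU
    have h3 : EtGammaExact.toTop X (X.basicOpen (e m)) =
        (EtZar.zarToEt X).map (homOfLE hle) ≫ EtGammaExact.toTop X U :=
      EtGammaExact.hom_zarToEt_ext X _ _
    rw [h3]
    exact Rs.downward_closed hU' _

end Groth.Agent.Lib.Helper3.FiniteHensSplit
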