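import Groth.Agent.Lib.Helper3.TotalFrac
import Groth.Prelude.Def_EssEt

/-!
# Total rings of fractions of quasi-finite flat algebras over a reduced ring with finitely many
minimal primes (in particular of essentially étale local algebras)
-/

set_option autoImplicit false
set_option linter.style.haveILetI false
set_option linter.unusedSectionVars false

universe u

namespace Groth.Agent.Lib.Helper3.FracEssEtale

open Groth.Agent.Lib.Helper3.TotalFrac

/-- `T` carries a compatible structure of finite module over the total ring of fractions of
`A`. -/
def FinOverFrac (A T : Type u) [CommRing A] [CommRing T] [Algebra A T] : Prop :=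
  ∃ (_ : Algebra (FractionRing A) T), IsScalarTower A (FractionRing A) T ∧
    Module.Finite (FractionRing A) T

section General

variable (A E : Type u) [CommRing A] [IsReduced A] [CommRing E] [Algebra A E]

/-- The image in `E` of the non-zero-divisors of `A`. -/
abbrev imNZD : Submonoid E := (nonZeroDivisors A).map (algebraMap A E)

/-- A localisation `T` of a quasi-finite `A`-algebra `E` at the image of the non-zero-divisors of
`A` is a finite module over the total ring of fractions of `A`. -/
theorem finOverFrac_of_quasiFinite [Algebra.QuasiFinite A E] (hmin : (minimalPrimes A).Finite)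
    (T : Type u) [CommRing T]
    [Algebra E T] [Algebra A T] [IsScalarTower A E T] [IsLocalization (imNZD A E) T] :
    FinOverFrac A T := by
  have hu : ∀ y : nonZeroDivisors A, IsUnit (algebraMap A T y) := by
    intro y
    rw [IsScalarTower.algebraMap_apply A E T]
    exact IsLocalization.map_units T (⟨algebraMap A E y, ⟨y, y.2, rfl⟩⟩ : imNZD A E)
  let f : FractionRing A →+* T := IsLocalization.lift (M := nonZeroDivisors A) hu
  letI : Algebra (FractionRing A) T := f.toAlgebra
  haveI : IsScalarTower A (FractionRing A) T :=
    IsScalarTower.of_algebraMap_eq (fun a => (IsLocalization.lift_eq hu a).symm)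
  haveI : Algebra.QuasiFinite A T :=
    Algebra.QuasiFinite.of_isLocalization (R := A) (S := E) (T := T) (imNZD A E)
  haveI : Algebra.QuasiFinite (FractionRing A) T :=
    Algebra.QuasiFinite.of_restrictScalars A (FractionRing A) T
  haveI : IsArtinianRing (FractionRing A) := isArtinianRing_of_isFractionRing A _ hmin
  exact ⟨inferInstance, inferInstance, Module.Finite.of_quasiFinite⟩

/-- If a localisation of `E` at the image of the non-zero-divisors of `A` is finite over the total
ring of fractions of `A`, every non-zero-divisor of `E` divides the image of a non-zero-divisor of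
`A`. -/
theorem exists_dvd_of_finOverFrac (hmin : (minimalPrimes A).Finite) (T : Type u) [CommRing T]
    [Algebra E T] [Algebra A T] [IsScalarTower A E T] [IsLocalization (imNZD A E) T]
    (h : FinOverFrac A T) (e : E) (he : e ∈ nonZeroDivisors E) : ∃ m ∈ imNZD A E, e ∣ m := by
  obtain ⟨_, _, _⟩ := h
  haveI : IsArtinianRing (FractionRing A) := isArtinianRing_of_isFractionRing A _ hmin
  haveI : IsArtinianRing T := IsArtinianRing.of_finite (FractionRing A) T
  have h1 : algebraMap E T e ∈ nonZeroDivisors T :=
    IsLocalization.map_nonZeroDivisors_le (imNZD A E) _ ⟨e, he, rfl⟩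
  have h2 : IsUnit (algebraMap E T e) := IsArtinianRing.isUnit_of_mem_nonZeroDivisors h1
  exact (IsLocalization.algebraMap_isUnit_iff (imNZD A E)).mp h2

theorem isLocalization_fractionRing_of_finOverFrac (hmin : (minimalPrimes A).Finite)
    (hle : imNZD A E ≤ nonZeroDivisors E) (h : FinOverFrac A (Localization (imNZD A E))) :
    IsLocalization (imNZD A E) (FractionRing E) :=
  (IsLocalization.iff_of_le_of_exists_dvd (imNZD A E) (nonZeroDivisors E) hle
    (exists_dvd_of_finOverFrac A E hmin _ h)).mpr inferInstance

omit [IsReduced A] in
theorem imNZD_le_nonZeroDivisors [Module.Flat A E] : imNZD A E ≤ nonZeroDivisors E := by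
  rintro _ ⟨a, ha, rfl⟩
  have h1 : IsSMulRegular A a := by
    intro x y hxy
    simp only [smul_eq_mul] at hxy
    exact (mul_cancel_left_mem_nonZeroDivisors ha).mp hxy
  have h2 : IsSMulRegular E (algebraMap A E a) := IsSMulRegular.of_flat h1
  rw [mem_nonZeroDivisors_iff_right]
  intro x hx
  apply h2
  simp only [smul_eq_mul, mul_zero]
  rw [mul_comm]; exact hx

/-- The total ring of fractions of `E` is the localisation at the image of the non-zero-divisors of
`A`. -/
theorem isLocalization_fractionRing [Algebra.QuasiFinite A E] [Module.Flat A E]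
    (hmin : (minimalPrimes A).Finite) :
    IsLocalization (imNZD A E) (FractionRing E) :=
  isLocalization_fractionRing_of_finOverFrac A E hmin (imNZD_le_nonZeroDivisors A E)
    (finOverFrac_of_quasiFinite A E hmin _)

omit [IsReduced A] in
/-- Finiteness statement in elementary terms. -/
theorem exists_finset_span_of_finOverFrac (T : Type u) [CommRing T] [Algebra A T]
    (h : FinOverFrac A T) :
    ∃ t : Finset T, ∀ x : T, ∃ a ∈ nonZeroDivisors A,
      algebraMap A T a * x ∈ Submodule.span A (t : Set T) := by
  classical
  obtain ⟨_, _, hfin⟩ := h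
  obtain ⟨t, ht⟩ := hfin.fg_top
  refine ⟨t, fun x => ?_⟩
  have hx : x ∈ Submodule.span (FractionRing A) (t : Set T) := by rw [ht]; trivial
  induction hx using Submodule.span_induction with
  | mem y hy => exact ⟨1, one_mem _, by rw [map_one, one_mul]; exact Submodule.subset_span hy⟩
  | zero => exact ⟨1, one_mem _, by rw [mul_zero]; exact Submodule.zero_mem _⟩
  | add y z _ _ hy hz =>
    obtain ⟨a, ha, hay⟩ := hy
    obtain ⟨b, hb, hbz⟩ := hz
    refine ⟨a * b, mul_mem ha hb, ?_⟩
    have : algebraMap A T (a * b) * (y + z) =
        b • (algebraMap A T a * y) + a • (algebraMap A T b * z) := by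
      rw [map_mul, Algebra.smul_def, Algebra.smul_def]; ring
    rw [this]
    exact Submodule.add_mem _ (Submodule.smul_mem _ _ hay) (Submodule.smul_mem _ _ hbz)
  | smul k y _ hy =>
    obtain ⟨a, ha, hay⟩ := hy
    obtain ⟨⟨r, s⟩, hrs⟩ := IsLocalization.surj (nonZeroDivisors A) k
    simp only at hrs
    refine ⟨s * a, mul_mem s.2 ha, ?_⟩
    have h1 : algebraMap A T s * algebraMap (FractionRing A) T k = algebraMap A T r := by
      rw [IsScalarTower.algebraMap_apply A (FractionRing A) T,
        IsScalarTower.algebraMap_apply A (FractionRing A) T r, ← map_mul, mul_comm, hrs]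
    have : algebraMap A T (s * a) * (k • y) = r • (algebraMap A T a * y) := by
      rw [map_mul, Algebra.smul_def, Algebra.smul_def, ← h1]; ring
    rw [this]
    exact Submodule.smul_mem _ _ hay

theorem exists_finset_span [Algebra.QuasiFinite A E] (hmin : (minimalPrimes A).Finite)
    (T : Type u) [CommRing T]
    [Algebra E T] [Algebra A T] [IsScalarTower A E T] [IsLocalization (imNZD A E) T] :
    ∃ t : Finset T, ∀ x : T, ∃ a ∈ nonZeroDivisors A,
      algebraMap A T a * x ∈ Submodule.span A (t : Set T) :=
  exists_finset_span_of_finOverFrac A T (finOverFrac_of_quasiFinite A E hmin T)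

/-- Finiteness over the total ring of fractions passes to `A`-subalgebras (in which the
non-zero-divisors of `A` are invertible). -/
theorem finOverFrac_of_injective (hmin : (minimalPrimes A).Finite) {T T' : Type u} [CommRing T]
    [CommRing T'] [Algebra A T] [Algebra A T'] (j : T →ₐ[A] T') (hj : Function.Injective j)
    (h : FinOverFrac A T') (hu : ∀ a ∈ nonZeroDivisors A, IsUnit (algebraMap A T a)) :
    FinOverFrac A T := by
  obtain ⟨_, _, hfin⟩ := h
  have hu' : ∀ y : nonZeroDivisors A, IsUnit (algebraMap A T y) := fun y => hu y y.2
  let f : FractionRing A →+* T := IsLocalization.lift (M := nonZeroDivisors A) hu'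
  letI : Algebra (FractionRing A) T := f.toAlgebra
  haveI : IsScalarTower A (FractionRing A) T :=
    IsScalarTower.of_algebraMap_eq (fun a => (IsLocalization.lift_eq hu' a).symm)
  have hcomp : j.toRingHom.comp f = algebraMap (FractionRing A) T' := by
    apply IsLocalization.ringHom_ext (nonZeroDivisors A)
    ext a
    change j (f (algebraMap A (FractionRing A) a)) = algebraMap (FractionRing A) T' (algebraMap A _ a)
    rw [IsLocalization.lift_eq hu' a, j.commutes, ← IsScalarTower.algebraMap_apply]
  let jl : T →ₗ[FractionRing A] T' :=
    { toFun := j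
      map_add' := map_add j
      map_smul' := fun k x => by
        change j (k • x) = k • j x
        rw [Algebra.smul_def, Algebra.smul_def, map_mul]
        congr 1
        exact congrArg (fun g : FractionRing A →+* T' => g k) hcomp }
  haveI : IsArtinianRing (FractionRing A) := isArtinianRing_of_isFractionRing A _ hmin
  haveI : IsNoetherian (FractionRing A) T' := isNoetherian_of_isNoetherianRing_of_finite _ _
  exact ⟨inferInstance, inferInstance, Module.Finite.of_injective jl hj⟩

end General

section EssEtale

variable {A E : Type u} [CommRing A] [IsLocalRing A] [CommRing E] [Algebra A E]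

theorem quasiFinite_of_isEssentiallyEtale (hE : EGA4loc.IsEssentiallyEtale A E) :
    Algebra.QuasiFinite A E := by
  obtain ⟨C, _, _, q, _, _, _, ⟨e⟩⟩ := hE
  haveI : Algebra.QuasiFinite A C := inferInstance
  haveI : Algebra.QuasiFinite A (Localization.AtPrime q) := inferInstance
  exact (Algebra.QuasiFinite.iff_of_algEquiv e.symm).mp inferInstance

theorem flat_of_isEssentiallyEtale (hE : EGA4loc.IsEssentiallyEtale A E) :
    Module.Flat A E := by
  obtain ⟨C, _, _, q, _, _, _, ⟨e⟩⟩ := hE
  haveI : Module.Flat A C := inferInstance
  haveI : Module.Flat A (Localization.AtPrime q) := inferInstance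
  exact Module.Flat.of_linearEquiv e.toLinearEquiv

end EssEtale

end Groth.Agent.Lib.Helper3.FracEssEtale
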