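import Groth.Agent.Lib.Helper3.FracEssEtale
import Groth.Agent.Lib.Helper3.EssEtaleSub

/-!
# Local subalgebras of a strict henselization with finitely generated total ring of fractions
-/

set_option autoImplicit false
set_option linter.style.haveILetI false
set_option linter.unusedSectionVars false

universe u

namespace Groth.Agent.Lib.Helper3.FracSub

open Groth.Agent.Lib.Helper3.TotalFrac Groth.Agent.Lib.Helper3.FracEssEtale
  Groth.Agent.Lib.Helper3.EssEtaleSub IsLocalRing

section LocLift

variable {A S E₀ : Type u} [CommRing A] [IsLocalRing A] [CommRing S] [IsLocalRing S] [Algebra A S]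
  [IsLocalHom (algebraMap A S)] [CommRing E₀] [Algebra A E₀] (φ : E₀ →ₐ[A] S)

/-- Ideal contraction for the faithfully flat map `locLift φ`. -/
theorem comap_map_locLift [Module.Flat A S] [Algebra.Etale A E₀]
    (I : Ideal (Localization.AtPrime (primeOf φ))) :
    (I.map (locLift φ).toRingHom).comap (locLift φ).toRingHom = I := by
  letI : Algebra E₀ S := φ.toRingHom.toAlgebra
  haveI : IsScalarTower A E₀ S := IsScalarTower.of_algebraMap_eq (fun r => (φ.commutes r).symm)
  haveI : Module.Flat E₀ S := Groth.Agent.Lib.Helper9.flat_of_etale_of_flat A E₀ S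
  letI : Algebra (Localization.AtPrime (primeOf φ)) S := (locLift φ).toRingHom.toAlgebra
  haveI : IsScalarTower E₀ (Localization.AtPrime (primeOf φ)) S :=
    IsScalarTower.of_algebraMap_eq (fun r => (locLift_algebraMap φ r).symm)
  haveI : Module.Flat (Localization.AtPrime (primeOf φ)) S :=
    (Module.flat_iff_of_isLocalization (Localization.AtPrime (primeOf φ))
      (primeOf φ).primeCompl S).mpr inferInstance
  haveI : IsLocalHom (algebraMap (Localization.AtPrime (primeOf φ)) S) := isLocalHom_locLift φ
  haveI : Module.FaithfullyFlat (Localization.AtPrime (primeOf φ)) S :=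
    Module.FaithfullyFlat.of_flat_of_isLocalHom
  exact Ideal.comap_map_eq_self_of_faithfullyFlat (B := S) I

theorem mem_range_locLift_of_mul_mem [Module.Flat A S] [Algebra.Etale A E₀] (u w d : S)
    (hu : u ∈ (locLift φ).range) (hw : w ∈ (locLift φ).range) (hnzd : u ∈ nonZeroDivisors S)
    (h : u * d = w) : d ∈ (locLift φ).range := by
  obtain ⟨u', rfl⟩ := hu
  obtain ⟨w', rfl⟩ := hw
  have h1 : w' ∈ ((Ideal.span {u'}).map (locLift φ).toRingHom).comap (locLift φ).toRingHom := by
    rw [Ideal.mem_comap]
    change (locLift φ).toRingHom w' ∈ _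
    rw [← h]
    exact Ideal.mul_mem_right _ _ (Ideal.mem_map_of_mem _ (Ideal.mem_span_singleton_self u'))
  rw [comap_map_locLift φ, Ideal.mem_span_singleton'] at h1
  obtain ⟨e', he'⟩ := h1
  refine ⟨e', ?_⟩
  have h2 : (locLift φ).toRingHom u' * (locLift φ) e' = (locLift φ).toRingHom u' * d := by
    rw [h]
    change locLift φ u' * locLift φ e' = locLift φ w'
    rw [← map_mul, mul_comm, he']
  exact (mul_cancel_left_mem_nonZeroDivisors hnzd).mp h2

end LocLift

section Sub

variable {A S : Type u} [CommRing A] [IsLocalRing A] [IsReduced A] [CommRing S] [Algebra A S]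

theorem imNZD_le_of_subalgebra [Module.Flat A S] (D : Subalgebra A S) :
    imNZD A D ≤ nonZeroDivisors D := by
  rintro _ ⟨a, ha, rfl⟩
  have h1 : algebraMap A S a ∈ nonZeroDivisors S :=
    imNZD_le_nonZeroDivisors A S ⟨a, ha, rfl⟩
  rw [mem_nonZeroDivisors_iff_right]
  intro x hx
  have h2 : (x : S) * algebraMap A S a = 0 := by
    have := congrArg (fun z : D => (z : S)) hx
    exact this
  have h3 : (x : S) = 0 := (mem_nonZeroDivisors_iff_right.mp h1) _ h2
  exact Subtype.ext h3

/-- Finiteness over the total ring of fractions of `A` passes from `E` to a smaller subalgebra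
`D`. -/
theorem finOverFrac_of_le [Module.Flat A S] (hmin : (minimalPrimes A).Finite)
    (D E : Subalgebra A S) (hDE : D ≤ E)
    (hlocE : IsLocalization (imNZD A E) (FractionRing E))
    (hfinE : FinOverFrac A (FractionRing E))
    (T : Type u) [CommRing T] [Algebra D T] [Algebra A T] [IsScalarTower A D T]
    [IsLocalization (imNZD A D) T] : FinOverFrac A T := by
  let ι : D →ₐ[A] E := Subalgebra.inclusion hDE
  have hy : imNZD A D ≤ (imNZD A E).comap ι.toRingHom := by
    rintro _ ⟨a, ha, rfl⟩
    exact ⟨a, ha, (ι.commutes a).symm⟩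
  let j₀ : T →+* FractionRing E := IsLocalization.map (FractionRing E) ι.toRingHom hy
  let j : T →ₐ[A] FractionRing E :=
    { j₀ with
      commutes' := fun a => by
        change j₀ (algebraMap A T a) = _
        rw [IsScalarTower.algebraMap_apply A D T, IsLocalization.map_eq]
        change algebraMap E (FractionRing E) (ι (algebraMap A D a)) = _
        rw [ι.commutes, ← IsScalarTower.algebraMap_apply] }
  have hj : Function.Injective j := by
    rw [injective_iff_map_eq_zero]
    intro x hx
    obtain ⟨d, m, rfl⟩ := IsLocalization.exists_mk'_eq (imNZD A D) x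
    change j₀ (IsLocalization.mk' T d m) = 0 at hx
    rw [IsLocalization.map_mk', IsLocalization.mk'_eq_zero_iff] at hx
    obtain ⟨c, hc⟩ := hx
    have hcn : (c : E) ∈ nonZeroDivisors E := imNZD_le_of_subalgebra E c.2
    have h1 : ι d = 0 := (mem_nonZeroDivisors_iff.mp hcn).1 _ hc
    have h2 : d = 0 := Subalgebra.inclusion_injective hDE (h1.trans (map_zero ι).symm)
    rw [h2, IsLocalization.mk'_zero]
  have hu : ∀ a ∈ nonZeroDivisors A, IsUnit (algebraMap A T a) := by
    intro a ha
    rw [IsScalarTower.algebraMap_apply A D T]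
    exact IsLocalization.map_units T (⟨algebraMap A D a, ⟨a, ha, rfl⟩⟩ : imNZD A D)
  exact finOverFrac_of_injective A hmin j hj hfinE hu

/-- If `D` lies in an essentially étale subalgebra, its total ring of fractions is finitely
generated over that of `A`. -/
theorem exists_finset_adjoin_of_le [Module.Flat A S] (hmin : (minimalPrimes A).Finite)
    (D E : Subalgebra A S) (hDE : D ≤ E) (hE : EGA4loc.IsEssentiallyEtale A E) :
    ∃ t : Finset (FractionRing D), ∀ x : FractionRing D, ∃ a ∈ nonZeroDivisors A,
      algebraMap A (FractionRing D) a * x ∈ Algebra.adjoin A (t : Set (FractionRing D)) := by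
  haveI := quasiFinite_of_isEssentiallyEtale hE
  haveI := flat_of_isEssentiallyEtale hE
  have hlocE : IsLocalization (imNZD A E) (FractionRing E) := isLocalization_fractionRing A E hmin
  have hfinE : FinOverFrac A (FractionRing E) := finOverFrac_of_quasiFinite A E hmin _
  have hlocD : IsLocalization (imNZD A D) (FractionRing D) :=
    isLocalization_fractionRing_of_finOverFrac A D hmin (imNZD_le_of_subalgebra D)
      (finOverFrac_of_le hmin D E hDE hlocE hfinE _)
  have hfinD : FinOverFrac A (FractionRing D) := finOverFrac_of_le hmin D E hDE hlocE hfinE _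
  obtain ⟨t, ht⟩ := exists_finset_span_of_finOverFrac A _ hfinD
  refine ⟨t, fun x => ?_⟩
  obtain ⟨a, ha, hax⟩ := ht x
  exact ⟨a, ha, Algebra.span_le_adjoin A _ hax⟩

end Sub

section Poly

variable (A : Type u) [CommRing A] [IsReduced A] (E : Type u) [CommRing E] [Algebra A E]

/-- A zero divisor `s` of a quasi-finite flat `A`-algebra `E` is killed by a non-zero polynomial
expression in `s` with coefficients in `A`. -/
theorem exists_poly_of_notMem_nonZeroDivisors [Algebra.QuasiFinite A E] [Module.Flat A E]
    (hmin : (minimalPrimes A).Finite) (s : E) (hs : s ∉ nonZeroDivisors E) :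
    ∃ P : Polynomial A, Polynomial.aeval s P ≠ 0 ∧ Polynomial.aeval s P * s = 0 := by
  classical
  have hloc : IsLocalization (imNZD A E) (FractionRing E) := isLocalization_fractionRing A E hmin
  obtain ⟨_, _, hfin⟩ := finOverFrac_of_quasiFinite A E hmin (FractionRing E)
  haveI : IsArtinianRing (FractionRing A) := isArtinianRing_of_isFractionRing A _ hmin
  haveI : IsNoetherian (FractionRing A) (FractionRing E) :=
    isNoetherian_of_isNoetherianRing_of_finite _ _
  have hinj : Function.Injective (algebraMap E (FractionRing E)) := IsFractionRing.injective E _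
  set s' : FractionRing E := algebraMap E (FractionRing E) s with hs'
  have hnu : ¬ IsUnit s' := by
    intro hu
    apply hs
    rw [mem_nonZeroDivisors_iff_right]
    intro x hx
    have h1 : algebraMap E (FractionRing E) x * s' = 0 := by
      rw [hs', ← map_mul, hx, map_zero]
    have h2 := hu.mul_left_eq_zero.mp h1
    exact hinj (h2.trans (map_zero _).symm)
  let B : Subalgebra (FractionRing A) (FractionRing E) := Algebra.adjoin (FractionRing A) {s'}
  haveI : Module.Finite (FractionRing A) B :=
    Module.Finite.of_injective B.val.toLinearMap Subtype.val_injective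
  haveI : IsArtinianRing B := IsArtinianRing.of_finite (FractionRing A) B
  let sB : B := ⟨s', Algebra.subset_adjoin (Set.mem_singleton _)⟩
  have hnuB : ¬ IsUnit sB := fun h => hnu (h.map B.val)
  have hnz : sB ∉ nonZeroDivisors B := fun h => hnuB (IsArtinianRing.isUnit_of_mem_nonZeroDivisors h)
  rw [mem_nonZeroDivisors_iff_right] at hnz
  push_neg at hnz
  obtain ⟨y, hy0, hyne⟩ := hnz
  have hyB : (y : FractionRing E) ∈ Algebra.adjoin (FractionRing A) {s'} := y.2
  rw [Algebra.adjoin_singleton_eq_range_aeval] at hyB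
  obtain ⟨Q, hQ⟩ := hyB
  obtain ⟨b, hb⟩ := IsLocalization.integerNormalization_map_to_map (nonZeroDivisors A) Q
  set P := IsLocalization.integerNormalization (nonZeroDivisors A) Q with hP
  have himg : algebraMap E (FractionRing E) (Polynomial.aeval s P) =
      algebraMap A (FractionRing E) b * (y : FractionRing E) := by
    rw [← Polynomial.aeval_algebraMap_apply, ← hs',
      ← Polynomial.aeval_map_algebraMap (FractionRing A) s' P, hb]
    have hQ' : Polynomial.aeval s' Q = (y : FractionRing E) := hQ
    rw [← algebraMap_smul (FractionRing A) (b : A) Q, map_smul, hQ', Algebra.smul_def,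
      ← IsScalarTower.algebraMap_apply]
  have hbu : IsUnit (algebraMap A (FractionRing E) (b : A)) := by
    rw [IsScalarTower.algebraMap_apply A (FractionRing A) (FractionRing E)]
    exact (IsLocalization.map_units (FractionRing A) b).map _
  refine ⟨P, ?_, ?_⟩
  · intro h0
    rw [h0, map_zero] at himg
    have : (y : FractionRing E) = 0 := (hbu.mul_right_eq_zero.mp himg.symm)
    exact hyne (Subtype.ext this)
  · apply hinj
    rw [map_mul, himg, map_zero, mul_assoc]
    have : (y : FractionRing E) * s' = 0 := by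
      have := congrArg (fun z : B => (z : FractionRing E)) hy0
      exact this
    rw [← hs', this, mul_zero]

end Poly

section Sub2

variable {A S : Type u} [CommRing A] [IsLocalRing A] [IsReduced A] [CommRing S] [IsLocalRing S]
  [Algebra A S] [IsLocalHom (algebraMap A S)]

open Groth.Agent.Lib.Helper9 in
/-- Finite subsets of `S` lie in a common local essentially étale subalgebra of the form
`(locLift φ).range`. -/
theorem exists_locLift_of_finset (hcov : IsEtaleCoveredFin A S) (F : Finset S) :
    ∃ (E₀ : Type u) (_ : CommRing E₀) (_ : Algebra A E₀) (_ : Algebra.Etale A E₀)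
      (φ : E₀ →ₐ[A] S), ∀ x ∈ F, x ∈ (locLift φ).range := by
  classical
  obtain ⟨E₀, _, _, _, φ, hφ⟩ := hcov F.card (fun i => ((F.equivFin.symm i : F) : S))
  refine ⟨E₀, inferInstance, inferInstance, inferInstance, φ, fun x hx => ?_⟩
  have := hφ (F.equivFin ⟨x, hx⟩)
  rw [Equiv.symm_apply_apply] at this
  exact range_le_range_locLift φ this

open Groth.Agent.Lib.Helper9 in
/-- Non-zero-divisors of a subalgebra `D ⊆ S` are non-zero-divisors of `S`. -/
theorem mem_nonZeroDivisors_of_subalgebra [Module.Flat A S] (hmin : (minimalPrimes A).Finite)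
    (hcov : IsEtaleCoveredFin A S) (D : Subalgebra A S) (s : D) (hs : s ∈ nonZeroDivisors D) :
    (s : S) ∈ nonZeroDivisors S := by
  classical
  by_contra hcon
  rw [mem_nonZeroDivisors_iff_right] at hcon
  push_neg at hcon
  obtain ⟨x, hxs, hx0⟩ := hcon
  obtain ⟨E₀, _, _, _, φ, hφ⟩ := exists_locLift_of_finset hcov ({(s : S), x} : Finset S)
  obtain ⟨_, hE⟩ := range_locLift_spec φ
  haveI := quasiFinite_of_isEssentiallyEtale hE
  haveI := flat_of_isEssentiallyEtale hE
  let sE : (locLift φ).range := ⟨s, hφ _ (by simp)⟩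
  let xE : (locLift φ).range := ⟨x, hφ _ (by simp)⟩
  have hsE : sE ∉ nonZeroDivisors (locLift φ).range := by
    intro h
    have h1 : xE * sE = 0 := Subtype.ext hxs
    have h2 : xE = 0 := (mem_nonZeroDivisors_iff_right.mp h) _ h1
    exact hx0 (congrArg Subtype.val h2)
  obtain ⟨P, hP0, hPs⟩ := exists_poly_of_notMem_nonZeroDivisors A _ hmin sE hsE
  have h1 : ((Polynomial.aeval sE P : (locLift φ).range) : S) = Polynomial.aeval (s : S) P :=
    (Polynomial.aeval_algHom_apply (locLift φ).range.val sE P).symm
  have h2 : ((Polynomial.aeval s P : D) : S) = Polynomial.aeval (s : S) P :=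
    (Polynomial.aeval_algHom_apply D.val s P).symm
  have h3 : Polynomial.aeval s P * s = 0 := by
    apply Subtype.ext
    change ((Polynomial.aeval s P : D) : S) * (s : S) = 0
    rw [h2, ← h1]
    have := congrArg (fun z : (locLift φ).range => (z : S)) hPs
    exact this
  have h4 : Polynomial.aeval s P = 0 := (mem_nonZeroDivisors_iff_right.mp hs) _ h3
  apply hP0
  apply Subtype.ext
  rw [h1, ← h2, h4]
  rfl

open Groth.Agent.Lib.Helper9 in
/-- If the total ring of fractions of `D` is finitely generated over that of `A`, then `D` lies in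
a local essentially étale subalgebra of `S`. -/
theorem exists_le_essEtale_of_fg [Module.Flat A S] (hmin : (minimalPrimes A).Finite)
    (hcov : IsEtaleCoveredFin A S) (D : Subalgebra A S) (t : Finset (FractionRing D))
    (ht : ∀ x : FractionRing D, ∃ a ∈ nonZeroDivisors A,
      algebraMap A (FractionRing D) a * x ∈ Algebra.adjoin A (t : Set (FractionRing D))) :
    ∃ E : Subalgebra A S, D ≤ E ∧ ∃ _ : IsLocalRing E, EGA4loc.IsEssentiallyEtale A E := by
  classical
  obtain ⟨s₀, hs₀⟩ := IsLocalization.exist_integer_multiples_of_finset (nonZeroDivisors D) t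
  choose! dd hdd using hs₀
  obtain ⟨E₀, _, _, _, φ, hφ⟩ := exists_locLift_of_finset hcov
    (insert ((s₀ : D) : S) (t.image (fun y => ((dd y : D) : S))))
  refine ⟨(locLift φ).range, ?_, range_locLift_spec φ⟩
  have hs₀E : ((s₀ : D) : S) ∈ (locLift φ).range := hφ _ (Finset.mem_insert_self _ _)
  have hddE : ∀ y ∈ t, ((dd y : D) : S) ∈ (locLift φ).range := fun y hy =>
    hφ _ (Finset.mem_insert_of_mem (Finset.mem_image_of_mem _ hy))
  set σ : FractionRing D := algebraMap D (FractionRing D) (s₀ : D) with hσ
  -- every element of the adjoin becomes integral (with value in `E`) after multiplying by a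
  -- power of `s₀`
  have key : ∀ z ∈ Algebra.adjoin A (t : Set (FractionRing D)), ∃ (N : ℕ) (w : D),
      (w : S) ∈ (locLift φ).range ∧ z * σ ^ N = algebraMap D (FractionRing D) w := by
    intro z hz
    induction hz using Algebra.adjoin_induction with
    | mem y hy =>
      refine ⟨1, dd y, hddE y hy, ?_⟩
      rw [pow_one, hdd y hy, Algebra.smul_def, mul_comm]
    | algebraMap a =>
      refine ⟨0, algebraMap A D a, Subalgebra.algebraMap_mem _ a, ?_⟩
      rw [pow_zero, mul_one, ← IsScalarTower.algebraMap_apply]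
    | add z₁ z₂ _ _ h₁ h₂ =>
      obtain ⟨N₁, w₁, hw₁, e₁⟩ := h₁
      obtain ⟨N₂, w₂, hw₂, e₂⟩ := h₂
      refine ⟨N₁ + N₂, w₁ * (s₀ : D) ^ N₂ + w₂ * (s₀ : D) ^ N₁, ?_, ?_⟩
      · exact Subalgebra.add_mem _ (Subalgebra.mul_mem _ hw₁ (Subalgebra.pow_mem _ hs₀E _))
          (Subalgebra.mul_mem _ hw₂ (Subalgebra.pow_mem _ hs₀E _))
      · rw [map_add, map_mul, map_mul, map_pow, map_pow, ← e₁, ← e₂, ← hσ, pow_add]
        ring
    | mul z₁ z₂ _ _ h₁ h₂ =>
      obtain ⟨N₁, w₁, hw₁, e₁⟩ := h₁
      obtain ⟨N₂, w₂, hw₂, e₂⟩ := h₂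
      refine ⟨N₁ + N₂, w₁ * w₂, Subalgebra.mul_mem _ hw₁ hw₂, ?_⟩
      rw [map_mul, ← e₁, ← e₂, pow_add]
      ring
  intro d hd
  obtain ⟨a, ha, haz⟩ := ht (algebraMap D (FractionRing D) ⟨d, hd⟩)
  obtain ⟨N, w, hwE, hw⟩ := key _ haz
  have h1 : algebraMap A D a * ⟨d, hd⟩ * (s₀ : D) ^ N = w := by
    apply IsFractionRing.injective D (FractionRing D)
    rw [map_mul, map_mul, map_pow, ← hσ, ← hw, ← IsScalarTower.algebraMap_apply]
  have h2 : (algebraMap A S a * ((s₀ : D) : S) ^ N) * d = (w : S) := by
    have := congrArg (fun z : D => (z : S)) h1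
    rw [← this]
    change _ = algebraMap A S a * d * ((s₀ : D) : S) ^ N
    ring
  have hnzd : algebraMap A S a * ((s₀ : D) : S) ^ N ∈ nonZeroDivisors S :=
    mul_mem (imNZD_le_nonZeroDivisors A S ⟨a, ha, rfl⟩)
      (pow_mem (mem_nonZeroDivisors_of_subalgebra hmin hcov D s₀ s₀.2) N)
  exact mem_range_locLift_of_mul_mem φ _ _ d
    (Subalgebra.mul_mem _ (Subalgebra.algebraMap_mem _ a) (Subalgebra.pow_mem _ hs₀E _))
    hwE hnzd h2

end Sub2

end Groth.Agent.Lib.Helper3.FracSub
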