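import Groth.Agent.Lib.Helper3.Henselian2

/-!
# Gabber's criterion for Henselian pairs, elementary part (helper3)

* `gabber_exists_root`: if `A` is Henselian at `I`, polynomials `Xⁿ(X-1) + p` with `p` of degree
  `≤ n` and coefficients in `I` have a root in `1 + I`.
* `gabber_root_unique`: such roots are unique as soon as `I ≤ jac`.
* `henselianRing_of_gabber`: conversely, existence of such roots (and `I ≤ jac`) implies Henselian.
-/

set_option autoImplicit false

namespace Groth.Agent.Lib.Helper3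

open Polynomial

variable {A : Type*} [CommRing A] {I : Ideal A}

theorem eval_mem_of_coeff_mem (p : A[X]) (hp : ∀ i, p.coeff i ∈ I) (a : A) : p.eval a ∈ I := by
  rw [Polynomial.eval_eq_sum_range]
  exact Ideal.sum_mem _ fun i _ => I.mul_mem_right _ (hp i)

theorem map_eq_zero_of_coeff_mem (p : A[X]) (hp : ∀ i, p.coeff i ∈ I) :
    p.map (Ideal.Quotient.mk I) = 0 := by
  ext i
  simp [Ideal.Quotient.eq_zero_iff_mem, hp i]

theorem gabber_monic {n : ℕ} (p : A[X]) (hp : p.natDegree ≤ n) :
    (X ^ n * (X - 1) + p).Monic := by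
  nontriviality A
  have h1 : (X ^ n * (X - 1 : A[X])).Monic := by
    have := (monic_X_pow (R := A) n).mul (monic_X_sub_C (1 : A))
    simpa using this
  apply h1.add_of_left
  have hdeg : (X ^ n * (X - 1 : A[X])).natDegree = n + 1 := by
    have := (monic_X_pow (R := A) n).natDegree_mul (monic_X_sub_C (1 : A))
    rw [natDegree_X_pow, natDegree_X_sub_C] at this
    simpa using this
  rw [degree_eq_natDegree h1.ne_zero, hdeg]
  calc p.degree ≤ p.natDegree := degree_le_natDegree
    _ ≤ n := by exact_mod_cast hp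
    _ < (n + 1 : ℕ) := by exact_mod_cast Nat.lt_succ_self n

/-- The derivative of a Gabber polynomial at a point congruent to `1` is congruent to `1`. -/
theorem gabber_derivative_eval_sub_one_mem {n : ℕ} (p : A[X]) (hpI : ∀ i, p.coeff i ∈ I)
    (α : A) (hα : α - 1 ∈ I) :
    (derivative (X ^ n * (X - 1) + p)).eval α - 1 ∈ I := by
  have hp' : (derivative p).eval α ∈ I := by
    apply eval_mem_of_coeff_mem
    intro i
    rw [coeff_derivative]
    exact I.mul_mem_right _ (hpI _)
  have h1 : α ^ n - 1 ∈ I := by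
    obtain ⟨c, hc⟩ := sub_one_dvd_pow_sub_one α n  -- placeholder
    rw [hc]
    exact I.mul_mem_right _ hα
  have : (derivative (X ^ n * (X - 1) + p)).eval α - 1 =
      (n : A) * α ^ (n - 1) * (α - 1) + (α ^ n - 1) + (derivative p).eval α := by
    simp [derivative_mul, derivative_X_pow]
    ring
  rw [this]
  exact I.add_mem (I.add_mem (I.mul_mem_left _ hα) h1) hp'

/-- Existence of Gabber roots over a Henselian pair. -/
theorem gabber_exists_root [HenselianRing A I] {n : ℕ} (p : A[X]) (hp : p.natDegree ≤ n)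
    (hpI : ∀ i, p.coeff i ∈ I) :
    ∃ α : A, α - 1 ∈ I ∧ IsRoot (X ^ n * (X - 1) + p) α := by
  have h0 : (X ^ n * (X - 1) + p).eval 1 ∈ I := by
    have : (X ^ n * (X - 1) + p).eval 1 = p.eval 1 := by simp
    rw [this]
    exact eval_mem_of_coeff_mem p hpI 1
  have h1 : IsUnit (Ideal.Quotient.mk I ((derivative (X ^ n * (X - 1) + p)).eval 1)) := by
    have := gabber_derivative_eval_sub_one_mem (n := n) p hpI 1 (by simp)
    rw [← Ideal.Quotient.eq, map_one] at this
    rw [this]
    exact isUnit_one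
  obtain ⟨a, ha, ha'⟩ := HenselianRing.is_henselian _ (gabber_monic p hp) 1 h0 h1
  exact ⟨a, ha', ha⟩

/-- Uniqueness of Gabber roots when `I ≤ jac`. -/
theorem gabber_root_unique (hjac : I ≤ Ideal.jacobson ⊥) {n : ℕ} (p : A[X])
    (hpI : ∀ i, p.coeff i ∈ I) (α β : A) (hα : α - 1 ∈ I) (hβ : β - 1 ∈ I)
    (hrα : IsRoot (X ^ n * (X - 1) + p) α) (hrβ : IsRoot (X ^ n * (X - 1) + p) β) : β = α := by
  have hu : IsUnit ((derivative (X ^ n * (X - 1) + p)).eval α) := by
    have h := gabber_derivative_eval_sub_one_mem (n := n) p hpI α hα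
    have := isUnit_add_of_mem_jacobson_bot isUnit_one (hjac h)
    simpa using this
  have hβα : β - α ∈ I := by
    have : β - α = (β - 1) - (α - 1) := by ring
    rw [this]
    exact I.sub_mem hβ hα
  have := sub_mem_of_isRoot (I := ⊥) hjac (X ^ n * (X - 1) + p) β α hrβ
    (by rw [show eval α _ = 0 from hrα]; exact Ideal.zero_mem _) hβα hu
  rw [Ideal.mem_bot, sub_eq_zero] at this
  exact this

/-- The Gabber root property (existence part). -/
def GabberRoots (A : Type*) [CommRing A] (I : Ideal A) : Prop :=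
  ∀ (n : ℕ), 0 < n → ∀ p : A[X], p.natDegree ≤ n → (∀ i, p.coeff i ∈ I) →
    ∃ α : A, α - 1 ∈ I ∧ IsRoot (X ^ n * (X - 1) + p) α

/-- Core computation: a monic polynomial of degree `k + 2` with constant term in `I` and unit
linear coefficient has a root in `I`, if Gabber roots exist. -/
theorem exists_root_mem_of_gabber (hjac : I ≤ Ideal.jacobson ⊥) (hG : GabberRoots A I)
    (F : A[X]) (k : ℕ) (hk : F.natDegree = k + 2) (h0 : F.coeff 0 ∈ I)
    (h1 : IsUnit (F.coeff 1)) : ∃ x ∈ I, F.eval x = 0 := by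
  obtain ⟨v, hv⟩ := h1
  set c₀ := F.coeff 0 with hc₀
  set w : A := -c₀ * ↑v⁻¹ with hw
  have hwI : w ∈ I := I.mul_mem_right _ (I.neg_mem h0)
  let p : A[X] := ∑ i ∈ Finset.range (k + 1),
    C (F.coeff (i + 2) * w ^ (i + 1) * (-↑v⁻¹)) * X ^ (k - i)
  have hpdeg : p.natDegree ≤ k + 1 := by
    apply natDegree_sum_le_of_forall_le
    intro i _
    refine (natDegree_C_mul_X_pow_le _ _).trans ?_
    omega
  have hpI : ∀ j, p.coeff j ∈ I := by
    intro j
    simp only [p, finsetSum_coeff, coeff_C_mul_X_pow]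
    refine Ideal.sum_mem _ fun i _ => ?_
    split_ifs
    · exact I.mul_mem_right _ (I.mul_mem_left _ (Ideal.pow_mem_of_mem _ hwI _ (Nat.succ_pos _)))
    · exact I.zero_mem
  obtain ⟨α, hα, hroot⟩ := hG (k + 1) (Nat.succ_pos _) p hpdeg hpI
  have hαu : IsUnit α := by
    have := isUnit_add_of_mem_jacobson_bot isUnit_one (hjac hα)
    simpa using this
  obtain ⟨u, hu⟩ := hαu
  set β : A := ↑u⁻¹ with hβ
  have hαβ : α * β = 1 := by rw [← hu]; exact u.mul_inv
  refine ⟨w * β, I.mul_mem_right _ hwI, ?_⟩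
  have hvv : F.coeff 1 * (↑v⁻¹ : A) = 1 := by rw [← hv]; exact v.mul_inv
  have key : α ^ (k + 2) * F.eval (w * β) = c₀ * (X ^ (k + 1) * (X - 1) + p).eval α := by
    rw [eval_eq_sum_range, hk, Finset.sum_range_succ', Finset.sum_range_succ']
    simp only [eval_add, eval_mul, eval_pow, eval_X, eval_sub, eval_one, p, eval_finsetSum,
      eval_C]
    rw [mul_add, mul_add, Finset.mul_sum, mul_add, Finset.mul_sum]
    have hterm : ∀ i ∈ Finset.range (k + 1),
        α ^ (k + 2) * (F.coeff (i + 1 + 1) * (w * β) ^ (i + 1 + 1)) =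
        c₀ * (F.coeff (i + 2) * w ^ (i + 1) * (-↑v⁻¹) * α ^ (k - i)) := by
      intro i hi
      have hik : i ≤ k := Nat.lt_succ_iff.mp (Finset.mem_range.mp hi)
      have e1 : α ^ (k + 2) = α ^ (i + 2) * α ^ (k - i) := by
        rw [← pow_add]; congr 1; omega
      have e2 : α ^ (i + 2) * β ^ (i + 2) = 1 := by rw [← mul_pow, hαβ, one_pow]
      rw [e1, mul_pow]
      have e3 : w ^ (i + 2) = w ^ (i + 1) * (-c₀ * ↑v⁻¹) := by rw [pow_succ]
      rw [show i + 1 + 1 = i + 2 from rfl, e3]
      linear_combination (F.coeff (i + 2) * w ^ (i + 1) * (-c₀ * ↑v⁻¹) * α ^ (k - i)) * e2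
    rw [Finset.sum_congr rfl hterm]
    have e4 : α ^ (k + 2) * (F.coeff (0 + 1) * (w * β) ^ (0 + 1)) = - c₀ * α ^ (k + 1) := by
      have : α ^ (k + 2) = α ^ (k + 1) * α := pow_succ _ _
      rw [this]
      simp only [zero_add, pow_one, hw]
      linear_combination (-c₀ * α ^ (k + 1) * ↑v⁻¹ * F.coeff 1) * hαβ
        + (-c₀ * α ^ (k + 1)) * hvv
    rw [e4]
    simp only [pow_zero, mul_one]
    rw [pow_succ α (k + 1)]
    ring
  have hz : α ^ (k + 2) * F.eval (w * β) = 0 := by
    rw [key, show eval α _ = 0 from hroot, mul_zero]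
  have hunit : IsUnit (α ^ (k + 2)) := (hu ▸ u.isUnit).pow _
  exact (hunit.mul_right_eq_zero).mp hz

/-- **Gabber's criterion**, the nontrivial direction. -/
theorem henselianRing_of_gabber (hjac : I ≤ Ideal.jacobson ⊥) (hG : GabberRoots A I) :
    HenselianRing A I where
  jac := hjac
  is_henselian := by
    intro f hf a₀ h₁ h₂
    have hloc := isLocalHom_of_le_jacobson_bot I hjac
    have hu : IsUnit (f.derivative.eval a₀) := IsUnit.of_map (Ideal.Quotient.mk I) _ h₂
    set F := taylor a₀ f with hFdef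
    have hF0 : F.coeff 0 = f.eval a₀ := taylor_coeff_zero _ _
    have hF1 : F.coeff 1 = f.derivative.eval a₀ := taylor_coeff_one _ _
    have hFdeg : F.natDegree = f.natDegree := natDegree_taylor _ _
    have hFm : F.Monic := by
      rw [Monic, leadingCoeff_taylor]; exact hf
    suffices h : ∃ x ∈ I, F.eval x = 0 by
      obtain ⟨x, hx, hx0⟩ := h
      refine ⟨x + a₀, ?_, by simpa using hx⟩
      rw [IsRoot, ← taylor_eval]
      exact hx0
    rcases Nat.lt_or_ge F.natDegree 2 with hlt | hge
    · rcases Nat.lt_or_ge F.natDegree 1 with hlt1 | hge1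
      · -- degree 0 : the ring is trivial
        have h1 : F = 1 := eq_one_of_monic_natDegree_zero hFm (by omega)
        have h2 : (1 : A) ∈ I := by
          have := hF0
          rw [h1, coeff_one_zero] at this
          rw [this]; exact h₁
        have h3 : (1 : A) ∈ Ideal.jacobson (⊥ : Ideal A) := hjac h2
        have h4 : IsUnit ((-1 : A) * 1 + 1) := by
          have := Ideal.mem_jacobson_bot.mp h3 (-1)
          simpa [mul_comm] using this
        have h5 : (1 : A) = 0 := by
          have : IsUnit (0 : A) := by simpa using h4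
          exact (isUnit_zero_iff.mp this).symm
        have : Subsingleton A := subsingleton_of_zero_eq_one h5.symm
        exact ⟨0, I.zero_mem, Subsingleton.elim _ _⟩
      · -- degree 1
        have hd : F.natDegree = 1 := by omega
        refine ⟨-F.coeff 0, I.neg_mem (hF0 ▸ h₁), ?_⟩
        rw [eval_eq_sum_range, hd, Finset.sum_range_succ, Finset.sum_range_one]
        have : F.coeff 1 = 1 := by
          have := hFm.coeff_natDegree
          rwa [hd] at this
        rw [this]
        ring
    · obtain ⟨k, hk⟩ : ∃ k, F.natDegree = k + 2 := ⟨F.natDegree - 2, by omega⟩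
      exact exists_root_mem_of_gabber hjac hG F k hk (hF0 ▸ h₁) (hF1 ▸ hu)

end Groth.Agent.Lib.Helper3
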