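import Groth.Agent.Lib.Helper3.IdemRoot
import Groth.Agent.Lib.Helper3.GabberTrick

/-!
# Gabber's criterion via idempotents of `A[T]/(p)`, `p ≡ (T² - T)^m` (helper3)

If `I ≤ jac` and idempotents lift from `B/IB` to `B = A[T]/(p)` for every monic `p` with
`p ≡ (T^2 - T)^m` modulo `I`, then `(A, I)` is a henselian pair.
-/

set_option autoImplicit false
set_option linter.style.haveILetI false
set_option linter.unusedSectionVars false

universe u

namespace Groth.Agent.Lib.Helper3

open Polynomial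

theorem henselianRing_of_idempotents_lift_sq_sub {A : Type u} [CommRing A]
    (I : Ideal A) (hI : I ≤ Ideal.jacobson ⊥)
    (h : ∀ (m : ℕ) (p : Polynomial A), p.Monic →
      Polynomial.map (Ideal.Quotient.mk I) p =
        Polynomial.map (Ideal.Quotient.mk I) ((Polynomial.X ^ 2 - Polynomial.X) ^ m) →
      Set.SurjOn (Ideal.Quotient.mk (Ideal.map (algebraMap A (AdjoinRoot p)) I))
        {e : AdjoinRoot p | IsIdempotentElem e} {e | IsIdempotentElem e}) :
    HenselianRing A I := by
  refine henselianRing_of_gabber hI ?_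
  intro n hn p hpdeg hpI
  set F : A[X] := X ^ n * (X - 1) + p with hF
  have hFm : F.Monic := gabber_monic p hpdeg
  have h0 : F.eval 1 ∈ I := by
    have : F.eval 1 = p.eval 1 := by simp [hF]
    rw [this]
    exact eval_mem_of_coeff_mem p hpI 1
  have h1 : IsUnit (F.derivative.eval 1) := by
    have := gabber_derivative_eval_sub_one_mem (n := n) p hpI 1 (by simp)
    have h2 := isUnit_add_of_mem_jacobson_bot isUnit_one (hI this)
    have h3 : F.derivative.eval 1 = 1 + (F.derivative.eval 1 - 1) := by ring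
    rw [h3]
    exact h2
  -- the auxiliary polynomial
  set P : A[X] := F * (X - 1) ^ (n - 1) with hP
  have hPm : P.Monic := by
    have : (X - 1 : A[X]).Monic := by simpa using monic_X_sub_C (1 : A)
    exact hFm.mul (this.pow _)
  have hpmap : p.map (Ideal.Quotient.mk I) = 0 := map_eq_zero_of_coeff_mem p hpI
  have hPmap : P.map (Ideal.Quotient.mk I) =
      ((X ^ 2 - X) ^ n : A[X]).map (Ideal.Quotient.mk I) := by
    obtain ⟨k, rfl⟩ : ∃ k, n = k + 1 := ⟨n - 1, by omega⟩
    simp only [hP, hF, Polynomial.map_mul, Polynomial.map_add, Polynomial.map_pow,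
      Polynomial.map_sub, Polynomial.map_X, Polynomial.map_one, hpmap, add_zero,
      Nat.add_sub_cancel]
    have h3 : (X ^ 2 - X : (A ⧸ I)[X]) = X * (X - 1) := by ring
    rw [h3, mul_pow]
    ring
  have hsurj := h n P hPm hPmap
  -- notation
  set B := AdjoinRoot P with hB
  set B' := AdjoinRoot F with hB'
  set IB := I.map (algebraMap A B) with hIB
  set IB' := I.map (algebraMap A B') with hIB'
  have hroot : aeval (AdjoinRoot.root F) P = 0 := by
    rw [hP, map_mul, AdjoinRoot.aeval_eq, AdjoinRoot.mk_self, zero_mul]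
  let π : B →ₐ[A] B' := AdjoinRoot.liftAlgHom P (Algebra.ofId A B') (AdjoinRoot.root F) (by
    rw [← hroot]; rfl)
  have hπroot : π (AdjoinRoot.root P) = AdjoinRoot.root F := by
    exact AdjoinRoot.liftAlgHom_root _ _ _ _
  have hπaeval : ∀ g : A[X], π (aeval (AdjoinRoot.root P) g) = aeval (AdjoinRoot.root F) g := by
    intro g
    rw [← Polynomial.aeval_algHom_apply, hπroot]
  have hle : IB ≤ IB'.comap π.toRingHom := by
    rw [hIB, Ideal.map_le_iff_le_comap]
    intro x hx
    simp only [Ideal.mem_comap, AlgHom.toRingHom_eq_coe, RingHom.coe_coe, AlgHom.commutes]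
    exact Ideal.mem_map_of_mem _ hx
  let πbar : B ⧸ IB →+* B' ⧸ IB' := Ideal.quotientMap IB' π.toRingHom hle
  have hπsurj : Function.Surjective π := by
    intro y
    obtain ⟨g, rfl⟩ := AdjoinRoot.mk_surjective y
    refine ⟨AdjoinRoot.mk P g, ?_⟩
    rw [← AdjoinRoot.aeval_eq, ← AdjoinRoot.aeval_eq, hπaeval]
  have hπbarsurj : Function.Surjective πbar :=
    Ideal.quotientMap_surjective hπsurj
  -- kernel is nil
  have hnil : ∀ x ∈ RingHom.ker πbar, IsNilpotent x := by
    intro x hx
    obtain ⟨b, rfl⟩ := Ideal.Quotient.mk_surjective x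
    obtain ⟨g, rfl⟩ := AdjoinRoot.mk_surjective b
    rw [RingHom.mem_ker] at hx
    have hx' : AdjoinRoot.mk F g ∈ IB' := by
      have : πbar (Ideal.Quotient.mk IB (AdjoinRoot.mk P g)) =
          Ideal.Quotient.mk IB' (π (AdjoinRoot.mk P g)) := rfl
      rw [this, Ideal.Quotient.eq_zero_iff_mem, ← AdjoinRoot.aeval_eq, hπaeval,
        AdjoinRoot.aeval_eq] at hx
      exact hx
    -- decompose `g`
    have hIB'eq : IB' = (I.map (C : A →+* A[X])).map (AdjoinRoot.mk F) := by
      rw [hIB', Ideal.map_map]; rfl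
    rw [hIB'eq, Ideal.mem_map_iff_of_surjective _ AdjoinRoot.mk_surjective] at hx'
    obtain ⟨i, hi, hig⟩ := hx'
    rw [AdjoinRoot.mk_eq_mk] at hig
    obtain ⟨q, hq⟩ := hig
    have hgeq : g = i - F * q := by rw [← hq]; ring
    set T : B ⧸ IB := Ideal.Quotient.mk IB (AdjoinRoot.root P) with hT
    have haev : ∀ r : A[X], Ideal.Quotient.mk IB (AdjoinRoot.mk P r) = aeval T r := by
      intro r
      rw [← AdjoinRoot.aeval_eq, hT]
      have := Polynomial.aeval_algHom_apply (Ideal.Quotient.mkₐ A IB) (AdjoinRoot.root P) r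
      exact this.symm
    have hzero : ∀ r : A[X], (∀ j, r.coeff j ∈ I) → aeval T r = 0 := by
      intro r hr
      rw [← haev, Ideal.Quotient.eq_zero_iff_mem, ← AdjoinRoot.aeval_eq]
      exact aeval_mem_map_of_coeff_mem r hr _
    have hi0 : aeval T i = 0 := hzero i (fun j => (Ideal.mem_map_C_iff.mp hi) j)
    have hp0 : aeval T p = 0 := hzero p hpI
    have hFT : aeval T F = T ^ n * (T - 1) := by
      rw [hF, map_add, hp0, add_zero, map_mul, map_pow, map_sub, aeval_X, map_one]
    have hPT : aeval T P = 0 := by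
      rw [← haev, AdjoinRoot.mk_self, map_zero]
    have hrel : T ^ n * (T - 1) ^ n = 0 := by
      obtain ⟨k, hk⟩ : ∃ k, n = k + 1 := ⟨n - 1, by omega⟩
      have : aeval T P = T ^ n * (T - 1) * (T - 1) ^ (n - 1) := by
        have h4 : aeval T P = aeval T F * aeval T ((X - 1 : A[X]) ^ (n - 1)) := by
          rw [← map_mul]
        rw [h4, hFT, map_pow, map_sub, aeval_X, map_one]
      rw [hPT] at this
      rw [this]
      subst hk
      simp only [Nat.add_sub_cancel]
      ring
    refine ⟨n, ?_⟩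
    rw [haev, hgeq, map_sub, hi0, zero_sub, map_mul, hFT, neg_pow, mul_pow, mul_pow]
    obtain ⟨k, hk⟩ : ∃ k, n = k + 1 := ⟨n - 1, by omega⟩
    have : (T ^ n) ^ n = T ^ n * T ^ (n * k) := by
      rw [← pow_mul, ← pow_add]; congr 1; subst hk; ring
    rw [this]
    linear_combination ((-1) ^ n * T ^ (n * k) * (aeval T q) ^ n) * hrel
  -- the lifting property for `F`
  obtain ⟨a, ha, ha'⟩ := exists_root_of_idempotent_lift hI F hFm 1 h0 h1 (by
    intro e₀ he₀
    have hidem : IsIdempotentElem (Ideal.Quotient.mk IB' e₀) := by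
      rw [IsIdempotentElem, ← map_mul, ← sub_eq_zero, ← map_sub, Ideal.Quotient.eq_zero_iff_mem]
      exact he₀
    obtain ⟨e₁bar, he₁bar, he₁map⟩ := exists_isIdempotentElem_eq_of_ker_isNilpotent πbar hnil
      (Ideal.Quotient.mk IB' e₀) (hπbarsurj _) hidem
    obtain ⟨e₁, he₁, he₁mk⟩ := hsurj he₁bar
    refine ⟨π e₁, he₁.map π, ?_⟩
    rw [← Ideal.Quotient.eq]
    have : Ideal.Quotient.mk IB' (π e₁) = πbar (Ideal.Quotient.mk IB e₁) := rfl
    rw [this, he₁mk, he₁map])
  exact ⟨a, ha', ha⟩

end Groth.Agent.Lib.Helper3
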