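import Groth.Agent.Lib.Helper3.PtColimBranches
import Mathlib.RingTheory.Spectrum.Prime.Noetherian
import Mathlib.RingTheory.Ideal.MinimalPrime.Noetherian

/-!
# Connectedness of punctured spectra and uniqueness of minimal primes
-/

set_option linter.style.haveILetI false
set_option linter.unusedSectionVars false
set_option autoImplicit false

namespace Groth.Agent.Lib.Helper3.PuncturedConnected

open Groth.Agent.Lib.Helper9.HensK IsLocalRing PrimeSpectrum

universe u

section Flat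

variable (S C : Type*) [CommRing S] [CommRing C] [Algebra S C] [Module.Flat S C]

/-- Along a flat homomorphism, the contraction of a minimal prime is a minimal prime. -/
theorem comap_mem_minimalPrimes_of_flat {q : Ideal C} (hq : q ∈ minimalPrimes C) :
    q.comap (algebraMap S C) ∈ minimalPrimes S := by
  have hqp : q.IsPrime := hq.1.1
  refine ⟨⟨Ideal.comap_isPrime (algebraMap S C) q, bot_le⟩, fun p' hp' hle => ?_⟩
  have hp'p : p'.IsPrime := hp'.1
  have hlo : q.LiesOver (Ideal.comap (algebraMap S C) q) := ⟨rfl⟩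
  obtain ⟨P, hPq, hPp, hPlo⟩ :=
    Ideal.exists_ideal_le_liesOver_of_le (p := p') (q := Ideal.comap (algebraMap S C) q) q hle
  have hPq' : q ≤ P := hq.2 ⟨hPp, bot_le⟩ hPq
  have : P = q := le_antisymm hPq hPq'
  rw [hPlo.over, this]

end Flat

section Forward

variable (B : Type*) [CommRing B] [IsLocalRing B]

/-- If a local ring has a unique minimal prime, different from the maximal ideal, its punctured
spectrum is connected. -/
theorem connectedSpace_punctured_of_unique (Q : Ideal B) (hQ : minimalPrimes B = {Q})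
    (hQm : Q ≠ maximalIdeal B) :
    ConnectedSpace ↥({closedPoint B}ᶜ : Set (PrimeSpectrum B)) := by
  have hQmem : Q ∈ minimalPrimes B := by rw [hQ]; rfl
  haveI hQp : Q.IsPrime := hQmem.1.1
  let η : PrimeSpectrum B := ⟨Q, hQp⟩
  have hηU : η ∈ ({closedPoint B}ᶜ : Set (PrimeSpectrum B)) := by
    intro h
    apply hQm
    have := congrArg PrimeSpectrum.asIdeal (Set.mem_singleton_iff.mp h)
    exact this
  have hall : ∀ P : PrimeSpectrum B, η ⤳ P := by
    intro P
    rw [← PrimeSpectrum.le_iff_specializes]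
    obtain ⟨q, hq, hqP⟩ := Ideal.exists_minimalPrimes_le (I := ⊥) (J := P.asIdeal) bot_le
    rw [show (⊥ : Ideal B).minimalPrimes = minimalPrimes B from rfl, hQ] at hq
    rw [Set.mem_singleton_iff] at hq
    subst hq
    exact hqP
  have huniv : IsPreirreducible (Set.univ : Set (PrimeSpectrum B)) := by
    have h1 : closure ({η} : Set (PrimeSpectrum B)) = Set.univ := by
      apply Set.eq_univ_of_forall
      intro P
      exact (specializes_iff_mem_closure).mp (hall P)
    rw [← h1]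
    exact isIrreducible_singleton.closure.isPreirreducible
  have hopen : IsOpen ({closedPoint B}ᶜ : Set (PrimeSpectrum B)) :=
    (isClosed_singleton_closedPoint (R := B)).isOpen_compl
  have hirr : IsPreirreducible ({closedPoint B}ᶜ : Set (PrimeSpectrum B)) :=
    huniv.open_subset hopen (Set.subset_univ _)
  haveI : Nonempty ↥({closedPoint B}ᶜ : Set (PrimeSpectrum B)) := ⟨⟨η, hηU⟩⟩
  haveI : PreconnectedSpace ↥({closedPoint B}ᶜ : Set (PrimeSpectrum B)) :=
    isPreconnected_iff_preconnectedSpace.mp hirr.isPreconnected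
  exact ⟨inferInstance⟩

end Forward

section Backward

variable (B : Type*) [CommRing B] [IsLocalRing B] [IsNoetherianRing B]

/-- If the punctured spectrum of a Noetherian local ring is connected and every non-maximal prime
contains a unique minimal prime, then the ring has a unique minimal prime. -/
theorem minimalPrimes_subsingleton_of_connected
    [hconn : ConnectedSpace ↥({closedPoint B}ᶜ : Set (PrimeSpectrum B))]
    (hloc : ∀ P' : Ideal B, P'.IsPrime → P' ≠ maximalIdeal B →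
      ∀ Q₁ ∈ minimalPrimes B, ∀ Q₂ ∈ minimalPrimes B, Q₁ ≤ P' → Q₂ ≤ P' → Q₁ = Q₂) :
    ∀ Q₁ ∈ minimalPrimes B, ∀ Q₂ ∈ minimalPrimes B, Q₁ = Q₂ := by
  intro Q₁ hQ₁ Q₂ hQ₂
  by_contra hne
  have hfin : (minimalPrimes B).Finite := minimalPrimes.finite_of_isNoetherianRing B
  -- minimal primes are not the maximal ideal
  have hnm : ∀ Q ∈ minimalPrimes B, Q ≠ maximalIdeal B := by
    intro Q hQ hQm
    -- then every other minimal prime equals `Q`
    have h1 : ∀ Q' ∈ minimalPrimes B, Q' = Q := by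
      intro Q' hQ'
      have hQ'p : Q'.IsPrime := hQ'.1.1
      have hle : Q' ≤ Q := hQm ▸ le_maximalIdeal hQ'p.ne_top
      exact le_antisymm hle (hQ.2 hQ'.1 hle)
    exact hne ((h1 Q₁ hQ₁).trans (h1 Q₂ hQ₂).symm)
  let U := ↥({closedPoint B}ᶜ : Set (PrimeSpectrum B))
  let A₁ : Set U := {P | Q₁ ≤ P.1.asIdeal}
  let A₂ : Set U := {P | ∃ Q ∈ minimalPrimes B, Q ≠ Q₁ ∧ Q ≤ P.1.asIdeal}
  have hA₁c : IsClosed A₁ := by
    have : A₁ = Subtype.val ⁻¹' (zeroLocus (Q₁ : Set B)) := by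
      ext P
      change Q₁ ≤ P.1.asIdeal ↔ P.1 ∈ zeroLocus (Q₁ : Set B)
      rw [mem_zeroLocus, SetLike.coe_subset_coe]
    rw [this]
    exact (isClosed_zeroLocus _).preimage continuous_subtype_val
  have hA₂c : IsClosed A₂ := by
    have : A₂ = ⋃ Q ∈ {Q | Q ∈ minimalPrimes B ∧ Q ≠ Q₁},
        Subtype.val ⁻¹' (zeroLocus (Q : Set B)) := by
      ext P
      change (∃ Q ∈ minimalPrimes B, Q ≠ Q₁ ∧ Q ≤ P.1.asIdeal) ↔ _
      simp only [Set.mem_iUnion, Set.mem_preimage, mem_zeroLocus,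
        SetLike.coe_subset_coe, exists_prop]
      constructor
      · rintro ⟨Q, hQ, hQne, hQP⟩
        exact ⟨Q, ⟨hQ, hQne⟩, hQP⟩
      · rintro ⟨Q, ⟨hQ, hQne⟩, hQP⟩
        exact ⟨Q, hQ, hQne, hQP⟩
    rw [this]
    refine Set.Finite.isClosed_biUnion (hfin.subset fun Q hQ => hQ.1) fun Q _ => ?_
    exact (isClosed_zeroLocus _).preimage continuous_subtype_val
  have hcover : (Set.univ : Set U) ⊆ A₁ ∪ A₂ := by
    intro P _
    obtain ⟨q, hq, hqP⟩ := Ideal.exists_minimalPrimes_le (I := ⊥) (J := P.1.asIdeal) bot_le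
    by_cases h : q = Q₁
    · left
      subst h
      exact hqP
    · right
      exact ⟨q, hq, h, hqP⟩
  have hQ₁p : Q₁.IsPrime := hQ₁.1.1
  have hQ₂p : Q₂.IsPrime := hQ₂.1.1
  have hne₁ : (Set.univ ∩ A₁).Nonempty := by
    refine ⟨⟨⟨Q₁, hQ₁p⟩, ?_⟩, trivial, (le_refl Q₁ : Q₁ ≤ Q₁)⟩
    intro h
    exact hnm Q₁ hQ₁ (congrArg PrimeSpectrum.asIdeal (Set.mem_singleton_iff.mp h))
  have hne₂ : (Set.univ ∩ A₂).Nonempty := by
    refine ⟨⟨⟨Q₂, hQ₂p⟩, ?_⟩, trivial, Q₂, hQ₂, fun h => hne h.symm, (le_refl Q₂ : Q₂ ≤ Q₂)⟩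
    intro h
    exact hnm Q₂ hQ₂ (congrArg PrimeSpectrum.asIdeal (Set.mem_singleton_iff.mp h))
  have hpre : IsPreconnected (Set.univ : Set U) := isPreconnected_univ
  obtain ⟨P, -, hP₁, Q, hQ, hQne, hQP⟩ :=
    (isPreconnected_closed_iff.mp hpre) A₁ A₂ hA₁c hA₂c hcover hne₁ hne₂
  have hPm : P.1.asIdeal ≠ maximalIdeal B := by
    intro h
    apply P.2
    rw [Set.mem_singleton_iff]
    exact PrimeSpectrum.ext h
  exact hQne (hloc P.1.asIdeal P.1.2 hPm Q hQ Q₁ hQ₁ hQP hP₁)

end Backward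

section Stage

variable {R : Type u} [CommRing R] {K : Type u} [Field K] [Algebra R K]

/-- Two distinct minimal primes of the colimit below a prime are separated at a finite stage. -/
theorem exists_stage_two_minimalPrimes (P' : Ideal (PtColim R K)) [P'.IsPrime]
    (Q₁ Q₂ : Ideal (PtColim R K)) (hQ₁ : Q₁ ∈ minimalPrimes (PtColim R K))
    (hQ₂ : Q₂ ∈ minimalPrimes (PtColim R K)) (hne : Q₁ ≠ Q₂) (h₁ : Q₁ ≤ P') (h₂ : Q₂ ≤ P') :
    ∃ N : PtEt R K, ∃ q₁ ∈ minimalPrimes N.S, ∃ q₂ ∈ minimalPrimes N.S, q₁ ≠ q₂ ∧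
      q₁ ≤ P'.comap (PtColim.ι N) ∧ q₂ ≤ P'.comap (PtColim.ι N) := by
  have hnle : ¬ Q₁ ≤ Q₂ := fun hle => hne (le_antisymm hle (hQ₂.2 hQ₁.1 hle))
  obtain ⟨f, hf₁, hf₂⟩ := Set.not_subset.mp hnle
  obtain ⟨N, y, rfl⟩ := PtColim.exists_rep f
  letI : Algebra N.S (PtColim R K) := (PtColim.ι N).toAlgebra
  haveI : IsScalarTower R N.S (PtColim R K) :=
    IsScalarTower.of_algebraMap_eq fun r => (PtColim.ι_algebraMap N r).symm
  haveI : Module.Flat N.S (PtColim R K) :=
    Groth.Agent.Lib.Helper9.flat_of_etale_of_flat R N.S (PtColim R K)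
  refine ⟨N, Q₁.comap (PtColim.ι N), comap_mem_minimalPrimes_of_flat N.S (PtColim R K) hQ₁,
    Q₂.comap (PtColim.ι N), comap_mem_minimalPrimes_of_flat N.S (PtColim R K) hQ₂, ?_,
    Ideal.comap_mono h₁, Ideal.comap_mono h₂⟩
  intro h
  have h3 : y ∈ Q₁.comap (PtColim.ι N) := hf₁
  rw [h] at h3
  exact hf₂ h3

end Stage

end Groth.Agent.Lib.Helper3.PuncturedConnected
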