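import Groth.Agent.Lib.Helper3.BrnchFibre
import Groth.Agent.Lib.Helper3.PuncturedConnected
import Groth.Agent.S9782
import Groth.Agent.S9236
import Groth.Agent.Lib.Helper9.Hens.NoetherianHens
import Mathlib.AlgebraicGeometry.Noetherian

/-!
# Geometric unibranchness of a Noetherian scheme via punctured spectra of strict henselizations
-/

set_option linter.style.haveILetI false
set_option linter.unusedSectionVars false
set_option autoImplicit false

namespace Groth.Agent.Lib.Helper3.GeomUnibranchPunctured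

open AlgebraicGeometry CategoryTheory IsLocalRing Groth.Agent.Lib.Helper9.HensK
open Groth.Agent.Lib.Helper3 Groth.Agent.Lib.Helper3.BrnchScheme Groth.Agent.Lib.Helper3.BrnchFibre

universe u

section TwoComponents

variable {X : Scheme.{u}} (W : X.Opens) (hW : IsAffineOpen W)
  (B' : Type u) [CommRing B'] [Algebra Γ(X, W) B'] [Algebra.Etale Γ(X, W) B']
  (q' : Ideal B') [q'.IsPrime]

/-- A point of an étale `X`-scheme lying on two irreducible components maps to a point whose local
ring is not geometrically unibranch. -/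
theorem not_isGeomUnibranch_of_two_minimalPrimes (q₁ q₂ : Ideal B')
    (h₁ : q₁ ∈ minimalPrimes B') (h₂ : q₂ ∈ minimalPrimes B') (hne : q₁ ≠ q₂)
    (hle₁ : q₁ ≤ q') (hle₂ : q₂ ≤ q') :
    ¬ CAlg2.IsGeomUnibranch (X.presheaf.stalk
      (hW.fromSpec ⟨q'.comap (algebraMap Γ(X, W) B'), inferInstance⟩)) := by
  intro hgu
  let B : CommRingCat.{u} := CommRingCat.of B'
  let φ : Γ(X, W) ⟶ B := CommRingCat.ofHom (algebraMap Γ(X, W) B')
  let g : Spec B ⟶ X := Spec.map φ ≫ hW.fromSpec
  let u₀ : PrimeSpectrum B' := ⟨q', inferInstance⟩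
  let u : Spec B := u₀
  have hEt : Etale g := by
    haveI : Etale (Spec.map φ) := by
      rw [HasRingHomProperty.Spec_iff (P := @Etale)]
      exact RingHom.etale_algebraMap.mpr inferInstance
    infer_instance
  have hgu' : g u = hW.fromSpec ⟨q'.comap (algebraMap Γ(X, W) B'), inferInstance⟩ := rfl
  have h1 := (Groth.Agent.S9782.result X (g u)).mp (hgu' ▸ hgu) (Spec B) g u hEt rfl
  obtain ⟨Z, hZ⟩ := Set.encard_eq_one.mp h1
  have hq₁p : q₁.IsPrime := h₁.1.1
  have hq₂p : q₂.IsPrime := h₂.1.1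
  have hcomp : ∀ q ∈ minimalPrimes B',
      PrimeSpectrum.zeroLocus (q : Set B') ∈ irreducibleComponents (PrimeSpectrum B') := by
    intro q hq
    rw [← PrimeSpectrum.zeroLocus_minimalPrimes]
    exact ⟨q, hq, rfl⟩
  let Z₁ : Set (Spec B) := PrimeSpectrum.zeroLocus (q₁ : Set B')
  let Z₂ : Set (Spec B) := PrimeSpectrum.zeroLocus (q₂ : Set B')
  have hm₁ : Z₁ ∈ {Z : Set (Spec B) | Z ∈ irreducibleComponents (Spec B) ∧ u ∈ Z} :=
    ⟨hcomp q₁ h₁, hle₁⟩
  have hm₂ : Z₂ ∈ {Z : Set (Spec B) | Z ∈ irreducibleComponents (Spec B) ∧ u ∈ Z} :=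
    ⟨hcomp q₂ h₂, hle₂⟩
  have e₁ : Z₁ = Z := Set.eq_of_mem_singleton (hZ ▸ hm₁)
  have e₂ : Z₂ = Z := Set.eq_of_mem_singleton (hZ ▸ hm₂)
  have heq : PrimeSpectrum.zeroLocus (q₁ : Set B') = PrimeSpectrum.zeroLocus (q₂ : Set B') :=
    e₁.trans e₂.symm
  have ha : (⟨q₁, hq₁p⟩ : PrimeSpectrum B') ∈ PrimeSpectrum.zeroLocus (q₂ : Set B') := by
    rw [← heq]
    exact le_refl q₁
  have hb : (⟨q₂, hq₂p⟩ : PrimeSpectrum B') ∈ PrimeSpectrum.zeroLocus (q₁ : Set B') := by
    rw [heq]
    exact le_refl q₂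
  exact hne (le_antisymm hb ha)

end TwoComponents

section DimDrop

variable {X : Scheme.{u}} [IsLocallyNoetherian X] (W : X.Opens) (hW : IsAffineOpen W) (x : X)
  (hx : x ∈ W)

theorem fromSpec_mem (y₀ : PrimeSpectrum Γ(X, W)) : hW.fromSpec y₀ ∈ W := by
  have h3 : hW.fromSpec y₀ ∈ Set.range hW.fromSpec := ⟨_, rfl⟩
  rw [hW.range_fromSpec] at h3
  exact h3

theorem ringKrullDim_stalk_lt (p' : Ideal Γ(X, W)) [p'.IsPrime]
    (hlt : p' < (hW.primeIdealOf ⟨x, hx⟩).asIdeal) :
    ringKrullDim (X.presheaf.stalk (hW.fromSpec ⟨p', inferInstance⟩)) <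
      ringKrullDim (X.presheaf.stalk x) := by
  haveI : IsNoetherianRing Γ(X, W) := IsLocallyNoetherian.component_noetherian ⟨W, hW⟩
  let y₀ : PrimeSpectrum Γ(X, W) := ⟨p', inferInstance⟩
  have hy : hW.fromSpec y₀ ∈ W := fromSpec_mem W hW y₀
  have h1 : ringKrullDim (X.presheaf.stalk (hW.fromSpec y₀)) = p'.height := by
    letI := TopCat.Presheaf.algebra_section_stalk X.presheaf ⟨hW.fromSpec y₀, hy⟩
    haveI : IsLocalization.AtPrime (X.presheaf.stalk (hW.fromSpec y₀)) p' :=
      hW.isLocalization_stalk' y₀ hy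
    exact IsLocalization.AtPrime.ringKrullDim_eq_height p' _
  have h2 : ringKrullDim (X.presheaf.stalk x) = (hW.primeIdealOf ⟨x, hx⟩).asIdeal.height := by
    letI := TopCat.Presheaf.algebra_section_stalk X.presheaf ⟨x, hx⟩
    haveI := hW.isLocalization_stalk ⟨x, hx⟩
    exact IsLocalization.AtPrime.ringKrullDim_eq_height _ _
  rw [h1, h2]
  exact WithBot.coe_lt_coe.mpr (Ideal.height_strict_mono_of_isPrime hlt)

end DimDrop

section Forward

variable (X : Scheme.{u}) (x : X)

theorem exists_generization_of_not_mem_irreducibleComponents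
    (hx : closure ({x} : Set X) ∉ irreducibleComponents X) : ∃ y : X, y ⤳ x ∧ ¬ x ⤳ y := by
  by_contra h
  have h' : ∀ y, y ⤳ x → x ⤳ y := fun y hy => by
    by_contra hn
    exact h ⟨y, hy, hn⟩
  exact hx (IrrCompStalk.mem_genericPoints_iff.mpr h')

theorem connectedSpace_of_isGeomUnibranch
    (hx : closure ({x} : Set X) ∉ irreducibleComponents X)
    (hgu : CAlg2.IsGeomUnibranch (X.presheaf.stalk x))
    (Ash : Type u) [CommRing Ash] [IsLocalRing Ash] [Algebra (X.presheaf.stalk x) Ash]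
    [IsLocalHom (algebraMap (X.presheaf.stalk x) Ash)]
    [Hensel.IsStrictHenselization (X.presheaf.stalk x) Ash] :
    ConnectedSpace ↥({IsLocalRing.closedPoint Ash}ᶜ : Set (PrimeSpectrum Ash)) := by
  have hcard : ENat.card (minimalPrimes Ash) = 1 :=
    (Groth.Agent.S9238.result (X.presheaf.stalk x) Ash).trans
      ((Groth.Agent.S9236.result (X.presheaf.stalk x)).mpr hgu)
  rw [ENat.card_coe_set_eq] at hcard
  obtain ⟨Q, hQ⟩ := Set.encard_eq_one.mp hcard
  refine PuncturedConnected.connectedSpace_punctured_of_unique Ash Q hQ ?_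
  intro hQm
  obtain ⟨y, hyx, hxy⟩ := exists_generization_of_not_mem_irreducibleComponents X x hx
  have hyr : y ∈ Set.range (X.fromSpecStalk x) := by
    rw [Scheme.range_fromSpecStalk]
    exact hyx
  obtain ⟨p₀, rfl⟩ := hyr
  haveI := Groth.Agent.Lib.Helper9.HensK.faithfullyFlat_of_isStrictHenselization
    (X.presheaf.stalk x) Ash
  obtain ⟨P₀, hP₀⟩ := PrimeSpectrum.comap_surjective_of_faithfullyFlat
    (A := X.presheaf.stalk x) (B := Ash) p₀
  obtain ⟨q, hq, hqP⟩ := Ideal.exists_minimalPrimes_le (I := ⊥) (J := P₀.asIdeal) bot_le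
  rw [show (⊥ : Ideal Ash).minimalPrimes = minimalPrimes Ash from rfl, hQ,
    Set.mem_singleton_iff] at hq
  subst hq
  have hP₀m : P₀.asIdeal = maximalIdeal Ash :=
    ((maximalIdeal.isMaximal Ash).eq_of_le P₀.2.ne_top (hQm ▸ hqP)).symm
  have hp₀ : p₀ = closedPoint (X.presheaf.stalk x) := by
    rw [← hP₀]
    apply PrimeSpectrum.ext
    change Ideal.comap (algebraMap (X.presheaf.stalk x) Ash) P₀.asIdeal = maximalIdeal _
    rw [hP₀m]
    exact ((local_hom_TFAE (algebraMap (X.presheaf.stalk x) Ash)).out 0 4 rfl rfl).mp ‹_›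
  apply hxy
  rw [hp₀, Scheme.fromSpecStalk_closedPoint]

end Forward

section Backward

variable (X : Scheme.{u}) [IsNoetherian X]

/-- One step of the induction: at a point `x` all of whose proper generizations have geometrically
unibranch local rings, connectedness of the punctured spectrum of a strict henselization (when `x`
is not a generic point) gives geometric unibranchness at `x`. -/
theorem isGeomUnibranch_step (x : X)
    (ih : ∀ y : X, ringKrullDim (X.presheaf.stalk y) < ringKrullDim (X.presheaf.stalk x) →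
      CAlg2.IsGeomUnibranch (X.presheaf.stalk y))
    (H : closure ({x} : Set X) ∉ irreducibleComponents X →
        ∀ (Ash : Type u) [CommRing Ash] [IsLocalRing Ash] [Algebra (X.presheaf.stalk x) Ash]
          [IsLocalHom (algebraMap (X.presheaf.stalk x) Ash)]
          [Hensel.IsStrictHenselization (X.presheaf.stalk x) Ash],
          ConnectedSpace ↥({IsLocalRing.closedPoint Ash}ᶜ : Set (PrimeSpectrum Ash))) :
    CAlg2.IsGeomUnibranch (X.presheaf.stalk x) := by
  obtain ⟨W, hW, hx, -⟩ := exists_isAffineOpen_mem_and_subset (x := x) (U := ⊤) trivial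
  let K := SeparableClosure (ResidueField (X.presheaf.stalk x))
  haveI : IsLocalHom (algebraMap (X.presheaf.stalk x) K) := isLocalHom_of_tower _ K
  letI := algRL x W hx
  letI := algRK x W hx K
  haveI := isScalarTower_RLK x W hx K
  haveI := isLocalization_stalk' x W hW hx
  letI := algLP x W hW hx K
  haveI := isScalarTower_algLP x W hW hx K
  haveI := isLocalHom_algLP x W hW hx K
  haveI : Hensel.IsStrictHenselization (X.presheaf.stalk x) (PtColim Γ(X, W) K) :=
    PtColimLocal.isStrictHenselization (hW.primeIdealOf ⟨x, hx⟩).asIdeal (X.presheaf.stalk x) K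
  set p : Ideal Γ(X, W) := (hW.primeIdealOf ⟨x, hx⟩).asIdeal with hp
  -- non-maximal primes of the strict henselization lie over proper generizations
  have hkey : ∀ (P' : Ideal (PtColim Γ(X, W) K)), P'.IsPrime →
      P' ≠ maximalIdeal (PtColim Γ(X, W) K) →
      P'.comap (algebraMap Γ(X, W) (PtColim Γ(X, W) K)) < p := by
    intro P' hP' hne
    refine lt_of_le_of_ne ?_ ?_
    · intro a ha
      have h1 : algebraMap Γ(X, W) (PtColim Γ(X, W) K) a ∈ maximalIdeal (PtColim Γ(X, W) K) :=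
        le_maximalIdeal hP'.ne_top ha
      rw [PtColim.mem_maximalIdeal_iff, AlgHom.commutes] at h1
      rw [← PtColimLocal.ker_algebraMap p (X.presheaf.stalk x) K]
      exact h1
    · intro heq
      apply hne
      have h1 : p.map (algebraMap Γ(X, W) (PtColim Γ(X, W) K)) ≤ P' := by
        rw [Ideal.map_le_iff_le_comap, heq]
      rw [IsScalarTower.algebraMap_eq Γ(X, W) (X.presheaf.stalk x) (PtColim Γ(X, W) K),
        ← Ideal.map_map, IsLocalization.AtPrime.map_eq_maximalIdeal p (X.presheaf.stalk x),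
        PtColimLocal.map_maximalIdeal p (X.presheaf.stalk x) K] at h1
      exact ((maximalIdeal.isMaximal _).eq_of_le hP'.ne_top h1).symm
  have hbelow : ∀ (p'' : Ideal Γ(X, W)) (hp'' : p''.IsPrime), p'' < p →
      CAlg2.IsGeomUnibranch (X.presheaf.stalk (hW.fromSpec ⟨p'', hp''⟩)) := by
    intro p'' hp'' hlt
    exact ih _ (ringKrullDim_stalk_lt W hW x hx p'' hlt)
  have hloc : ∀ P' : Ideal (PtColim Γ(X, W) K), P'.IsPrime →
      P' ≠ maximalIdeal (PtColim Γ(X, W) K) →
      ∀ Q₁ ∈ minimalPrimes (PtColim Γ(X, W) K), ∀ Q₂ ∈ minimalPrimes (PtColim Γ(X, W) K),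
        Q₁ ≤ P' → Q₂ ≤ P' → Q₁ = Q₂ := by
    intro P' hP' hne Q₁ hQ₁ Q₂ hQ₂ h₁ h₂
    by_contra hQne
    obtain ⟨N, q₁, hq₁, q₂, hq₂, hqne, hle₁, hle₂⟩ :=
      PuncturedConnected.exists_stage_two_minimalPrimes P' Q₁ Q₂ hQ₁ hQ₂ hQne h₁ h₂
    haveI : (P'.comap (PtColim.ι N)).IsPrime := Ideal.comap_isPrime _ _
    have hnot := not_isGeomUnibranch_of_two_minimalPrimes W hW N.S (P'.comap (PtColim.ι N))
      q₁ q₂ hq₁ hq₂ hqne hle₁ hle₂
    apply hnot
    apply hbelow
    have h3 : (P'.comap (PtColim.ι N)).comap (algebraMap Γ(X, W) N.S) =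
        P'.comap (algebraMap Γ(X, W) (PtColim Γ(X, W) K)) := by
      rw [Ideal.comap_comap]
      congr 1
      exact RingHom.ext (PtColim.ι_algebraMap N)
    rw [h3]
    exact hkey P' hP' hne
  have hsub : ∀ Q₁ ∈ minimalPrimes (PtColim Γ(X, W) K),
      ∀ Q₂ ∈ minimalPrimes (PtColim Γ(X, W) K), Q₁ = Q₂ := by
    by_cases hgen : closure ({x} : Set X) ∈ irreducibleComponents X
    · -- generic point: every prime is maximal
      have hall : ∀ P' : Ideal (PtColim Γ(X, W) K), P'.IsPrime →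
          P' = maximalIdeal (PtColim Γ(X, W) K) := by
        intro P' hP'
        by_contra hne
        have hlt := hkey P' hP' hne
        haveI : (P'.comap (algebraMap Γ(X, W) (PtColim Γ(X, W) K))).IsPrime :=
          Ideal.comap_isPrime _ _
        let y₀ : PrimeSpectrum Γ(X, W) :=
          ⟨P'.comap (algebraMap Γ(X, W) (PtColim Γ(X, W) K)), inferInstance⟩
        have hxe : hW.fromSpec (hW.primeIdealOf ⟨x, hx⟩) = x := hW.fromSpec_primeIdealOf ⟨x, hx⟩
        have hind : Topology.IsInducing hW.fromSpec :=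
          (Scheme.Hom.isOpenEmbedding hW.fromSpec).isInducing
        have h1' : y₀ ⤳ hW.primeIdealOf ⟨x, hx⟩ :=
          (PrimeSpectrum.le_iff_specializes y₀ (hW.primeIdealOf ⟨x, hx⟩)).mp hlt.le
        have h1 : hW.fromSpec y₀ ⤳ x := by
          rw [← hxe]
          exact hind.specializes_iff.mpr h1'
        have h2 : x ⤳ hW.fromSpec y₀ := (IrrCompStalk.mem_genericPoints_iff.mp hgen) _ h1
        rw [← hxe] at h2
        have h2' : hW.primeIdealOf ⟨x, hx⟩ ⤳ y₀ := hind.specializes_iff.mp h2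
        exact not_le_of_gt hlt
          ((PrimeSpectrum.le_iff_specializes (hW.primeIdealOf ⟨x, hx⟩) y₀).mpr h2')
      intro Q₁ hQ₁ Q₂ hQ₂
      rw [hall Q₁ hQ₁.1.1, hall Q₂ hQ₂.1.1]
    · haveI : IsNoetherianRing (PtColim Γ(X, W) K) :=
        (Groth.Agent.Lib.Helper9.isNoetherianRing_iff_of_isStrictHenselization
          (X.presheaf.stalk x) (PtColim Γ(X, W) K)).mp inferInstance
      haveI := H hgen (PtColim Γ(X, W) K)
      exact PuncturedConnected.minimalPrimes_subsingleton_of_connected _ hloc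
  rw [← Groth.Agent.S9236.result, ← Groth.Agent.S9238.result (X.presheaf.stalk x)
    (PtColim Γ(X, W) K), ENat.card_coe_set_eq, Set.encard_eq_one]
  obtain ⟨Q, hQ, -⟩ := Ideal.exists_minimalPrimes_le (I := ⊥)
    (J := maximalIdeal (PtColim Γ(X, W) K)) bot_le
  refine ⟨Q, Set.eq_singleton_iff_unique_mem.mpr ⟨hQ, fun Q' hQ' => hsub Q' hQ' Q hQ⟩⟩

theorem isGeomUnibranch_of_connected
    (H : ∀ (x : X), closure ({x} : Set X) ∉ irreducibleComponents X →
        ∀ (Ash : Type u) [CommRing Ash] [IsLocalRing Ash] [Algebra (X.presheaf.stalk x) Ash]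
          [IsLocalHom (algebraMap (X.presheaf.stalk x) Ash)]
          [Hensel.IsStrictHenselization (X.presheaf.stalk x) Ash],
          ConnectedSpace ↥({IsLocalRing.closedPoint Ash}ᶜ : Set (PrimeSpectrum Ash))) :
    ∀ x : X, CAlg2.IsGeomUnibranch (X.presheaf.stalk x) := by
  intro x
  induction x using (InvImage.wf (fun x : X => ringKrullDim (X.presheaf.stalk x))
    wellFounded_lt).induction with
  | _ x ih => exact isGeomUnibranch_step X x ih (H x)

end Backward

end Groth.Agent.Lib.Helper3.GeomUnibranchPunctured
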