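import Groth.Agent.Lib.Helper3.QFLocus
import Groth.Agent.Lib.Helper3.PairSplit
import Groth.Agent.Lib.Helper3.IdemBij
import Groth.Agent.Lib.Helper9.Hens.PairEtale
import Groth.Agent.Lib.Helper9.Hens.PairNoetherian

/-!
# Henselian finitely presented maps with finite reduction (helper3)

* `quasiFiniteAt_of_quasiFinite_quotient` : if `R/IR` is quasi-finite over `A`, then `R` is
  quasi-finite over `A` at every prime containing `IR`.
* `exists_finite_etale_nbhd_of_pair` : `(A, I)` Henselian, `R` f.p. with `R/IR` integral over `A`: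
  there is an étale `R`-algebra `R'` with `R/IR ≅ R'/IR'`, finite and f.p. over `A`.
-/

set_option autoImplicit false

namespace Groth.Agent.Lib.Helper3

universe u

open PrimeSpectrum

theorem quasiFiniteAt_of_quasiFinite_quotient {A R : Type*} [CommRing A] [CommRing R]
    [Algebra A R] [Algebra.FiniteType A R] (I : Ideal A)
    [Algebra.QuasiFinite A (R ⧸ I.map (algebraMap A R))] (p : Ideal R) [p.IsPrime]
    (hp : I.map (algebraMap A R) ≤ p) : Algebra.QuasiFiniteAt A p := by
  set J := I.map (algebraMap A R) with hJ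
  let π : R →+* R ⧸ J := Ideal.Quotient.mk J
  have hπ : Function.Surjective π := Ideal.Quotient.mk_surjective
  let q : PrimeSpectrum R := ⟨p, inferInstance⟩
  let x : PrimeSpectrum A := q.comap (algebraMap A R)
  have hIx : I ≤ x.asIdeal := by
    intro a ha
    change algebraMap A R a ∈ p
    exact hp (Ideal.mem_map_of_mem _ ha)
  have hrange : ∀ y : PrimeSpectrum R, J ≤ y.asIdeal → ∃ y' : PrimeSpectrum (R ⧸ J),
      PrimeSpectrum.comap π y' = y := by
    intro y hy
    have : y ∈ Set.range (PrimeSpectrum.comap π) := by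
      rw [range_comap_of_surjective _ _ hπ, Ideal.mk_ker]
      exact hy
    exact this
  obtain ⟨q', hq'⟩ := hrange q hp
  have hcomp : ∀ y' : PrimeSpectrum (R ⧸ J), PrimeSpectrum.comap (algebraMap A (R ⧸ J)) y' =
      PrimeSpectrum.comap (algebraMap A R) (PrimeSpectrum.comap π y') := by
    intro y'; rfl
  have hq'F : q' ∈ PrimeSpectrum.comap (algebraMap A (R ⧸ J)) ⁻¹' {x} := by
    rw [Set.mem_preimage, Set.mem_singleton_iff, hcomp, hq']
  obtain ⟨U', hU'open, hU'⟩ := (isDiscrete_iff_forall_mem_exists_isOpen.mp
    (Algebra.QuasiFinite.isDiscrete_comap_preimage_singleton (R := A) (S := R ⧸ J) x)) q' hq'F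
  obtain ⟨U, hUopen, rfl⟩ := (comap_isInducing_of_surjective _ π hπ).isOpen_iff.mp hU'open
  refine Algebra.QuasiFiniteAt.of_isOpen_singleton_fiber (R := A) q ?_
  rw [isOpen_induced_iff]
  refine ⟨U, hUopen, ?_⟩
  ext ⟨y, hy⟩
  simp only [Set.mem_preimage, Set.mem_singleton_iff]
  have hy' : PrimeSpectrum.comap (algebraMap A R) y = x := hy
  constructor
  · intro hyU
    have hJy : J ≤ y.asIdeal := by
      rw [hJ, Ideal.map_le_iff_le_comap]
      intro a ha
      have : a ∈ (PrimeSpectrum.comap (algebraMap A R) y).asIdeal := by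
        rw [hy']; exact hIx ha
      exact this
    obtain ⟨y', rfl⟩ := hrange y hJy
    have : y' ∈ (PrimeSpectrum.comap π ⁻¹' U) ∩
        (PrimeSpectrum.comap (algebraMap A (R ⧸ J)) ⁻¹' {x}) := by
      refine ⟨hyU, ?_⟩
      rw [Set.mem_preimage, Set.mem_singleton_iff, hcomp, hy']
    rw [hU'] at this
    apply Subtype.ext
    change PrimeSpectrum.comap π y' = q
    rw [Set.mem_singleton_iff.mp this, hq']
  · intro hyq
    have hyq' : y = q := congrArg Subtype.val hyq
    rw [hyq']
    have : q' ∈ (PrimeSpectrum.comap π ⁻¹' U) ∩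
        (PrimeSpectrum.comap (algebraMap A (R ⧸ J)) ⁻¹' {x}) := by
      rw [hU']; rfl
    have h2 := this.1
    rw [Set.mem_preimage, hq'] at h2
    exact h2

/-- **Finite étale-neighbourhood.** `(A, I)` a Henselian pair, `R` a finitely presented
`A`-algebra with `R/IR` integral over `A`.  Then there is an étale `R`-algebra `R'` (in fact a
direct factor of `R`) with `R/IR ≅ R'/IR'` which is finite and finitely presented over `A`. -/
theorem exists_finite_etale_nbhd_of_pair {A : Type u} [CommRing A] (I : Ideal A)
    [HenselianRing A I] (R : Type u) [CommRing R] [Algebra A R] [Algebra.FinitePresentation A R]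
    (hint : Algebra.IsIntegral A (R ⧸ I.map (algebraMap A R))) :
    ∃ (R' : Type u) (_ : CommRing R') (_ : Algebra R R') (_ : Algebra A R')
      (_ : IsScalarTower A R R'),
      Algebra.Etale R R' ∧
      Function.Bijective (Ideal.quotientMap ((I.map (algebraMap A R)).map (algebraMap R R'))
        (algebraMap R R') Ideal.le_comap_map) ∧
      Module.Finite A R' ∧ Algebra.FinitePresentation A R' := by
  set J := I.map (algebraMap A R) with hJ
  have hfinq : Module.Finite A (R ⧸ J) := Algebra.IsIntegral.finite
  have hqf : Algebra.QuasiFinite A (R ⧸ J) := inferInstance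
  obtain ⟨e, he, hfin, htop⟩ := exists_idempotent_split_of_pair I R
    (fun p hp hle => by
      have := quasiFiniteAt_of_quasiFinite_quotient I p hle
      exact Algebra.ZariskisMainProperty.of_finiteType p) hint
  -- `1 - e ∈ J`
  have h1e : 1 - e ∈ J := by
    have h1 : (1 : R ⧸ Ideal.span ({e} : Set R)) ∈
        I.map (algebraMap A (R ⧸ Ideal.span ({e} : Set R))) := htop ▸ Submodule.mem_top
    have h2 : I.map (algebraMap A (R ⧸ Ideal.span ({e} : Set R))) =
        J.map (Ideal.Quotient.mk _) := by
      rw [hJ, Ideal.map_map]; rfl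
    rw [h2, Ideal.mem_map_iff_of_surjective _ Ideal.Quotient.mk_surjective] at h1
    obtain ⟨i, hi, hi1⟩ := h1
    rw [← map_one (Ideal.Quotient.mk _), Ideal.Quotient.eq, Ideal.mem_span_singleton'] at hi1
    obtain ⟨c, hc⟩ := hi1
    -- `c * e = i - 1`, so `(1 - e) = (1 - e) * i`
    have h3 : 1 - e = (1 - e) * i := by
      have h4 : (1 - e) * (c * e) = 0 := by
        have : (1 - e) * e = 0 := by rw [sub_mul, one_mul, he.eq, sub_self]
        rw [mul_left_comm, this, mul_zero]
      rw [hc, mul_sub, mul_one] at h4
      exact (sub_eq_zero.mp h4).symm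
    rw [h3]
    exact J.mul_mem_left _ hi
  set L : Ideal R := Ideal.span ({1 - e} : Set R) with hL
  have hloc : IsLocalization.Away e (R ⧸ L) :=
    IsLocalization.away_of_isIdempotentElem he
      (by rw [Ideal.Quotient.algebraMap_eq, Ideal.mk_ker]) Ideal.Quotient.mk_surjective
  have hfe1 : Algebra.FormallyEtale R (R ⧸ L) :=
    Algebra.FormallyEtale.of_isLocalization (Submonoid.powers e)
  have hfp1 : Algebra.FinitePresentation R (R ⧸ L) :=
    IsLocalization.Away.finitePresentation e
  have het1 : Algebra.Etale R (R ⧸ L) := ⟨hfe1, hfp1⟩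
  refine ⟨R ⧸ L, inferInstance, inferInstance, inferInstance, inferInstance, het1, ?_, hfin,
    Algebra.FinitePresentation.trans A R (R ⧸ L)⟩
  exact quotientMap_away_bijective_of_one_sub_mem J e h1e (R ⧸ L)

/-- A Henselian pair is its own henselization. -/
theorem isPairHenselization_self {C : Type u} [CommRing C] (J : Ideal C) [hC : HenselianRing C J] :
    Hens2.IsPairHenselization C J C := by
  refine ⟨by rw [Algebra.algebraMap_self, Ideal.map_id]; exact hC, ?_⟩
  intro D _ K f hD hle
  refine ⟨f, by ext; simp, ?_⟩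
  intro g hg
  rw [← hg]; ext; simp

open Groth.Agent.Lib.Helper9.Hens in
/-- If `B` is a henselization of `(R, IR)`, `R` f.p. over the Henselian pair `(A, I)` and `R/IR`
integral over `A`, then `B` is finite and finitely presented over `A`. -/
theorem finite_of_isPairHenselization_of_isIntegral {A : Type u} [CommRing A] (I : Ideal A)
    [HenselianRing A I] (R : Type u) [CommRing R] [Algebra A R] [Algebra.FinitePresentation A R]
    (B : Type u) [CommRing B] [Algebra R B] [Algebra A B] [IsScalarTower A R B]
    (hB : Hens2.IsPairHenselization R (I.map (algebraMap A R)) B)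
    (hint : Algebra.IsIntegral A (R ⧸ I.map (algebraMap A R))) :
    Module.Finite A B ∧ Algebra.FinitePresentation A B := by
  obtain ⟨R', _, _, _, _, het, hbij, hfin, hfp⟩ := exists_finite_etale_nbhd_of_pair I R hint
  have hintR' : Algebra.IsIntegral A R' := Algebra.IsIntegral.of_finite A R'
  have hH : HenselianRing R' (I.map (algebraMap A R')) := henselianRing_map_of_isIntegral I R'
  have hmap : I.map (algebraMap A R') = ((I.map (algebraMap A R)).map (algebraMap R R')) := by
    rw [Ideal.map_map, ← IsScalarTower.algebraMap_eq]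
  rw [hmap] at hH
  have hself := isPairHenselization_self ((I.map (algebraMap A R)).map (algebraMap R R'))
  have h' : Hens2.IsPairHenselization R (I.map (algebraMap A R)) R' :=
    isPairHenselization_of_etale_of_bijective hbij hself
  obtain ⟨e⟩ := nonempty_algEquiv_of_isPairHenselization hB h'
  let e' : B ≃ₐ[A] R' := e.restrictScalars A
  exact ⟨Module.Finite.equiv e'.symm.toLinearEquiv, Algebra.FinitePresentation.equiv e'.symm⟩

open Groth.Agent.Lib.Helper9.Hens in
/-- Integrality of `R/IR` over `A` from integrality of `B/IB`, for a henselization `B` of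
`(R, IR)`. -/
theorem isIntegral_quotient_of_isPairHenselization {A : Type u} [CommRing A] (I : Ideal A)
    (R : Type u) [CommRing R] [Algebra A R]
    (B : Type u) [CommRing B] [Algebra R B] [Algebra A B] [IsScalarTower A R B]
    (hB : Hens2.IsPairHenselization R (I.map (algebraMap A R)) B)
    (h : ∀ b : B, ∃ q : Polynomial A, q.Monic ∧
      Polynomial.eval₂ (algebraMap A B) b q ∈ I.map (algebraMap A B)) :
    Algebra.IsIntegral A (R ⧸ I.map (algebraMap A R)) := by
  constructor
  intro x
  obtain ⟨r, rfl⟩ := Ideal.Quotient.mk_surjective x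
  obtain ⟨q, hq, hqb⟩ := h (algebraMap R B r)
  refine ⟨q, hq, ?_⟩
  have h1 : Polynomial.eval₂ (algebraMap A B) (algebraMap R B r) q =
      algebraMap R B (Polynomial.eval₂ (algebraMap A R) r q) := by
    rw [Polynomial.hom_eval₂, ← IsScalarTower.algebraMap_eq]
  have hmap : I.map (algebraMap A B) = (I.map (algebraMap A R)).map (algebraMap R B) := by
    rw [Ideal.map_map, ← IsScalarTower.algebraMap_eq]
  rw [h1, hmap] at hqb
  have h2 := mem_of_algebraMap_mem_map_of_isPairHenselization hB _ hqb
  have h3 := Ideal.Quotient.eq_zero_iff_mem.mpr h2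
  rw [Polynomial.hom_eval₂] at h3
  exact h3

/-- **S17596.** -/
theorem finite_of_isPairHenselization_of_finite {A : Type u} [CommRing A] (I : Ideal A)
    [HenselianRing A I] (R : Type u) [CommRing R] [Algebra A R] [Algebra.FinitePresentation A R]
    (B : Type u) [CommRing B] [Algebra R B] [Algebra A B] [IsScalarTower A R B]
    (hB : Hens2.IsPairHenselization R (I.map (algebraMap A R)) B)
    (hfin : (Ideal.quotientMap (I.map (algebraMap A B)) (algebraMap A B)
      Ideal.le_comap_map).Finite) :
    Module.Finite A B ∧ Algebra.FinitePresentation A B := by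
  refine finite_of_isPairHenselization_of_isIntegral I R B hB
    (isIntegral_quotient_of_isPairHenselization I R B hB ?_)
  intro b
  obtain ⟨p, hp, hpb⟩ := hfin.to_isIntegral (Ideal.Quotient.mk _ b)
  obtain ⟨q, hq, -, hqm⟩ := Polynomial.lifts_and_natDegree_eq_and_monic
    ((Polynomial.mem_lifts p).mpr (Polynomial.map_surjective _ Ideal.Quotient.mk_surjective p)) hp
  refine ⟨q, hqm, ?_⟩
  rw [← Ideal.Quotient.eq_zero_iff_mem, Polynomial.hom_eval₂]
  have : (Ideal.Quotient.mk (I.map (algebraMap A B))).comp (algebraMap A B) =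
      (Ideal.quotientMap (I.map (algebraMap A B)) (algebraMap A B) Ideal.le_comap_map).comp
        (Ideal.Quotient.mk I) := by
    ext a; simp
  rw [this, ← Polynomial.eval₂_map, hq]
  exact hpb

/-- **S17597.** -/
theorem surjective_of_isPairHenselization_of_surjective {A : Type u} [CommRing A] (I : Ideal A)
    [HenselianRing A I] (R : Type u) [CommRing R] [Algebra A R] [Algebra.FinitePresentation A R]
    (B : Type u) [CommRing B] [Algebra R B] [Algebra A B] [IsScalarTower A R B]
    (hB : Hens2.IsPairHenselization R (I.map (algebraMap A R)) B)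
    (hsurj : Function.Surjective
      (Ideal.quotientMap (I.map (algebraMap A B)) (algebraMap A B) Ideal.le_comap_map)) :
    Function.Surjective (algebraMap A B) := by
  have hsub : ∀ b : B, ∃ a : A, b - algebraMap A B a ∈ I.map (algebraMap A B) := by
    intro b
    obtain ⟨x, hx⟩ := hsurj (Ideal.Quotient.mk _ b)
    obtain ⟨a, rfl⟩ := Ideal.Quotient.mk_surjective x
    rw [Ideal.quotientMap_mk] at hx
    exact ⟨a, Ideal.Quotient.eq.mp hx.symm⟩
  obtain ⟨hfin, -⟩ := finite_of_isPairHenselization_of_isIntegral I R B hB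
    (isIntegral_quotient_of_isPairHenselization I R B hB (fun b => by
      obtain ⟨a, ha⟩ := hsub b
      refine ⟨Polynomial.X - Polynomial.C a, Polynomial.monic_X_sub_C a, ?_⟩
      simpa using ha))
  -- Nakayama
  have hle : (⊤ : Submodule A B) ≤ LinearMap.range (Algebra.linearMap A B) := by
    apply Submodule.le_of_le_smul_of_le_jacobson_bot (I := I) hfin.fg_top HenselianRing.jac
    rw [Ideal.smul_top_eq_map]
    intro b _
    obtain ⟨a, ha⟩ := hsub b
    have : b = algebraMap A B a + (b - algebraMap A B a) := by ring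
    rw [this]
    exact Submodule.add_mem_sup ⟨a, rfl⟩ ha
  intro b
  obtain ⟨a, ha⟩ := hle (Submodule.mem_top : b ∈ ⊤)
  exact ⟨a, ha⟩

end Groth.Agent.Lib.Helper3
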