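import Groth.Agent.Lib.Helper3.HfpMaps
import Groth.Agent.Lib.Helper3.HfpFinite
import Groth.Agent.Lib.Helper3.EtaleQuotLift
import Groth.Agent.Lib.Helper3.EtaleLiftRel

/-!
# h-étale maps of Henselian pairs (helper3)
-/

set_option autoImplicit false
set_option linter.unusedSectionVars false
set_option linter.style.haveILetI false

namespace Groth.Agent.Lib.Helper3

universe u

open Groth.Agent.Lib.Helper9 Groth.Agent.Lib.Helper9.Hens TensorProduct

/-- A surjection from a formally unramified algebra onto a formally smooth algebra with finitely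
generated kernel contained in the radical is injective. -/
theorem ker_eq_bot_of_formallySmooth_of_le_jacobson {Λ H' B' : Type u} [CommRing Λ] [CommRing H']
    [CommRing B'] [Algebra Λ H'] [Algebra Λ B'] [Algebra.FormallyUnramified Λ H']
    [Algebra.FormallySmooth Λ B'] (f : H' →ₐ[Λ] B') (hf : Function.Surjective f)
    (hfg : (RingHom.ker f).FG) (hjac : RingHom.ker f ≤ Ideal.jacobson ⊥) :
    RingHom.ker f = ⊥ := by
  set K := RingHom.ker f with hK
  -- `f̄ : H'/K² → B'`
  have hle : ∀ x ∈ K ^ 2, f x = 0 := by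
    intro x hx
    have : K ^ 2 ≤ K := Ideal.pow_le_self (by norm_num)
    exact this hx
  let fb : H' ⧸ K ^ 2 →ₐ[Λ] B' := Ideal.Quotient.liftₐ (K ^ 2) f hle
  have hfb : ∀ x, fb (Ideal.Quotient.mk _ x) = f x := fun x => rfl
  have hfbsurj : Function.Surjective fb := by
    intro b
    obtain ⟨x, rfl⟩ := hf b
    exact ⟨Ideal.Quotient.mk _ x, rfl⟩
  have hkerfb : RingHom.ker (fb : H' ⧸ K ^ 2 →+* B') = K.map (Ideal.Quotient.mk (K ^ 2)) := by
    ext y
    obtain ⟨x, rfl⟩ := Ideal.Quotient.mk_surjective y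
    rw [RingHom.mem_ker]
    change f x = 0 ↔ _
    constructor
    · intro hx
      exact Ideal.mem_map_of_mem _ hx
    · intro hx
      rw [Ideal.mem_map_iff_of_surjective _ Ideal.Quotient.mk_surjective] at hx
      obtain ⟨z, hz, hzx⟩ := hx
      rw [Ideal.Quotient.eq] at hzx
      have h1 : f (z - x) = 0 := hle _ hzx
      rw [map_sub, sub_eq_zero] at h1
      rw [← h1]; exact hz
  have hnil : IsNilpotent (RingHom.ker (fb : H' ⧸ K ^ 2 →+* B')) := by
    refine ⟨2, ?_⟩
    rw [hkerfb, ← Ideal.map_pow, Ideal.zero_eq_bot, Ideal.map_eq_bot_iff_le_ker, Ideal.mk_ker]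
  let s : B' →ₐ[Λ] H' ⧸ K ^ 2 :=
    Algebra.FormallySmooth.liftOfSurjective (AlgHom.id Λ B') fb hfbsurj hnil
  have hs : ∀ b, fb (s b) = b := fun b =>
    Algebra.FormallySmooth.liftOfSurjective_apply (AlgHom.id Λ B') fb hfbsurj hnil b
  have heq : Ideal.Quotient.mkₐ Λ (K ^ 2) = s.comp f := by
    apply Algebra.FormallyUnramified.ext' (fb : H' ⧸ K ^ 2 →+* B') hnil
    intro x
    change fb (Ideal.Quotient.mk _ x) = fb (s (f x))
    rw [hs, hfb]
  have hKK : K ≤ K • K := by
    intro x hx
    have h1 : Ideal.Quotient.mk (K ^ 2) x = s (f x) := DFunLike.congr_fun heq x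
    rw [(RingHom.mem_ker).mp hx, map_zero, Ideal.Quotient.eq_zero_iff_mem] at h1
    rwa [smul_eq_mul, ← sq]
  exact Submodule.eq_bot_of_le_smul_of_le_jacobson_bot K K hfg hKK hjac

section Main

variable {A : Type u} [CommRing A] (I : Ideal A) [HenselianRing A I]
  (R₀ : Type u) [CommRing R₀] [Algebra A R₀] [Algebra.FinitePresentation A R₀]
  (B : Type u) [CommRing B] [Algebra R₀ B] [Algebra A B] [IsScalarTower A R₀ B]

/-- **S17598.** -/
theorem exists_etale_hens_surjective
    (hB : Hens2.IsPairHenselization R₀ (I.map (algebraMap A R₀)) B)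
    (het : ∀ r : ℕ, 1 ≤ r → Algebra.Etale (A ⧸ I ^ r) (B ⧸ (I ^ r).map (algebraMap A B))) :
    ∃ (R : Type u) (_ : CommRing R) (_ : Algebra A R) (H : Type u) (_ : CommRing H) (_ : Algebra R H)
      (_ : Algebra A H) (_ : IsScalarTower A R H),
      Algebra.Etale A R ∧ Hens2.IsPairHenselization R (I.map (algebraMap A R)) H ∧
      ∃ φ : H →ₐ[A] B, Function.Surjective φ ∧ (RingHom.ker φ).FG ∧
        ∀ n : ℕ, RingHom.ker φ ≤ (I ^ n).map (algebraMap A H) := by
  have het1 : Algebra.Etale (A ⧸ I) (B ⧸ I.map (algebraMap A B)) := by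
    have := het 1 le_rfl
    rwa [pow_one] at this
  set J := I.map (algebraMap A B) with hJ
  haveI hBJ : HenselianRing B J := by
    have := hB.1
    rwa [Ideal.map_map, ← IsScalarTower.algebraMap_eq] at this
  obtain ⟨R, _, _, hRet, ψ, hψsurj, hψker, hψalg⟩ := exists_etale_lift_of_quotient I (B ⧸ J)
  have hτ : ∀ a, ψ (algebraMap A R a) = algebraMap A (B ⧸ J) a := by
    intro a
    rw [hψalg]; rfl
  let τ : R →ₐ[A] B ⧸ J := { ψ with commutes' := hτ }
  obtain ⟨g, hg, -⟩ := existsUnique_algHom_lift_of_etale R B J τ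
  have hgψ : ∀ r, Ideal.Quotient.mk J (g r) = ψ r := fun r => DFunLike.congr_fun hg r
  -- the henselization of `(R, IR)`
  let H := PairHens R (I.map (algebraMap A R))
  have hH : Hens2.IsPairHenselization R (I.map (algebraMap A R)) H :=
    PairHens.isPairHenselization _ _
  letI algAH : Algebra A H := ((algebraMap R H).comp (algebraMap A R)).toAlgebra
  haveI towARH : IsScalarTower A R H := IsScalarTower.of_algebraMap_eq (fun _ => rfl)
  obtain ⟨φ, hφ⟩ := exists_algHom_extension I hH g
  have hIH : (I.map (algebraMap A R)).map (algebraMap R H) = I.map (algebraMap A H) := by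
    rw [Ideal.map_map, ← IsScalarTower.algebraMap_eq]
  haveI hHhens : HenselianRing H (I.map (algebraMap A H)) := hIH ▸ hH.1
  -- `φ` maps `IH` into `J`
  have hφI : ∀ h ∈ I.map (algebraMap A H), φ h ∈ J := by
    intro h hh
    have := Ideal.mem_map_of_mem (φ : H →+* B) hh
    rw [Ideal.map_map] at this
    have h2 : (φ : H →+* B).comp (algebraMap A H) = algebraMap A B := by
      ext a; exact φ.commutes a
    rwa [h2] at this
  -- surjectivity and injectivity modulo `I`
  have hmod : ∀ b : B, ∃ r : R, b - g r ∈ J := by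
    intro b
    obtain ⟨r, hr⟩ := hψsurj (Ideal.Quotient.mk J b)
    refine ⟨r, ?_⟩
    rw [← Ideal.Quotient.eq, hgψ, hr]
  have hinjmod : ∀ h : H, φ h ∈ J → h ∈ I.map (algebraMap A H) := by
    intro h hh
    obtain ⟨r, hr⟩ := exists_sub_mem_map_of_isPairHenselization hH h
    rw [hIH] at hr
    have h1 : φ (h - algebraMap R H r) ∈ J := hφI _ hr
    rw [map_sub, hφ] at h1
    have h2 : g r ∈ J := by
      have := J.sub_mem hh h1
      rwa [sub_sub_cancel] at this
    have h3 : ψ r = 0 := by rw [← hgψ]; exact Ideal.Quotient.eq_zero_iff_mem.mpr h2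
    have h4 : r ∈ I.map (algebraMap A R) := by rw [← hψker]; exact h3
    have h5 : algebraMap R H r ∈ I.map (algebraMap A H) := by
      rw [← hIH]; exact Ideal.mem_map_of_mem _ h4
    have := Ideal.add_mem _ hr h5
    rwa [sub_add_cancel] at this
  -- `B` as an `H`-algebra
  letI algHB : Algebra H B := (φ : H →+* B).toAlgebra
  haveI towAHB : IsScalarTower A H B := IsScalarTower.of_algebraMap_eq (fun a => (φ.commutes a).symm)
  haveI : Algebra.FinitePresentation A R := Algebra.Etale.finitePresentation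
  obtain ⟨T, _, _, _, _, hTfp, hT⟩ :=
    exists_finitePresentation_of_algebra_hfp I R H R₀ B hH hB
  have hJH : (I.map (algebraMap A H)).map (algebraMap H B) = J := by
    rw [Ideal.map_map, ← IsScalarTower.algebraMap_eq]
  have hsurjq : Function.Surjective (Ideal.quotientMap ((I.map (algebraMap A H)).map
      (algebraMap H B)) (algebraMap H B) Ideal.le_comap_map) := by
    intro x
    obtain ⟨b, rfl⟩ := Ideal.Quotient.mk_surjective x
    obtain ⟨r, hr⟩ := hmod b
    refine ⟨Ideal.Quotient.mk _ (algebraMap R H r), ?_⟩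
    rw [Ideal.quotientMap_mk, Ideal.Quotient.eq, hJH]
    change φ (algebraMap R H r) - b ∈ J
    rw [hφ]
    have := J.neg_mem hr
    rwa [neg_sub] at this
  have hsurj : Function.Surjective (algebraMap H B) :=
    surjective_of_isPairHenselization_of_surjective (I.map (algebraMap A H)) T B hT hsurjq
  obtain ⟨-, hfpHB⟩ := finite_of_isPairHenselization_of_finite (I.map (algebraMap A H)) T B hT
    (RingHom.Finite.of_surjective _ hsurjq)
  have hkerfg : (RingHom.ker φ).FG :=
    Algebra.FinitePresentation.ker_fG_of_surjective (Algebra.ofId H B) hsurj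
  refine ⟨R, inferInstance, inferInstance, H, inferInstance, inferInstance, algAH, towARH, hRet,
    hH, φ, hsurj, hkerfg, ?_⟩
  intro n
  rcases Nat.eq_zero_or_pos n with rfl | hn
  · rw [pow_zero, Ideal.one_eq_top, Ideal.map_top]; exact le_top
  -- the case `n ≥ 1`
  haveI hetH : Algebra.Etale (A ⧸ I ^ n) (H ⧸ (I ^ n).map (algebraMap A H)) :=
    etale_quotient_pow I hH n
  haveI hetB : Algebra.Etale (A ⧸ I ^ n) (B ⧸ (I ^ n).map (algebraMap A B)) := het n hn
  have hle : (I ^ n).map (algebraMap A H) ≤ ((I ^ n).map (algebraMap A B)).comap (φ : H →+* B) := by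
    rw [Ideal.map_le_iff_le_comap]
    intro a ha
    rw [Ideal.mem_comap, Ideal.mem_comap]
    change φ (algebraMap A H a) ∈ _
    rw [φ.commutes]
    exact Ideal.mem_map_of_mem _ ha
  let φn₀ : H ⧸ (I ^ n).map (algebraMap A H) →+* B ⧸ (I ^ n).map (algebraMap A B) :=
    Ideal.quotientMap _ (φ : H →+* B) hle
  let φn : H ⧸ (I ^ n).map (algebraMap A H) →ₐ[A ⧸ I ^ n] B ⧸ (I ^ n).map (algebraMap A B) :=
    { φn₀ with
      commutes' := fun x => by
        obtain ⟨a, rfl⟩ := Ideal.Quotient.mk_surjective x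
        change φn₀ (Ideal.Quotient.mk _ (algebraMap A H a)) = Ideal.Quotient.mk _ (algebraMap A B a)
        rw [Ideal.quotientMap_mk]
        change Ideal.Quotient.mk _ (φ (algebraMap A H a)) = _
        rw [φ.commutes] }
  have hφn : ∀ h, φn (Ideal.Quotient.mk _ h) = Ideal.Quotient.mk _ (φ h) := fun h => rfl
  have hφnsurj : Function.Surjective φn := by
    intro y
    obtain ⟨b, rfl⟩ := Ideal.Quotient.mk_surjective y
    obtain ⟨h, rfl⟩ := hsurj b
    exact ⟨Ideal.Quotient.mk _ h, rfl⟩
  have hkerfgn : (RingHom.ker φn).FG :=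
    Algebra.FinitePresentation.ker_fG_of_surjective φn hφnsurj
  have hIn_le : (I ^ n).map (algebraMap A B) ≤ J := by
    apply Ideal.map_mono
    exact Ideal.pow_le_self (Nat.pos_iff_ne_zero.mp hn)
  have hjacn : RingHom.ker φn ≤ Ideal.jacobson ⊥ := by
    intro y hy
    obtain ⟨h, rfl⟩ := Ideal.Quotient.mk_surjective y
    rw [RingHom.mem_ker, hφn, Ideal.Quotient.eq_zero_iff_mem] at hy
    have hh : h ∈ I.map (algebraMap A H) := hinjmod h (hIn_le hy)
    -- `mk h` is nilpotent
    have hnil : IsNilpotent (Ideal.Quotient.mk ((I ^ n).map (algebraMap A H)) h) := by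
      refine ⟨n, ?_⟩
      rw [← map_pow, Ideal.Quotient.eq_zero_iff_mem, Ideal.map_pow]
      exact Ideal.pow_mem_pow hh n
    have h1 : Ideal.Quotient.mk ((I ^ n).map (algebraMap A H)) h ∈
        nilradical (H ⧸ (I ^ n).map (algebraMap A H)) := hnil
    have h2 : nilradical (H ⧸ (I ^ n).map (algebraMap A H)) ≤ Ideal.jacobson ⊥ := by
      rw [nilradical, Ideal.radical_eq_sInf]
      exact le_sInf (fun m hm => sInf_le ⟨hm.1, hm.2.isPrime⟩)
    exact h2 h1
  have hkerbot := ker_eq_bot_of_formallySmooth_of_le_jacobson φn hφnsurj hkerfgn hjacn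
  intro x hx
  have h1 : φn (Ideal.Quotient.mk _ x) = 0 := by
    rw [hφn, (RingHom.mem_ker).mp hx, map_zero]
  have h2 : Ideal.Quotient.mk ((I ^ n).map (algebraMap A H)) x ∈ RingHom.ker φn := h1
  rw [hkerbot, Ideal.mem_bot] at h2
  exact Ideal.Quotient.eq_zero_iff_mem.mp h2

end Main

end Groth.Agent.Lib.Helper3
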