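import Groth.Agent.Lib.Helper3.HEtale

/-!
# Flat h-étale maps (helper3)
-/

set_option autoImplicit false
set_option linter.unusedSectionVars false
set_option linter.style.haveILetI false

namespace Groth.Agent.Lib.Helper3

universe u

open Groth.Agent.Lib.Helper9 Groth.Agent.Lib.Helper9.Hens TensorProduct

/-- If `B = H/K` is flat over `A`, then `K ∩ IH ⊆ IK`. -/
theorem mem_smul_ker_of_flat {A : Type u} [CommRing A] (I : Ideal A) {H B : Type u} [CommRing H]
    [CommRing B] [Algebra A H] [Algebra A B] [Module.Flat A B] (φ : H →ₐ[A] B)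
    (hφ : Function.Surjective φ) (x : H) (hxK : x ∈ RingHom.ker φ)
    (hxI : x ∈ I.map (algebraMap A H)) : x ∈ I.map (algebraMap A H) • RingHom.ker φ := by
  let Km : Submodule A H := LinearMap.ker φ.toLinearMap
  have hinj : Function.Injective (Km.subtype.lTensor (A ⧸ I)) :=
    LinearMap.lTensor_injective_of_exact_of_flat φ.toLinearMap hφ Km.subtype
      Km.subtype_injective (LinearMap.exact_subtype_ker_map φ.toLinearMap) (A ⧸ I)
  let xK : Km := ⟨x, hxK⟩
  -- `1 ⊗ x = 0` in `(A/I) ⊗ H`
  have h1 : (1 : A ⧸ I) ⊗ₜ[A] x = 0 := by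
    apply (quotTensorEquivQuotSMul H I).injective
    rw [quotTensorEquivQuotSMul_mk_one_tmul, map_zero, Submodule.Quotient.mk_eq_zero,
      Ideal.smul_top_eq_map]
    exact hxI
  have h2 : (1 : A ⧸ I) ⊗ₜ[A] xK = 0 := by
    apply hinj
    rw [LinearMap.lTensor_tmul, map_zero]
    exact h1
  have h3 : xK ∈ I • (⊤ : Submodule A Km) := by
    have := congrArg (quotTensorEquivQuotSMul Km I) h2
    rwa [quotTensorEquivQuotSMul_mk_one_tmul, map_zero, Submodule.Quotient.mk_eq_zero] at this
  -- translate
  have h4 : ∀ y ∈ I • (⊤ : Submodule A Km), (y : H) ∈ I.map (algebraMap A H) • RingHom.ker φ := by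
    intro y hy
    refine Submodule.smul_induction_on hy ?_ ?_
    · intro i hi k _
      have : ((i • k : Km) : H) = algebraMap A H i • (k : H) := by
        rw [Submodule.coe_smul, Algebra.smul_def, smul_eq_mul]
      rw [this]
      exact Submodule.smul_mem_smul (Ideal.mem_map_of_mem _ hi) k.2
    · intro y z hy hz
      rw [Submodule.coe_add]
      exact Submodule.add_mem _ hy hz
  exact h4 xK h3

/-- A surjection onto a flat algebra with f.g. kernel contained in `IH ⊆ rad H` is injective. -/
theorem ker_eq_bot_of_flat_of_le_map {A : Type u} [CommRing A] (I : Ideal A) {H B : Type u}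
    [CommRing H] [CommRing B] [Algebra A H] [Algebra A B] [Module.Flat A B] (φ : H →ₐ[A] B)
    (hφ : Function.Surjective φ) (hfg : (RingHom.ker φ).FG)
    (hle : RingHom.ker φ ≤ I.map (algebraMap A H))
    (hjac : I.map (algebraMap A H) ≤ Ideal.jacobson ⊥) : RingHom.ker φ = ⊥ :=
  Submodule.eq_bot_of_le_smul_of_le_jacobson_bot (I.map (algebraMap A H)) (RingHom.ker φ) hfg
    (fun x hx => mem_smul_ker_of_flat I φ hφ x hx (hle hx)) hjac

section Main

variable {A : Type u} [CommRing A] (I : Ideal A) [HenselianRing A I]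
  (R₀ : Type u) [CommRing R₀] [Algebra A R₀] [Algebra.FinitePresentation A R₀]
  (B : Type u) [CommRing B] [Algebra R₀ B] [Algebra A B] [IsScalarTower A R₀ B]

/-- **S17600.** -/
theorem exists_etale_isPairHenselization_of_flat
    (hB : Hens2.IsPairHenselization R₀ (I.map (algebraMap A R₀)) B) [Module.Flat A B]
    (het : ∀ r : ℕ, 1 ≤ r → Algebra.Etale (A ⧸ I ^ r) (B ⧸ (I ^ r).map (algebraMap A B))) :
    ∃ (R : Type u) (_ : CommRing R) (_ : Algebra A R) (_ : Algebra R B) (_ : IsScalarTower A R B),
      Algebra.Etale A R ∧ Hens2.IsPairHenselization R (I.map (algebraMap A R)) B := by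
  obtain ⟨R, _, _, H, _, _, _, _, hRet, hH, φ, hφsurj, hφfg, hφle⟩ :=
    exists_etale_hens_surjective I R₀ B hB het
  have hIH : (I.map (algebraMap A R)).map (algebraMap R H) = I.map (algebraMap A H) := by
    rw [Ideal.map_map, ← IsScalarTower.algebraMap_eq]
  have hjac : I.map (algebraMap A H) ≤ Ideal.jacobson ⊥ := hIH ▸ hH.1.jac
  have hker : RingHom.ker φ = ⊥ :=
    ker_eq_bot_of_flat_of_le_map I φ hφsurj hφfg (by simpa using hφle 1) hjac
  have hinj : Function.Injective φ := (RingHom.injective_iff_ker_eq_bot (φ : H →+* B)).mpr hker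
  letI algRB : Algebra R B := ((φ : H →+* B).comp (algebraMap R H)).toAlgebra
  haveI towARB : IsScalarTower A R B := IsScalarTower.of_algebraMap_eq (fun a => by
    change algebraMap A B a = φ (algebraMap R H (algebraMap A R a))
    rw [← IsScalarTower.algebraMap_apply A R H, φ.commutes])
  let e : H ≃ₐ[R] B :=
    { RingEquiv.ofBijective (φ : H →+* B) ⟨hinj, hφsurj⟩ with
      commutes' := fun r => rfl }
  exact ⟨R, inferInstance, inferInstance, algRB, towARB, hRet,
    isPairHenselization_of_algEquiv e hH⟩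

end Main

end Groth.Agent.Lib.Helper3
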