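import Groth.Agent.Lib.Helper9.Hens.PairEtale

/-!
# h-formally étale / smooth maps of Henselian pairs (helper3)
-/

set_option autoImplicit false
set_option linter.style.haveILetI false

namespace Groth.Agent.Lib.Helper3

universe u

section QuotHom

variable {A : Type u} [CommRing A] (J : Ideal A) {B : Type u} [CommRing B] [Algebra A B]
  {E : Type u} [CommRing E] [Algebra A E] [Algebra (A ⧸ J) E] [IsScalarTower A (A ⧸ J) E]

/-- Restrict an `A/J`-algebra map `B/JB → E` to an `A`-algebra map `B → E`. -/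
noncomputable def quotToB (φ : (B ⧸ J.map (algebraMap A B)) →ₐ[A ⧸ J] E) : B →ₐ[A] E :=
  (φ.restrictScalars A).comp (Ideal.Quotient.mkₐ A _)

theorem quotToB_apply (φ : (B ⧸ J.map (algebraMap A B)) →ₐ[A ⧸ J] E) (b : B) :
    quotToB J φ b = φ (Ideal.Quotient.mk _ b) := rfl

theorem quotToB_injective : Function.Injective (quotToB J (B := B) (E := E)) := by
  intro φ ψ h
  ext x
  obtain ⟨b, rfl⟩ := Ideal.Quotient.mk_surjective x
  exact DFunLike.congr_fun h b

theorem quotToB_surjective : Function.Surjective (quotToB J (B := B) (E := E)) := by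
  intro v
  have hker : ∀ x ∈ J.map (algebraMap A B), (v : B →+* E) x = 0 := by
    intro x hx
    have hle : J.map (algebraMap A B) ≤ RingHom.ker (v : B →+* E) := by
      rw [Ideal.map_le_iff_le_comap]
      intro a ha
      rw [Ideal.mem_comap, RingHom.mem_ker]
      change v (algebraMap A B a) = 0
      rw [v.commutes, IsScalarTower.algebraMap_apply A (A ⧸ J) E,
        Ideal.Quotient.algebraMap_eq, Ideal.Quotient.eq_zero_iff_mem.mpr ha, map_zero]
    exact hle hx
  let φ₀ : (B ⧸ J.map (algebraMap A B)) →+* E := Ideal.Quotient.lift _ (v : B →+* E) hker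
  let φ : (B ⧸ J.map (algebraMap A B)) →ₐ[A ⧸ J] E :=
    { φ₀ with
      commutes' := fun x => by
        obtain ⟨a, rfl⟩ := Ideal.Quotient.mk_surjective x
        change v (algebraMap A B a) = _
        rw [v.commutes, IsScalarTower.algebraMap_apply A (A ⧸ J) E]
        rfl }
  refine ⟨φ, ?_⟩
  ext b
  rfl

end QuotHom

section Lift

variable {A : Type u} [CommRing A] (J : Ideal A) {B : Type u} [CommRing B] [Algebra A B]

/-- Existence of lifts from formal smoothness of `A/J → B/JB`. -/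
theorem exists_lift_of_formallySmooth_quotient
    [Algebra.FormallySmooth (A ⧸ J) (B ⧸ J.map (algebraMap A B))]
    (E C : Type u) [CommRing E] [CommRing C] [Algebra A E] [Algebra A C]
    (hE : J.map (algebraMap A E) = ⊥) (hC : J.map (algebraMap A C) = ⊥)
    (p : E →ₐ[A] C) (hp : Function.Surjective p) (hnil : IsNilpotent (RingHom.ker p))
    (u : B →ₐ[A] C) : ∃ v : B →ₐ[A] E, p.comp v = u := by
  have hE' : ∀ a ∈ J, algebraMap A E a = 0 := fun a ha => by
    have : algebraMap A E a ∈ J.map (algebraMap A E) := Ideal.mem_map_of_mem _ ha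
    rwa [hE] at this
  have hC' : ∀ a ∈ J, algebraMap A C a = 0 := fun a ha => by
    have : algebraMap A C a ∈ J.map (algebraMap A C) := Ideal.mem_map_of_mem _ ha
    rwa [hC] at this
  letI algE : Algebra (A ⧸ J) E := (Ideal.Quotient.lift J (algebraMap A E) hE').toAlgebra
  letI algC : Algebra (A ⧸ J) C := (Ideal.Quotient.lift J (algebraMap A C) hC').toAlgebra
  haveI : IsScalarTower A (A ⧸ J) E := IsScalarTower.of_algebraMap_eq (fun _ => rfl)
  haveI : IsScalarTower A (A ⧸ J) C := IsScalarTower.of_algebraMap_eq (fun _ => rfl)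
  let p' : E →ₐ[A ⧸ J] C :=
    { (p : E →+* C) with
      commutes' := fun x => by
        obtain ⟨a, rfl⟩ := Ideal.Quotient.mk_surjective x
        exact p.commutes a }
  obtain ⟨ū, rfl⟩ := quotToB_surjective J u
  have hnil' : IsNilpotent (RingHom.ker (p' : E →+* C)) := hnil
  refine ⟨quotToB J (Algebra.FormallySmooth.liftOfSurjective ū p' hp hnil'), ?_⟩
  ext b
  exact Algebra.FormallySmooth.liftOfSurjective_apply ū p' hp hnil' (Ideal.Quotient.mk _ b)

/-- Uniqueness of lifts from formal unramifiedness of `A/J → B/JB`. -/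
theorem lift_unique_of_formallyUnramified_quotient
    [Algebra.FormallyUnramified (A ⧸ J) (B ⧸ J.map (algebraMap A B))]
    (E C : Type u) [CommRing E] [CommRing C] [Algebra A E] [Algebra A C]
    (hE : J.map (algebraMap A E) = ⊥)
    (p : E →ₐ[A] C) (hnil : IsNilpotent (RingHom.ker p))
    (v₁ v₂ : B →ₐ[A] E) (h : p.comp v₁ = p.comp v₂) : v₁ = v₂ := by
  have hE' : ∀ a ∈ J, algebraMap A E a = 0 := fun a ha => by
    have : algebraMap A E a ∈ J.map (algebraMap A E) := Ideal.mem_map_of_mem _ ha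
    rwa [hE] at this
  letI algE : Algebra (A ⧸ J) E := (Ideal.Quotient.lift J (algebraMap A E) hE').toAlgebra
  haveI : IsScalarTower A (A ⧸ J) E := IsScalarTower.of_algebraMap_eq (fun _ => rfl)
  obtain ⟨w₁, rfl⟩ := quotToB_surjective J v₁
  obtain ⟨w₂, rfl⟩ := quotToB_surjective J v₂
  congr 1
  apply Algebra.FormallyUnramified.ext' (p : E →+* C) hnil w₁ w₂
  intro x
  obtain ⟨b, rfl⟩ := Ideal.Quotient.mk_surjective x
  exact DFunLike.congr_fun h b

/-- Formal smoothness of `A/J → B/JB` from existence of lifts along square-zero extensions of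
`A`-algebras killed by `J`. -/
theorem formallySmooth_quotient_of_lift
    (h : ∀ (E : Type u) [CommRing E] [Algebra A E] (K : Ideal E), J.map (algebraMap A E) = ⊥ →
      K ^ 2 = ⊥ → ∀ u : B →ₐ[A] E ⧸ K, ∃ v : B →ₐ[A] E, (Ideal.Quotient.mkₐ A K).comp v = u) :
    Algebra.FormallySmooth (A ⧸ J) (B ⧸ J.map (algebraMap A B)) := by
  rw [Algebra.FormallySmooth.iff_comp_surjective]
  intro E _ _ K hK
  letI algE : Algebra A E := ((algebraMap (A ⧸ J) E).comp (Ideal.Quotient.mk J)).toAlgebra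
  haveI : IsScalarTower A (A ⧸ J) E := IsScalarTower.of_algebraMap_eq (fun _ => rfl)
  have hE : J.map (algebraMap A E) = ⊥ := by
    rw [eq_bot_iff, Ideal.map_le_iff_le_comap]
    intro a ha
    rw [Ideal.mem_comap, Ideal.mem_bot]
    change algebraMap (A ⧸ J) E (Ideal.Quotient.mk J a) = 0
    rw [Ideal.Quotient.eq_zero_iff_mem.mpr ha, map_zero]
  intro ū
  obtain ⟨v, hv⟩ := h E K hE hK (quotToB J ū)
  obtain ⟨w, rfl⟩ := quotToB_surjective J v
  refine ⟨w, ?_⟩
  apply quotToB_injective J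
  ext b
  exact DFunLike.congr_fun hv b

/-- Formal unramifiedness of `A/J → B/JB` from uniqueness of lifts. -/
theorem formallyUnramified_quotient_of_lift_unique
    (h : ∀ (E : Type u) [CommRing E] [Algebra A E] (K : Ideal E), J.map (algebraMap A E) = ⊥ →
      K ^ 2 = ⊥ → ∀ v₁ v₂ : B →ₐ[A] E,
        (Ideal.Quotient.mkₐ A K).comp v₁ = (Ideal.Quotient.mkₐ A K).comp v₂ → v₁ = v₂) :
    Algebra.FormallyUnramified (A ⧸ J) (B ⧸ J.map (algebraMap A B)) := by
  rw [Algebra.FormallyUnramified.iff_comp_injective]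
  intro E _ _ K hK
  letI algE : Algebra A E := ((algebraMap (A ⧸ J) E).comp (Ideal.Quotient.mk J)).toAlgebra
  haveI : IsScalarTower A (A ⧸ J) E := IsScalarTower.of_algebraMap_eq (fun _ => rfl)
  have hE : J.map (algebraMap A E) = ⊥ := by
    rw [eq_bot_iff, Ideal.map_le_iff_le_comap]
    intro a ha
    rw [Ideal.mem_comap, Ideal.mem_bot]
    change algebraMap (A ⧸ J) E (Ideal.Quotient.mk J a) = 0
    rw [Ideal.Quotient.eq_zero_iff_mem.mpr ha, map_zero]
  intro w₁ w₂ hw
  apply quotToB_injective J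
  apply h E K hE hK
  ext b
  exact DFunLike.congr_fun hw (Ideal.Quotient.mk _ b)

end Lift

section Main

open Groth.Agent.Lib.Helper9.Hens

variable {A : Type u} [CommRing A] (I : Ideal A) {R₀ : Type u} [CommRing R₀] [Algebra A R₀]
  [Algebra.FinitePresentation A R₀]
  {B : Type u} [CommRing B] [Algebra R₀ B] [Algebra A B] [IsScalarTower A R₀ B]

theorem finitePresentation_quotient_pow
    (hB : Hens2.IsPairHenselization R₀ (I.map (algebraMap A R₀)) B) (r : ℕ) :
    Algebra.FinitePresentation (A ⧸ I ^ r) (B ⧸ (I ^ r).map (algebraMap A B)) := by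
  obtain ⟨e⟩ := nonempty_algEquiv_quotient_pow I hB r
  haveI : Algebra.FinitePresentation (A ⧸ I ^ r) (R₀ ⧸ (I ^ r).map (algebraMap A R₀)) :=
    Algebra.FinitePresentation.equiv
      (Algebra.TensorProduct.quotIdealMapEquivQuotTensor R₀ (I ^ r)).symm
  exact Algebra.FinitePresentation.equiv e

omit [Algebra.FinitePresentation A R₀] [Algebra R₀ B] [IsScalarTower A R₀ B] in
theorem map_quotient_eq_bot {E : Type u} [CommRing E] [Algebra A E] (J : Ideal A) (K : Ideal E)
    (hE : J.map (algebraMap A E) = ⊥) : J.map (algebraMap A (E ⧸ K)) = ⊥ := by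
  have : algebraMap A (E ⧸ K) = (Ideal.Quotient.mk K).comp (algebraMap A E) := rfl
  rw [this, ← Ideal.map_map, hE, Ideal.map_bot]

omit [Algebra.FinitePresentation A R₀] [Algebra R₀ B] [IsScalarTower A R₀ B] in
theorem ker_mkₐ_pow_two {E : Type u} [CommRing E] [Algebra A E] (K : Ideal E) (hK : K ^ 2 = ⊥) :
    RingHom.ker (Ideal.Quotient.mkₐ A K) ^ 2 = ⊥ := by
  have : RingHom.ker (Ideal.Quotient.mkₐ A K) = K := by
    ext x
    rw [RingHom.mem_ker]
    exact Ideal.Quotient.eq_zero_iff_mem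
  rw [this, hK]

/-- **S17610**: h-formally étale iff étale modulo all powers of `I`. -/
theorem hFormallyEtale_iff (hB : Hens2.IsPairHenselization R₀ (I.map (algebraMap A R₀)) B) :
    (∀ (E C : Type u) [CommRing E] [CommRing C] [Algebra A E] [Algebra A C] (N : ℕ), 1 ≤ N →
        (I ^ N).map (algebraMap A E) = ⊥ → (I ^ N).map (algebraMap A C) = ⊥ →
        ∀ (p : E →ₐ[A] C), Function.Surjective p → (∃ M : ℕ, 1 ≤ M ∧ RingHom.ker p ^ M = ⊥) →
        ∀ u : B →ₐ[A] C, ∃! v : B →ₐ[A] E, p.comp v = u) ↔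
    ∀ r : ℕ, 1 ≤ r → Algebra.Etale (A ⧸ I ^ r) (B ⧸ (I ^ r).map (algebraMap A B)) := by
  constructor
  · intro hlift r hr
    have hsm : Algebra.FormallySmooth (A ⧸ I ^ r) (B ⧸ (I ^ r).map (algebraMap A B)) :=
      formallySmooth_quotient_of_lift (I ^ r) (fun E _ _ K hE hK u =>
        (hlift E (E ⧸ K) r hr hE (map_quotient_eq_bot (I ^ r) K hE) (Ideal.Quotient.mkₐ A K)
          (Ideal.Quotient.mkₐ_surjective A K)
          ⟨2, by norm_num, ker_mkₐ_pow_two K hK⟩ u).exists)
    have hun : Algebra.FormallyUnramified (A ⧸ I ^ r) (B ⧸ (I ^ r).map (algebraMap A B)) :=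
      formallyUnramified_quotient_of_lift_unique (I ^ r) (fun E _ _ K hE hK v₁ v₂ h =>
        (hlift E (E ⧸ K) r hr hE (map_quotient_eq_bot (I ^ r) K hE) (Ideal.Quotient.mkₐ A K)
          (Ideal.Quotient.mkₐ_surjective A K)
          ⟨2, by norm_num, ker_mkₐ_pow_two K hK⟩
          ((Ideal.Quotient.mkₐ A K).comp v₂)).unique h rfl)
    have hfe : Algebra.FormallyEtale (A ⧸ I ^ r) (B ⧸ (I ^ r).map (algebraMap A B)) :=
      Algebra.FormallyEtale.iff_formallyUnramified_and_formallySmooth.mpr ⟨hun, hsm⟩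
    exact ⟨hfe, finitePresentation_quotient_pow I hB r⟩
  · intro het E C _ _ _ _ N hN hE hC p hp hM u
    obtain ⟨M, -, hker⟩ := hM
    haveI := het N hN
    have hnil : IsNilpotent (RingHom.ker p) := ⟨M, hker⟩
    obtain ⟨v, hv⟩ := exists_lift_of_formallySmooth_quotient (I ^ N) E C hE hC p hp hnil u
    exact ⟨v, hv, fun v' hv' => lift_unique_of_formallyUnramified_quotient (I ^ N) E C hE p hnil
      v' v (hv'.trans hv.symm)⟩

/-- **S17611**: h-formally smooth iff smooth modulo all powers of `I`. -/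
theorem hFormallySmooth_iff (hB : Hens2.IsPairHenselization R₀ (I.map (algebraMap A R₀)) B) :
    (∀ (E C : Type u) [CommRing E] [CommRing C] [Algebra A E] [Algebra A C] (N : ℕ), 1 ≤ N →
        (I ^ N).map (algebraMap A E) = ⊥ → (I ^ N).map (algebraMap A C) = ⊥ →
        ∀ (p : E →ₐ[A] C), Function.Surjective p → (∃ M : ℕ, 1 ≤ M ∧ RingHom.ker p ^ M = ⊥) →
        ∀ u : B →ₐ[A] C, ∃ v : B →ₐ[A] E, p.comp v = u) ↔
    ∀ r : ℕ, 1 ≤ r → Algebra.Smooth (A ⧸ I ^ r) (B ⧸ (I ^ r).map (algebraMap A B)) := by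
  constructor
  · intro hlift r hr
    have hsm : Algebra.FormallySmooth (A ⧸ I ^ r) (B ⧸ (I ^ r).map (algebraMap A B)) :=
      formallySmooth_quotient_of_lift (I ^ r) (fun E _ _ K hE hK u =>
        hlift E (E ⧸ K) r hr hE (map_quotient_eq_bot (I ^ r) K hE) (Ideal.Quotient.mkₐ A K)
          (Ideal.Quotient.mkₐ_surjective A K)
          ⟨2, by norm_num, ker_mkₐ_pow_two K hK⟩ u)
    exact ⟨hsm, finitePresentation_quotient_pow I hB r⟩
  · intro het E C _ _ _ _ N hN hE hC p hp hM u
    obtain ⟨M, -, hker⟩ := hM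
    haveI := het N hN
    have hnil : IsNilpotent (RingHom.ker p) := ⟨M, hker⟩
    exact exists_lift_of_formallySmooth_quotient (I ^ N) E C hE hC p hp hnil u

end Main

end Groth.Agent.Lib.Helper3
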