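import Groth.Agent.Lib.Helper3.HensTensorAt
import Groth.Agent.S0501
import Groth.Agent.S0509
import Mathlib

set_option autoImplicit false
set_option linter.style.haveILetI false
set_option linter.unusedSectionVars false
universe u

open TensorProduct IsLocalRing Polynomial

namespace Groth.Agent.Lib.Helper3

theorem residueLift_aux₁ {S : Type*} [CommRing S] (q : Ideal S) {T : Type*}
    [CommRing T] [IsLocalRing T] (g : S →+* T) (hg : (maximalIdeal T).comap g = q) :
    q ≤ RingHom.ker ((residue T).comp g) := by
  intro s hs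
  rw [← hg, Ideal.mem_comap] at hs
  rw [RingHom.mem_ker, RingHom.comp_apply]
  exact (residue_eq_zero_iff _).mpr hs

theorem residueLift_aux₂ {S : Type*} [CommRing S] (q : Ideal S) [q.IsPrime] {T : Type*}
    [CommRing T] [IsLocalRing T] (g : S →+* T) (hg : (maximalIdeal T).comap g = q) :
    q.primeCompl ≤ (IsUnit.submonoid (ResidueField T)).comap ((residue T).comp g) := by
  intro s hs
  have hs' : s ∉ q := hs
  rw [← hg, Ideal.mem_comap, mem_maximalIdeal, mem_nonunits_iff, not_not] at hs'
  exact hs'.map (residue T)

/-- The map on residue fields `κ(q) → κ(T)` induced by a ring map `g : S → T` into a local ring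
under which the maximal ideal pulls back to `q`. -/
noncomputable def residueLift {S : Type*} [CommRing S] (q : Ideal S) [q.IsPrime] {T : Type*}
    [CommRing T] [IsLocalRing T] (g : S →+* T) (hg : (maximalIdeal T).comap g = q) :
    q.ResidueField →+* ResidueField T :=
  Ideal.ResidueField.lift q ((residue T).comp g) (residueLift_aux₁ q g hg)
    (residueLift_aux₂ q g hg)

@[simp]
theorem residueLift_algebraMap {S : Type*} [CommRing S] (q : Ideal S) [q.IsPrime] {T : Type*}
    [CommRing T] [IsLocalRing T] (g : S →+* T) (hg : (maximalIdeal T).comap g = q) (s : S) :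
    residueLift q g hg (algebraMap S q.ResidueField s) = residue T (g s) := by
  unfold residueLift
  rw [Ideal.ResidueField.lift_algebraMap]
  rfl

/-- Existence and uniqueness of maps from residually trivial étale neighbourhoods to henselian
local rings. -/
theorem existsUnique_algHom_comap_eq {R : Type u} [CommRing R] (p : Ideal R) [p.IsPrime]
    (T : Type u) [CommRing T] [HenselianLocalRing T] [Algebra R T]
    (hT : (maximalIdeal T).comap (algebraMap R T) = p)
    (S : Type u) [CommRing S] [Algebra R S] [Algebra.Etale R S] (q : Ideal S) [q.IsPrime]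
    (hq : p = q.comap (algebraMap R S))
    (hbij : Function.Bijective (Ideal.ResidueField.map p q (algebraMap R S) hq)) :
    ∃! f : S →ₐ[R] T, (maximalIdeal T).comap f.toRingHom = q := by
  let e : p.ResidueField ≃+* q.ResidueField := RingEquiv.ofBijective _ hbij
  let τ : q.ResidueField →+* ResidueField T :=
    (residueLift p (algebraMap R T) hT).comp (e.symm : q.ResidueField →+* p.ResidueField)
  have he : ∀ r : R, e (algebraMap R p.ResidueField r) = algebraMap R q.ResidueField r := by
    intro r
    change Ideal.ResidueField.map p q (algebraMap R S) hq (algebraMap R p.ResidueField r) = _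
    rw [Ideal.ResidueField.map_algebraMap, ← IsScalarTower.algebraMap_apply]
  have hτ : τ.comp (algebraMap R q.ResidueField) = (residue T).comp (algebraMap R T) := by
    ext r
    change residueLift p (algebraMap R T) hT (e.symm (algebraMap R q.ResidueField r)) = _
    rw [← he, e.symm_apply_apply, residueLift_algebraMap]
    rfl
  obtain ⟨f, ⟨hf1, hf2⟩, huniq⟩ := Groth.Agent.S0501.result R T S q τ hτ
  refine ⟨f, hf1, ?_⟩
  intro f' hf'
  apply huniq
  refine ⟨hf', ?_⟩
  have key : residueLift q f'.toRingHom hf' = τ := by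
    have hsurj : Function.Surjective (e : p.ResidueField →+* q.ResidueField) := e.surjective
    rw [← RingHom.cancel_right hsurj]
    apply Ideal.ResidueField.ringHom_ext
    ext r
    change residueLift q f'.toRingHom hf' (e (algebraMap R p.ResidueField r)) =
      τ (e (algebraMap R p.ResidueField r))
    rw [he, ← RingHom.comp_apply τ, hτ, IsScalarTower.algebraMap_apply R S q.ResidueField,
      residueLift_algebraMap]
    change residue T (f' (algebraMap R S r)) = residue T (algebraMap R T r)
    rw [f'.commutes]
  intro a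
  rw [← key, residueLift_algebraMap]
  rfl

section Rep

variable (R : Type u) [CommRing R] (Rh : Type u) [CommRing Rh] [Algebra R Rh]

/-- `x` lies in the image of an étale `R`-algebra. -/
def IsEtRep (x : Rh) : Prop :=
  ∃ (S : Type u) (_ : CommRing S) (_ : Algebra R S) (_ : Algebra.Etale R S) (f : S →ₐ[R] Rh),
    x ∈ f.range

variable {R Rh}

theorem isEtRep_algebraMap (r : R) : IsEtRep R Rh (algebraMap R Rh r) :=
  ⟨R, inferInstance, inferInstance, inferInstance, Algebra.ofId R Rh, r, rfl⟩

theorem IsEtRep.of_tower (S : Type u) [CommRing S] [Algebra R S] [Algebra.Etale R S]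
    (f : S →ₐ[R] Rh) (B : Type u) [CommRing B] [Algebra S B] [Algebra.Etale S B] (g : B →+* Rh)
    (hg : g.comp (algebraMap S B) = f.toRingHom) (b : B) : IsEtRep R Rh (g b) := by
  letI : Algebra R B := ((algebraMap S B).comp (algebraMap R S)).toAlgebra
  haveI : IsScalarTower R S B := .of_algebraMap_eq (fun _ => rfl)
  haveI : Algebra.Etale R B := Algebra.Etale.comp R S B
  let g' : B →ₐ[R] Rh :=
    { g with
      commutes' := fun r => by
        change g (algebraMap S B (algebraMap R S r)) = _
        rw [← RingHom.comp_apply, hg]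
        exact f.commutes r }
  exact ⟨B, inferInstance, inferInstance, inferInstance, g', b, rfl⟩

theorem exists_common_etRep (t : Finset Rh) (ht : ∀ x ∈ t, IsEtRep R Rh x) :
    ∃ (S : Type u) (_ : CommRing S) (_ : Algebra R S) (_ : Algebra.Etale R S) (f : S →ₐ[R] Rh),
      ∀ x ∈ t, x ∈ f.range := by
  classical
  induction t using Finset.induction_on with
  | empty =>
    exact ⟨R, inferInstance, inferInstance, inferInstance, Algebra.ofId R Rh, by simp⟩
  | insert a t _ ih =>
    obtain ⟨S₁, _, _, _, f₁, s₁, hs₁⟩ := ht a (Finset.mem_insert_self a t)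
    obtain ⟨S₂, _, _, _, f₂, h₂⟩ := ih (fun x hx => ht x (Finset.mem_insert_of_mem hx))
    haveI : Algebra.Etale R (S₁ ⊗[R] S₂) := Algebra.Etale.comp R S₁ (S₁ ⊗[R] S₂)
    refine ⟨S₁ ⊗[R] S₂, inferInstance, inferInstance, inferInstance,
      Algebra.TensorProduct.productMap f₁ f₂, ?_⟩
    intro x hx
    rcases Finset.mem_insert.mp hx with rfl | hx
    · exact ⟨s₁ ⊗ₜ 1, by simpa using hs₁⟩
    · obtain ⟨s₂, hs₂⟩ := h₂ x hx
      exact ⟨1 ⊗ₜ s₂, by simpa using hs₂⟩

theorem IsEtRep.add {x y : Rh} (hx : IsEtRep R Rh x) (hy : IsEtRep R Rh y) :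
    IsEtRep R Rh (x + y) := by
  classical
  obtain ⟨S, _, _, _, f, hf⟩ := exists_common_etRep ({x, y} : Finset Rh) (by
    intro z hz
    rcases Finset.mem_insert.mp hz with rfl | hz
    · exact hx
    · rw [Finset.mem_singleton] at hz; exact hz ▸ hy)
  exact ⟨S, inferInstance, inferInstance, inferInstance, f,
    f.range.add_mem (hf x (by simp)) (hf y (by simp))⟩

theorem IsEtRep.mul {x y : Rh} (hx : IsEtRep R Rh x) (hy : IsEtRep R Rh y) :
    IsEtRep R Rh (x * y) := by
  classical
  obtain ⟨S, _, _, _, f, hf⟩ := exists_common_etRep ({x, y} : Finset Rh) (by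
    intro z hz
    rcases Finset.mem_insert.mp hz with rfl | hz
    · exact hx
    · rw [Finset.mem_singleton] at hz; exact hz ▸ hy)
  exact ⟨S, inferInstance, inferInstance, inferInstance, f,
    f.range.mul_mem (hf x (by simp)) (hf y (by simp))⟩

theorem IsEtRep.neg {x : Rh} (hx : IsEtRep R Rh x) : IsEtRep R Rh (-x) := by
  obtain ⟨S, _, _, _, f, hf⟩ := hx
  exact ⟨S, inferInstance, inferInstance, inferInstance, f, f.range.neg_mem hf⟩

theorem IsEtRep.of_mul_eq_one {x y : Rh} (hx : IsEtRep R Rh x) (hxy : x * y = 1) :
    IsEtRep R Rh y := by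
  obtain ⟨S, _, _, _, f, s, rfl⟩ := hx
  have hu : IsUnit (f.toRingHom s) := IsUnit.of_mul_eq_one _ hxy
  let g : Localization.Away s →+* Rh := IsLocalization.Away.lift s hu
  have hg : g.comp (algebraMap S (Localization.Away s)) = f.toRingHom :=
    IsLocalization.Away.lift_comp s hu
  have h1 : f s * g (IsLocalization.Away.invSelf s) = 1 := by
    have : g (algebraMap S (Localization.Away s) s) = f s := DFunLike.congr_fun hg s
    rw [← this, ← map_mul, IsLocalization.Away.mul_invSelf, map_one]
  have h2 : y = g (IsLocalization.Away.invSelf s) := by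
    have hu' : IsUnit (f s) := hu
    apply hu'.mul_left_cancel
    rw [h1]
    exact hxy
  rw [h2]
  exact IsEtRep.of_tower S f (Localization.Away s) g hg _

variable (R Rh)

/-- The subring of elements in the image of some étale `R`-algebra. -/
def etRepSubring : Subring Rh where
  carrier := {x | IsEtRep R Rh x}
  mul_mem' := IsEtRep.mul
  one_mem' := by simpa using isEtRep_algebraMap (R := R) (Rh := Rh) 1
  add_mem' := IsEtRep.add
  zero_mem' := by simpa using isEtRep_algebraMap (R := R) (Rh := Rh) 0
  neg_mem' := IsEtRep.neg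

theorem mem_etRepSubring {x : Rh} : x ∈ etRepSubring R Rh ↔ IsEtRep R Rh x := Iff.rfl

end Rep

section SubringHens

variable {R : Type u} [CommRing R] {Rh : Type u} [CommRing Rh] [Algebra R Rh]

theorem isUnit_etRepSubring_iff (a : etRepSubring R Rh) : IsUnit a ↔ IsUnit (a : Rh) := by
  constructor
  · intro h
    exact h.map (etRepSubring R Rh).subtype
  · intro h
    obtain ⟨y, hy⟩ := h.exists_right_inv
    have hy' : y ∈ etRepSubring R Rh := IsEtRep.of_mul_eq_one a.2 hy
    exact IsUnit.of_mul_eq_one ⟨y, hy'⟩ (Subtype.ext hy)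

instance isLocalRing_etRepSubring [IsLocalRing Rh] : IsLocalRing (etRepSubring R Rh) := by
  refine IsLocalRing.of_isUnit_or_isUnit_one_sub_self fun a => ?_
  rcases IsLocalRing.isUnit_or_isUnit_one_sub_self (a : Rh) with h | h
  · exact Or.inl ((isUnit_etRepSubring_iff a).mpr h)
  · exact Or.inr ((isUnit_etRepSubring_iff (1 - a)).mpr h)

theorem mem_maximalIdeal_etRepSubring_iff [IsLocalRing Rh] (a : etRepSubring R Rh) :
    a ∈ maximalIdeal (etRepSubring R Rh) ↔ (a : Rh) ∈ maximalIdeal Rh := by
  rw [mem_maximalIdeal, mem_maximalIdeal, mem_nonunits_iff, mem_nonunits_iff,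
    isUnit_etRepSubring_iff]

theorem henselianLocalRing_etRepSubring [HenselianLocalRing Rh] :
    HenselianLocalRing (etRepSubring R Rh) := by
  refine { isLocalRing_etRepSubring with is_henselian := ?_ }
  intro F hF a₀ h₁ h₂
  let ι : etRepSubring R Rh →+* Rh := (etRepSubring R Rh).subtype
  have hι : ∀ a : etRepSubring R Rh, ι a = (a : Rh) := fun _ => rfl
  have h₁' : (F.map ι).eval (ι a₀) ∈ maximalIdeal Rh := by
    rw [Polynomial.eval_map, Polynomial.eval₂_hom, hι, ← mem_maximalIdeal_etRepSubring_iff]
    exact h₁
  have h₂' : IsUnit ((F.map ι).derivative.eval (ι a₀)) := by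
    rw [Polynomial.derivative_map, Polynomial.eval_map, Polynomial.eval₂_hom]
    exact h₂.map ι
  obtain ⟨a, ha, haa₀⟩ := HenselianLocalRing.is_henselian (F.map ι) (hF.map ι) (ι a₀) h₁' h₂'
  -- the root `a` comes from an étale algebra
  have haA : a ∈ etRepSubring R Rh := by
    change IsEtRep R Rh a
    classical
    obtain ⟨S, _, _, _, f, hf⟩ := exists_common_etRep (insert (ι a₀) (F.map ι).coeffs) (by
      intro x hx
      rcases Finset.mem_insert.mp hx with rfl | hx
      · exact a₀.2
      · rw [Polynomial.mem_coeffs_iff] at hx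
        obtain ⟨n, -, rfl⟩ := hx
        rw [Polynomial.coeff_map]
        exact (F.coeff n).2)
    have hlifts : F.map ι ∈ Polynomial.lifts f.toRingHom := by
      rw [Polynomial.lifts_iff_coeffs_subset_range]
      intro x hx
      exact hf x (Finset.mem_insert_of_mem hx)
    obtain ⟨G, hG, -, hGm⟩ := Polynomial.lifts_and_natDegree_eq_and_monic hlifts (hF.map ι)
    let P : StandardEtalePair S := ⟨G, hGm, derivative G, ⟨1, 0, 1, by simp⟩⟩
    letI : Algebra S Rh := f.toRingHom.toAlgebra
    have hev : ∀ H : S[X], aeval a H = (H.map f.toRingHom).eval a := by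
      intro H
      rw [Polynomial.eval_map]
      rfl
    have hmap : P.HasMap a := by
      refine ⟨?_, ?_⟩
      · change aeval a G = 0
        rw [hev, hG]
        exact ha
      · change IsUnit (aeval a (derivative G))
        rw [hev, ← Polynomial.derivative_map, hG]
        by_contra hnu
        have h3 : (F.map ι).derivative.eval a ∈ maximalIdeal Rh := (mem_maximalIdeal _).mpr hnu
        have h4 : (F.map ι).derivative.eval a - (F.map ι).derivative.eval (ι a₀) ∈
            maximalIdeal Rh :=
          Ideal.mem_of_dvd _ (Polynomial.sub_dvd_eval_sub a (ι a₀) _) haa₀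
        have h5 : (F.map ι).derivative.eval (ι a₀) ∈ maximalIdeal Rh := by
          have := Ideal.sub_mem _ h3 h4
          rwa [sub_sub_cancel] at this
        exact (mem_maximalIdeal _).mp h5 h₂'
    have hcomp : (P.lift a hmap).toRingHom.comp (algebraMap S P.Ring) = f.toRingHom := by
      ext s
      exact (P.lift a hmap).commutes s
    have := IsEtRep.of_tower S f P.Ring (P.lift a hmap).toRingHom hcomp P.X
    rwa [AlgHom.toRingHom_eq_coe, RingHom.coe_coe, P.lift_X] at this
  let b : etRepSubring R Rh := ⟨a, haA⟩
  have hb : ι b = a := rfl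
  refine ⟨b, ?_, ?_⟩
  · rw [Polynomial.IsRoot.def]
    apply Subtype.ext
    change ι (F.eval b) = 0
    rw [← Polynomial.eval₂_hom, ← Polynomial.eval_map, hb]
    exact ha
  · rw [mem_maximalIdeal_etRepSubring_iff]
    exact haa₀

end SubringHens

section Main

variable (R : Type u) [CommRing R] (p : Ideal R) [p.IsPrime] (Rh : Type u) [CommRing Rh]
    [IsLocalRing Rh] [Algebra (Localization.AtPrime p) Rh]
    [IsLocalHom (algebraMap (Localization.AtPrime p) Rh)]
    [Hensel.IsHenselization (Localization.AtPrime p) Rh] [Algebra R Rh]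
    [IsScalarTower R (Localization.AtPrime p) Rh]

theorem hensAt_of_isHenselization_tower : HensAt R p Rh (algebraMap R Rh) := by
  have := HensAt.of_isHenselization R p Rh
  rwa [← IsScalarTower.algebraMap_eq] at this

theorem comap_algebraMap_maximalIdeal_hens : (maximalIdeal Rh).comap (algebraMap R Rh) = p :=
  (hensAt_of_isHenselization_tower R p Rh).comap_eq

theorem residueLift_eq_map_hens :
    residueLift p (algebraMap R Rh) (comap_algebraMap_maximalIdeal_hens R p Rh) =
      IsLocalRing.ResidueField.map (algebraMap (Localization.AtPrime p) Rh) := by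
  apply Ideal.ResidueField.ringHom_ext
  ext r
  rw [RingHom.comp_apply, RingHom.comp_apply, residueLift_algebraMap,
    IsScalarTower.algebraMap_apply R (Localization.AtPrime p) p.ResidueField,
    IsLocalRing.ResidueField.algebraMap_eq, IsLocalRing.ResidueField.map_residue,
    ← IsScalarTower.algebraMap_apply]

theorem residueLift_bijective_hens :
    Function.Bijective (residueLift p (algebraMap R Rh)
      (comap_algebraMap_maximalIdeal_hens R p Rh)) := by
  rw [residueLift_eq_map_hens]
  exact Groth.Agent.Lib.Helper9.Hens.residueField_map_bijective_of_isHenselization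
    (Localization.AtPrime p) Rh

theorem comap_algebraMap_eq_of_algHom (S : Type u) [CommRing S] [Algebra R S] (f : S →ₐ[R] Rh)
    (q : Ideal S) (hf : (maximalIdeal Rh).comap f.toRingHom = q) :
    p = q.comap (algebraMap R S) := by
  rw [← hf, Ideal.comap_comap, AlgHom.toRingHom_eq_coe, AlgHom.comp_algebraMap,
    comap_algebraMap_maximalIdeal_hens R p Rh]

theorem bijective_residueField_map_of_algHom (S : Type u) [CommRing S] [Algebra R S]
    (f : S →ₐ[R] Rh) (q : Ideal S) [q.IsPrime]
    (hf : (maximalIdeal Rh).comap f.toRingHom = q) (hq : p = q.comap (algebraMap R S)) :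
    Function.Bijective (Ideal.ResidueField.map p q (algebraMap R S) hq) := by
  refine ⟨RingHom.injective _, ?_⟩
  have hcomp : (residueLift q f.toRingHom hf).comp
      (Ideal.ResidueField.map p q (algebraMap R S) hq) =
      residueLift p (algebraMap R Rh) (comap_algebraMap_maximalIdeal_hens R p Rh) := by
    apply Ideal.ResidueField.ringHom_ext
    ext r
    rw [RingHom.comp_apply, RingHom.comp_apply, RingHom.comp_apply,
      Ideal.ResidueField.map_algebraMap, residueLift_algebraMap, residueLift_algebraMap]
    change residue Rh (f (algebraMap R S r)) = _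
    rw [f.commutes]
  intro y
  obtain ⟨x, hx⟩ := (residueLift_bijective_hens R p Rh).2 (residueLift q f.toRingHom hf y)
  refine ⟨x, ?_⟩
  apply (residueLift q f.toRingHom hf).injective
  rw [← hx, ← hcomp]
  rfl

include p in
theorem etRepSubring_eq_top : etRepSubring R Rh = ⊤ := by
  haveI : HenselianLocalRing Rh := Hensel.IsHenselization.henselian (Localization.AtPrime p)
  haveI := henselianLocalRing_etRepSubring (R := R) (Rh := Rh)
  have hmem : ∀ x : Localization.AtPrime p,
      algebraMap (Localization.AtPrime p) Rh x ∈ etRepSubring R Rh := by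
    intro x
    obtain ⟨r, s, rfl⟩ := IsLocalization.exists_mk'_eq p.primeCompl x
    rw [IsLocalization.mk'_eq_mul_mk'_one, map_mul]
    refine Subring.mul_mem _ ?_ ?_
    · rw [← IsScalarTower.algebraMap_apply]
      exact isEtRep_algebraMap r
    · refine IsEtRep.of_mul_eq_one (isEtRep_algebraMap (s : R)) ?_
      rw [IsScalarTower.algebraMap_apply R (Localization.AtPrime p) Rh, ← map_mul,
        IsLocalization.mk'_spec', map_one, map_one]
  let h : Localization.AtPrime p →+* etRepSubring R Rh :=
    (algebraMap (Localization.AtPrime p) Rh).codRestrict (etRepSubring R Rh) hmem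
  have hloc : IsLocalHom h := by
    constructor
    intro x hx
    have : IsUnit (algebraMap (Localization.AtPrime p) Rh x) :=
      hx.map (etRepSubring R Rh).subtype
    exact isUnit_of_map_unit _ _ this
  obtain ⟨g, hg, -⟩ := Hensel.IsHenselization.universal (R := Localization.AtPrime p) (S := Rh)
    (etRepSubring R Rh) h hloc
  obtain ⟨i, -, hi⟩ := Hensel.IsHenselization.universal (R := Localization.AtPrime p) (S := Rh)
    Rh (algebraMap (Localization.AtPrime p) Rh) inferInstance
  have h1 : (etRepSubring R Rh).subtype.comp g = i := by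
    apply hi
    rw [RingHom.comp_assoc, hg]
    rfl
  have h2 : RingHom.id Rh = i := hi _ (RingHom.id_comp _)
  rw [eq_top_iff]
  intro x _
  have : ((etRepSubring R Rh).subtype.comp g) x = x := by rw [h1, ← h2]; rfl
  rw [← this]
  exact (g x).2

theorem exists_rep_of_hens (x : Rh) :
    ∃ (S : Type u) (_ : CommRing S) (_ : Algebra R S) (_ : Algebra.Etale R S) (q : Ideal S)
      (_ : q.IsPrime) (hq : p = q.comap (algebraMap R S)),
      Function.Bijective (Ideal.ResidueField.map p q (algebraMap R S) hq) ∧
        ∃ (f : S →ₐ[R] Rh) (s : S),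
          (IsLocalRing.maximalIdeal Rh).comap f.toRingHom = q ∧ f s = x := by
  have hx : x ∈ etRepSubring R Rh := by rw [etRepSubring_eq_top R p Rh]; trivial
  obtain ⟨S, _, _, _, f, s, hs⟩ := hx
  have hprime : ((maximalIdeal Rh).comap f.toRingHom).IsPrime := Ideal.comap_isPrime _ _
  exact ⟨S, inferInstance, inferInstance, inferInstance, _, hprime,
    comap_algebraMap_eq_of_algHom R p Rh S f _ rfl,
    bijective_residueField_map_of_algHom R p Rh S f _ rfl _, f, s, rfl, hs⟩

/-- `Rh` is also a henselization of a residually trivial étale neighbourhood `(S, q)`. -/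
theorem hensAt_of_algHom (S : Type u) [CommRing S] [Algebra R S] [Algebra.Etale R S]
    (q : Ideal S) [q.IsPrime] (hq : p = q.comap (algebraMap R S))
    (hbij : Function.Bijective (Ideal.ResidueField.map p q (algebraMap R S) hq))
    (f : S →ₐ[R] Rh) (hf : (maximalIdeal Rh).comap f.toRingHom = q) :
    HensAt S q Rh f.toRingHom := by
  have hR := hensAt_of_isHenselization_tower R p Rh
  refine ⟨hR.henselian, hf, ?_⟩
  intro T _ _ g hg
  let g₀ : R →+* T := g.comp (algebraMap R S)
  have hg₀ : (maximalIdeal T).comap g₀ = p := by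
    rw [← Ideal.comap_comap, hg, ← hq]
  obtain ⟨k, hk, hkuniq⟩ := hR.universal T g₀ hg₀
  have hkr : ∀ r : R, k (algebraMap R Rh r) = g₀ r := fun r => DFunLike.congr_fun hk r
  -- `k` is local
  have hkloc : (maximalIdeal T).comap k = maximalIdeal Rh := by
    let k' : Localization.AtPrime p →+* T := k.comp (algebraMap (Localization.AtPrime p) Rh)
    have hk' : IsLocalHom k' := by
      apply isLocalHom_of_comap_maximalIdeal_eq p k'
      have : k'.comp (algebraMap R (Localization.AtPrime p)) = g₀ := by
        rw [RingHom.comp_assoc, ← IsScalarTower.algebraMap_eq, hk]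
      rw [this, hg₀]
    have h1 : (maximalIdeal (Localization.AtPrime p)).map k' ≤ maximalIdeal T :=
      ((local_hom_TFAE k').out 0 2 rfl rfl).mp hk'
    have h2 : (maximalIdeal Rh).map k ≤ maximalIdeal T := by
      rw [← Groth.Agent.Lib.Helper9.Hens.map_maximalIdeal_of_isHenselization
        (Localization.AtPrime p) Rh, Ideal.map_map]
      exact h1
    have h3 : IsLocalHom k := ((local_hom_TFAE k).out 0 2 rfl rfl).mpr h2
    exact ((local_hom_TFAE k).out 0 4 rfl rfl).mp h3
  refine ⟨k, ?_, ?_⟩
  · letI : Algebra R T := g₀.toAlgebra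
    have hT : (maximalIdeal T).comap (algebraMap R T) = p := hg₀
    let φ₁ : S →ₐ[R] T :=
      { k.comp f.toRingHom with
        commutes' := fun r => by
          change k (f (algebraMap R S r)) = g₀ r
          rw [f.commutes, hkr] }
    let φ₂ : S →ₐ[R] T := { g with commutes' := fun r => rfl }
    obtain ⟨φ, -, hφ⟩ := existsUnique_algHom_comap_eq p T hT S q hq hbij
    have e1 : φ₁ = φ := by
      apply hφ
      change (maximalIdeal T).comap (k.comp f.toRingHom) = q
      rw [← Ideal.comap_comap, hkloc, hf]
    have e2 : φ₂ = φ := hφ _ hg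
    ext s
    exact DFunLike.congr_fun (e1.trans e2.symm) s
  · intro k' hk'
    apply hkuniq
    ext r
    change k' (algebraMap R Rh r) = g (algebraMap R S r)
    rw [← hk', RingHom.comp_apply]
    change k' (algebraMap R Rh r) = k' (f (algebraMap R S r))
    rw [f.commutes]

theorem exists_notMem_mul_eq_zero_of_algHom (S : Type u) [CommRing S] [Algebra R S]
    [Algebra.Etale R S]
    (q : Ideal S) [q.IsPrime] (hq : p = q.comap (algebraMap R S))
    (hbij : Function.Bijective (Ideal.ResidueField.map p q (algebraMap R S) hq))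
    (f : S →ₐ[R] Rh) (hf : (maximalIdeal Rh).comap f.toRingHom = q) (s : S) (hs : f s = 0) :
    ∃ t : S, t ∉ q ∧ t * s = 0 := by
  have hS := hensAt_of_algHom R p Rh S q hq hbij f hf
  obtain ⟨ψ, hψ, hloc⟩ := HensAt.exists_lift hS
  letI : Algebra (Localization.AtPrime q) Rh := ψ.toAlgebra
  haveI : IsLocalHom (algebraMap (Localization.AtPrime q) Rh) := hloc
  haveI : Hensel.IsHenselization (Localization.AtPrime q) Rh := HensAt.isHenselization hS hψ
  haveI : Module.FaithfullyFlat (Localization.AtPrime q) Rh :=
    Groth.Agent.S0509.result (Localization.AtPrime q) Rh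
  have hinj : Function.Injective (algebraMap (Localization.AtPrime q) Rh) :=
    FaithfulSMul.algebraMap_injective _ _
  have h0 : algebraMap S (Localization.AtPrime q) s = 0 := by
    apply hinj
    rw [map_zero]
    change ψ (algebraMap S (Localization.AtPrime q) s) = 0
    rw [← RingHom.comp_apply, hψ]
    exact hs
  obtain ⟨t, ht⟩ := (IsLocalization.map_eq_zero_iff q.primeCompl _ s).mp h0
  exact ⟨t.1, t.2, ht⟩

theorem exists_pair_map_eq_zero (S : Type u) [CommRing S] [Algebra R S]
    [Algebra.Etale R S]
    (q : Ideal S) [q.IsPrime] (hq : p = q.comap (algebraMap R S))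
    (hbij : Function.Bijective (Ideal.ResidueField.map p q (algebraMap R S) hq))
    (f : S →ₐ[R] Rh) (hf : (maximalIdeal Rh).comap f.toRingHom = q) (s : S) (hs : f s = 0) :
    ∃ (S' : Type u) (_ : CommRing S') (_ : Algebra R S') (_ : Algebra.Etale R S') (q' : Ideal S')
      (_ : q'.IsPrime) (hq' : p = q'.comap (algebraMap R S')),
      Function.Bijective (Ideal.ResidueField.map p q' (algebraMap R S') hq') ∧
        ∃ φ : S →ₐ[R] S', q'.comap φ.toRingHom = q ∧ φ s = 0 := by
  obtain ⟨t, htq, hts⟩ := exists_notMem_mul_eq_zero_of_algHom R p Rh S q hq hbij f hf s hs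
  have hu : ∀ y : Submonoid.powers t, IsUnit (f y) := by
    rintro ⟨_, n, rfl⟩
    rw [map_pow]
    refine IsUnit.pow n ?_
    by_contra hnu
    have : t ∈ (maximalIdeal Rh).comap f.toRingHom := (mem_maximalIdeal _).mpr hnu
    rw [hf] at this
    exact htq this
  let f' : Localization.Away t →ₐ[R] Rh := IsLocalization.liftAlgHom (M := Submonoid.powers t) hu
  have hf' : ∀ x : S, f' (algebraMap S (Localization.Away t) x) = f x := by
    intro x
    exact IsLocalization.lift_eq _ x
  haveI : Algebra.Etale R (Localization.Away t) := Algebra.Etale.comp R S (Localization.Away t)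
  have hprime : ((maximalIdeal Rh).comap f'.toRingHom).IsPrime := Ideal.comap_isPrime _ _
  refine ⟨Localization.Away t, inferInstance, inferInstance, inferInstance, _, hprime,
    comap_algebraMap_eq_of_algHom R p Rh _ f' _ rfl,
    bijective_residueField_map_of_algHom R p Rh _ f' _ rfl _,
    IsScalarTower.toAlgHom R S (Localization.Away t), ?_, ?_⟩
  · rw [← hf]
    ext x
    change f' (algebraMap S (Localization.Away t) x) ∈ maximalIdeal Rh ↔ f x ∈ maximalIdeal Rh
    rw [hf']
  · change algebraMap S (Localization.Away t) s = 0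
    rw [IsLocalization.map_eq_zero_iff (Submonoid.powers t)]
    exact ⟨⟨t, Submonoid.mem_powers t⟩, hts⟩

end Main

end Groth.Agent.Lib.Helper3
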