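import Groth.Agent.Lib.Helper3.EtaleLiftRel
import Groth.Agent.Lib.Helper9.Hens.Unique
import Groth.Prelude.Def_Hensel

/-!
# Henselization along a residually trivial essentially étale local map (helper3)

If `L → Bq` is a local homomorphism, `Bq` is the localization at a prime of an étale algebra over a
ring `R₀` of which `L` is a localization, and the residue field extension is trivial, then a
henselization of `Bq` is a henselization of `L`.
-/

set_option autoImplicit false
set_option linter.unusedSectionVars false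
set_option linter.style.haveILetI false

namespace Groth.Agent.Lib.Helper3.HensEssEtale

universe u

open IsLocalRing Groth.Agent.Lib.Helper9.Hens

section Transport

theorem henselianLocalRing_of_ringEquiv {R S : Type*} [CommRing R] [CommRing S]
    [HenselianLocalRing R] (e : R ≃+* S) : HenselianLocalRing S := by
  have hloc : IsLocalRing S := e.isLocalRing
  have hmax : ∀ x : S, x ∈ IsLocalRing.maximalIdeal S ↔ e.symm x ∈ IsLocalRing.maximalIdeal R := by
    intro x
    rw [IsLocalRing.mem_maximalIdeal, IsLocalRing.mem_maximalIdeal, mem_nonunits_iff,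
      mem_nonunits_iff, not_iff_not]
    exact (isUnit_map_iff e.symm x).symm
  refine { toIsLocalRing := hloc, is_henselian := ?_ }
  intro f hf a₀ h0 h1
  have key : ∀ (g : Polynomial S) (x : S), (g.map e.symm.toRingHom).eval (e.symm x) =
      e.symm (g.eval x) := by
    intro g x
    rw [Polynomial.eval_map]
    exact Polynomial.eval₂_hom e.symm.toRingHom x
  obtain ⟨a, ha, ha0⟩ := HenselianLocalRing.is_henselian (f.map e.symm.toRingHom)
    (hf.map _) (e.symm a₀)
    (by rw [key]; exact (hmax _).1 h0)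
    (by
      rw [Polynomial.derivative_map, key]
      exact h1.map e.symm)
  refine ⟨e a, ?_, ?_⟩
  · have : (f.map e.symm.toRingHom).eval (e.symm (e a)) = e.symm (f.eval (e a)) := key f (e a)
    rw [e.symm_apply_apply] at this
    have h2 : (f.map e.symm.toRingHom).eval a = 0 := ha
    rw [h2] at this
    change f.eval (e a) = 0
    exact (map_eq_zero_iff e.symm e.symm.injective).mp this.symm
  · rw [hmax, map_sub, e.symm_apply_apply]
    exact ha0

variable (L : Type u) [CommRing L] [IsLocalRing L]
  (S₁ : Type u) [CommRing S₁] [IsLocalRing S₁] [Algebra L S₁] [IsLocalHom (algebraMap L S₁)]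
  (S₂ : Type u) [CommRing S₂] [IsLocalRing S₂] [Algebra L S₂]

theorem isLocalHom_of_algEquiv (e : S₁ ≃ₐ[L] S₂) : IsLocalHom (algebraMap L S₂) := by
  constructor
  intro a ha
  have h1 : IsUnit (e.symm (algebraMap L S₂ a)) := ha.map e.symm
  rw [e.symm.commutes] at h1
  exact isUnit_of_map_unit (algebraMap L S₁) a h1

/-- Being a henselization is invariant under isomorphism of the target. -/
theorem isHenselization_of_algEquiv [IsLocalHom (algebraMap L S₂)] (e : S₁ ≃ₐ[L] S₂)
    [h : Hensel.IsHenselization L S₁] : Hensel.IsHenselization L S₂ := by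
  haveI := h.henselian
  refine ⟨henselianLocalRing_of_ringEquiv e.toRingEquiv, ?_⟩
  intro T _ _ f hf
  obtain ⟨g, hg, hguniq⟩ := h.universal T f hf
  refine ⟨g.comp e.symm.toAlgHom.toRingHom, ?_, ?_⟩
  · ext a
    change g (e.symm (algebraMap L S₂ a)) = f a
    rw [e.symm.commutes]
    exact DFunLike.congr_fun hg a
  · intro g' hg'
    have h1 : g'.comp e.toAlgHom.toRingHom = g := by
      apply hguniq
      ext a
      change g' (e (algebraMap L S₁ a)) = f a
      rw [e.commutes]
      exact DFunLike.congr_fun hg' a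
    ext x
    change g' x = g (e.symm x)
    rw [← h1]
    change g' x = g' (e (e.symm x))
    rw [e.apply_symm_apply]

end Transport

section Chart


/-- Every element of `Bq` is congruent to an element of `L` modulo the maximal ideal. -/
theorem exists_sub_mem_maximalIdeal (L : Type u) [CommRing L] [IsLocalRing L]
    (Bq : Type u) [CommRing Bq] [IsLocalRing Bq] [Algebra L Bq] [IsLocalHom (algebraMap L Bq)]
    (hbij : Function.Bijective (ResidueField.map (algebraMap L Bq))) (y : Bq) :
    ∃ l : L, y - algebraMap L Bq l ∈ maximalIdeal Bq := by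
  obtain ⟨z, hz⟩ := hbij.2 (residue Bq y)
  obtain ⟨l, rfl⟩ := residue_surjective z
  refine ⟨l, ?_⟩
  rw [← Ideal.Quotient.eq]
  exact hz.symm

/-- Local homomorphisms from `Bq` to a henselian local ring are determined by their restriction
to `L`. -/
theorem ringHom_ext_of_local {R₀ : Type u} [CommRing R₀]
    (L : Type u) [CommRing L] [IsLocalRing L] [Algebra R₀ L]
    (B : Type u) [CommRing B] [Algebra R₀ B] [Algebra.Etale R₀ B] (q : Ideal B) [q.IsPrime]
    (Bq : Type u) [CommRing Bq] [IsLocalRing Bq] [Algebra B Bq] [IsLocalization.AtPrime Bq q]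
    [Algebra R₀ Bq] [IsScalarTower R₀ B Bq] [Algebra L Bq] [IsScalarTower R₀ L Bq]
    [IsLocalHom (algebraMap L Bq)]
    (hbij : Function.Bijective (ResidueField.map (algebraMap L Bq))) (T : Type u) [CommRing T] [IsLocalRing T] (ψ₁ ψ₂ : Bq →+* T)
    [IsLocalHom ψ₁] [IsLocalHom ψ₂]
    (h : ψ₁.comp (algebraMap L Bq) = ψ₂.comp (algebraMap L Bq)) : ψ₁ = ψ₂ := by
  have h' : ∀ l, ψ₁ (algebraMap L Bq l) = ψ₂ (algebraMap L Bq l) := fun l => DFunLike.congr_fun h l
  letI : Algebra R₀ T := (ψ₁.comp (algebraMap R₀ Bq)).toAlgebra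
  let ψ₁₀ : B →ₐ[R₀] T :=
    { ψ₁.comp (algebraMap B Bq) with
      commutes' := fun r => by
        change ψ₁ (algebraMap B Bq (algebraMap R₀ B r)) = ψ₁ (algebraMap R₀ Bq r)
        rw [← IsScalarTower.algebraMap_apply] }
  let ψ₂₀ : B →ₐ[R₀] T :=
    { ψ₂.comp (algebraMap B Bq) with
      commutes' := fun r => by
        change ψ₂ (algebraMap B Bq (algebraMap R₀ B r)) = ψ₁ (algebraMap R₀ Bq r)
        rw [← IsScalarTower.algebraMap_apply, IsScalarTower.algebraMap_apply R₀ L Bq, h'] }
  have hres : ∀ y : Bq, ψ₁ y - ψ₂ y ∈ maximalIdeal T := by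
    intro y
    obtain ⟨l, hl⟩ := exists_sub_mem_maximalIdeal L Bq hbij y
    have h1 : ψ₁ (y - algebraMap L Bq l) ∈ maximalIdeal T := by
      rw [mem_maximalIdeal, mem_nonunits_iff]
      intro hu
      exact ((mem_maximalIdeal _).mp hl) (isUnit_of_map_unit ψ₁ _ hu)
    have h2 : ψ₂ (y - algebraMap L Bq l) ∈ maximalIdeal T := by
      rw [mem_maximalIdeal, mem_nonunits_iff]
      intro hu
      exact ((mem_maximalIdeal _).mp hl) (isUnit_of_map_unit ψ₂ _ hu)
    have h3 : ψ₁ y - ψ₂ y = ψ₁ (y - algebraMap L Bq l) - ψ₂ (y - algebraMap L Bq l) := by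
      rw [map_sub, map_sub, h']
      ring
    rw [h3]
    exact Ideal.sub_mem _ h1 h2
  have hjac : maximalIdeal T ≤ Ideal.jacobson ⊥ := by
    rw [IsLocalRing.jacobson_eq_maximalIdeal ⊥ bot_ne_top]
  have heq : ψ₁₀ = ψ₂₀ := by
    apply algHom_ext_of_comp_mk_eq (maximalIdeal T) hjac
    ext b
    change Ideal.Quotient.mk (maximalIdeal T) (ψ₁ (algebraMap B Bq b)) =
      Ideal.Quotient.mk (maximalIdeal T) (ψ₂ (algebraMap B Bq b))
    rw [Ideal.Quotient.eq]
    exact hres _
  apply IsLocalization.ringHom_ext q.primeCompl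
  ext b
  exact DFunLike.congr_fun heq b

/-- A local homomorphism from `L` to a henselian local ring extends to a local homomorphism from
`Bq`. -/
theorem exists_local_extension {R₀ : Type u} [CommRing R₀] (p : Ideal R₀) [p.IsPrime]
    (L : Type u) [CommRing L] [IsLocalRing L] [Algebra R₀ L] [IsLocalization.AtPrime L p]
    (B : Type u) [CommRing B] [Algebra R₀ B] [Algebra.Etale R₀ B] (q : Ideal B) [q.IsPrime]
    (Bq : Type u) [CommRing Bq] [IsLocalRing Bq] [Algebra B Bq] [IsLocalization.AtPrime Bq q]
    [Algebra R₀ Bq] [IsScalarTower R₀ B Bq] [Algebra L Bq] [IsScalarTower R₀ L Bq]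
    [IsLocalHom (algebraMap L Bq)]
    (hbij : Function.Bijective (ResidueField.map (algebraMap L Bq))) (T : Type u) [CommRing T] [HenselianLocalRing T] (f : L →+* T)
    [IsLocalHom f] :
    ∃ ψ : Bq →+* T, IsLocalHom ψ ∧ ψ.comp (algebraMap L Bq) = f := by
  letI : Algebra R₀ T := (f.comp (algebraMap R₀ L)).toAlgebra
  let e : ResidueField L ≃+* ResidueField Bq := RingEquiv.ofBijective _ hbij
  let σ₀ : B →+* ResidueField T :=
    ((ResidueField.map f).comp (e.symm : ResidueField Bq →+* ResidueField L)).comp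
      ((residue Bq).comp (algebraMap B Bq))
  have hσ₀ : ∀ r : R₀, σ₀ (algebraMap R₀ B r) = residue T (algebraMap R₀ T r) := by
    intro r
    change ResidueField.map f (e.symm (residue Bq (algebraMap B Bq (algebraMap R₀ B r)))) = _
    rw [← IsScalarTower.algebraMap_apply, IsScalarTower.algebraMap_apply R₀ L Bq]
    have h1 : residue Bq (algebraMap L Bq (algebraMap R₀ L r)) =
        e (residue L (algebraMap R₀ L r)) := rfl
    rw [h1, e.symm_apply_apply, ResidueField.map_residue]
    rfl
  let σ : B →ₐ[R₀] T ⧸ maximalIdeal T := { σ₀ with commutes' := hσ₀ }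
  obtain ⟨h₀, hh₀, -⟩ := existsUnique_algHom_lift_of_etale B T (maximalIdeal T) σ
  have hh₀' : ∀ b, residue T (h₀ b) = σ₀ b := fun b => DFunLike.congr_fun hh₀ b
  have hσ₀zero : ∀ b : B, σ₀ b = 0 ↔ b ∈ q := by
    intro b
    change ResidueField.map f (e.symm (residue Bq (algebraMap B Bq b))) = 0 ↔ _
    rw [map_eq_zero_iff _ (RingHom.injective _), map_eq_zero_iff _ e.symm.injective,
      residue_eq_zero_iff, IsLocalization.AtPrime.to_map_mem_maximal_iff Bq q]
  have hunit : ∀ y : q.primeCompl, IsUnit (h₀.toRingHom y) := by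
    intro y
    by_contra hu
    have h1 : h₀ y ∈ maximalIdeal T := (mem_maximalIdeal _).mpr hu
    have h2 : σ₀ y = 0 := by rw [← hh₀']; exact (residue_eq_zero_iff _).mpr h1
    exact y.2 ((hσ₀zero y).mp h2)
  let ψ : Bq →+* T := IsLocalization.lift (M := q.primeCompl) (S := Bq) hunit
  have hψ : ∀ b, ψ (algebraMap B Bq b) = h₀ b := fun b =>
    IsLocalization.lift_eq (M := q.primeCompl) (S := Bq) hunit b
  have hψL : ψ.comp (algebraMap L Bq) = f := by
    apply IsLocalization.ringHom_ext p.primeCompl
    ext r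
    change ψ (algebraMap L Bq (algebraMap R₀ L r)) = f (algebraMap R₀ L r)
    rw [← IsScalarTower.algebraMap_apply, IsScalarTower.algebraMap_apply R₀ B Bq, hψ,
      h₀.commutes]
    rfl
  refine ⟨ψ, ?_, hψL⟩
  constructor
  intro y hy
  by_contra hny
  have hym : y ∈ maximalIdeal Bq := (mem_maximalIdeal _).mpr hny
  obtain ⟨b, s, rfl⟩ := IsLocalization.exists_mk'_eq q.primeCompl y
  have hb : b ∈ q := by
    rw [IsLocalization.AtPrime.mk'_mem_maximal_iff Bq q] at hym
    exact hym
  have h1 : ψ (IsLocalization.mk' Bq b s) * h₀ s = h₀ b := by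
    rw [← hψ, ← hψ, ← map_mul, IsLocalization.mk'_spec]
  have h2 : h₀ b ∈ maximalIdeal T := by
    rw [← residue_eq_zero_iff, hh₀']
    exact (hσ₀zero b).mpr hb
  have h3 : IsUnit (h₀ b) := by
    rw [← h1]
    exact hy.mul (hunit s)
  exact ((mem_maximalIdeal _).mp h2) h3

/-- **Main ring-level statement.** A henselization of `Bq` is a henselization of `L`. -/
theorem isHenselization_of_chart {R₀ : Type u} [CommRing R₀] (p : Ideal R₀) [p.IsPrime]
    (L : Type u) [CommRing L] [IsLocalRing L] [Algebra R₀ L] [IsLocalization.AtPrime L p]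
    (B : Type u) [CommRing B] [Algebra R₀ B] [Algebra.Etale R₀ B] (q : Ideal B) [q.IsPrime]
    (Bq : Type u) [CommRing Bq] [IsLocalRing Bq] [Algebra B Bq] [IsLocalization.AtPrime Bq q]
    [Algebra R₀ Bq] [IsScalarTower R₀ B Bq] [Algebra L Bq] [IsScalarTower R₀ L Bq]
    [IsLocalHom (algebraMap L Bq)]
    (hbij : Function.Bijective (ResidueField.map (algebraMap L Bq))) (Rh : Type u) [CommRing Rh] [IsLocalRing Rh] [Algebra Bq Rh]
    [IsLocalHom (algebraMap Bq Rh)] [hRh : Hensel.IsHenselization Bq Rh] [Algebra L Rh]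
    [IsScalarTower L Bq Rh] :
    ∃ (_ : IsLocalHom (algebraMap L Rh)), Hensel.IsHenselization L Rh := by
  have hloc : IsLocalHom (algebraMap L Rh) := by
    rw [IsScalarTower.algebraMap_eq L Bq Rh]
    exact RingHom.isLocalHom_comp _ _
  refine ⟨hloc, ?_⟩
  -- the model henselization of `L`
  let H := Henselization L
  obtain ⟨φ, hφloc, hφ⟩ := exists_local_extension p L B q Bq hbij H (algebraMap L H)
  letI algBH : Algebra Bq H := φ.toAlgebra
  haveI towLBH : IsScalarTower L Bq H :=
    IsScalarTower.of_algebraMap_eq fun l => (DFunLike.congr_fun hφ l).symm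
  haveI : IsLocalHom (algebraMap Bq H) := hφloc
  have hH : Hensel.IsHenselization Bq H := by
    refine ⟨inferInstance, ?_⟩
    intro T _ _ f' hf'
    haveI : IsLocalHom (f'.comp (algebraMap L Bq)) := RingHom.isLocalHom_comp _ _
    obtain ⟨G, hG, hGuniq⟩ := (Henselization.isHenselization (R := L)).universal T
      (f'.comp (algebraMap L Bq)) inferInstance
    have hGloc : IsLocalHom G := by
      constructor
      intro x hx
      by_contra hnx
      have hxm : x ∈ maximalIdeal H := (mem_maximalIdeal _).mpr hnx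
      rw [← map_maximalIdeal_of_isHenselization L H] at hxm
      have h1 : G x ∈ (maximalIdeal L).map (G.comp (algebraMap L H)) := by
        rw [← Ideal.map_map]
        exact Ideal.mem_map_of_mem G hxm
      have h2 : (maximalIdeal L).map (G.comp (algebraMap L H)) ≤ maximalIdeal T := by
        rw [hG, Ideal.map_le_iff_le_comap]
        intro l hl
        rw [Ideal.mem_comap, mem_maximalIdeal, mem_nonunits_iff]
        intro hu
        exact ((mem_maximalIdeal _).mp hl) (isUnit_of_map_unit (f'.comp (algebraMap L Bq)) l hu)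
      exact ((mem_maximalIdeal _).mp (h2 h1)) hx
    haveI : IsLocalHom (G.comp (algebraMap Bq H)) := RingHom.isLocalHom_comp _ _
    have hGφ : G.comp (algebraMap Bq H) = f' := by
      apply ringHom_ext_of_local (R₀ := R₀) L B q Bq hbij T
      rw [RingHom.comp_assoc, ← IsScalarTower.algebraMap_eq L Bq H]
      exact hG
    refine ⟨G, hGφ, ?_⟩
    intro G' hG'
    apply hGuniq
    rw [IsScalarTower.algebraMap_eq L Bq H, ← RingHom.comp_assoc, hG']
  obtain ⟨e⟩ := nonempty_algEquiv_of_isHenselization Bq H Rh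
  let e' : H ≃ₐ[L] Rh :=
    { e.toRingEquiv with
      commutes' := fun l => by
        change e (algebraMap L H l) = algebraMap L Rh l
        rw [IsScalarTower.algebraMap_apply L Bq H, e.commutes,
          ← IsScalarTower.algebraMap_apply] }
  exact isHenselization_of_algEquiv L H Rh e'

end Chart

end Groth.Agent.Lib.Helper3.HensEssEtale
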