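import Groth.Agent.Lib.Helper3.IdemBij
import Groth.Agent.Lib.Helper3.IdemLift
import Groth.Agent.H53.SourceLocal
import Mathlib.AlgebraicGeometry.ZariskisMainTheorem

/-!
# Splitting off the finite part of a quasi-finite separated scheme over a henselian pair (helper3)
-/

set_option autoImplicit false
set_option linter.unusedSectionVars false
set_option linter.style.haveILetI false

universe u

open CategoryTheory CategoryTheory.Limits AlgebraicGeometry Opposite PrimeSpectrum

namespace Groth.Agent.Lib.Helper3.HensSplitFinite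

open Groth.Agent.Lib.Helper3

section Ring

variable {A : Type u} [CommRing A] (I : Ideal A) [HenselianRing A I]
  (B : Type u) [CommRing B] [Algebra A B] [Algebra.IsIntegral A B]

/-- A closed subset of the spectrum of an integral algebra over a henselian pair which misses the
closed fibre is empty. -/
theorem eq_empty_of_isClosed_of_disjoint_zeroLocus (C : Set (PrimeSpectrum B)) (hC : IsClosed C)
    (hdisj : C ∩ zeroLocus (I.map (algebraMap A B) : Set B) = ∅) : C = ∅ := by
  have hB : HenselianRing B (I.map (algebraMap A B)) := henselianRing_map_of_isIntegral I B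
  have hjac : I.map (algebraMap A B) ≤ Ideal.jacobson ⊥ := hB.jac
  obtain ⟨K, rfl⟩ := (isClosed_iff_zeroLocus_ideal C).mp hC
  rw [← zeroLocus_sup, zeroLocus_empty_iff_eq_top] at hdisj
  have h1 : (1 : B) ∈ K ⊔ I.map (algebraMap A B) := by rw [hdisj]; trivial
  obtain ⟨x, hx, y, hy, hxy⟩ := Submodule.mem_sup.mp h1
  have hu : IsUnit x := by
    have := (Ideal.mem_jacobson_bot.mp (hjac hy)) (-1)
    have hx' : x = y * -1 + 1 := by linear_combination hxy
    rw [hx']; exact this
  have hK : K = ⊤ := Ideal.eq_top_of_isUnit_mem K hx hu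
  rw [hK]
  simp

/-- Over a henselian pair: an open subset of the spectrum of an integral algebra whose trace on the
closed fibre is closed contains a clopen subset with the same trace. -/
theorem exists_idempotent_basicOpen (O : Set (PrimeSpectrum B)) (hO : IsOpen O)
    (hT : IsClosed (O ∩ zeroLocus (I.map (algebraMap A B) : Set B))) :
    ∃ e : B, IsIdempotentElem e ∧ (basicOpen e : Set (PrimeSpectrum B)) ⊆ O ∧
      O ∩ zeroLocus (I.map (algebraMap A B) : Set B) ⊆ basicOpen e := by
  set J := I.map (algebraMap A B) with hJ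
  let c : PrimeSpectrum (B ⧸ J) → PrimeSpectrum B := comap (Ideal.Quotient.mk J)
  have hc : Continuous c := continuous_comap (Ideal.Quotient.mk J)
  have hrange : Set.range c = zeroLocus (J : Set B) := by
    have := range_comap_of_surjective _ (Ideal.Quotient.mk J) Ideal.Quotient.mk_surjective
    rw [Ideal.mk_ker] at this
    exact this
  have hcmem : ∀ q', c q' ∈ zeroLocus (J : Set B) := fun q' => hrange ▸ Set.mem_range_self q'
  have hclopen : IsClopen (c ⁻¹' O) := by
    refine ⟨?_, hO.preimage hc⟩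
    have : c ⁻¹' O = c ⁻¹' (O ∩ zeroLocus (J : Set B)) := by
      ext q'
      simp only [Set.mem_preimage, Set.mem_inter_iff]
      exact ⟨fun h => ⟨h, hcmem q'⟩, fun h => h.1⟩
    rw [this]
    exact hT.preimage hc
  obtain ⟨e', f', hmul, hadd, hT'⟩ := isClopen_iff_mul_add.mp hclopen
  have hidem : IsIdempotentElem e' := (IsIdempotentElem.of_mul_add hmul hadd).1
  obtain ⟨b, rfl⟩ := Ideal.Quotient.mk_surjective e'
  have hb : b * b - b ∈ J := by
    rw [← Ideal.Quotient.eq, map_mul]
    exact hidem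
  obtain ⟨e, he, heb⟩ := exists_idempotent_lift_of_isIntegral I b hb
  have hmk : Ideal.Quotient.mk J e = Ideal.Quotient.mk J b := Ideal.Quotient.eq.mpr heb
  have hkey : ∀ q' : PrimeSpectrum (B ⧸ J), c q' ∈ (basicOpen e : Set (PrimeSpectrum B)) ↔ c q' ∈ O := by
    intro q'
    have h1 : c q' ∈ O ↔ q' ∈ (basicOpen (Ideal.Quotient.mk J b) : Set _) := by
      rw [← hT']; rfl
    rw [h1]
    change e ∉ (c q').asIdeal ↔ Ideal.Quotient.mk J b ∉ q'.asIdeal
    rw [← hmk]
    rfl
  refine ⟨e, he, ?_, ?_⟩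
  · -- `basicOpen e ⊆ O`
    have hcl : IsClosed ((basicOpen e : Set (PrimeSpectrum B)) \ O) := by
      have h1 : IsClosed (basicOpen e : Set (PrimeSpectrum B)) :=
        (isClopen_basicOpen_of_mul_add e (1 - e) (by rw [mul_sub, mul_one, he.eq, sub_self])
          (by ring)).1
      exact h1.sdiff hO
    have hemp := eq_empty_of_isClosed_of_disjoint_zeroLocus I B _ hcl (by
      rw [Set.eq_empty_iff_forall_notMem]
      rintro q ⟨⟨hq1, hq2⟩, hq3⟩
      rw [← hrange] at hq3
      obtain ⟨q', rfl⟩ := hq3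
      exact hq2 ((hkey q').mp hq1))
    intro q hq
    by_contra hqO
    have : q ∈ (basicOpen e : Set (PrimeSpectrum B)) \ O := ⟨hq, hqO⟩
    rw [hemp] at this
    exact this
  · rintro q ⟨hq1, hq2⟩
    rw [← hrange] at hq2
    obtain ⟨q', rfl⟩ := hq2
    exact (hkey q').mpr hq1

end Ring

section Scheme

variable (A : Type u) [CommRing A] (I : Ideal A) [HenselianRing A I]
  (B : Type u) [CommRing B] [Algebra A B] [Algebra.IsIntegral A B]

theorem specMap_le_iff (q : PrimeSpectrum B) :
    I ≤ (PrimeSpectrum.comap (algebraMap A B) q).asIdeal ↔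
      I.map (algebraMap A B) ≤ q.asIdeal := by
  rw [Ideal.map_le_iff_le_comap]
  rfl

theorem mem_range_comap_mk_iff (p : PrimeSpectrum A) :
    p ∈ Set.range (PrimeSpectrum.comap (Ideal.Quotient.mk I)) ↔ I ≤ p.asIdeal := by
  have := range_comap_of_surjective _ (Ideal.Quotient.mk I) Ideal.Quotient.mk_surjective
  rw [Ideal.mk_ker] at this
  rw [this, mem_zeroLocus, SetLike.coe_subset_coe]

theorem mem_zeroLocus_map_iff (q : PrimeSpectrum B) :
    q ∈ zeroLocus (I.map (algebraMap A B) : Set B) ↔ I.map (algebraMap A B) ≤ q.asIdeal := by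
  rw [mem_zeroLocus, SetLike.coe_subset_coe]

/-- Affine normal form of the splitting: `U` open in the spectrum of an integral `A`-algebra. -/
theorem exists_clopen_finite_of_openImmersion
    {U : Scheme.{u}} (j : U ⟶ Spec (CommRingCat.of B)) [IsOpenImmersion j]
    (g : U ⟶ Spec (CommRingCat.of A))
    (hg : g = j ≫ Spec.map (CommRingCat.ofHom (algebraMap A B)))
    [LocallyOfFiniteType g]
    (hfin : IsFinite (pullback.snd g (Spec.map (CommRingCat.ofHom (Ideal.Quotient.mk I))))) :
    ∃ W : U.Opens, IsClosed (W : Set U) ∧ IsFinite (W.ι ≫ g) ∧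
      ∀ u : U, u ∉ W → ¬ I ≤ (g.base u : PrimeSpectrum A).asIdeal := by
  let ν : Spec (CommRingCat.of B) ⟶ Spec (CommRingCat.of A) :=
    Spec.map (CommRingCat.ofHom (algebraMap A B))
  let i : Spec (CommRingCat.of (A ⧸ I)) ⟶ Spec (CommRingCat.of A) :=
    Spec.map (CommRingCat.ofHom (Ideal.Quotient.mk I))
  let p₁ := pullback.fst g i
  let p₂ := pullback.snd g i
  have hci : IsClosedImmersion i :=
    IsClosedImmersion.spec_of_surjective _ Ideal.Quotient.mk_surjective
  haveI : IsFinite p₂ := hfin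
  have hO : IsOpen (Set.range j) := j.isOpenEmbedding.isOpen_range
  -- the trace of `U` on the closed fibre is closed
  have hprop : IsProper (p₁ ≫ j) := by
    have h0 : (p₁ ≫ j) ≫ ν = p₂ ≫ i := by
      rw [Category.assoc]
      change p₁ ≫ (j ≫ Spec.map (CommRingCat.ofHom (algebraMap A B))) = p₂ ≫ i
      rw [← hg]
      exact pullback.condition
    have h1 : IsProper ((p₁ ≫ j) ≫ ν) := by
      rw [h0]
      infer_instance
    exact IsProper.of_comp (p₁ ≫ j) ν
  have hclosed : IsClosed (Set.range (p₁ ≫ j)) := (p₁ ≫ j).isClosedMap.isClosed_range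
  have hgj : ∀ u : U, (g u : PrimeSpectrum A) =
      PrimeSpectrum.comap (algebraMap A B) (j u : PrimeSpectrum B) := by
    intro u
    rw [hg]
    rfl
  have hmemZ : ∀ u : U, I ≤ (g u : PrimeSpectrum A).asIdeal ↔
      I.map (algebraMap A B) ≤ (j u : PrimeSpectrum B).asIdeal := by
    intro u
    rw [hgj u]
    exact specMap_le_iff A I B _
  have hmemR : ∀ u : U, u ∈ Set.range p₁ ↔ I ≤ (g u : PrimeSpectrum A).asIdeal := by
    intro u
    rw [Scheme.Pullback.range_fst, Set.mem_preimage]
    exact mem_range_comap_mk_iff A I (g u)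
  have hrange : (Set.range (p₁ ≫ j) : Set (PrimeSpectrum B)) =
      (Set.range j : Set (PrimeSpectrum B)) ∩ zeroLocus (I.map (algebraMap A B) : Set B) := by
    ext q
    constructor
    · rintro ⟨t, rfl⟩
      refine ⟨⟨p₁ t, rfl⟩, ?_⟩
      refine (mem_zeroLocus_map_iff A I B _).mpr ?_
      exact (hmemZ (p₁ t)).mp ((hmemR (p₁ t)).mp ⟨t, rfl⟩)
    · rintro ⟨⟨u, rfl⟩, hq⟩
      have h2 : u ∈ Set.range p₁ :=
        (hmemR u).mpr ((hmemZ u).mpr ((mem_zeroLocus_map_iff A I B _).mp hq))
      obtain ⟨t, rfl⟩ := h2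
      exact ⟨t, rfl⟩
  have hT : IsClosed ((Set.range j : Set (PrimeSpectrum B)) ∩
      zeroLocus (I.map (algebraMap A B) : Set B)) := by
    rw [← hrange]; exact hclosed
  obtain ⟨e, he, hsub, hsup⟩ := exists_idempotent_basicOpen I B (Set.range j) hO hT
  let D : (Spec (CommRingCat.of B)).Opens := PrimeSpectrum.basicOpen e
  have hDclosed : IsClosed (D : Set (Spec (CommRingCat.of B))) :=
    (isClopen_basicOpen_of_mul_add e (1 - e) (by rw [mul_sub, mul_one, he.eq, sub_self])
      (by ring)).1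
  refine ⟨j ⁻¹ᵁ D, hDclosed.preimage j.continuous, ?_, ?_⟩
  · -- finiteness
    have hr : Set.range ((j ⁻¹ᵁ D).ι ≫ j) = Set.range D.ι := by
      rw [Scheme.Opens.range_ι, Scheme.Hom.comp_base, TopCat.coe_comp, Set.range_comp,
        Scheme.Opens.range_ι]
      ext q
      constructor
      · rintro ⟨u, hu, rfl⟩
        exact hu
      · intro hq
        obtain ⟨u, rfl⟩ := hsub hq
        exact ⟨u, hq, rfl⟩
    let φ : ((j ⁻¹ᵁ D : U.Opens) : Scheme.{u}) ≅ (D : Scheme.{u}) :=
      IsOpenImmersion.isoOfRangeEq ((j ⁻¹ᵁ D).ι ≫ j) D.ι hr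
    have hφ : φ.hom ≫ D.ι = (j ⁻¹ᵁ D).ι ≫ j := IsOpenImmersion.isoOfRangeEq_hom_fac _ _ hr
    have hcl : IsClosedImmersion D.ι :=
      IsClosedImmersion.of_isPreimmersion D.ι (by rw [Scheme.Opens.range_ι]; exact hDclosed)
    have hνint : IsIntegralHom ν := by
      rw [IsIntegralHom.SpecMap_iff]
      exact Algebra.IsIntegral.isIntegral
    have hint : IsIntegralHom ((j ⁻¹ᵁ D).ι ≫ g) := by
      have : (j ⁻¹ᵁ D).ι ≫ g = φ.hom ≫ D.ι ≫ ν := by
        rw [hg, ← Category.assoc, ← hφ, Category.assoc]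
      rw [this]
      infer_instance
    exact (IsFinite.iff_isIntegralHom_and_locallyOfFiniteType _).mpr ⟨hint, inferInstance⟩
  · intro u hu hI
    apply hu
    have h1 := (hmemZ u).mp hI
    exact hsup ⟨⟨u, rfl⟩, (mem_zeroLocus_map_iff A I B _).mpr h1⟩

/-- **Splitting off the finite part** (Stacks 09XI-type statement): over a henselian pair, a
quasi-compact separated étale scheme whose closed fibre is finite is the disjoint union of a finite
part and a part missing the closed fibre. -/
theorem exists_clopen_finite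
    {U : Scheme.{u}} (g : U ⟶ Spec (CommRingCat.of A)) [QuasiCompact g] [IsSeparated g] [Etale g]
    (hfin : IsFinite (pullback.snd g (Spec.map (CommRingCat.ofHom (Ideal.Quotient.mk I))))) :
    ∃ W : U.Opens, IsClosed (W : Set U) ∧ IsFinite (W.ι ≫ g) ∧
      ∀ u : U, u ∉ W → ¬ I ≤ (g.base u : PrimeSpectrum A).asIdeal := by
  haveI : LocallyQuasiFinite g := Groth.Agent.H53.locallyQuasiFinite_of_etale g
  let N := g.normalization
  let j₀ : U ⟶ N := g.toNormalization
  let ν₀ : N ⟶ Spec (CommRingCat.of A) := g.fromNormalization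
  have hfac : j₀ ≫ ν₀ = g := g.toNormalization_fromNormalization
  haveI : IsAffine N := isAffine_of_isAffineHom ν₀
  let φ : N ≅ Spec Γ(N, ⊤) := N.isoSpec
  obtain ⟨ψ, hψ⟩ := Spec.map_surjective (φ.inv ≫ ν₀)
  letI : Algebra A Γ(N, ⊤) := ψ.hom.toAlgebra
  have hint : IsIntegralHom (Spec.map ψ) := by rw [hψ]; infer_instance
  rw [IsIntegralHom.SpecMap_iff] at hint
  haveI : Algebra.IsIntegral A Γ(N, ⊤) := ⟨hint⟩
  have hg : g = (j₀ ≫ φ.hom) ≫ Spec.map (CommRingCat.ofHom (algebraMap A Γ(N, ⊤))) := by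
    change g = (j₀ ≫ φ.hom) ≫ Spec.map ψ
    rw [hψ, Category.assoc, Iso.hom_inv_id_assoc, hfac]
  exact exists_clopen_finite_of_openImmersion A I Γ(N, ⊤) (j₀ ≫ φ.hom) g hg hfin

end Scheme

end Groth.Agent.Lib.Helper3.HensSplitFinite
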