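import Groth.Agent.Lib.Helper3.Henselian

/-!
# Basic theory of Henselian pairs, II (helper3): change of ideal, quotients
-/

set_option autoImplicit false
universe u

namespace Groth.Agent.Lib.Helper3

open Polynomial

/-- A unit plus an element of the Jacobson radical is a unit. -/
theorem isUnit_add_of_mem_jacobson_bot {A : Type*} [CommRing A] {u x : A} (hu : IsUnit u)
    (hx : x ∈ Ideal.jacobson (⊥ : Ideal A)) : IsUnit (u + x) := by
  obtain ⟨v, rfl⟩ := hu
  have h1 : IsUnit (x * (↑v⁻¹ : A) + 1) := Ideal.mem_jacobson_bot.mp hx _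
  have h2 : (v : A) + x = v * (x * (↑v⁻¹ : A) + 1) := by
    have : (v : A) * (↑v⁻¹ : A) = 1 := v.mul_inv
    linear_combination (-x) * this
  rw [h2]
  exact v.isUnit.mul h1

/-- Key uniqueness/refinement step: a root `a` close to an approximate root `a₀` is as close
as `f(a₀)` is small. -/
theorem sub_mem_of_isRoot {A : Type*} [CommRing A] {I J : Ideal A}
    (hJ : J ≤ Ideal.jacobson ⊥) (f : A[X]) (a a₀ : A) (ha : f.IsRoot a)
    (h0 : f.eval a₀ ∈ I) (hJ' : a - a₀ ∈ J) (hu : IsUnit (f.derivative.eval a₀)) :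
    a - a₀ ∈ I := by
  obtain ⟨c, hc⟩ := exists_mul_sq_add_linear_part_eq_eval_add f a₀ (a - a₀)
  rw [add_sub_cancel, show f.eval a = 0 from ha] at hc
  have hunit : IsUnit (f.derivative.eval a₀ + c * (a - a₀)) :=
    isUnit_add_of_mem_jacobson_bot hu (hJ (J.mul_mem_left _ hJ'))
  obtain ⟨w, hw⟩ := hunit
  have h3 : (a - a₀) = (↑w⁻¹ : A) * (-(f.eval a₀)) := by
    have h4 : (w : A) * (a - a₀) = -(f.eval a₀) := by
      rw [hw]; linear_combination hc
    calc (a - a₀) = (↑w⁻¹ : A) * ((w : A) * (a - a₀)) := by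
          rw [← mul_assoc, Units.inv_mul, one_mul]
      _ = _ := by rw [h4]
  rw [h3]
  exact I.mul_mem_left _ (I.neg_mem h0)

/-- If `A` is Henselian at `J` and `I ≤ J`, then `A` is Henselian at `I`. -/
theorem henselianRing_of_le {A : Type*} [CommRing A] {I J : Ideal A} (hIJ : I ≤ J)
    [hJ : HenselianRing A J] : HenselianRing A I where
  jac := hIJ.trans hJ.jac
  is_henselian := by
    intro f hf a₀ h₁ h₂
    have hloc := isLocalHom_of_le_jacobson_bot I (hIJ.trans hJ.jac)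
    have hu : IsUnit (f.derivative.eval a₀) := IsUnit.of_map (Ideal.Quotient.mk I) _ h₂
    obtain ⟨a, ha, ha'⟩ := hJ.is_henselian f hf a₀ (hIJ h₁) (hu.map _)
    exact ⟨a, ha, sub_mem_of_isRoot hJ.jac f a a₀ ha h₁ ha' hu⟩

theorem map_mk_le_jacobson_bot {A : Type*} [CommRing A] {J : Ideal A}
    (hJ : J ≤ Ideal.jacobson ⊥) (K : Ideal A) :
    Ideal.map (Ideal.Quotient.mk K) J ≤ Ideal.jacobson ⊥ := by
  intro x hx
  rw [Ideal.mem_map_iff_of_surjective _ Ideal.Quotient.mk_surjective] at hx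
  obtain ⟨x, hx, rfl⟩ := hx
  rw [Ideal.mem_jacobson_bot]
  intro y
  obtain ⟨y, rfl⟩ := Ideal.Quotient.mk_surjective y
  have := Ideal.mem_jacobson_bot.mp (hJ hx) y
  simpa using this.map (Ideal.Quotient.mk K)

end Groth.Agent.Lib.Helper3

namespace Groth.Agent.Lib.Helper3

open Polynomial

/-- Transitivity: if `A` is Henselian at `I ≤ J` and `A ⧸ I` is Henselian at the image of `J`,
then `A` is Henselian at `J`. -/
theorem henselianRing_of_quotient {A : Type*} [CommRing A] {I J : Ideal A} (hIJ : I ≤ J)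
    [hI : HenselianRing A I]
    [hQ : HenselianRing (A ⧸ I) (Ideal.map (Ideal.Quotient.mk I) J)] : HenselianRing A J := by
  have hlocI := isLocalHom_of_le_jacobson_bot I hI.jac
  have hjac : J ≤ Ideal.jacobson ⊥ := by
    intro x hx
    rw [Ideal.mem_jacobson_bot]
    intro y
    have h1 : Ideal.Quotient.mk I x ∈ Ideal.jacobson (⊥ : Ideal (A ⧸ I)) :=
      hQ.jac (Ideal.mem_map_of_mem _ hx)
    have h2 := Ideal.mem_jacobson_bot.mp h1 (Ideal.Quotient.mk I y)
    rw [← map_mul, ← map_one (Ideal.Quotient.mk I), ← map_add] at h2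
    exact IsUnit.of_map (Ideal.Quotient.mk I) _ h2
  have hlocJ := isLocalHom_of_le_jacobson_bot J hjac
  refine ⟨hjac, ?_⟩
  intro f hf a₀ h₁ h₂
  have hu : IsUnit (f.derivative.eval a₀) := IsUnit.of_map (Ideal.Quotient.mk J) _ h₂
  -- the comparison map `A/J → (A/I)/(J/I)`
  let φ : A ⧸ J →+* (A ⧸ I) ⧸ (Ideal.map (Ideal.Quotient.mk I) J) :=
    Ideal.Quotient.lift J ((Ideal.Quotient.mk _).comp (Ideal.Quotient.mk I)) (by
      intro x hx
      rw [RingHom.comp_apply, Ideal.Quotient.eq_zero_iff_mem]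
      exact Ideal.mem_map_of_mem _ hx)
  have e1 : (f.map (Ideal.Quotient.mk I)).eval (Ideal.Quotient.mk I a₀) =
      Ideal.Quotient.mk I (f.eval a₀) := by
    rw [eval_map, eval₂_at_apply]
  have e2 : (f.map (Ideal.Quotient.mk I)).derivative.eval (Ideal.Quotient.mk I a₀) =
      Ideal.Quotient.mk I (f.derivative.eval a₀) := by
    rw [derivative_map, eval_map, eval₂_at_apply]
  obtain ⟨b₁, hb₁, hb₁'⟩ := hQ.is_henselian (f.map (Ideal.Quotient.mk I)) (hf.map _)
    (Ideal.Quotient.mk I a₀) (by rw [e1]; exact Ideal.mem_map_of_mem _ h₁) (by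
      rw [e2]
      have := h₂.map φ
      simpa [φ] using this)
  obtain ⟨a₁, rfl⟩ := Ideal.Quotient.mk_surjective b₁
  have h3 : a₁ - a₀ ∈ J := by
    rw [← map_sub, Ideal.mem_map_iff_of_surjective _ Ideal.Quotient.mk_surjective] at hb₁'
    obtain ⟨x, hx, hx'⟩ := hb₁'
    rw [Ideal.Quotient.eq] at hx'
    have : a₁ - a₀ = x - (x - (a₁ - a₀)) := by ring
    rw [this]
    exact J.sub_mem hx (hIJ hx')
  have h4 : f.eval a₁ ∈ I := by
    rw [← Ideal.Quotient.eq_zero_iff_mem, ← eval₂_at_apply, ← eval_map]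
    exact hb₁
  have h5 : IsUnit (f.derivative.eval a₁) := by
    have h6 : f.derivative.eval a₁ - f.derivative.eval a₀ ∈ J := by
      obtain ⟨c, hc⟩ := sub_dvd_eval_sub a₁ a₀ f.derivative
      rw [hc]
      exact J.mul_mem_right _ h3
    have := isUnit_add_of_mem_jacobson_bot hu (hjac h6)
    simpa using this
  obtain ⟨a, ha, ha'⟩ := hI.is_henselian f hf a₁ h4 (h5.map _)
  refine ⟨a, ha, ?_⟩
  have : a - a₀ = (a - a₁) + (a₁ - a₀) := by ring
  rw [this]
  exact J.add_mem (hIJ ha') h3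

end Groth.Agent.Lib.Helper3
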