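import Groth.Agent.Lib.Helper3.Henselian2

/-!
# Basic theory of Henselian pairs, III (helper3): quotients
-/

set_option autoImplicit false
universe u

namespace Groth.Agent.Lib.Helper3

open Polynomial

theorem monic_aux_quot {A : Type*} [CommRing A] (f : A[X]) (hf : f.Monic) (a₀ d k' e : A) :
    (f * ((X - C a₀) ^ 2 + C d) - (C k' * (X - C a₀) + C e)).Monic := by
  nontriviality A
  have hP : ((X - C a₀) ^ 2).Monic := (monic_X_sub_C a₀).pow 2
  have hPd : ((X - C a₀) ^ 2).natDegree = 2 := by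
    rw [(monic_X_sub_C a₀).natDegree_pow, natDegree_X_sub_C]
  have hG : ((X - C a₀) ^ 2 + C d).Monic := by
    apply Monic.add_of_left hP
    rw [degree_eq_natDegree hP.ne_zero, hPd]
    exact lt_of_le_of_lt degree_C_le (by norm_num)
  have hGd : ((X - C a₀) ^ 2 + C d).natDegree = 2 := by
    rw [natDegree_add_eq_left_of_natDegree_lt]
    · exact hPd
    · rw [hPd, natDegree_C]; norm_num
  apply Monic.sub_of_left (hf.mul hG)
  rw [degree_eq_natDegree (hf.mul hG).ne_zero, (hf.natDegree_mul hG), hGd]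
  refine lt_of_le_of_lt (degree_add_le _ _) ?_
  refine max_lt ?_ ?_
  · refine lt_of_le_of_lt (degree_mul_le _ _) ?_
    rw [degree_X_sub_C]
    have : (C k').degree ≤ 0 := degree_C_le
    calc (C k').degree + 1 ≤ 0 + 1 := by gcongr
      _ = ((1 : ℕ) : WithBot ℕ) := by simp
      _ < ((f.natDegree + 2 : ℕ) : WithBot ℕ) := by
        exact_mod_cast (by omega : 1 < f.natDegree + 2)
  · refine lt_of_le_of_lt degree_C_le ?_
    exact_mod_cast (by omega : 0 < f.natDegree + 2)

end Groth.Agent.Lib.Helper3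

namespace Groth.Agent.Lib.Helper3

open Polynomial

/-- If `A` is Henselian at `J`, then any quotient `A ⧸ K` is Henselian at the image of `J`. -/
theorem henselianRing_quotient_map {A : Type*} [CommRing A] (J K : Ideal A)
    [hJ : HenselianRing A J] :
    HenselianRing (A ⧸ K) (Ideal.map (Ideal.Quotient.mk K) J) := by
  have hjacQ := map_mk_le_jacobson_bot hJ.jac K
  refine ⟨hjacQ, ?_⟩
  intro fb hfb b₀ h₁ h₂
  obtain ⟨f, hfmap, -, hf⟩ := lifts_and_natDegree_eq_and_monic
    ((mem_lifts _).mpr (map_surjective _ Ideal.Quotient.mk_surjective fb)) hfb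
  obtain ⟨a₀, rfl⟩ := Ideal.Quotient.mk_surjective b₀
  subst hfmap
  have e1 : ∀ a, (f.map (Ideal.Quotient.mk K)).eval (Ideal.Quotient.mk K a) =
      Ideal.Quotient.mk K (f.eval a) := by
    intro a; rw [eval_map, eval₂_at_apply]
  have e2 : (f.map (Ideal.Quotient.mk K)).derivative.eval (Ideal.Quotient.mk K a₀) =
      Ideal.Quotient.mk K (f.derivative.eval a₀) := by
    rw [derivative_map, eval_map, eval₂_at_apply]
  rw [e1, Ideal.mem_map_iff_of_surjective _ Ideal.Quotient.mk_surjective] at h₁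
  obtain ⟨j, hj, hj'⟩ := h₁
  rw [Ideal.Quotient.eq] at hj'
  -- `k = f(a₀) - j ∈ K`
  set c₁ := f.derivative.eval a₀ with hc₁
  rw [e2, isUnit_iff_exists_inv] at h₂
  obtain ⟨db, hdb⟩ := h₂
  obtain ⟨db', rfl⟩ := Ideal.Quotient.mk_surjective db
  obtain ⟨d, rfl⟩ := Ideal.Quotient.mk_surjective db'
  have hdb2 : Ideal.Quotient.mk K (c₁ * d - 1) ∈ Ideal.map (Ideal.Quotient.mk K) J := by
    rw [← Ideal.Quotient.eq_zero_iff_mem, map_sub, map_sub, map_one, map_one, sub_eq_zero,
      map_mul, map_mul]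
    exact hdb
  rw [Ideal.mem_map_iff_of_surjective _ Ideal.Quotient.mk_surjective] at hdb2
  obtain ⟨j', hj'J, hj'K⟩ := hdb2
  rw [Ideal.Quotient.eq] at hj'K
  -- `k' = c₁ d - 1 - j' ∈ K`, and `j' - (c₁ d - 1) ∈ K`
  set k' := c₁ * d - 1 - j' with hk'
  set k := f.eval a₀ - j with hk
  have hkK : k ∈ K := by
    have : k = -(j - f.eval a₀) := by ring
    rw [this]; exact K.neg_mem hj'
  have hk'K : k' ∈ K := by
    have : k' = -(j' - (c₁ * d - 1)) := by ring
    rw [this]; exact K.neg_mem hj'K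
  set F : A[X] := f * ((X - C a₀) ^ 2 + C d) - (C k' * (X - C a₀) + C (k * d)) with hF
  have hFm : F.Monic := monic_aux_quot f hf a₀ d k' (k * d)
  have hF0 : F.eval a₀ = j * d := by
    simp only [hF, eval_sub, eval_mul, eval_add, eval_pow, eval_X, eval_C, sub_self]
    rw [hk]; ring
  have hF1 : F.derivative.eval a₀ = 1 + j' := by
    simp only [hF, derivative_sub, derivative_mul, derivative_add, derivative_pow, derivative_X,
      derivative_C, eval_sub, eval_mul, eval_add, eval_pow, eval_X, eval_C, sub_self]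
    simp only [← hc₁]
    rw [hk']; simp only [eval_one, eval_zero]; ring
  obtain ⟨a, ha, ha'⟩ := hJ.is_henselian F hFm a₀ (by rw [hF0]; exact J.mul_mem_right _ hj) (by
    rw [hF1, map_add, map_one, Ideal.Quotient.eq_zero_iff_mem.mpr hj'J, add_zero]
    exact isUnit_one)
  refine ⟨Ideal.Quotient.mk K a, ?_, ?_⟩
  · -- `f(a) * ((a - a₀)^2 + d) ≡ 0` mod `K` and the second factor is a unit mod `K`
    have h3 : Ideal.Quotient.mk K (f.eval a) * Ideal.Quotient.mk K ((a - a₀) ^ 2 + d) = 0 := by
      have h4 : F.eval a = 0 := ha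
      simp only [hF, eval_sub, eval_mul, eval_add, eval_pow, eval_X, eval_C] at h4
      rw [← map_mul, Ideal.Quotient.eq_zero_iff_mem]
      have : f.eval a * ((a - a₀) ^ 2 + d) =
          (f.eval a * ((a - a₀) ^ 2 + d) - (k' * (a - a₀) + k * d)) +
            (k' * (a - a₀) + k * d) := by ring
      rw [this, h4, zero_add]
      exact K.add_mem (K.mul_mem_right _ hk'K) (K.mul_mem_right _ hkK)
    have h5 : IsUnit (Ideal.Quotient.mk K d) := by
      have h6 : Ideal.Quotient.mk K c₁ * Ideal.Quotient.mk K d =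
          1 + Ideal.Quotient.mk K j' := by
        rw [← map_mul, ← map_one (Ideal.Quotient.mk K), ← map_add, Ideal.Quotient.eq]
        have : c₁ * d - (1 + j') = k' := by rw [hk']; ring
        rw [this]; exact hk'K
      have h7 : IsUnit (1 + Ideal.Quotient.mk K j') :=
        isUnit_add_of_mem_jacobson_bot isUnit_one (hjacQ (Ideal.mem_map_of_mem _ hj'J))
      rw [← h6] at h7
      exact isUnit_of_mul_isUnit_right h7
    have h8 : IsUnit (Ideal.Quotient.mk K ((a - a₀) ^ 2 + d)) := by
      rw [map_add, add_comm]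
      apply isUnit_add_of_mem_jacobson_bot h5
      apply hjacQ
      apply Ideal.mem_map_of_mem
      exact Ideal.pow_mem_of_mem _ ha' 2 (by norm_num)
    show (f.map (Ideal.Quotient.mk K)).eval (Ideal.Quotient.mk K a) = 0
    rw [e1]
    exact (h8.mul_left_eq_zero).mp h3
  · rw [← map_sub]
    exact Ideal.mem_map_of_mem _ ha'

end Groth.Agent.Lib.Helper3
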