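import Groth.Agent.Lib.Helper3.Henselian4

/-!
# Transport of Henselian pairs along ring isomorphisms and surjections; products (helper3)
-/

set_option autoImplicit false

namespace Groth.Agent.Lib.Helper3

open Polynomial

/-- Transport of the Henselian property along a ring isomorphism. -/
theorem henselianRing_of_ringEquiv {A B : Type*} [CommRing A] [CommRing B] (e : A ≃+* B)
    (I : Ideal A) [hI : HenselianRing A I] : HenselianRing B (I.map (e : A →+* B)) := by
  have hmem : ∀ y : B, y ∈ I.map (e : A →+* B) ↔ e.symm y ∈ I := by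
    intro y
    rw [Ideal.mem_map_iff_of_surjective (e : A →+* B) e.surjective]
    constructor
    · rintro ⟨x, hx, rfl⟩
      simpa using hx
    · intro h
      exact ⟨e.symm y, h, by simp⟩
  have hjac : I.map (e : A →+* B) ≤ Ideal.jacobson ⊥ := by
    intro y hy
    rw [Ideal.mem_jacobson_bot]
    intro z
    have h1 : IsUnit (e.symm y * e.symm z + 1) :=
      Ideal.mem_jacobson_bot.mp (hI.jac ((hmem y).mp hy)) (e.symm z)
    have h2 := h1.map e
    simpa using h2
  refine ⟨hjac, ?_⟩
  intro g hg b₀ h₁ h₂
  have hlocB := isLocalHom_of_le_jacobson_bot _ hjac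
  have hu : IsUnit (g.derivative.eval b₀) := IsUnit.of_map (Ideal.Quotient.mk _) _ h₂
  set f := g.map (e.symm : B →+* A) with hf
  have hfm : f.Monic := hg.map _
  have hev : ∀ (p : B[X]) (b : B), (p.map (e.symm : B →+* A)).eval (e.symm b) = e.symm (p.eval b) := by
    intro p b
    rw [eval_map]
    exact (eval₂_at_apply (e.symm : B →+* A) b)
  have h₁' : f.eval (e.symm b₀) ∈ I := by
    rw [hf, hev]
    exact (hmem _).mp h₁
  have h₂' : IsUnit (Ideal.Quotient.mk I (f.derivative.eval (e.symm b₀))) := by
    rw [hf, derivative_map, hev]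
    exact (hu.map e.symm).map _
  obtain ⟨a, ha, ha'⟩ := hI.is_henselian f hfm (e.symm b₀) h₁' h₂'
  refine ⟨e a, ?_, ?_⟩
  · have h3 : f.eval (e.symm (e a)) = e.symm (g.eval (e a)) := hev g (e a)
    rw [e.symm_apply_apply, show f.eval a = 0 from ha] at h3
    have := congrArg e h3
    simpa using this.symm
  · rw [hmem]
    simpa using ha'

/-- The image of a Henselian pair under a surjective ring map is Henselian. -/
theorem henselianRing_of_surjective {A B : Type*} [CommRing A] [CommRing B] (π : A →+* B)
    (hπ : Function.Surjective π) (J : Ideal A) [HenselianRing A J] :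
    HenselianRing B (J.map π) := by
  have h1 : HenselianRing (A ⧸ RingHom.ker π) (Ideal.map (Ideal.Quotient.mk (RingHom.ker π)) J) :=
    henselianRing_quotient_map J (RingHom.ker π)
  have h2 := henselianRing_of_ringEquiv (RingHom.quotientKerEquivOfSurjective hπ)
    (Ideal.map (Ideal.Quotient.mk (RingHom.ker π)) J)
  rw [Ideal.map_map] at h2
  have h3 : ((RingHom.quotientKerEquivOfSurjective hπ : (A ⧸ RingHom.ker π) →+* B).comp
      (Ideal.Quotient.mk (RingHom.ker π))) = π := by
    ext x; rfl
  rwa [h3] at h2

end Groth.Agent.Lib.Helper3
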