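import Groth.Agent.Lib.Helper3.DirectLimitFP
import Groth.Agent.Lib.Helper9.Hens.PairColimit

/-!
# Maps out of a Henselian finitely presented algebra commute with filtered colimits (helper3)
-/

set_option autoImplicit false
set_option linter.unusedSectionVars false
set_option linter.style.haveILetI false

namespace Groth.Agent.Lib.Helper3

universe u

open Groth.Agent.Lib.Helper9 Groth.Agent.Lib.Helper9.Hens

section Uniq

variable {R : Type u} [CommRing R] {J : Ideal R} {B : Type u} [CommRing B] [Algebra R B]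

/-- Maps out of a henselization of a pair into a ring `C` with `JC ⊆ K ⊆ rad C` are determined by
their restriction to `R`. -/
theorem algHom_ext_of_isPairHenselization (hB : Hens2.IsPairHenselization R J B)
    {C : Type u} [CommRing C] [Algebra R C] (K : Ideal C) (hK : K ≤ Ideal.jacobson ⊥)
    (hJK : J.map (algebraMap R C) ≤ K) (g₁ g₂ : B →ₐ[R] C) : g₁ = g₂ := by
  ext x
  obtain ⟨A', _, _, _, hq, φ, s, rfl⟩ := exists_etale_bijective_algHom_apply_eq hB x
  have hq' : ∀ s : A', ∃ r : R, s - algebraMap R A' r ∈ J.map (algebraMap R A') :=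
    ((quotientMap_bijective_iff (I := J) (S := A')).mp hq).1
  have := algHom_subsingleton_of_etale_of_surjective J K hq' hJK hK (g₁.comp φ) (g₂.comp φ)
  exact DFunLike.congr_fun this s

/-- Ring-hom version. -/
theorem ringHom_ext_of_isPairHenselization (hB : Hens2.IsPairHenselization R J B)
    {C : Type u} [CommRing C] (K : Ideal C) (hK : K ≤ Ideal.jacobson ⊥)
    (g₁ g₂ : B →+* C) (hJK : J.map (g₁.comp (algebraMap R B)) ≤ K)
    (h : g₁.comp (algebraMap R B) = g₂.comp (algebraMap R B)) : g₁ = g₂ := by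
  letI : Algebra R C := (g₁.comp (algebraMap R B)).toAlgebra
  let G₁ : B →ₐ[R] C := { g₁ with commutes' := fun _ => rfl }
  let G₂ : B →ₐ[R] C := { g₂ with commutes' := fun r => (DFunLike.congr_fun h r).symm }
  have := algHom_ext_of_isPairHenselization hB K hK hJK G₁ G₂
  ext x
  exact DFunLike.congr_fun this x

end Uniq

section Ext

variable {A : Type u} [CommRing A] (I : Ideal A) {R₀ : Type u} [CommRing R₀] [Algebra A R₀]
  {B : Type u} [CommRing B] [Algebra R₀ B] [Algebra A B] [IsScalarTower A R₀ B]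

/-- Extension of an `A`-algebra map `R₀ → X` to the henselization `B` of `(R₀, IR₀)`, for a
Henselian pair `(X, IX)`. -/
theorem exists_algHom_extension (hB : Hens2.IsPairHenselization R₀ (I.map (algebraMap A R₀)) B)
    {X : Type u} [CommRing X] [Algebra A X] [hX : HenselianRing X (I.map (algebraMap A X))]
    (φ₀ : R₀ →ₐ[A] X) : ∃ φ : B →ₐ[A] X, ∀ r, φ (algebraMap R₀ B r) = φ₀ r := by
  have hle : (I.map (algebraMap A R₀)).map (φ₀ : R₀ →+* X) ≤ I.map (algebraMap A X) := by
    rw [Ideal.map_map]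
    have : (φ₀ : R₀ →+* X).comp (algebraMap A R₀) = algebraMap A X := by
      ext a; exact φ₀.commutes a
    rw [this]
  obtain ⟨g, hg, -⟩ := hB.2 X (I.map (algebraMap A X)) (φ₀ : R₀ →+* X) hX hle
  refine ⟨{ g with commutes' := fun a => ?_ }, fun r => DFunLike.congr_fun hg r⟩
  change g (algebraMap A B a) = _
  rw [IsScalarTower.algebraMap_apply A R₀ B]
  have := DFunLike.congr_fun hg (algebraMap A R₀ a)
  change g (algebraMap R₀ B (algebraMap A R₀ a)) = φ₀ (algebraMap A R₀ a) at this
  rw [this, φ₀.commutes]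

/-- `A`-algebra maps from `B` to a ring `X` with `IX ⊆ rad X` are determined on `R₀`. -/
theorem algHom_ext_of_comp_algebraMap_eq
    (hB : Hens2.IsPairHenselization R₀ (I.map (algebraMap A R₀)) B)
    {X : Type u} [CommRing X] [Algebra A X] (hX : I.map (algebraMap A X) ≤ Ideal.jacobson ⊥)
    (φ ψ : B →ₐ[A] X) (h : ∀ r, φ (algebraMap R₀ B r) = ψ (algebraMap R₀ B r)) : φ = ψ := by
  have hle : (I.map (algebraMap A R₀)).map ((φ : B →+* X).comp (algebraMap R₀ B)) ≤
      I.map (algebraMap A X) := by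
    rw [Ideal.map_map]
    have : ((φ : B →+* X).comp (algebraMap R₀ B)).comp (algebraMap A R₀) = algebraMap A X := by
      ext a
      change φ (algebraMap R₀ B (algebraMap A R₀ a)) = _
      rw [← IsScalarTower.algebraMap_apply A R₀ B, φ.commutes]
    rw [this]
  have := ringHom_ext_of_isPairHenselization hB (I.map (algebraMap A X)) hX
    (φ : B →+* X) (ψ : B →+* X) hle (RingHom.ext h)
  ext x
  exact DFunLike.congr_fun this x

end Ext

section Colim

variable {A : Type u} [CommRing A] (I : Ideal A) {κ : Type u} [Preorder κ] [IsDirectedOrder κ]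
  [Nonempty κ]
  (G : κ → Type u) [∀ a, CommRing (G a)] [∀ a, Algebra A (G a)]
  (t : ∀ a b : κ, a ≤ b → (G a →+* G b)) [DirectedSystem G (fun a b h => t a b h)]
  (ht : ∀ (a b : κ) (h : a ≤ b), (t a b h).comp (algebraMap A (G a)) = algebraMap A (G b))
  [Algebra A (DirectLimit G t)]
  (halg : ∀ (a : κ) (x : A), algebraMap A (DirectLimit G t) x =
    DirectLimit.Ring.of G t a (algebraMap A (G a) x))

include ht in
theorem DL.t_mem_map (a b : κ) (h : a ≤ b) (x : G a) (hx : x ∈ I.map (algebraMap A (G a))) :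
    t a b h x ∈ I.map (algebraMap A (G b)) := by
  have := Ideal.mem_map_of_mem (t a b h) hx
  rwa [Ideal.map_map, ht] at this

include ht halg in
/-- Elements of `I L` come from `I (G a)` for some `a`. -/
theorem DL.exists_of_mem_map (z : DirectLimit G t) (hz : z ∈ I.map (algebraMap A (DirectLimit G t))) :
    ∃ (a : κ) (x : G a), x ∈ I.map (algebraMap A (G a)) ∧ DirectLimit.Ring.of G t a x = z := by
  unfold Ideal.map at hz
  induction hz using Submodule.span_induction with
  | mem z hz =>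
    obtain ⟨i, hi, rfl⟩ := hz
    let a := Classical.arbitrary κ
    exact ⟨a, algebraMap A (G a) i, Ideal.mem_map_of_mem _ hi, (halg a i).symm⟩
  | zero =>
    let a := Classical.arbitrary κ
    exact ⟨a, 0, Ideal.zero_mem _, map_zero _⟩
  | add z₁ z₂ _ _ h₁ h₂ =>
    obtain ⟨a, x, hx, rfl⟩ := h₁
    obtain ⟨b, y, hy, rfl⟩ := h₂
    obtain ⟨c, hac, hbc⟩ := exists_ge_ge a b
    refine ⟨c, t a c hac x + t b c hbc y,
      Ideal.add_mem _ (DL.t_mem_map I G t ht a c hac x hx) (DL.t_mem_map I G t ht b c hbc y hy), ?_⟩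
    rw [map_add, DL.of_t, DL.of_t]
  | smul l z _ h =>
    obtain ⟨a, x, hx, rfl⟩ := h
    obtain ⟨b, y, rfl⟩ := DL.exists_of G t l
    obtain ⟨c, hac, hbc⟩ := exists_ge_ge a b
    refine ⟨c, t b c hbc y * t a c hac x,
      Ideal.mul_mem_left _ _ (DL.t_mem_map I G t ht a c hac x hx), ?_⟩
    rw [map_mul, DL.of_t, DL.of_t]
    rfl

include ht halg in
/-- If all `I (G a)` lie in the radical, so does `I L`. -/
theorem DL.map_le_jacobson (hG : ∀ a, I.map (algebraMap A (G a)) ≤ Ideal.jacobson ⊥) :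
    I.map (algebraMap A (DirectLimit G t)) ≤ Ideal.jacobson ⊥ := by
  intro z hz
  rw [Ideal.mem_jacobson_bot]
  intro w
  obtain ⟨a, x, hx, rfl⟩ := DL.exists_of_mem_map I G t ht halg z hz
  obtain ⟨b, y, rfl⟩ := DL.exists_of G t w
  obtain ⟨c, hac, hbc⟩ := exists_ge_ge a b
  have h1 : IsUnit (t a c hac x * t b c hbc y + 1) :=
    Ideal.mem_jacobson_bot.mp (hG c (DL.t_mem_map I G t ht a c hac x hx)) _
  have h2 := h1.map (DirectLimit.Ring.of G t c)
  rwa [map_add, map_mul, DL.of_t, DL.of_t, map_one] at h2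

variable {R₀ : Type u} [CommRing R₀] [Algebra A R₀] [Algebra.FinitePresentation A R₀]
  {B : Type u} [CommRing B] [Algebra R₀ B] [Algebra A B] [IsScalarTower A R₀ B]

include ht halg in
/-- **S17613.** -/
theorem algHom_directLimit_of_hfp
    (hB : Hens2.IsPairHenselization R₀ (I.map (algebraMap A R₀)) B)
    [hG : ∀ a, HenselianRing (G a) (I.map (algebraMap A (G a)))] :
    (∀ χ : B →ₐ[A] DirectLimit G t, ∃ (a : κ) (φ : B →ₐ[A] G a),
        ∀ x : B, DirectLimit.Ring.of G t a (φ x) = χ x) ∧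
    ∀ (a : κ) (φ ψ : B →ₐ[A] G a),
      (∀ x : B, DirectLimit.Ring.of G t a (φ x) = DirectLimit.Ring.of G t a (ψ x)) →
      ∃ (b : κ) (h : a ≤ b), ∀ x : B, t a b h (φ x) = t a b h (ψ x) := by
  constructor
  · intro χ
    obtain ⟨b, φ₀, hφ₀⟩ := DL.exists_factor_of_finitePresentation G t ht halg
      (χ.comp (IsScalarTower.toAlgHom A R₀ B))
    obtain ⟨φ, hφ⟩ := exists_algHom_extension I hB φ₀
    refine ⟨b, φ, ?_⟩
    have hjac := DL.map_le_jacobson I G t ht halg (fun a => (hG a).jac)
    have := algHom_ext_of_comp_algebraMap_eq I hB hjac ((DL.ofₐ G t halg b).comp φ) χ (by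
      intro r
      change DirectLimit.Ring.of G t b (φ (algebraMap R₀ B r)) = χ (algebraMap R₀ B r)
      rw [hφ, hφ₀]
      rfl)
    intro x
    exact DFunLike.congr_fun this x
  · intro a φ ψ h
    obtain ⟨b, hab, hb⟩ := DL.exists_comp_eq_of_finiteType G t ht halg a
      (φ.comp (IsScalarTower.toAlgHom A R₀ B)) (ψ.comp (IsScalarTower.toAlgHom A R₀ B))
      (fun r => h _)
    refine ⟨b, hab, ?_⟩
    have := algHom_ext_of_comp_algebraMap_eq I hB (hG b).jac
      ((DL.tₐ G t ht a b hab).comp φ) ((DL.tₐ G t ht a b hab).comp ψ) (fun r => hb r)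
    intro x
    exact DFunLike.congr_fun this x

end Colim

end Groth.Agent.Lib.Helper3
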