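import Groth.Agent.Lib.Helper3.HfpColimit
import Groth.Agent.Lib.Helper3.HenselianMap
import Groth.Agent.Lib.Helper9.Hens.PairUniversal

/-!
# Henselian finite presentation from commutation of `Hom` with filtered colimits (helper3)

If `Hom_A(B, -)` commutes with filtered colimits of Henselian pairs over `A`, then `B` is a quotient
of a Henselized polynomial ring by a finitely generated ideal.
-/

set_option autoImplicit false
set_option linter.unusedSectionVars false
set_option linter.style.haveILetI false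

namespace Groth.Agent.Lib.Helper3.HfpConverse

universe u

open Groth.Agent.Lib.Helper9 Groth.Agent.Lib.Helper9.Hens Groth.Agent.Lib.Helper3

section Model

variable {A : Type u} [CommRing A] (I : Ideal A) (R : Type u) [CommRing R] [Algebra A R]

/-- The model henselization of an `A`-algebra `R` along `I R`. -/
def Hn : Type u := PairHens R (I.map (algebraMap A R))

noncomputable instance : CommRing (Hn I R) :=
  inferInstanceAs (CommRing (PairHens R (I.map (algebraMap A R))))

noncomputable instance : Algebra R (Hn I R) :=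
  inferInstanceAs (Algebra R (PairHens R (I.map (algebraMap A R))))

noncomputable instance : Algebra A (Hn I R) :=
  ((algebraMap R (Hn I R)).comp (algebraMap A R)).toAlgebra

instance : IsScalarTower A R (Hn I R) := IsScalarTower.of_algebraMap_eq fun _ => rfl

theorem Hn.isPairHenselization :
    Hens2.IsPairHenselization R (I.map (algebraMap A R)) (Hn I R) :=
  PairHens.isPairHenselization R (I.map (algebraMap A R))

instance Hn.henselianRing : HenselianRing (Hn I R) (I.map (algebraMap A (Hn I R))) := by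
  have h := (Hn.isPairHenselization I R).1
  rwa [Ideal.map_map, ← IsScalarTower.algebraMap_eq] at h

variable {R} {X : Type u} [CommRing X] [Algebra A X]
  [hX : HenselianRing X (I.map (algebraMap A X))]

/-- The extension of an `A`-algebra map `R → X` to the henselization. -/
noncomputable def Hn.lift (v : R →ₐ[A] X) : Hn I R →ₐ[A] X :=
  (exists_algHom_extension I (Hn.isPairHenselization I R) v).choose

theorem Hn.lift_algebraMap (v : R →ₐ[A] X) (r : R) :
    Hn.lift I v (algebraMap R (Hn I R) r) = v r :=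
  (exists_algHom_extension I (Hn.isPairHenselization I R) v).choose_spec r

theorem Hn.algHom_ext (φ ψ : Hn I R →ₐ[A] X)
    (h : ∀ r, φ (algebraMap R (Hn I R) r) = ψ (algebraMap R (Hn I R) r)) : φ = ψ :=
  algHom_ext_of_comp_algebraMap_eq I (Hn.isPairHenselization I R) hX.jac φ ψ h

theorem Hn.range_lift_le {R₁ R₂ : Type u} [CommRing R₁] [Algebra A R₁] [CommRing R₂]
    [Algebra A R₂] (g : R₁ →ₐ[A] R₂) (v₂ : R₂ →ₐ[A] X) :
    (Hn.lift I (v₂.comp g)).range ≤ (Hn.lift I v₂).range := by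
  let G : Hn I R₁ →ₐ[A] Hn I R₂ :=
    Hn.lift I ((IsScalarTower.toAlgHom A R₂ (Hn I R₂)).comp g)
  have h : (Hn.lift I v₂).comp G = Hn.lift I (v₂.comp g) := by
    apply Hn.algHom_ext
    intro r
    rw [AlgHom.comp_apply, Hn.lift_algebraMap, Hn.lift_algebraMap]
    change Hn.lift I v₂ (algebraMap R₂ (Hn I R₂) (g r)) = _
    rw [Hn.lift_algebraMap]
    rfl
  rintro _ ⟨x, rfl⟩
  exact ⟨G x, DFunLike.congr_fun h x⟩

end Model

/-- The hypothesis: `Hom_A(B, -)` commutes with filtered colimits of Henselian pairs. -/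
def HomColim (A : Type u) [CommRing A] (I : Ideal A) (B : Type u) [CommRing B] [Algebra A B] :
    Prop :=
  ∀ (κ : Type u) [Preorder κ] [IsDirectedOrder κ] [Nonempty κ]
      (Ra : κ → Type u) [∀ a, CommRing (Ra a)] [∀ a, Algebra A (Ra a)]
      [∀ a, HenselianRing (Ra a) (I.map (algebraMap A (Ra a)))]
      (t : ∀ a b : κ, a ≤ b → (Ra a →+* Ra b)) [DirectedSystem Ra (fun a b hab => t a b hab)],
      (∀ (a b : κ) (hab : a ≤ b), (t a b hab).comp (algebraMap A (Ra a)) = algebraMap A (Ra b)) →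
      ∀ [Algebra A (DirectLimit Ra t)],
      (∀ (a : κ) (x : A), algebraMap A (DirectLimit Ra t) x =
        DirectLimit.Ring.of Ra t a (algebraMap A (Ra a) x)) →
      (∀ χ : B →ₐ[A] DirectLimit Ra t, ∃ (a : κ) (φ : B →ₐ[A] Ra a),
          ∀ x : B, DirectLimit.Ring.of Ra t a (φ x) = χ x) ∧
      ∀ (a : κ) (φ ψ : B →ₐ[A] Ra a),
        (∀ x : B, DirectLimit.Ring.of Ra t a (φ x) = DirectLimit.Ring.of Ra t a (ψ x)) →
        ∃ (b : κ) (hab : a ≤ b), ∀ x : B, t a b hab (φ x) = t a b hab (ψ x)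

section Retract

variable {A : Type u} [CommRing A] (I : Ideal A) (B : Type u) [CommRing B] [Algebra A B]
  {κ : Type u} [Preorder κ] [IsDirectedOrder κ] [Nonempty κ]
  (G : κ → Type u) [∀ a, CommRing (G a)] [∀ a, Algebra A (G a)]
  [∀ a, HenselianRing (G a) (I.map (algebraMap A (G a)))]
  (t : ∀ a b : κ, a ≤ b → (G a →+* G b)) [DirectedSystem G (fun a b h => t a b h)]
  (ht : ∀ (a b : κ) (h : a ≤ b), (t a b h).comp (algebraMap A (G a)) = algebraMap A (G b))
  (p : ∀ a, G a →ₐ[A] B) (hp : ∀ a b (h : a ≤ b) (x : G a), p b (t a b h x) = p a x)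
  (hsurj : ∀ b : B, ∃ a x, p a x = b)
  (hinj : ∀ a (x : G a), p a x = 0 → ∃ b, ∃ h : a ≤ b, t a b h x = 0)

include ht hp hsurj hinj in
/-- If `B` is the colimit of a directed system of Henselian pairs, the identity of `B` factors
through a stage. -/
theorem exists_section (h : HomColim A I B) :
    ∃ (a : κ) (φ : B →ₐ[A] G a), ∀ x, p a (φ x) = x := by
  let a₀ : κ := Classical.arbitrary κ
  letI : Algebra A (DirectLimit G t) :=
    ((DirectLimit.Ring.of G t a₀).comp (algebraMap A (G a₀))).toAlgebra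
  have halg : ∀ (a : κ) (x : A), algebraMap A (DirectLimit G t) x =
      DirectLimit.Ring.of G t a (algebraMap A (G a) x) := by
    intro a x
    obtain ⟨c, h1, h2⟩ := exists_ge_ge a₀ a
    change DirectLimit.Ring.of G t a₀ (algebraMap A (G a₀) x) = _
    rw [← DL.of_t G t a₀ c h1, ← DL.of_t G t a c h2]
    congr 1
    rw [← RingHom.comp_apply, ht, ← RingHom.comp_apply, ht]
  let ψ : DirectLimit G t →+* B :=
    DirectLimit.Ring.lift G t B (fun a => (p a).toRingHom) (fun a b h x => hp a b h x)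
  have hψof : ∀ a x, ψ (DirectLimit.Ring.of G t a x) = p a x := fun a x => rfl
  have hψinj : Function.Injective ψ := by
    rw [injective_iff_map_eq_zero]
    intro z hz
    obtain ⟨a, x, rfl⟩ := DL.exists_of G t z
    rw [hψof] at hz
    obtain ⟨b, hab, hb⟩ := hinj a x hz
    rw [← DL.of_t G t a b hab, hb, map_zero]
  have hψsurj : Function.Surjective ψ := fun b => by
    obtain ⟨a, x, rfl⟩ := hsurj b
    exact ⟨DirectLimit.Ring.of G t a x, hψof a x⟩
  let e : DirectLimit G t ≃+* B := RingEquiv.ofBijective ψ ⟨hψinj, hψsurj⟩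
  have he : ∀ b, ψ (e.symm b) = b := fun b => e.apply_symm_apply b
  let χ : B →ₐ[A] DirectLimit G t :=
    { e.symm.toRingHom with
      commutes' := fun x => by
        apply hψinj
        change ψ (e.symm (algebraMap A B x)) = ψ (algebraMap A (DirectLimit G t) x)
        rw [halg a₀, hψof, AlgHom.commutes, he] }
  obtain ⟨a, φ, hφ⟩ := (h κ G t ht halg).1 χ
  refine ⟨a, φ, fun x => ?_⟩
  rw [← hψof, hφ]
  exact he x

end Retract

section Stage1

variable {A : Type u} [CommRing A] (I : Ideal A) (B : Type u) [CommRing B] [Algebra A B]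
  [hBh : HenselianRing B (I.map (algebraMap A B))]

/-- Evaluation of polynomials in the variables indexed by a finite subset of `B`. -/
noncomputable def ev (s : Finset B) : MvPolynomial s A →ₐ[A] B :=
  MvPolynomial.aeval (fun x : s => (x : B))

/-- The Henselian subalgebra of `B` generated by a finite set. -/
noncomputable def Gs (s : Finset B) : Subalgebra A B := (Hn.lift I (ev B s)).range

theorem mem_Gs {s : Finset B} {b : B} (hb : b ∈ s) : b ∈ Gs I B s := by
  refine ⟨algebraMap (MvPolynomial s A) (Hn I (MvPolynomial s A)) (MvPolynomial.X ⟨b, hb⟩), ?_⟩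
  change Hn.lift I (ev B s) _ = b
  rw [Hn.lift_algebraMap]
  simp [ev]

theorem Gs_mono {s s' : Finset B} (h : s ≤ s') : Gs I B s ≤ Gs I B s' := by
  let g : MvPolynomial s A →ₐ[A] MvPolynomial s' A :=
    MvPolynomial.rename (fun x : s => (⟨x.1, h x.2⟩ : s'))
  have h1 : (ev B s').comp g = ev B s := by
    apply MvPolynomial.algHom_ext
    intro i
    simp [ev, g]
  unfold Gs
  rw [← h1]
  exact Hn.range_lift_le I g (ev B s')

instance henselianRing_Gs (s : Finset B) :
    HenselianRing (Gs I B s) (I.map (algebraMap A (Gs I B s))) := by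
  have h := henselianRing_of_surjective
    ((Hn.lift I (ev B s)).rangeRestrict : Hn I (MvPolynomial s A) →+* (Hn.lift I (ev B s)).range)
    (AlgHom.rangeRestrict_surjective _) (I.map (algebraMap A (Hn I (MvPolynomial s A))))
  rw [Ideal.map_map, AlgHom.comp_algebraMap] at h
  exact h

/-- Transition maps. -/
noncomputable def tG (s s' : Finset B) (h : s ≤ s') : Gs I B s →+* Gs I B s' :=
  (Subalgebra.inclusion (Gs_mono I B h)).toRingHom

instance directedSystem_Gs :
    DirectedSystem (fun s : Finset B => ↥(Gs I B s)) (fun a b h => tG I B a b h) where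
  map_self := fun _ _ => Subtype.ext rfl
  map_map := fun _ _ _ _ _ _ => Subtype.ext rfl

include hBh in
theorem exists_surjective (h : HomColim A I B) :
    ∃ s : Finset B, Function.Surjective (Hn.lift I (ev B s)) := by
  obtain ⟨s, φ, hφ⟩ := exists_section I B (fun s : Finset B => ↥(Gs I B s)) (tG I B)
    (fun a b hab => by ext x; rfl) (fun s => (Gs I B s).val) (fun a b hab x => rfl)
    (fun b => ⟨{b}, ⟨b, mem_Gs I B (Finset.mem_singleton_self b)⟩, rfl⟩)
    (fun a x hx => ⟨a, le_rfl, by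
      have : x = 0 := Subtype.ext hx
      rw [this, map_zero]⟩) h
  refine ⟨s, fun b => ?_⟩
  have h1 : b ∈ Gs I B s := by
    rw [← hφ b]
    exact (φ b).2
  exact h1

include hBh in
theorem exists_surjective_fin (h : HomColim A I B) :
    ∃ (n : ℕ) (b : Fin n → B), Function.Surjective
      (Hn.lift I (MvPolynomial.aeval b : MvPolynomial (Fin n) A →ₐ[A] B)) := by
  obtain ⟨s, hs⟩ := exists_surjective I B h
  let e : s ≃ Fin s.card := s.equivFin
  let b : Fin s.card → B := fun i => ((e.symm i : s) : B)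
  let g : MvPolynomial s A →ₐ[A] MvPolynomial (Fin s.card) A := MvPolynomial.rename e
  have h1 : (MvPolynomial.aeval b : MvPolynomial (Fin s.card) A →ₐ[A] B).comp g = ev B s := by
    apply MvPolynomial.algHom_ext
    intro i
    simp [ev, g, b]
  refine ⟨s.card, b, ?_⟩
  have h2 := Hn.range_lift_le I g (MvPolynomial.aeval b : MvPolynomial (Fin s.card) A →ₐ[A] B)
  rw [h1] at h2
  intro y
  obtain ⟨x, rfl⟩ := hs y
  exact h2 ⟨x, rfl⟩

end Stage1

section Stage2

variable {A : Type u} [CommRing A] (I : Ideal A) (B : Type u) [CommRing B] [Algebra A B]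
  (R : Type u) [CommRing R] [Algebra A R] [hft : Algebra.FiniteType A R]
  (π : Hn I R →ₐ[A] B) (hπ : Function.Surjective π)

/-- Finitely generated ideals inside the kernel. -/
abbrev Idx : Type u := {𝔟 : Ideal (Hn I R) // 𝔟.FG ∧ 𝔟 ≤ RingHom.ker π}

instance : IsDirectedOrder (Idx I B R π) :=
  ⟨fun a b => ⟨⟨a.1 ⊔ b.1, Submodule.FG.sup a.2.1 b.2.1, sup_le a.2.2 b.2.2⟩,
    (le_sup_left : a.1 ≤ a.1 ⊔ b.1), (le_sup_right : b.1 ≤ a.1 ⊔ b.1)⟩⟩

instance : Nonempty (Idx I B R π) := ⟨⟨⊥, Submodule.fg_bot, bot_le⟩⟩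

instance henselianRing_quot (𝔟 : Idx I B R π) :
    HenselianRing (Hn I R ⧸ 𝔟.1) (I.map (algebraMap A (Hn I R ⧸ 𝔟.1))) := by
  have h := henselianRing_of_surjective (Ideal.Quotient.mk 𝔟.1) Ideal.Quotient.mk_surjective
    (I.map (algebraMap A (Hn I R)))
  rw [Ideal.map_map] at h
  exact h

instance directedSystem_quot :
    DirectedSystem (fun 𝔟 : Idx I B R π => Hn I R ⧸ 𝔟.1)
      (fun a b (h : a ≤ b) => Ideal.Quotient.factor (show a.1 ≤ b.1 from h)) where
  map_self := fun _ x => by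
    obtain ⟨y, rfl⟩ := Ideal.Quotient.mk_surjective x
    rfl
  map_map := fun _ _ _ _ _ x => by
    obtain ⟨y, rfl⟩ := Ideal.Quotient.mk_surjective x
    rfl

include hπ hft in
theorem ker_fg (h : HomColim A I B) : (RingHom.ker π).FG := by
  classical
  let p : ∀ 𝔟 : Idx I B R π, (Hn I R ⧸ 𝔟.1) →ₐ[A] B :=
    fun 𝔟 => Ideal.Quotient.liftₐ 𝔟.1 π (fun a ha => 𝔟.2.2 ha)
  have hpmk : ∀ (𝔟 : Idx I B R π) (y : Hn I R), p 𝔟 (Ideal.Quotient.mk 𝔟.1 y) = π y :=
    fun 𝔟 y => rfl
  have hinj : ∀ (a : Idx I B R π) (x : Hn I R ⧸ a.1), p a x = 0 →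
      ∃ b, ∃ hab : a ≤ b, Ideal.Quotient.factor (show a.1 ≤ b.1 from hab) x = 0 := by
    intro a x hx
    obtain ⟨y, rfl⟩ := Ideal.Quotient.mk_surjective x
    rw [hpmk] at hx
    refine ⟨⟨a.1 ⊔ Ideal.span {y}, Submodule.FG.sup a.2.1 ⟨{y}, by simp⟩,
      sup_le a.2.2 ((Ideal.span_singleton_le_iff_mem _).mpr hx)⟩,
      (le_sup_left : a.1 ≤ a.1 ⊔ Ideal.span {y}), ?_⟩
    rw [Ideal.Quotient.factor_mk, Ideal.Quotient.eq_zero_iff_mem]
    exact Ideal.mem_sup_right (Ideal.mem_span_singleton_self y)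
  obtain ⟨𝔟, φ, hφ⟩ := exists_section I B (fun 𝔟 : Idx I B R π => Hn I R ⧸ 𝔟.1)
    (fun a b (hab : a ≤ b) => Ideal.Quotient.factor (show a.1 ≤ b.1 from hab))
    (fun a b hab => by ext x; rfl) p
    (fun a b hab x => by
      obtain ⟨y, rfl⟩ := Ideal.Quotient.mk_surjective x
      rfl)
    (fun b => by
      obtain ⟨y, rfl⟩ := hπ b
      exact ⟨⟨⊥, Submodule.fg_bot, bot_le⟩, Ideal.Quotient.mk _ y, rfl⟩)
    hinj h
  -- generators of `R`
  obtain ⟨S, hS⟩ := hft.out
  let ρ : R →ₐ[A] Hn I R := IsScalarTower.toAlgHom A R (Hn I R)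
  let q : Hn I R →ₐ[A] Hn I R ⧸ 𝔟.1 := Ideal.Quotient.mkₐ A 𝔟.1
  have hpq : ∀ y, p 𝔟 (q y) = π y := fun y => rfl
  have h1 : ∀ r : S, ∃ b, ∃ hab : 𝔟 ≤ b,
      Ideal.Quotient.factor (show 𝔟.1 ≤ b.1 from hab) (φ (π (ρ r.1))) =
        Ideal.Quotient.factor (show 𝔟.1 ≤ b.1 from hab) (q (ρ r.1)) := by
    intro r
    have h2 : p 𝔟 (φ (π (ρ r.1)) - q (ρ r.1)) = 0 := by
      rw [map_sub, hφ, hpq, sub_self]
    obtain ⟨b, hab, hb⟩ := hinj 𝔟 _ h2
    refine ⟨b, hab, ?_⟩
    rw [map_sub, sub_eq_zero] at hb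
    exact hb
  choose c hc hceq using h1
  obtain ⟨𝔟', hbb', hb'⟩ := DL.exists_ge_finite 𝔟 c
  let F : (Hn I R ⧸ 𝔟.1) →ₐ[A] (Hn I R ⧸ 𝔟'.1) :=
    Ideal.Quotient.factorₐ A (show 𝔟.1 ≤ 𝔟'.1 from hbb')
  have h3 : ((F.comp φ).comp π).comp ρ = (F.comp q).comp ρ := by
    apply AlgHom.ext_of_adjoin_eq_top hS
    intro r hr
    change Ideal.Quotient.factor (show 𝔟.1 ≤ 𝔟'.1 from hbb') (φ (π (ρ r))) =
      Ideal.Quotient.factor (show 𝔟.1 ≤ 𝔟'.1 from hbb') (q (ρ r))
    have h4 := hceq ⟨r, hr⟩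
    have h5 := congrArg (Ideal.Quotient.factor (show (c ⟨r, hr⟩).1 ≤ 𝔟'.1 from hb' ⟨r, hr⟩)) h4
    have h6 : ∀ z : Hn I R ⧸ 𝔟.1,
        Ideal.Quotient.factor (show (c ⟨r, hr⟩).1 ≤ 𝔟'.1 from hb' ⟨r, hr⟩)
          (Ideal.Quotient.factor (show 𝔟.1 ≤ (c ⟨r, hr⟩).1 from hc ⟨r, hr⟩) z) =
        Ideal.Quotient.factor (show 𝔟.1 ≤ 𝔟'.1 from hbb') z := by
      intro z
      obtain ⟨y, rfl⟩ := Ideal.Quotient.mk_surjective z
      rfl
    rw [h6, h6] at h5
    exact h5
  have h7 : (F.comp φ).comp π = F.comp q := by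
    apply Hn.algHom_ext I
    intro r
    exact DFunLike.congr_fun h3 r
  have h8 : RingHom.ker π ≤ 𝔟'.1 := by
    intro x hx
    have h9 := DFunLike.congr_fun h7 x
    change F (φ (π x)) = Ideal.Quotient.mk 𝔟'.1 x at h9
    rw [(RingHom.mem_ker).mp hx, map_zero, map_zero] at h9
    exact Ideal.Quotient.eq_zero_iff_mem.mp h9.symm
  rw [le_antisymm h8 𝔟'.2.2]
  exact 𝔟'.2.1

end Stage2

section Main

variable (A : Type u) [CommRing A] (I : Ideal A) (B : Type u) [CommRing B] [Algebra A B]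
  [hBh : HenselianRing B (I.map (algebraMap A B))]

include hBh in
/-- `B` is a quotient of a Henselized polynomial ring by a finitely generated ideal. -/
theorem main (h : HomColim A I B) :
    ∃ (n : ℕ) (P : Type u) (_ : CommRing P) (_ : Algebra (MvPolynomial (Fin n) A) P)
      (_ : Algebra A P) (_ : IsScalarTower A (MvPolynomial (Fin n) A) P),
      Hens2.IsPairHenselization (MvPolynomial (Fin n) A)
        (I.map (algebraMap A (MvPolynomial (Fin n) A))) P ∧
      ∃ φ : P →ₐ[A] B, Function.Surjective φ ∧ (RingHom.ker φ).FG := by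
  obtain ⟨n, b, hb⟩ := exists_surjective_fin I B h
  exact ⟨n, Hn I (MvPolynomial (Fin n) A), inferInstance, inferInstance, inferInstance,
    inferInstance, Hn.isPairHenselization I _, Hn.lift I (MvPolynomial.aeval b), hb,
    ker_fg I B (MvPolynomial (Fin n) A) _ hb h⟩

end Main

end Groth.Agent.Lib.Helper3.HfpConverse
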