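import Groth.Agent.Lib.Helper3.PairHensTools

/-!
# Maps between Henselian finitely presented algebras (helper3)
-/

set_option autoImplicit false
set_option linter.unusedSectionVars false
set_option linter.style.haveILetI false

namespace Groth.Agent.Lib.Helper3

universe u

open Groth.Agent.Lib.Helper9 Groth.Agent.Lib.Helper9.Hens TensorProduct

section Tensor

variable {R B S' C : Type u} [CommRing R] [CommRing B] [CommRing S'] [CommRing C]
  [Algebra R B] [Algebra R S'] [Algebra R C] [Algebra B C] [Algebra S' C]
  [IsScalarTower R B C] [IsScalarTower R S' C]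

/-- If `B = R^h` and `C = S'^h` for an `R`-algebra `S'`, and `B → C` is an `R`-algebra map, then
`C` is the henselization of `B ⊗_R S'`. -/
theorem isPairHenselization_tensor (J : Ideal R) (hB : Hens2.IsPairHenselization R J B)
    (hC : Hens2.IsPairHenselization S' (J.map (algebraMap R S')) C)
    [Algebra (B ⊗[R] S') C]
    (hT : ∀ (b : B) (s : S'), algebraMap (B ⊗[R] S') C (b ⊗ₜ s) =
      algebraMap B C b * algebraMap S' C s) :
    Hens2.IsPairHenselization (B ⊗[R] S')
      ((J.map (algebraMap R B)).map (algebraMap B (B ⊗[R] S'))) C := by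
  have hRT : ∀ r : R, algebraMap B (B ⊗[R] S') (algebraMap R B r) =
      (Algebra.TensorProduct.includeRight : S' →ₐ[R] B ⊗[R] S') (algebraMap R S' r) := by
    intro r
    rw [Algebra.TensorProduct.algebraMap_apply, Algebra.TensorProduct.includeRight_apply,
      Algebra.algebraMap_self, RingHom.id_apply,
      Algebra.algebraMap_eq_smul_one, Algebra.algebraMap_eq_smul_one, TensorProduct.smul_tmul]
  have hideal : ((J.map (algebraMap R B)).map (algebraMap B (B ⊗[R] S'))).map
      (algebraMap (B ⊗[R] S') C) = (J.map (algebraMap R S')).map (algebraMap S' C) := by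
    rw [Ideal.map_map, Ideal.map_map, Ideal.map_map]
    congr 1
    ext r
    change algebraMap (B ⊗[R] S') C (algebraMap B (B ⊗[R] S') (algebraMap R B r)) =
      algebraMap S' C (algebraMap R S' r)
    rw [Algebra.TensorProduct.algebraMap_apply, hT, Algebra.algebraMap_self, RingHom.id_apply,
      map_one, mul_one, ← IsScalarTower.algebraMap_apply, ← IsScalarTower.algebraMap_apply]
  refine ⟨hideal ▸ hC.1, ?_⟩
  intro D _ K g hD hle
  let gS : S' →+* D := g.comp (Algebra.TensorProduct.includeRight : S' →ₐ[R] B ⊗[R] S').toRingHom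
  let gB : B →+* D := g.comp (algebraMap B (B ⊗[R] S'))
  have hgRS : gS.comp (algebraMap R S') = gB.comp (algebraMap R B) := by
    ext r
    change g ((Algebra.TensorProduct.includeRight : S' →ₐ[R] B ⊗[R] S') (algebraMap R S' r)) =
      g (algebraMap B (B ⊗[R] S') (algebraMap R B r))
    rw [hRT]
  have hleB : J.map (gB.comp (algebraMap R B)) ≤ K := by
    have : J.map (gB.comp (algebraMap R B)) =
        ((J.map (algebraMap R B)).map (algebraMap B (B ⊗[R] S'))).map g := by
      rw [Ideal.map_map, Ideal.map_map]
    rw [this]; exact hle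
  have hleS : (J.map (algebraMap R S')).map gS ≤ K := by
    rw [Ideal.map_map, hgRS]; exact hleB
  obtain ⟨h, hh, huniq⟩ := hC.2 D K gS hD hleS
  -- `h ∘ alg_{B→C} = gB`
  have hhB : h.comp (algebraMap B C) = gB := by
    apply ringHom_ext_of_isPairHenselization hB K hD.jac
    · have : (h.comp (algebraMap B C)).comp (algebraMap R B) = gB.comp (algebraMap R B) := by
        rw [← hgRS, ← hh]
        ext r
        change h (algebraMap B C (algebraMap R B r)) = h (algebraMap S' C (algebraMap R S' r))
        rw [← IsScalarTower.algebraMap_apply, ← IsScalarTower.algebraMap_apply]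
      rw [this]; exact hleB
    · rw [← hgRS, ← hh]
      ext r
      change h (algebraMap B C (algebraMap R B r)) = h (algebraMap S' C (algebraMap R S' r))
      rw [← IsScalarTower.algebraMap_apply, ← IsScalarTower.algebraMap_apply]
  refine ⟨h, ?_, ?_⟩
  · refine RingHom.ext (fun x => ?_)
    induction x using TensorProduct.induction_on with
    | zero => simp
    | tmul b s =>
      change h (algebraMap (B ⊗[R] S') C (b ⊗ₜ s)) = g (b ⊗ₜ s)
      rw [hT, map_mul]
      have h1 : h (algebraMap B C b) = g (b ⊗ₜ 1) := DFunLike.congr_fun hhB b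
      have h2 : h (algebraMap S' C s) = g (1 ⊗ₜ s) := DFunLike.congr_fun hh s
      rw [h1, h2, ← map_mul, Algebra.TensorProduct.tmul_mul_tmul, mul_one, one_mul]
    | add x y hx hy =>
      rw [RingHom.comp_apply] at hx hy ⊢
      rw [map_add, map_add, hx, hy, map_add]
  · intro h' hh'
    apply huniq
    refine RingHom.ext (fun s => ?_)
    change h' (algebraMap S' C s) = g (1 ⊗ₜ s)
    rw [← hh']
    change _ = h' (algebraMap (B ⊗[R] S') C (1 ⊗ₜ s))
    rw [hT, map_one, one_mul]

end Tensor

section Maps

variable {A : Type u} [CommRing A] (I : Ideal A)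
  (R : Type u) [CommRing R] [Algebra A R] [Algebra.FinitePresentation A R]
  (B : Type u) [CommRing B] [Algebra R B] [Algebra A B] [IsScalarTower A R B]
  (S : Type u) [CommRing S] [Algebra A S] [Algebra.FinitePresentation A S]
  (C : Type u) [CommRing C] [Algebra S C] [Algebra A C] [IsScalarTower A S C]

/-- **S17609.** Every `A`-algebra map between Henselian finitely presented `A`-algebras is
Henselian finitely presented. -/
theorem exists_finitePresentation_of_algebra_hfp
    (hB : Hens2.IsPairHenselization R (I.map (algebraMap A R)) B)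
    (hC : Hens2.IsPairHenselization S (I.map (algebraMap A S)) C)
    [Algebra B C] [IsScalarTower A B C] :
    ∃ (T : Type u) (_ : CommRing T) (_ : Algebra B T) (_ : Algebra T C) (_ : IsScalarTower B T C),
      Algebra.FinitePresentation B T ∧
      Hens2.IsPairHenselization T ((I.map (algebraMap A B)).map (algebraMap B T)) C := by
  let θ₀ : R →ₐ[A] C := (IsScalarTower.toAlgHom A B C).comp (IsScalarTower.toAlgHom A R B)
  obtain ⟨S', _, _, _, _, _, hq, φ, θ₁, hφ⟩ := exists_etale_nbhd_factor hC θ₀
  letI algS'C : Algebra S' C := (φ : S' →+* C).toAlgebra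
  haveI : IsScalarTower S S' C := IsScalarTower.of_algebraMap_eq (fun s => (φ.commutes s).symm)
  have hC' : Hens2.IsPairHenselization S' ((I.map (algebraMap A S)).map (algebraMap S S')) C :=
    isPairHenselization_of_etale_nbhd hC hq
  letI algRS' : Algebra R S' := (θ₁ : R →+* S').toAlgebra
  haveI : IsScalarTower A R S' := IsScalarTower.of_algebraMap_eq (fun a => (θ₁.commutes a).symm)
  letI algRC : Algebra R C := ((algebraMap B C).comp (algebraMap R B)).toAlgebra
  haveI : IsScalarTower R B C := IsScalarTower.of_algebraMap_eq (fun _ => rfl)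
  haveI : IsScalarTower R S' C := IsScalarTower.of_algebraMap_eq (fun r => (hφ r).symm)
  -- finite presentation
  haveI : Algebra.FinitePresentation S S' := Algebra.Etale.finitePresentation
  haveI : Algebra.FinitePresentation A S' := Algebra.FinitePresentation.trans A S S'
  haveI : Algebra.FinitePresentation R S' :=
    Algebra.FinitePresentation.of_restrict_scalars_finitePresentation A R S'
  -- the map `B ⊗[R] S' → C`
  let μ : B ⊗[R] S' →ₐ[B] C :=
    Algebra.TensorProduct.lift (Algebra.ofId B C) (IsScalarTower.toAlgHom R S' C)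
      (fun _ _ => Commute.all _ _)
  letI algTC : Algebra (B ⊗[R] S') C := (μ : B ⊗[R] S' →+* C).toAlgebra
  haveI : IsScalarTower B (B ⊗[R] S') C :=
    IsScalarTower.of_algebraMap_eq (fun b => (μ.commutes b).symm)
  have hT : ∀ (b : B) (s : S'), algebraMap (B ⊗[R] S') C (b ⊗ₜ s) =
      algebraMap B C b * algebraMap S' C s := by
    intro b s
    change μ (b ⊗ₜ s) = _
    rw [Algebra.TensorProduct.lift_tmul]
    rfl
  have hJ : (I.map (algebraMap A R)).map (algebraMap R S') =
      (I.map (algebraMap A S)).map (algebraMap S S') := by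
    rw [Ideal.map_map, Ideal.map_map, ← IsScalarTower.algebraMap_eq,
      ← IsScalarTower.algebraMap_eq]
  have hJB : (I.map (algebraMap A R)).map (algebraMap R B) = I.map (algebraMap A B) := by
    rw [Ideal.map_map, ← IsScalarTower.algebraMap_eq]
  have key := isPairHenselization_tensor (I.map (algebraMap A R)) hB (hJ ▸ hC') hT
  rw [hJB] at key
  exact ⟨B ⊗[R] S', inferInstance, inferInstance, algTC, inferInstance, inferInstance, key⟩

end Maps

end Groth.Agent.Lib.Helper3
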