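import Groth.Agent.Lib.Helper3.HenselFinite
import Groth.Agent.Lib.Helper3.HenselRoot

/-!
# Finite algebras over a local ring: products of local rings and idempotent lifting (helper3)

`exists_ringEquiv_pi_isLocalRing_iff_surjOn` (S17970): for `B` finite over a local ring `A`,
`B` is a finite product of local rings iff idempotents lift along `B → B/𝔪B`.
-/

set_option autoImplicit false
set_option linter.style.haveILetI false
set_option linter.unusedSectionVars false

universe u

namespace Groth.Agent.Lib.Helper3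

open IsLocalRing

/-- In a finite product of local rings, idempotents lift modulo every ideal. -/
theorem exists_idempotent_sub_mem_of_pi {ι : Type*} [Fintype ι] [DecidableEq ι] {C : ι → Type*}
    [∀ j, CommRing (C j)] [∀ j, IsLocalRing (C j)] (K : Ideal (∀ j, C j)) (x : ∀ j, C j)
    (hx : x * x - x ∈ K) : ∃ e : ∀ j, C j, IsIdempotentElem e ∧ e - x ∈ K := by
  classical
  let e : ∀ j, C j := fun j => if IsUnit (x j) then 1 else 0
  refine ⟨e, ?_, ?_⟩
  · funext j
    simp only [Pi.mul_apply, e]
    split_ifs <;> simp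
  · have hsum : e - x = ∑ j, Pi.single j ((e - x) j) := (Finset.univ_sum_single (e - x)).symm
    rw [hsum]
    refine Ideal.sum_mem _ fun j _ => ?_
    by_cases hj : IsUnit (x j)
    · obtain ⟨u, hu⟩ := hj.exists_left_inv
      have : Pi.single j ((e - x) j) = Pi.single j (-u) * (x * x - x) := by
        funext k
        by_cases hk : k = j
        · subst hk
          simp only [Pi.single_eq_same, Pi.mul_apply, Pi.sub_apply, e, if_pos hj]
          linear_combination (x k - 1) * hu
        · simp [Pi.single_eq_of_ne hk]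
      rw [this]
      exact K.mul_mem_left _ hx
    · have hj' : IsUnit (1 - x j) := (IsLocalRing.isUnit_or_isUnit_one_sub_self (x j)).resolve_left hj
      obtain ⟨u, hu⟩ := hj'.exists_left_inv
      have : Pi.single j ((e - x) j) = Pi.single j u * (x * x - x) := by
        funext k
        by_cases hk : k = j
        · subst hk
          simp only [Pi.single_eq_same, Pi.mul_apply, Pi.sub_apply, e, if_neg hj]
          linear_combination (x k) * hu
        · simp [Pi.single_eq_of_ne hk]
      rw [this]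
      exact K.mul_mem_left _ hx

section Main

variable (A : Type u) [CommRing A] [IsLocalRing A] (B : Type u) [CommRing B] [Algebra A B]
  [Module.Finite A B]

theorem exists_ringEquiv_pi_isLocalRing_of_surjOn
    (h : Set.SurjOn (Ideal.Quotient.mk (Ideal.map (algebraMap A B) (maximalIdeal A)))
      {e : B | IsIdempotentElem e} {e | IsIdempotentElem e}) :
    ∃ (ι : Type u) (_ : Fintype ι) (C : ι → Type u) (_ : ∀ j, CommRing (C j)),
      (∀ j, IsLocalRing (C j)) ∧ Nonempty (B ≃+* (∀ j, C j)) := by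
  classical
  haveI : Module.Finite (A ⧸ maximalIdeal A) (B ⧸ Ideal.map (algebraMap A B) (maximalIdeal A)) :=
    Module.Finite.of_restrictScalars_finite A _ _
  haveI : IsArtinianRing (A ⧸ maximalIdeal A) :=
    inferInstanceAs (IsArtinianRing (ResidueField A))
  haveI : IsArtinianRing (B ⧸ Ideal.map (algebraMap A B) (maximalIdeal A)) :=
    IsArtinianRing.of_finite (A ⧸ maximalIdeal A) _
  set mB := Ideal.map (algebraMap A B) (maximalIdeal A) with hmB
  haveI : Fintype (MaximalSpectrum (B ⧸ mB)) := Fintype.ofFinite _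
  let φ := MaximalSpectrum.toPiLocalizationEquiv (B ⧸ mB)
  let eb : MaximalSpectrum (B ⧸ mB) → B ⧸ mB := fun m => φ.symm (Pi.single m 1)
  have heb : CompleteOrthogonalIdempotents eb :=
    (CompleteOrthogonalIdempotents.single
      (fun m : MaximalSpectrum (B ⧸ mB) => Localization.AtPrime m.asIdeal)).map
      (φ.symm : MaximalSpectrum.PiLocalization (B ⧸ mB) →+* B ⧸ mB)
  have hint : Algebra.IsIntegral A B := Algebra.IsIntegral.of_finite A B
  have hjac : mB ≤ Ideal.jacobson ⊥ := map_maximalIdeal_le_jacobson_bot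
  choose e₀ he₀idem he₀ using fun m => h (heb.idem m)
  have hzero : ∀ x : B, IsIdempotentElem x → Ideal.Quotient.mk mB x = 0 → x = 0 :=
    fun x hx h0 => eq_zero_of_isIdempotentElem_of_mem_jacobson hx
      (hjac (Ideal.Quotient.eq_zero_iff_mem.mp h0))
  have hortho : Pairwise (fun m m' => e₀ m * e₀ m' = 0) := by
    intro m m' hne
    apply hzero _ ((he₀idem m).mul (he₀idem m'))
    rw [map_mul, he₀, he₀]
    exact heb.ortho hne
  have he₀c : CompleteOrthogonalIdempotents e₀ := by
    refine ⟨⟨he₀idem, hortho⟩, ?_⟩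
    have hs : IsIdempotentElem (∑ m, e₀ m) :=
      OrthogonalIdempotents.isIdempotentElem_sum ⟨he₀idem, hortho⟩
    have := hzero (1 - ∑ m, e₀ m) hs.one_sub (by
      rw [map_sub, map_one, map_sum]
      simp_rw [he₀]
      rw [heb.complete, sub_self])
    exact (sub_eq_zero.mp this).symm
  -- key property of the idempotents `eb`
  have hkey : ∀ m n : MaximalSpectrum (B ⧸ mB), eb m ∉ n.asIdeal → n = m := by
    intro m n hmn
    by_contra hne
    apply hmn
    have h1 : algebraMap (B ⧸ mB) (Localization.AtPrime n.asIdeal) (eb m) = 0 := by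
      have : φ (eb m) n = (Pi.single m (1 : Localization.AtPrime m.asIdeal) :
          MaximalSpectrum.PiLocalization (B ⧸ mB)) n := by
        simp only [eb, AlgEquiv.apply_symm_apply]
      rw [Pi.single_eq_of_ne hne] at this
      exact this
    rw [IsLocalization.map_eq_zero_iff n.asIdeal.primeCompl] at h1
    obtain ⟨s, hs⟩ := h1
    exact (n.isMaximal.isPrime.mem_or_mem (hs ▸ n.asIdeal.zero_mem)).resolve_left s.2
  -- reindex by `Fin n`
  let σ := Finite.equivFin (MaximalSpectrum (B ⧸ mB))
  let e : Fin (Nat.card (MaximalSpectrum (B ⧸ mB))) → B := e₀ ∘ σ.symm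
  have hec : CompleteOrthogonalIdempotents e := (CompleteOrthogonalIdempotents.equiv σ.symm).mpr he₀c
  refine exists_ringEquiv_pi_of_completeOrthogonalIdempotents e hec ?_
  intro i 𝔮 𝔮' h𝔮 h𝔮' hi hi'
  have hmap : ∀ 𝔭 : Ideal B, 𝔭.IsMaximal → e i ∉ 𝔭 →
      𝔭 = (σ.symm i).asIdeal.comap (Ideal.Quotient.mk mB) := by
    intro 𝔭 h𝔭 hi𝔭
    have hle : mB ≤ 𝔭 := hjac.trans (sInf_le ⟨bot_le, h𝔭⟩)
    have hker : RingHom.ker (Ideal.Quotient.mk mB) ≤ 𝔭 := by rwa [Ideal.mk_ker]
    have hmax : (𝔭.map (Ideal.Quotient.mk mB)).IsMaximal :=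
      Ideal.IsMaximal.map_of_surjective_of_ker_le Ideal.Quotient.mk_surjective hker
    have hcm : (𝔭.map (Ideal.Quotient.mk mB)).comap (Ideal.Quotient.mk mB) = 𝔭 := by
      rw [Ideal.comap_map_of_surjective' _ Ideal.Quotient.mk_surjective, sup_eq_left]
      exact hker
    have hn := hkey (σ.symm i) ⟨_, hmax⟩ (by
      intro hmem
      apply hi𝔭
      rw [← hcm, Ideal.mem_comap]
      change Ideal.Quotient.mk mB (e₀ (σ.symm i)) ∈ _
      rw [he₀]
      exact hmem)
    rw [← hn]
    exact hcm.symm
  rw [hmap 𝔮 h𝔮 hi, hmap 𝔮' h𝔮' hi']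

theorem surjOn_of_ringEquiv_pi_isLocalRing (K : Ideal B) {ι : Type*} [Fintype ι] {C : ι → Type*}
    [∀ j, CommRing (C j)] [∀ j, IsLocalRing (C j)] (φ : B ≃+* (∀ j, C j)) :
    Set.SurjOn (Ideal.Quotient.mk K) {e : B | IsIdempotentElem e} {e | IsIdempotentElem e} := by
  classical
  intro eb heb
  obtain ⟨x, rfl⟩ := Ideal.Quotient.mk_surjective eb
  have hx : x * x - x ∈ K := by
    rw [← Ideal.Quotient.eq, map_mul]
    exact heb
  obtain ⟨e', he', hex⟩ := exists_idempotent_sub_mem_of_pi (K.comap (φ.symm : _ →+* B)) (φ x) (by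
    rw [Ideal.mem_comap, ← map_mul, ← map_sub]
    simpa using hx)
  refine ⟨φ.symm e', he'.map φ.symm, ?_⟩
  rw [Ideal.Quotient.eq]
  rw [Ideal.mem_comap] at hex
  simpa using hex

theorem exists_ringEquiv_pi_isLocalRing_iff_surjOn :
    (∃ (ι : Type u) (_ : Fintype ι) (C : ι → Type u) (_ : ∀ j, CommRing (C j)),
        (∀ j, IsLocalRing (C j)) ∧ Nonempty (B ≃+* (∀ j, C j))) ↔
      Set.SurjOn (Ideal.Quotient.mk (Ideal.map (algebraMap A B) (maximalIdeal A)))
        {e : B | IsIdempotentElem e} {e | IsIdempotentElem e} := by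
  constructor
  · rintro ⟨ι, _, C, _, hC, ⟨φ⟩⟩
    exact surjOn_of_ringEquiv_pi_isLocalRing B _ φ
  · exact exists_ringEquiv_pi_isLocalRing_of_surjOn A B

end Main

end Groth.Agent.Lib.Helper3
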