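import Groth.Agent.Lib.Helper3.IdemLift

/-!
# Roots from idempotents of `A[X]/(f)` (helper3)

If idempotents of `A[X]/(f)` lift along `I` (and `I ≤ jac`), then approximate simple roots of the
monic polynomial `f` lift to roots.
-/

set_option autoImplicit false
universe u

namespace Groth.Agent.Lib.Helper3

open Polynomial

theorem exists_root_of_idempotent_lift {A : Type*} [CommRing A] {I : Ideal A}
    (hjac : I ≤ Ideal.jacobson ⊥) (f : A[X]) (hf : f.Monic) (a₀ : A) (h₁ : f.eval a₀ ∈ I)
    (h₂ : IsUnit (f.derivative.eval a₀))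
    (hlift : ∀ e₀ : AdjoinRoot f, e₀ * e₀ - e₀ ∈ I.map (algebraMap A (AdjoinRoot f)) →
      ∃ e, IsIdempotentElem e ∧ e - e₀ ∈ I.map (algebraMap A (AdjoinRoot f))) :
    ∃ a, f.IsRoot a ∧ a - a₀ ∈ I := by
  classical
  rcases subsingleton_or_nontrivial (A ⧸ I) with hsub | hnt
  · have := subsingleton_of_subsingleton_quotient hjac
    exact ⟨a₀, Subsingleton.elim _ _, by simp⟩
  have hntA : Nontrivial A := (Ideal.Quotient.mk_surjective (I := I)).nontrivial
  set U := AdjoinRoot f with hU
  set T : U := AdjoinRoot.root f with hT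
  set IU := I.map (algebraMap A U) with hIU
  have hfT : aeval T f = 0 := by rw [AdjoinRoot.aeval_eq, AdjoinRoot.mk_self]
  set c := f.eval a₀ with hc
  set h := f /ₘ (X - C a₀) with hh
  have hdiv : f = (X - C a₀) * h + C c := by
    have := modByMonic_add_div f (X - C a₀)
    rw [modByMonic_X_sub_C_eq_C_eval] at this
    exact this.symm.trans (by ring)
  have hv : h.eval a₀ = f.derivative.eval a₀ := by
    conv_rhs => rw [hdiv]
    simp [derivative_mul]
  obtain ⟨v, hv'⟩ := h₂
  have hn : 1 ≤ f.natDegree := by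
    by_contra hlt
    have h1 : f = 1 := eq_one_of_monic_natDegree_zero hf (by omega)
    have h2 : (1 : A) ∈ I := by
      have : c = 1 := by rw [hc, h1, eval_one]
      rw [← this]; exact h₁
    have : (1 : A ⧸ I) = 0 := by
      rw [← map_one (Ideal.Quotient.mk I)]; exact Ideal.Quotient.eq_zero_iff_mem.mpr h2
    exact one_ne_zero this
  have hhdeg : h.natDegree = f.natDegree - 1 := by
    rw [hh, natDegree_divByMonic f (monic_X_sub_C a₀), natDegree_X_sub_C]
  have hhm : h.Monic := by
    rw [Monic, hh, leadingCoeff_divByMonic_of_monic (monic_X_sub_C a₀)]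
    · exact hf
    · rw [degree_X_sub_C, degree_eq_natDegree hf.ne_zero]
      exact_mod_cast hn
  have hTh : (T - algebraMap A U a₀) * aeval T h = - algebraMap A U c := by
    have := congrArg (aeval T) hdiv
    rw [hfT, map_add, map_mul, map_sub, aeval_X, aeval_C, aeval_C] at this
    linear_combination -this
  let e₀ : U := algebraMap A U ↑v⁻¹ * aeval T h
  have hdiv2 : h = (X - C a₀) * (h /ₘ (X - C a₀)) + C (h.eval a₀) := by
    have := modByMonic_add_div h (X - C a₀)
    rw [modByMonic_X_sub_C_eq_C_eval] at this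
    exact this.symm.trans (by ring)
  have hvv : algebraMap A U ↑v⁻¹ * algebraMap A U ↑v = 1 := by
    rw [← map_mul, Units.inv_mul, map_one]
  have he₀ : e₀ * e₀ - e₀ ∈ IU := by
    have hh2 : aeval T h = (T - algebraMap A U a₀) * aeval T (h /ₘ (X - C a₀))
        + algebraMap A U (↑v) := by
      have := congrArg (aeval T) hdiv2
      rw [map_add, map_mul, map_sub, aeval_X, aeval_C, aeval_C, hv, ← hv'] at this
      exact this
    have : e₀ * e₀ - e₀ = algebraMap A U c * (-(algebraMap A U ↑v⁻¹ * algebraMap A U ↑v⁻¹ *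
        aeval T (h /ₘ (X - C a₀)))) := by
      simp only [e₀]
      linear_combination ((algebraMap A U ↑v⁻¹) ^ 2 * aeval T (h /ₘ (X - C a₀))) * hTh
        + ((algebraMap A U ↑v⁻¹) ^ 2 * aeval T h) * hh2
        + (algebraMap A U ↑v⁻¹ * aeval T h) * hvv
    rw [this]
    exact IU.mul_mem_right _ (Ideal.mem_map_of_mem _ h₁)
  obtain ⟨e, he, hee₀⟩ := hlift e₀ he₀
  -- the coordinate functional
  let ℓ : U →ₗ[A] A := (Polynomial.lcoeff A (f.natDegree - 1)).comp (AdjoinRoot.modByMonicHom hf)
  have hℓh : ℓ (aeval T h) = 1 := by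
    have : aeval T h = AdjoinRoot.mk f h := AdjoinRoot.aeval_eq h
    rw [this]
    show ((AdjoinRoot.modByMonicHom hf) (AdjoinRoot.mk f h)).coeff (f.natDegree - 1) = 1
    rw [AdjoinRoot.modByMonicHom_mk, (modByMonic_eq_self_iff hf).mpr ?_, ← hhdeg]
    · exact hhm.coeff_natDegree
    · rw [degree_eq_natDegree hhm.ne_zero, degree_eq_natDegree hf.ne_zero, hhdeg]
      exact_mod_cast (by omega : f.natDegree - 1 < f.natDegree)
  have hℓI : ∀ x ∈ IU, ℓ x ∈ I := by
    intro x hx
    have hx' : x ∈ (I • ⊤ : Submodule A U) := by rw [Ideal.smul_top_eq_map]; exact hx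
    refine Submodule.smul_induction_on hx' (fun r hr n _ => ?_) (fun x y hx hy => ?_)
    · rw [map_smul]; exact I.mul_mem_right _ hr
    · rw [map_add]; exact I.add_mem hx hy
  have hℓe₀ : ℓ e₀ = ↑v⁻¹ := by
    simp only [e₀]
    rw [← Algebra.smul_def, map_smul, hℓh, smul_eq_mul, mul_one]
  have hℓe : IsUnit (ℓ e) := by
    have : ℓ e = ↑v⁻¹ + ℓ (e - e₀) := by rw [map_sub, hℓe₀]; ring
    rw [this]
    exact isUnit_add_of_mem_jacobson_bot (v⁻¹).isUnit (hjac (hℓI _ hee₀))
  have hTe : (T - algebraMap A U a₀) * e ∈ IU := by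
    have : (T - algebraMap A U a₀) * e = (T - algebraMap A U a₀) * (e - e₀)
        + algebraMap A U c * (-(algebraMap A U ↑v⁻¹)) := by
      simp only [e₀]
      linear_combination (algebraMap A U ↑v⁻¹) * hTh
    rw [this]
    exact IU.add_mem (IU.mul_mem_left _ hee₀) (IU.mul_mem_right _ (Ideal.mem_map_of_mem _ h₁))
  -- Nakayama
  let Ne : Submodule A U := LinearMap.range (LinearMap.mulLeft A e)
  have hfin : Module.Finite A U := hf.finite_adjoinRoot
  have hNefg : Ne.FG := by
    rw [show Ne = Submodule.map (LinearMap.mulLeft A e) ⊤ from (LinearMap.range_eq_map _)]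
    exact Module.Finite.fg_top.map _
  have hINe : ∀ y ∈ IU, e * y ∈ (I • Ne : Submodule A U) := by
    intro y hy
    have hy' : y ∈ (I • ⊤ : Submodule A U) := by rw [Ideal.smul_top_eq_map]; exact hy
    refine Submodule.smul_induction_on hy' (fun r hr n _ => ?_) (fun x y hx hy => ?_)
    · rw [mul_smul_comm]; exact Submodule.smul_mem_smul hr ⟨n, rfl⟩
    · rw [mul_add]; exact Submodule.add_mem _ hx hy
  have hNe : Ne ≤ Submodule.span A {e} := by
    apply Submodule.le_of_le_smul_of_le_jacobson_bot hNefg hjac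
    rintro _ ⟨x, rfl⟩
    obtain ⟨p, rfl⟩ := AdjoinRoot.mk_surjective x
    rw [← AdjoinRoot.aeval_eq]
    have hdvd : T - algebraMap A U a₀ ∣ aeval T p - aeval (algebraMap A U a₀) p := by
      rw [aeval_def, aeval_def, ← eval_map, ← eval_map]
      exact sub_dvd_eval_sub _ _ _
    obtain ⟨y, hy⟩ := hdvd
    rw [aeval_algebraMap_apply, coe_aeval_eq_eval] at hy
    have hee : e * e = e := he.eq
    have : (LinearMap.mulLeft A e) (aeval T p) = (p.eval a₀) • e
        + e * (((T - algebraMap A U a₀) * e) * y) := by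
      rw [LinearMap.mulLeft_apply, Algebra.smul_def]
      linear_combination e * hy + (-((T - algebraMap A U a₀) * y)) * hee
    rw [this]
    exact Submodule.add_mem_sup (Submodule.smul_mem _ _ (Submodule.subset_span rfl))
      (hINe _ (IU.mul_mem_right _ hTe))
  have hTe' : e * T ∈ Ne := ⟨T, rfl⟩
  obtain ⟨a, ha⟩ := Submodule.mem_span_singleton.mp (hNe hTe')
  have hz : (T - algebraMap A U a) * e = 0 := by
    rw [sub_mul, ← Algebra.smul_def, ha]; ring
  have hpa : ∀ p : A[X], aeval T p * e = algebraMap A U (p.eval a) * e := by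
    intro p
    have hdvd : T - algebraMap A U a ∣ aeval T p - aeval (algebraMap A U a) p := by
      rw [aeval_def, aeval_def, ← eval_map, ← eval_map]
      exact sub_dvd_eval_sub _ _ _
    obtain ⟨y, hy⟩ := hdvd
    rw [aeval_algebraMap_apply, coe_aeval_eq_eval] at hy
    linear_combination e * hy + y * hz
  have hfa : f.eval a • e = 0 := by
    have := hpa f
    rw [hfT, zero_mul] at this
    rw [Algebra.smul_def]; exact this.symm
  refine ⟨a, ?_, ?_⟩
  · have := congrArg ℓ hfa
    rw [map_smul, map_zero, smul_eq_mul] at this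
    exact (hℓe.mul_left_eq_zero).mp this
  · have h3 : (a - a₀) • e ∈ IU := by
      have : (a - a₀) • e = (T - algebraMap A U a₀) * e := by
        rw [sub_smul, ha, Algebra.smul_def]; ring
      rw [this]; exact hTe
    have h4 := hℓI _ h3
    rw [map_smul, smul_eq_mul] at h4
    obtain ⟨w, hw⟩ := hℓe
    have : a - a₀ = (a - a₀) * ℓ e * ↑w⁻¹ := by
      rw [← hw, mul_assoc, Units.mul_inv, mul_one]
    rw [this]
    exact I.mul_mem_right _ h4

end Groth.Agent.Lib.Helper3
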