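import Groth.Agent.Lib.Helper3.QFLocal

set_option autoImplicit false
set_option linter.style.haveILetI false
set_option linter.unusedSectionVars false
universe u

open TensorProduct IsLocalRing

namespace Groth.Agent.Lib.Helper3

section

variable (R : Type u) [CommRing R] (S : Type u) [CommRing S] [Algebra R S]
    (Rh : Type u) [CommRing Rh] [Algebra R Rh]

/-- The base change to `Rh` of the inclusion of a subalgebra. -/
noncomputable abbrev baseChangeVal (S₀ : Subalgebra R S) : Rh ⊗[R] S₀ →ₐ[Rh] Rh ⊗[R] S :=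
  Algebra.TensorProduct.map (AlgHom.id Rh Rh) S₀.val

variable {R S Rh}

theorem range_baseChangeVal_mono {S₁ S₂ : Subalgebra R S} (h : S₁ ≤ S₂) :
    (baseChangeVal R S Rh S₁).range ≤ (baseChangeVal R S Rh S₂).range := by
  have : baseChangeVal R S Rh S₁ =
      (baseChangeVal R S Rh S₂).comp
        (Algebra.TensorProduct.map (AlgHom.id Rh Rh) (Subalgebra.inclusion h)) := by
    ext x
    simp
  rw [this]
  exact AlgHom.range_comp_le_range _ _

/-- In an ind-(finite type, quasi-finite) algebra, any two good subalgebras lie in a third. -/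
theorem exists_good_subalgebra_ge
    (hS : ∀ s : Finset S, ∃ S₀ : Subalgebra R S, (↑s : Set S) ⊆ ↑S₀ ∧
      Algebra.FiniteType R ↥S₀ ∧ Algebra.QuasiFinite R ↥S₀)
    (S₁ S₂ : Subalgebra R S) (h₁ : Algebra.FiniteType R S₁) (h₂ : Algebra.FiniteType R S₂) :
    ∃ S₃ : Subalgebra R S, S₁ ≤ S₃ ∧ S₂ ≤ S₃ ∧ Algebra.FiniteType R ↥S₃ ∧
      Algebra.QuasiFinite R ↥S₃ := by
  classical
  obtain ⟨s₁, hs₁⟩ := (Subalgebra.fg_iff_finiteType S₁).mpr h₁
  obtain ⟨s₂, hs₂⟩ := (Subalgebra.fg_iff_finiteType S₂).mpr h₂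
  obtain ⟨S₃, hsub, hft, hqf⟩ := hS (s₁ ∪ s₂)
  refine ⟨S₃, ?_, ?_, hft, hqf⟩
  · rw [← hs₁]
    apply Algebra.adjoin_le
    intro x hx
    exact hsub (by simp [hx])
  · rw [← hs₂]
    apply Algebra.adjoin_le
    intro x hx
    exact hsub (by simp [hx])

theorem exists_good_subalgebra_mem_range
    (hS : ∀ s : Finset S, ∃ S₀ : Subalgebra R S, (↑s : Set S) ⊆ ↑S₀ ∧
      Algebra.FiniteType R ↥S₀ ∧ Algebra.QuasiFinite R ↥S₀) (x : Rh ⊗[R] S) :
    ∃ S₀ : Subalgebra R S, Algebra.FiniteType R ↥S₀ ∧ Algebra.QuasiFinite R ↥S₀ ∧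
      x ∈ (baseChangeVal R S Rh S₀).range := by
  induction x using TensorProduct.induction_on with
  | zero =>
    obtain ⟨S₀, -, hft, hqf⟩ := hS ∅
    exact ⟨S₀, hft, hqf, Subalgebra.zero_mem _⟩
  | tmul a s =>
    obtain ⟨S₀, hsub, hft, hqf⟩ := hS {s}
    have hs : s ∈ S₀ := hsub (by simp)
    refine ⟨S₀, hft, hqf, a ⊗ₜ ⟨s, hs⟩, ?_⟩
    simp
  | add x y hx hy =>
    obtain ⟨S₁, hft₁, -, hx⟩ := hx
    obtain ⟨S₂, hft₂, -, hy⟩ := hy
    obtain ⟨S₃, h13, h23, hft, hqf⟩ := exists_good_subalgebra_ge hS S₁ S₂ hft₁ hft₂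
    exact ⟨S₃, hft, hqf, Subalgebra.add_mem _ (range_baseChangeVal_mono h13 hx)
      (range_baseChangeVal_mono h23 hy)⟩

/-- For an ind-(finite type, quasi-finite) `R`-algebra `S` and a henselian local `R`-algebra `Rh`,
the local rings of `Rh ⊗[R] S` at primes over the maximal ideal are integral over `Rh`. -/
theorem isIntegral_localization_tensor_of_indQuasiFinite [HenselianLocalRing Rh]
    (hS : ∀ s : Finset S, ∃ S₀ : Subalgebra R S, (↑s : Set S) ⊆ ↑S₀ ∧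
      Algebra.FiniteType R ↥S₀ ∧ Algebra.QuasiFinite R ↥S₀)
    (Q : Ideal (Rh ⊗[R] S)) [Q.IsPrime] [hover : Q.LiesOver (maximalIdeal Rh)] :
    Algebra.IsIntegral Rh (Localization.AtPrime Q) := by
  constructor
  intro y
  obtain ⟨x, t, rfl⟩ := IsLocalization.exists_mk'_eq Q.primeCompl y
  obtain ⟨S₁, hft₁, -, hx⟩ := exists_good_subalgebra_mem_range (Rh := Rh) hS x
  obtain ⟨S₂, hft₂, -, ht⟩ := exists_good_subalgebra_mem_range (Rh := Rh) hS t.1
  obtain ⟨S₀, h13, h23, hft, hqf⟩ := exists_good_subalgebra_ge hS S₁ S₂ hft₁ hft₂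
  obtain ⟨x₀, hx₀⟩ := range_baseChangeVal_mono (Rh := Rh) h13 hx
  obtain ⟨t₀, ht₀⟩ := range_baseChangeVal_mono (Rh := Rh) h23 ht
  let g₀ : Rh ⊗[R] S₀ →+* Rh ⊗[R] S := (baseChangeVal R S Rh S₀ : Rh ⊗[R] S₀ →+* Rh ⊗[R] S)
  have hg₀x : g₀ x₀ = x := hx₀
  have hg₀t : g₀ t₀ = t.1 := ht₀
  let Q₀ : Ideal (Rh ⊗[R] S₀) := Q.comap g₀
  haveI : Q₀.IsPrime := Ideal.comap_isPrime _ _
  have hover₀ : Q₀.LiesOver (maximalIdeal Rh) := by
    constructor
    rw [hover.over]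
    change Q.comap (algebraMap Rh (Rh ⊗[R] S)) = (Q.comap g₀).comap (algebraMap Rh (Rh ⊗[R] S₀))
    rw [Ideal.comap_comap]
    congr 1
  haveI := hft
  haveI := hqf
  haveI : Algebra.QuasiFiniteAt Rh Q₀ := inferInstance
  haveI hfin : Module.Finite Rh (Localization.AtPrime Q₀) :=
    finite_localization_of_quasiFiniteAt Rh (Rh ⊗[R] S₀) Q₀ hover₀ inferInstance
  have ht₀Q : t₀ ∈ Q₀.primeCompl := by
    change ¬ (g₀ t₀ ∈ Q)
    rw [hg₀t]
    exact t.2
  let ψ : Localization.AtPrime Q₀ →+* Localization.AtPrime Q :=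
    Localization.localRingHom Q₀ Q g₀ rfl
  have hψ : ψ (IsLocalization.mk' _ x₀ ⟨t₀, ht₀Q⟩) = IsLocalization.mk' _ x t := by
    rw [Localization.localRingHom_mk']
    congr 1
    · exact Subtype.ext hg₀t
  rw [← hψ]
  have hint : IsIntegral Rh (IsLocalization.mk' (Localization.AtPrime Q₀) x₀ ⟨t₀, ht₀Q⟩) :=
    Algebra.IsIntegral.isIntegral _
  refine hint.map_of_comp_eq (RingHom.id Rh) ψ ?_
  ext a
  rw [RingHom.comp_apply, RingHom.comp_apply, RingHom.id_apply,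
    IsScalarTower.algebraMap_apply Rh (Rh ⊗[R] S₀) (Localization.AtPrime Q₀),
    Localization.localRingHom_to_map, IsScalarTower.algebraMap_apply Rh (Rh ⊗[R] S)]
  congr 1

end

end Groth.Agent.Lib.Helper3
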