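import Groth.Agent.Lib.Helper3.HfpFinite

/-!
# Idempotents of `B/IB` with finite part and the integral closure (helper3)

`exists_integralClosure_idempotent_lift` (S9313, Stacks-type lemma): `A → B` of finite type, `e` an
idempotent of `B/IB` with `(B/IB)/(1-e)` finite over `A/I`. Then there is `g` in the integral
closure `B'` of `A` in `B` with idempotent image in `B'/IB'`, mapping to `e`, with `B'_g ≅ B_g`.
-/

set_option autoImplicit false
set_option linter.style.haveILetI false
set_option linter.unusedSectionVars false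

universe u

namespace Groth.Agent.Lib.Helper3

open PrimeSpectrum

/-- Variant of `quasiFiniteAt_of_quasiFinite_quotient`: `V(K)` is cut out in `V(IR)` by `g ≠ 0`. -/
theorem quasiFiniteAt_of_quasiFinite_quotient_of_notMem {A R : Type*} [CommRing A] [CommRing R]
    [Algebra A R] [Algebra.FiniteType A R] (I : Ideal A) (K : Ideal R) (g : R)
    (hK : ∀ y : PrimeSpectrum R, I.map (algebraMap A R) ≤ y.asIdeal → g ∉ y.asIdeal →
      K ≤ y.asIdeal)
    [Algebra.QuasiFinite A (R ⧸ K)] (p : Ideal R) [p.IsPrime]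
    (hp : I.map (algebraMap A R) ≤ p) (hKp : K ≤ p) (hgp : g ∉ p) : Algebra.QuasiFiniteAt A p := by
  set J := I.map (algebraMap A R) with hJ
  let π : R →+* R ⧸ K := Ideal.Quotient.mk K
  have hπ : Function.Surjective π := Ideal.Quotient.mk_surjective
  let q : PrimeSpectrum R := ⟨p, inferInstance⟩
  let x : PrimeSpectrum A := q.comap (algebraMap A R)
  have hIx : I ≤ x.asIdeal := by
    intro a ha
    change algebraMap A R a ∈ p
    exact hp (Ideal.mem_map_of_mem _ ha)
  have hrange : ∀ y : PrimeSpectrum R, K ≤ y.asIdeal → ∃ y' : PrimeSpectrum (R ⧸ K),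
      PrimeSpectrum.comap π y' = y := by
    intro y hy
    have : y ∈ Set.range (PrimeSpectrum.comap π) := by
      rw [range_comap_of_surjective _ _ hπ, Ideal.mk_ker]
      exact hy
    exact this
  obtain ⟨q', hq'⟩ := hrange q hKp
  have hcomp : ∀ y' : PrimeSpectrum (R ⧸ K), PrimeSpectrum.comap (algebraMap A (R ⧸ K)) y' =
      PrimeSpectrum.comap (algebraMap A R) (PrimeSpectrum.comap π y') := by
    intro y'; rfl
  have hq'F : q' ∈ PrimeSpectrum.comap (algebraMap A (R ⧸ K)) ⁻¹' {x} := by
    rw [Set.mem_preimage, Set.mem_singleton_iff, hcomp, hq']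
  obtain ⟨U', hU'open, hU'⟩ := (isDiscrete_iff_forall_mem_exists_isOpen.mp
    (Algebra.QuasiFinite.isDiscrete_comap_preimage_singleton (R := A) (S := R ⧸ K) x)) q' hq'F
  obtain ⟨U, hUopen, rfl⟩ := (comap_isInducing_of_surjective _ π hπ).isOpen_iff.mp hU'open
  refine Algebra.QuasiFiniteAt.of_isOpen_singleton_fiber (R := A) q ?_
  rw [isOpen_induced_iff]
  refine ⟨U ∩ (PrimeSpectrum.basicOpen g : Set (PrimeSpectrum R)),
    hUopen.inter (PrimeSpectrum.basicOpen g).isOpen, ?_⟩
  ext ⟨y, hy⟩
  simp only [Set.mem_preimage, Set.mem_singleton_iff]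
  have hy' : PrimeSpectrum.comap (algebraMap A R) y = x := hy
  constructor
  · rintro ⟨hyU, hyg⟩
    have hJy : J ≤ y.asIdeal := by
      rw [hJ, Ideal.map_le_iff_le_comap]
      intro a ha
      have : a ∈ (PrimeSpectrum.comap (algebraMap A R) y).asIdeal := by
        rw [hy']; exact hIx ha
      exact this
    obtain ⟨y', rfl⟩ := hrange y (hK y hJy hyg)
    have : y' ∈ (PrimeSpectrum.comap π ⁻¹' U) ∩
        (PrimeSpectrum.comap (algebraMap A (R ⧸ K)) ⁻¹' {x}) := by
      refine ⟨hyU, ?_⟩
      rw [Set.mem_preimage, Set.mem_singleton_iff, hcomp, hy']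
    rw [hU'] at this
    apply Subtype.ext
    change PrimeSpectrum.comap π y' = q
    rw [Set.mem_singleton_iff.mp this, hq']
  · intro hyq
    have hyq' : y = q := congrArg Subtype.val hyq
    rw [hyq']
    have : q' ∈ (PrimeSpectrum.comap π ⁻¹' U) ∩
        (PrimeSpectrum.comap (algebraMap A (R ⧸ K)) ⁻¹' {x}) := by
      rw [hU']; rfl
    have h2 := this.1
    rw [Set.mem_preimage, hq'] at h2
    exact ⟨h2, hgp⟩

/-- If `x^(n+1) = x^n` then `x^n` is idempotent. -/
theorem isIdempotentElem_pow_of_pow_succ_eq {R : Type*} [CommRing R] (x : R) (n : ℕ)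
    (h : x ^ (n + 1) = x ^ n) : IsIdempotentElem (x ^ n) := by
  have hk : ∀ k : ℕ, x ^ (n + k) = x ^ n := by
    intro k
    induction k with
    | zero => rfl
    | succ k ih => rw [← add_assoc, pow_succ, ih, ← pow_succ, h]
  rw [IsIdempotentElem, ← pow_add, hk]

section Main

variable (A B : Type u) [CommRing A] [CommRing B] [Algebra A B]

/-- If `g` is integral and every element of `B` becomes integral after multiplying by a power of
`g`, then every element of `IB` lands in `IB'` after multiplying by a power of `g`. -/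
theorem exists_pow_mul_mem_map_integralClosure (I : Ideal A) (g : B) (hgint : IsIntegral A g)
    (hg : ∀ x : B, ∃ k : ℕ, IsIntegral A (g ^ k * x)) (x : B)
    (hx : x ∈ I.map (algebraMap A B)) :
    ∃ (m : ℕ) (y' : integralClosure A B), y' ∈ I.map (algebraMap A (integralClosure A B)) ∧
      g ^ m * x = (y' : B) := by
  let g' : integralClosure A B := ⟨g, hgint⟩
  rw [Ideal.map] at hx
  induction hx using Submodule.span_induction with
  | mem x hx =>
    obtain ⟨a, ha, rfl⟩ := hx
    exact ⟨0, algebraMap A (integralClosure A B) a, Ideal.mem_map_of_mem _ ha, by simp⟩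
  | zero => exact ⟨0, 0, zero_mem _, by simp⟩
  | add x₁ x₂ _ _ h₁ h₂ =>
    obtain ⟨m₁, y₁, hy₁, e₁⟩ := h₁
    obtain ⟨m₂, y₂, hy₂, e₂⟩ := h₂
    refine ⟨m₁ + m₂, g' ^ m₂ * y₁ + g' ^ m₁ * y₂,
      Ideal.add_mem _ (Ideal.mul_mem_left _ _ hy₁) (Ideal.mul_mem_left _ _ hy₂), ?_⟩
    rw [Subalgebra.coe_add, Subalgebra.coe_mul, Subalgebra.coe_mul, Subalgebra.coe_pow,
      Subalgebra.coe_pow, ← e₁, ← e₂]
    change _ = g ^ m₂ * _ + g ^ m₁ * _
    ring
  | smul s x _ h =>
    obtain ⟨m, y, hy, e⟩ := h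
    obtain ⟨k, hk⟩ := hg s
    refine ⟨k + m, ⟨g ^ k * s, hk⟩ * y, Ideal.mul_mem_left _ _ hy, ?_⟩
    rw [Subalgebra.coe_mul, ← e, smul_eq_mul]
    change _ = g ^ k * s * _
    ring

variable [Algebra.FiniteType A B] (I : Ideal A)

theorem exists_integralClosure_idempotent_lift_aux (IB : Ideal B)
    (hIB : IB = I.map (algebraMap A B)) (e : B ⧸ IB)
    (he : IsIdempotentElem e)
    (hfin : Module.Finite A ((B ⧸ IB) ⧸ Ideal.span {1 - e})) :
    ∃ g : integralClosure A B,
      IsIdempotentElem (Ideal.Quotient.mk (Ideal.map (algebraMap A (integralClosure A B)) I) g) ∧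
      Ideal.Quotient.mk IB (g : B) = e ∧
      Function.Bijective (algebraMap (Localization.Away g)
        (Localization (Algebra.algebraMapSubmonoid B (Submonoid.powers g)))) := by
  set Le : Ideal (B ⧸ IB) := Ideal.span {1 - e} with hLe
  let C₁ := (B ⧸ IB) ⧸ Le
  let f : B →ₐ[A] C₁ := (Ideal.Quotient.mkₐ A Le).comp (Ideal.Quotient.mkₐ A IB)
  have hfapp : ∀ x : B, f x = Ideal.Quotient.mk Le (Ideal.Quotient.mk IB x) := fun _ => rfl
  have hfsurj : Function.Surjective f :=
    (Ideal.Quotient.mkₐ_surjective A Le).comp (Ideal.Quotient.mkₐ_surjective A IB)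
  obtain ⟨et, het⟩ := Ideal.Quotient.mk_surjective e
  -- `mk e = 1` in `C₁`
  have hmke : Ideal.Quotient.mk Le e = 1 := by
    rw [← map_one (Ideal.Quotient.mk Le), eq_comm, Ideal.Quotient.eq]
    exact Ideal.subset_span rfl
  have hfet : f et = 1 := by rw [hfapp, het, hmke]
  -- elements of `ker f`
  have hker : ∀ x : B, f x = 0 → ∃ c : B, x - c * (1 - et) ∈ IB := by
    intro x hx
    rw [hfapp, Ideal.Quotient.eq_zero_iff_mem, hLe, Ideal.mem_span_singleton'] at hx
    obtain ⟨c, hc⟩ := hx
    obtain ⟨c', rfl⟩ := Ideal.Quotient.mk_surjective c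
    refine ⟨c', ?_⟩
    rw [← Ideal.Quotient.eq, map_mul, map_sub, map_one, het, hc]
  have hetIB : et * (1 - et) ∈ IB := by
    rw [← Ideal.Quotient.eq_zero_iff_mem, map_mul, map_sub, map_one, het, mul_sub, mul_one,
      he.eq, sub_self]
  have hIBker : IB ≤ RingHom.ker f.toRingHom := by
    intro x hx
    rw [RingHom.mem_ker]
    change f x = 0
    rw [hfapp, Ideal.Quotient.eq_zero_iff_mem.mpr hx, map_zero]
  -- quasi-finiteness along `V(ker f)`
  haveI : Algebra.QuasiFinite A (B ⧸ RingHom.ker f.toRingHom) :=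
    (Algebra.QuasiFinite.iff_of_algEquiv (Ideal.quotientKerAlgEquivOfSurjective hfsurj)).mpr
      inferInstance
  have hqf : ∀ p : Ideal B, p.IsPrime → RingHom.ker f.toRingHom ≤ p →
      Algebra.ZariskisMainProperty A p := by
    intro p hp hkp
    have h1et : 1 - et ∈ p := hkp (by
      rw [RingHom.mem_ker]
      change f (1 - et) = 0
      rw [map_sub, map_one, hfet, sub_self])
    have hetp : et ∉ p := by
      intro h
      apply hp.ne_top
      rw [Ideal.eq_top_iff_one]
      have := p.add_mem h h1et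
      rwa [add_sub_cancel] at this
    haveI : Algebra.QuasiFiniteAt A p :=
      quasiFiniteAt_of_quasiFinite_quotient_of_notMem I (RingHom.ker f.toRingHom) et
        (fun y hy hety x hx => by
          rw [← hIB] at hy
          obtain ⟨c, hc⟩ := hker x (by rw [RingHom.mem_ker] at hx; exact hx)
          have h1 : 1 - et ∈ y.asIdeal :=
            (y.isPrime.mem_or_mem (hy hetIB)).resolve_left hety
          have h2 : x - c * (1 - et) ∈ y.asIdeal := hy hc
          have := y.asIdeal.add_mem h2 (y.asIdeal.mul_mem_left c h1)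
          rwa [sub_add_cancel] at this)
        p (hIB ▸ hIBker.trans hkp) hkp hetp
    exact Algebra.ZariskisMainProperty.of_finiteType p
  have hint : (f.toRingHom.comp (algebraMap A B)).IsIntegral := by
    have h0 : f.toRingHom.comp (algebraMap A B) = algebraMap A C₁ := f.comp_algebraMap
    rw [h0]
    exact algebraMap_isIntegral_iff.mpr inferInstance
  obtain ⟨r, hr1, hrint, hrm⟩ := exists_isIntegral_map_eq_one_of_isIntegral (R := A)
    f.toRingHom hint hqf
  have hr1' : f r = 1 := hr1
  -- `mk r * e = e`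
  have hre : Ideal.Quotient.mk IB r * e = e := by
    obtain ⟨c, hc⟩ := hker (r - 1) (by rw [map_sub, map_one, hr1', sub_self])
    have h2 := Ideal.Quotient.eq.mpr hc
    rw [map_sub, map_one, map_mul, map_sub, map_one, het] at h2
    have : (Ideal.Quotient.mk IB r - 1) * e = 0 := by
      rw [h2, mul_assoc, sub_mul, one_mul, he.eq, sub_self, mul_zero]
    rw [sub_mul, one_mul, sub_eq_zero] at this
    exact this
  obtain ⟨m₀, hm₀⟩ := hrm et
  set h := r ^ m₀ * et with hh
  set g := r * h with hg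
  have hgint : IsIntegral A g := hrint.mul hm₀
  have hrke : ∀ k : ℕ, Ideal.Quotient.mk IB r ^ k * e = e := by
    intro k
    induction k with
    | zero => simp
    | succ k ih => rw [pow_succ, mul_assoc, hre, ih]
  have hmkg : Ideal.Quotient.mk IB g = e := by
    rw [hg, hh, map_mul, map_mul, map_pow, het, hrke, hre]
  have hgm : ∀ x : B, ∃ k : ℕ, IsIntegral A (g ^ k * x) := by
    intro x
    obtain ⟨k, hk⟩ := hrm x
    refine ⟨k, ?_⟩
    have : g ^ k * x = h ^ k * (r ^ k * x) := by rw [hg]; ring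
    rw [this]
    exact (hm₀.pow k).mul hk
  have hgg : g ^ 2 - g ∈ IB := by
    rw [← Ideal.Quotient.eq_zero_iff_mem, map_sub, map_pow, hmkg, pow_two, he.eq, sub_self]
  obtain ⟨N, y', hy', hNy⟩ := exists_pow_mul_mem_map_integralClosure A B I g hgint hgm _
    (hIB ▸ hgg)
  let g' : integralClosure A B := ⟨g, hgint⟩
  set IB' := I.map (algebraMap A (integralClosure A B)) with hIB'
  have hg'pow : Ideal.Quotient.mk IB' g' ^ (N + 1 + 1) = Ideal.Quotient.mk IB' g' ^ (N + 1) := by
    rw [← map_pow, ← map_pow, Ideal.Quotient.eq]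
    have : g' ^ (N + 1 + 1) - g' ^ (N + 1) = y' := by
      apply Subtype.ext
      rw [← hNy]
      change g ^ (N + 1 + 1) - g ^ (N + 1) = _
      ring
    rw [this]
    exact hy'
  refine ⟨g' ^ (N + 1), ?_, ?_, ?_, ?_⟩
  · rw [map_pow]
    exact isIdempotentElem_pow_of_pow_succ_eq _ _ hg'pow
  · change Ideal.Quotient.mk IB (g ^ (N + 1)) = e
    rw [map_pow, hmkg]
    exact he.pow_succ_eq N
  · exact localizationAlgebra_injective _ _ Subtype.val_injective
  · intro z
    obtain ⟨x, ⟨_, ⟨_, ⟨n, rfl⟩, rfl⟩⟩, rfl⟩ := IsLocalization.exists_mk'_eq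
      (Algebra.algebraMapSubmonoid B (Submonoid.powers (g' ^ (N + 1)))) z
    obtain ⟨k, hk⟩ := hgm x
    have hk' : g ^ ((N + 1) * k) * x ∈ integralClosure A B := by
      have : g ^ ((N + 1) * k) * x = g ^ (N * k) * (g ^ k * x) := by ring
      rw [this]
      exact (hgint.pow _).mul hk
    refine ⟨IsLocalization.mk' _ (⟨g ^ ((N + 1) * k) * x, hk'⟩ : integralClosure A B)
      (⟨(g' ^ (N + 1)) ^ (k + n), Submonoid.pow_mem _ (Submonoid.mem_powers _) _⟩ :
        Submonoid.powers (g' ^ (N + 1))), ?_⟩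
    haveI : IsScalarTower (integralClosure A B) (Localization.Away (g' ^ (N + 1)))
      (Localization (Algebra.algebraMapSubmonoid B (Submonoid.powers (g' ^ (N + 1))))) :=
      isScalarTower_localizationAlgebra _ _
    rw [IsLocalization.algebraMap_mk' (S := B), IsLocalization.mk'_eq_iff_eq]
    congr 1
    change (g ^ (N + 1)) ^ n * (g ^ ((N + 1) * k) * x) = (g ^ (N + 1)) ^ (k + n) * x
    ring

theorem exists_integralClosure_idempotent_lift (e : B ⧸ Ideal.map (algebraMap A B) I)
    (he : IsIdempotentElem e)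
    (hfin : Module.Finite (A ⧸ I) ((B ⧸ Ideal.map (algebraMap A B) I) ⧸ Ideal.span {1 - e})) :
    ∃ g : integralClosure A B,
      IsIdempotentElem (Ideal.Quotient.mk (Ideal.map (algebraMap A (integralClosure A B)) I) g) ∧
      Ideal.Quotient.mk (Ideal.map (algebraMap A B) I) (g : B) = e ∧
      Function.Bijective (algebraMap (Localization.Away g)
        (Localization (Algebra.algebraMapSubmonoid B (Submonoid.powers g)))) :=
  exists_integralClosure_idempotent_lift_aux A B I _ rfl e he (Module.Finite.trans (A ⧸ I) _)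

end Main

end Groth.Agent.Lib.Helper3
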