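import Groth.Agent.Lib.Helper3.IntSplitScheme
import Groth.Prelude.Def_BigSite

/-!
# Integral morphisms satisfy condition (B) (helper3)
-/

set_option linter.style.haveILetI false
set_option linter.unusedSectionVars false
set_option autoImplicit false

universe u

open CategoryTheory CategoryTheory.Limits AlgebraicGeometry Opposite TopologicalSpace

namespace Groth.Agent.Lib.Helper3.IntPropB

open Groth.Agent.Lib.Helper3 Groth.Agent.Lib.Helper3.EtLocalRingScheme

set_option backward.isDefEq.respectTransparency.types false in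
set_option maxHeartbeats 800000 in
theorem propB {X Y : Scheme.{u}} (f : X ⟶ Y) [IsIntegralHom f] : BigSite.PropB f := by
  intro V v _ ι U g hg hsurj
  let 𝒱 : Y.Etale := Scheme.Etale.mk v
  let 𝒵 : X.Etale := (EtCoh.bc f).obj 𝒱
  let Z : Scheme.{u} := pullback v f
  let σ : pullback f v ≅ Z := pullbackSymmetry f v
  let g' : ∀ i, U i ⟶ Z := fun i => g i ≫ σ.hom
  haveI : ∀ i, Etale (g i) := hg
  haveI : ∀ i, Etale (g' i) := fun i => inferInstance
  let zh : Z ⟶ X := pullback.snd v f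
  haveI : Etale zh := inferInstance
  let 𝒰 : ι → X.Etale := fun i => Scheme.Etale.mk (g' i ≫ zh)
  let u : ∀ i, 𝒰 i ⟶ 𝒵 := fun i => MorphismProperty.Over.homMk (g' i) rfl trivial
  let R : Sieve 𝒵 := Sieve.ofArrows 𝒰 u
  have hR : R ∈ X.smallEtaleTopology 𝒵 := by
    rw [EtZarDense.mem_smallEtaleTopology_iff]
    intro z
    obtain ⟨i, w, hw⟩ := hsurj (σ.inv z)
    refine ⟨𝒰 i, u i, w, Sieve.ofArrows_mk _ _ i, ?_⟩
    change σ.hom (g i w) = z
    rw [hw, ← Scheme.Hom.comp_apply, Iso.inv_hom_id]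
    rfl
  have hsplit := fun y : V => IntSplitScheme.splitAt f 𝒱 R hR y
  choose V'c gc v'c hv'c nc Dc hdisj hcov hDc using hsplit
  let v' : ∀ y : V, (V'c y).left ⟶ V := fun y => (gc y).left
  refine ⟨↥V, fun y => (V'c y).left, v', fun y => inferInstanceAs (Etale (gc y).left),
    fun y => ⟨y, v'c y, hv'c y⟩,
    fun y => ?_⟩
  -- the comparison of the two pullbacks
  let vy : (V'c y).left ⟶ Y := (V'c y).hom
  have hvy : v' y ≫ v = vy := Over.w (gc y).hom
  let Z' : Scheme.{u} := pullback vy f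
  let θ : pullback f (v' y ≫ v) ≅ Z' :=
    pullbackSymmetry f (v' y ≫ v) ≪≫ pullback.congrHom hvy rfl
  have hθ1 : θ.hom ≫ pullback.fst vy f = pullback.snd f (v' y ≫ v) := by
    change ((pullbackSymmetry f (v' y ≫ v)).hom ≫ (pullback.congrHom hvy rfl).hom) ≫ _ = _
    rw [Category.assoc, pullback.congrHom_hom, pullback.lift_fst, Category.comp_id,
      pullbackSymmetry_hom_comp_fst]
  have hθ2 : θ.hom ≫ pullback.snd vy f = pullback.fst f (v' y ≫ v) := by
    change ((pullbackSymmetry f (v' y ≫ v)).hom ≫ (pullback.congrHom hvy rfl).hom) ≫ _ = _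
    rw [Category.assoc, pullback.congrHom_hom, pullback.lift_snd, Category.comp_id,
      pullbackSymmetry_hom_comp_snd]
  let bg : Z' ⟶ Z := ((EtCoh.bc f).map (gc y)).left
  have hbg1 : bg ≫ pullback.fst v f = pullback.fst vy f ≫ v' y :=
    (EtCoh.isPullback_bc_map f (gc y)).w
  have hbg2 : bg ≫ pullback.snd v f = pullback.snd vy f :=
    Over.w ((EtCoh.bc f).map (gc y)).hom
  have hkey : θ.hom ≫ bg =
      pullback.map f (v' y ≫ v) f v (𝟙 X) (v' y) (𝟙 Y) (by simp) (by simp) ≫ σ.hom := by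
    apply pullback.hom_ext
    · rw [Category.assoc, hbg1, ← Category.assoc, hθ1, Category.assoc]
      change _ = _ ≫ (pullbackSymmetry f v).hom ≫ pullback.fst v f
      rw [pullbackSymmetry_hom_comp_fst, pullback.lift_snd]
    · rw [Category.assoc, hbg2, hθ2, Category.assoc]
      change _ = _ ≫ (pullbackSymmetry f v).hom ≫ pullback.snd v f
      rw [pullbackSymmetry_hom_comp_snd, pullback.lift_fst, Category.comp_id]
  let D' : Fin (nc y) → Z'.Opens := Dc y
  have hdisj' : ∀ i j, i ≠ j → D' i ⊓ D' j = ⊥ := fun i j hij => disjoint_iff.mp (hdisj y i j hij)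
  have hcov' : ⨆ i, D' i = ⊤ := hcov y
  refine ⟨ULift.{u} (Fin (nc y)), fun a => θ.hom ⁻¹ᵁ (D' a.down), ?_, ?_, ?_⟩
  · intro a b hab
    have hab' : a.down ≠ b.down := fun h => hab (ULift.ext _ _ h)
    rw [disjoint_iff]
    change θ.hom ⁻¹ᵁ (D' a.down ⊓ D' b.down) = ⊥
    rw [hdisj' _ _ hab']
    rfl
  · have h1 : (⨆ a : ULift.{u} (Fin (nc y)), D' a.down) = ⊤ := by
      rw [← hcov']
      exact Equiv.ulift.iSup_comp (g := D')
    rw [← Scheme.Hom.preimage_iSup, h1]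
    rfl
  · intro a
    obtain ⟨i, k, hk⟩ := (Sieve.mem_ofArrows_iff 𝒰 u _).mp (hDc y a.down)
    let Da : Z'.Opens := D' a.down
    let k₀ : Da.toScheme ⟶ U i := k.left
    have hk₀ : Da.ι ≫ bg = k₀ ≫ g' i := congrArg (fun t => t.left) hk
    refine ⟨i, (θ.hom ∣_ Da) ≫ k₀, ?_⟩
    rw [← cancel_mono σ.hom]
    calc ((θ.hom ∣_ Da) ≫ k₀ ≫ g i) ≫ σ.hom = (θ.hom ∣_ Da) ≫ (k₀ ≫ g' i) := by
          simp only [Category.assoc, g']
      _ = (θ.hom ∣_ Da) ≫ (Da.ι ≫ bg) := by rw [hk₀]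
      _ = ((θ.hom ∣_ Da) ≫ Da.ι) ≫ bg := (Category.assoc _ _ _).symm
      _ = ((θ.hom ⁻¹ᵁ Da).ι ≫ θ.hom) ≫ bg := by rw [morphismRestrict_ι]
      _ = (θ.hom ⁻¹ᵁ Da).ι ≫ (θ.hom ≫ bg) := Category.assoc _ _ _
      _ = (θ.hom ⁻¹ᵁ Da).ι ≫
            (pullback.map f (v' y ≫ v) f v (𝟙 X) (v' y) (𝟙 Y) (by simp) (by simp) ≫ σ.hom) := by
          rw [hkey]
      _ = _ := (Category.assoc _ _ _).symm

end Groth.Agent.Lib.Helper3.IntPropB
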