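import Groth.Agent.Lib.Helper3.IntPropA
import Mathlib.AlgebraicGeometry.Limits
import Mathlib.AlgebraicGeometry.Gluing

/-!
# Integral closed topological embeddings satisfy condition (C) (helper3)
-/

set_option linter.style.haveILetI false
set_option linter.unusedSectionVars false
set_option autoImplicit false

universe v u

open CategoryTheory CategoryTheory.Limits AlgebraicGeometry Opposite TopologicalSpace

namespace Groth.Agent.Lib.Helper3.IntPropC

open Groth.Agent.Lib.Helper3 Groth.Agent.Lib.Helper3.EtLocalRingScheme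
  Groth.Agent.Lib.Helper3.IntPropA

/-- Gluing morphisms over an open cover with pairwise disjoint members. -/
theorem exists_glue_of_disjoint {T U : Scheme.{u}} (𝒲 : Scheme.OpenCover.{v} T)
    (hdisj : ∀ a b, a ≠ b → ∀ (s : 𝒲.X a) (t : 𝒲.X b), 𝒲.f a s ≠ 𝒲.f b t)
    (k : ∀ a, 𝒲.X a ⟶ U) : ∃ h : T ⟶ U, ∀ a, 𝒲.f a ≫ h = k a := by
  classical
  refine ⟨𝒲.glueMorphisms k ?_, fun a => 𝒲.ι_glueMorphisms k _ a⟩
  intro a b
  by_cases hab : a = b
  · subst hab
    rw [fst_eq_snd_of_mono_eq]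
  · haveI : IsEmpty ↥(pullback (𝒲.f a) (𝒲.f b)) :=
      ⟨fun t => hdisj a b hab ((pullback.fst (𝒲.f a) (𝒲.f b)) t)
        ((pullback.snd (𝒲.f a) (𝒲.f b)) t) (by
        rw [← Scheme.Hom.comp_apply, ← Scheme.Hom.comp_apply, pullback.condition])⟩
    exact isInitialOfIsEmpty.hom_ext _ _

set_option backward.isDefEq.respectTransparency.types false in
set_option maxHeartbeats 800000 in
/-- The common core of conditions (A) and (C) for an integral morphism. -/
theorem core {X Y : Scheme.{u}} (f : X ⟶ Y) [IsIntegralHom f] {U : Scheme.{u}} (g : U ⟶ X)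
    [Etale g] (u : U) :
    ∃ (V' : Scheme.{u}) (vy : V' ⟶ Y) (_ : Etale vy) (v' : V') (U' : U.Opens) (n : ℕ)
      (D : Fin n → (pullback vy f).Opens),
      vy v' = f (g u) ∧ (∀ u' ∈ U', g u' = g u → u' = u) ∧
      (∀ i j, i ≠ j → D i ⊓ D j = ⊥) ∧ (⨆ i, D i = ⊤) ∧
      ∀ i, (∃ k : (D i).toScheme ⟶ U'.toScheme, k ≫ U'.ι ≫ g = (D i).ι ≫ pullback.snd vy f) ∨
        (∀ τ : (D i).toScheme, ((D i).ι ≫ pullback.snd vy f) τ ∉ closure ({g u} : Set X)) := by
  classical
  let x : X := g u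
  let y : Y := f x
  obtain ⟨Y₀, hY₀, hy, -⟩ := exists_isAffineOpen_mem_and_subset (U := ⊤) (x := y) (by simp)
  obtain ⟨U', huU', hU'⟩ := exists_open_isolating g u
  let 𝒱 : Y.Etale := Scheme.Etale.mk Y₀.ι
  haveI : IsAffine 𝒱.left := hY₀
  let 𝒵 : X.Etale := (EtCoh.bc f).obj 𝒱
  let Z : Scheme.{u} := pullback Y₀.ι f
  let p : Z ⟶ Y₀.toScheme := pullback.fst Y₀.ι f
  let zh : Z ⟶ X := pullback.snd Y₀.ι f
  let v : Y₀.toScheme := ⟨y, hy⟩
  -- the sieve
  let R : Sieve 𝒵 :=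
    { arrows := fun T _ => (∃ k : T.left ⟶ U'.toScheme, k ≫ U'.ι ≫ g = (T.hom : T.left ⟶ X)) ∨
        (∀ τ : T.left, (T.hom : T.left ⟶ X) τ ∉ closure ({x} : Set X))
      downward_closed := by
        intro T T' t ht s
        have hs : (s.left : T'.left ⟶ T.left) ≫ (T.hom : T.left ⟶ X) = T'.hom := Over.w s.hom
        rcases ht with ⟨k, hk⟩ | ht
        · refine Or.inl ⟨s.left ≫ k, ?_⟩
          rw [Category.assoc, hk, hs]
        · refine Or.inr (fun τ => ?_)
          rw [← hs, Scheme.Hom.comp_apply]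
          exact ht _ }
  have hRv : ∀ z : ↥(pullback (𝒱.hom : 𝒱.left ⟶ Y) f),
      (pullback.fst (𝒱.hom : 𝒱.left ⟶ Y) f) z = v →
      ∃ (T : X.Etale) (t : T ⟶ (EtCoh.bc f).obj 𝒱) (τ : T.left), R t ∧
        (t.left : T.left ⟶ pullback (𝒱.hom : 𝒱.left ⟶ Y) f) τ = z := by
    intro z hz
    have hfz : f (zh z) = y := by
      have h1 : (pullback.fst Y₀.ι f ≫ Y₀.ι) z = (pullback.snd Y₀.ι f ≫ f) z := by
        rw [pullback.condition]
      rw [Scheme.Hom.comp_apply, Scheme.Hom.comp_apply] at h1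
      change Y₀.ι (p z) = f (zh z) at h1
      rw [← h1]
      have : p z = v := hz
      rw [this]
      rfl
    by_cases hzx : zh z = x
    · -- the chart `U'`
      let U'' : U.Opens := U' ⊓ (g ≫ f) ⁻¹ᵁ Y₀
      have huU'' : u ∈ U'' := ⟨huU', hy⟩
      have hrange : Set.range (U''.ι ≫ g ≫ f) ⊆ Set.range Y₀.ι := by
        rintro _ ⟨w, rfl⟩
        rw [Scheme.Opens.range_ι]
        exact w.2.2
      let l : U''.toScheme ⟶ Y₀.toScheme := IsOpenImmersion.lift Y₀.ι (U''.ι ≫ g ≫ f) hrange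
      have hl : l ≫ Y₀.ι = U''.ι ≫ g ≫ f := IsOpenImmersion.lift_fac _ _ _
      let t₀ : U''.toScheme ⟶ Z := pullback.lift l (U''.ι ≫ g) (by rw [hl, Category.assoc])
      have ht₀ : t₀ ≫ zh = U''.ι ≫ g := pullback.lift_snd _ _ _
      let T : X.Etale := Scheme.Etale.mk (U''.ι ≫ g)
      let t : T ⟶ 𝒵 := MorphismProperty.Over.homMk t₀ ht₀ trivial
      let τ : U''.toScheme := ⟨u, huU''⟩
      have hle'' : U'' ≤ U' := inf_le_left
      have h3 : U.homOfLE hle'' ≫ U'.ι = U''.ι := Scheme.homOfLE_ι _ _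
      refine ⟨T, t, τ, Or.inl ⟨U.homOfLE hle'', ?_⟩, ?_⟩
      · calc U.homOfLE hle'' ≫ U'.ι ≫ g = (U.homOfLE hle'' ≫ U'.ι) ≫ g :=
              (Category.assoc _ _ _).symm
          _ = U''.ι ≫ g := by rw [h3]
      · have hinj : Function.Injective zh := (Scheme.Hom.isOpenEmbedding zh).injective
        apply hinj
        change zh (t₀ τ) = zh z
        rw [← Scheme.Hom.comp_apply, ht₀, hzx]
        rfl
    · -- the complement of the closure of `x`
      have hzcl : zh z ∉ closure ({x} : Set X) := by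
        intro hcl
        have hsp : x ⤳ zh z := specializes_iff_mem_closure.mpr hcl
        exact hzx (eq_of_specializes f hsp hfz.symm).symm
      let Ω : Z.Opens := ⟨(zh ⁻¹' closure ({x} : Set X))ᶜ,
        (isClosed_closure.preimage zh.continuous).isOpen_compl⟩
      have hzΩ : z ∈ Ω := hzcl
      refine ⟨openObj 𝒵 Ω, openHom 𝒵 Ω, (⟨z, hzΩ⟩ : Ω), Or.inr (fun τ => ?_), rfl⟩
      exact τ.2
  obtain ⟨V', gV, v', hv', n, D, hdisj, hcover, hD⟩ :=
    IntSplitScheme.splitAt_of_isAffine' f 𝒱 R v hRv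
  let vy : V'.left ⟶ Y := V'.hom
  haveI : Etale vy := inferInstanceAs (Etale V'.hom)
  let 𝒵' : X.Etale := (EtCoh.bc f).obj V'
  let Z' : Scheme.{u} := pullback vy f
  let z'h : Z' ⟶ X := pullback.snd vy f
  let D' : Fin n → Z'.Opens := D
  have hdisj' : ∀ i j, i ≠ j → D' i ⊓ D' j = ⊥ := fun i j hij => disjoint_iff.mp (hdisj i j hij)
  have hcover' : ⨆ i, D' i = ⊤ := hcover
  have hvy : vy v' = f x := by
    have h1 : (gV.left : V'.left ⟶ Y₀.toScheme) ≫ Y₀.ι = vy := Over.w gV.hom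
    rw [← h1, Scheme.Hom.comp_apply]
    have : (gV.left : V'.left ⟶ Y₀.toScheme) v' = v := hv'
    rw [this]
    rfl
  exact ⟨V'.left, vy, inferInstance, v', U', n, D', hvy, hU', hdisj', hcover', fun i => hD i⟩

set_option backward.isDefEq.respectTransparency.types false in
set_option maxHeartbeats 800000 in
/-- Condition (C), locally: every point of `U` is hit by an `X`-morphism `X ×_Y V ⟶ U`. -/
theorem propC_local {X Y : Scheme.{u}} (f : X ⟶ Y) [IsIntegralHom f]
    (hf : Function.Injective f) {U : Scheme.{u}} (g : U ⟶ X) [Etale g] (u : U) :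
    ∃ (V : Scheme.{u}) (v : V ⟶ Y) (_ : Etale v) (h : pullback f v ⟶ U),
      h ≫ g = pullback.fst f v ∧ u ∈ Set.range h := by
  classical
  obtain ⟨V', vy, hvyEt, v', U', n, D, hvy, hU', hdisj, hcover, hD⟩ := core f g u
  let x : X := g u
  let Z' : Scheme.{u} := pullback vy f
  let p' : Z' ⟶ V' := pullback.fst vy f
  let z'h : Z' ⟶ X := pullback.snd vy f
  haveI : IsIntegralHom p' := inferInstance
  -- each `D i` is closed
  have hD_closed : ∀ i, IsClosed ((D i : Z'.Opens) : Set Z') := by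
    intro i
    have hcompl : ((D i : Z'.Opens) : Set Z')ᶜ =
        ((⨆ j : {j : Fin n // j ≠ i}, D j.1 : Z'.Opens) : Set Z') := by
      ext w
      simp only [Set.mem_compl_iff, SetLike.mem_coe, Opens.mem_iSup]
      constructor
      · intro hw
        have hw' : w ∈ ⨆ j, D j := by rw [hcover]; trivial
        obtain ⟨j, hj⟩ := Opens.mem_iSup.mp hw'
        refine ⟨⟨j, fun hji => hw (by subst hji; exact hj)⟩, hj⟩
      · rintro ⟨⟨j, hji⟩, hj⟩ hw
        have : w ∈ D j ⊓ D i := ⟨hj, hw⟩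
        rw [hdisj j i hji] at this
        exact this
    rw [← isOpen_compl_iff, hcompl]
    exact (⨆ j : {j : Fin n // j ≠ i}, D j.1 : Z'.Opens).2
  -- the pieces of the first kind
  let First : Fin n → Prop := fun i =>
    ∃ k : (D i).toScheme ⟶ U'.toScheme, k ≫ U'.ι ≫ g = (D i).ι ≫ z'h
  have hsecond : ∀ i, ¬ First i → ∀ τ : (D i).toScheme, z'h τ.1 ∉ closure ({x} : Set X) := by
    intro i hi
    rcases hD i with h1 | h2
    · exact absurd h1 hi
    · exact h2
  let B : Set Z' := ⋃ i ∈ {i : Fin n | ¬ First i}, ((D i : Z'.Opens) : Set Z')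
  have hB_closed : IsClosed B :=
    (Set.toFinite {i : Fin n | ¬ First i}).isClosed_biUnion (fun i _ => hD_closed i)
  have hpB_closed : IsClosed (p' '' B) := p'.isClosedMap _ hB_closed
  let V'' : V'.Opens := ⟨(p' '' B)ᶜ, hpB_closed.isOpen_compl⟩
  have hcond : ∀ b : Z', vy (p' b) = f (z'h b) := by
    intro b
    have h1 : (pullback.fst vy f ≫ vy) b = (pullback.snd vy f ≫ f) b := by
      rw [pullback.condition]
    rwa [Scheme.Hom.comp_apply, Scheme.Hom.comp_apply] at h1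
  have hv'V'' : v' ∈ V'' := by
    rintro ⟨b, hb, hpb⟩
    obtain ⟨i, hi, hbi⟩ := Set.mem_iUnion₂.mp hb
    have h1 : f (z'h b) = f x := by rw [← hcond, hpb, hvy]
    have h2 : z'h b = x := hf h1
    apply hsecond i hi ⟨b, hbi⟩
    change z'h b ∈ closure ({x} : Set X)
    rw [h2]
    exact subset_closure rfl
  -- the new étale neighbourhood
  let w : V''.toScheme ⟶ Y := V''.ι ≫ vy
  haveI : Etale w := inferInstance
  let Z'' : Scheme.{u} := pullback f w
  have hcondm : (pullback.snd f w ≫ V''.ι) ≫ vy = pullback.fst f w ≫ f := by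
    rw [Category.assoc]
    exact pullback.condition.symm
  let m : Z'' ⟶ Z' := pullback.lift (pullback.snd f w ≫ V''.ι) (pullback.fst f w) hcondm
  have hm1 : m ≫ p' = pullback.snd f w ≫ V''.ι := pullback.lift_fst _ _ _
  have hm2 : m ≫ z'h = pullback.fst f w := pullback.lift_snd _ _ _
  have hmFirst : ∀ (z'' : Z'') (i : Fin n), m z'' ∈ D i → First i := by
    intro z'' i hi
    by_contra hnot
    have h1 : p' (m z'') ∈ p' '' B := ⟨m z'', Set.mem_iUnion₂.mpr ⟨i, hnot, hi⟩, rfl⟩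
    have h2 : p' (m z'') = V''.ι ((pullback.snd f w) z'') := by
      rw [← Scheme.Hom.comp_apply, hm1, Scheme.Hom.comp_apply]
    rw [h2] at h1
    exact ((pullback.snd f w) z'').2 h1
  let I : Type := {i : Fin n // First i}
  let E : I → Z''.Opens := fun a => m ⁻¹ᵁ (D a.1)
  have hE : IsOpenCover E := by
    rw [IsOpenCover, eq_top_iff]
    intro z'' _
    have hw' : m z'' ∈ ⨆ j, D j := by rw [hcover]; trivial
    obtain ⟨j, hj⟩ := Opens.mem_iSup.mp hw'
    exact Opens.mem_iSup.mpr ⟨⟨j, hmFirst z'' j hj⟩, hj⟩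
  let 𝒲 : Scheme.OpenCover.{0} Z'' := Z''.openCoverOfIsOpenCover E hE
  have h𝒲disj : ∀ a b, a ≠ b → ∀ (s : 𝒲.X a) (t : 𝒲.X b), 𝒲.f a s ≠ 𝒲.f b t := by
    intro a b hab s t hst
    have hab' : a.1 ≠ b.1 := fun h => hab (Subtype.ext h)
    have hs : m ((E a).ι s) ∈ D a.1 := s.2
    have ht : m ((E b).ι t) ∈ D b.1 := t.2
    have hst' : (E a).ι s = (E b).ι t := hst
    rw [hst'] at hs
    have : m ((E b).ι t) ∈ D a.1 ⊓ D b.1 := ⟨hs, ht⟩
    rw [hdisj _ _ hab'] at this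
    exact this
  let kc : ∀ a : I, (D a.1).toScheme ⟶ U'.toScheme := fun a => a.2.choose
  have hkc : ∀ a : I, kc a ≫ U'.ι ≫ g = (D a.1).ι ≫ z'h := fun a => a.2.choose_spec
  let k : ∀ a : I, 𝒲.X a ⟶ U := fun a => (m ∣_ (D a.1)) ≫ kc a ≫ U'.ι
  have hk : ∀ a : I, k a ≫ g = 𝒲.f a ≫ pullback.fst f w := by
    intro a
    calc k a ≫ g = (m ∣_ (D a.1)) ≫ (kc a ≫ U'.ι ≫ g) := by
          change ((m ∣_ (D a.1)) ≫ kc a ≫ U'.ι) ≫ g = _
          rw [Category.assoc, Category.assoc]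
      _ = (m ∣_ (D a.1)) ≫ ((D a.1).ι ≫ z'h) := by rw [hkc]
      _ = ((m ∣_ (D a.1)) ≫ (D a.1).ι) ≫ z'h := (Category.assoc _ _ _).symm
      _ = ((E a).ι ≫ m) ≫ z'h := by rw [morphismRestrict_ι]
      _ = (E a).ι ≫ (m ≫ z'h) := Category.assoc _ _ _
      _ = (E a).ι ≫ pullback.fst f w := by rw [hm2]
  obtain ⟨h, hh⟩ := exists_glue_of_disjoint 𝒲 h𝒲disj k
  refine ⟨V''.toScheme, w, inferInstance, h, ?_, ?_⟩
  · apply 𝒲.hom_ext
    intro a
    rw [← Category.assoc, hh a, hk a]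
  · let v'' : V''.toScheme := ⟨v', hv'V''⟩
    have hfx : f x = w v'' := hvy.symm
    obtain ⟨z'', hz''1, hz''2⟩ := Scheme.Pullback.exists_preimage_pullback (f := f) (g := w) x
      v'' hfx
    have hzx : z'h (m z'') = x := by
      rw [← Scheme.Hom.comp_apply, hm2]
      exact hz''1
    have hw' : m z'' ∈ ⨆ j, D j := by rw [hcover]; trivial
    obtain ⟨j, hj⟩ := Opens.mem_iSup.mp hw'
    let a : I := ⟨j, hmFirst z'' j hj⟩
    let e : (E a).toScheme := ⟨z'', hj⟩
    refine ⟨z'', ?_⟩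
    have h1 : h z'' = k a e := by
      have : (𝒲.f a ≫ h) e = k a e := by rw [hh a]
      rw [Scheme.Hom.comp_apply] at this
      exact this
    change h z'' = u
    rw [h1]
    change U'.ι ((kc a) ((m ∣_ (D a.1)) e)) = u
    apply hU' _ ((kc a) ((m ∣_ (D a.1)) e)).2
    have h2 : (kc a ≫ U'.ι ≫ g) ((m ∣_ (D a.1)) e) = ((D a.1).ι ≫ z'h) ((m ∣_ (D a.1)) e) := by
      rw [hkc]
    rw [Scheme.Hom.comp_apply, Scheme.Hom.comp_apply, Scheme.Hom.comp_apply] at h2
    refine h2.trans ?_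
    have h3 : (D a.1).ι ((m ∣_ (D a.1)) e) = m z'' := by
      rw [← Scheme.Hom.comp_apply, morphismRestrict_ι, Scheme.Hom.comp_apply]
      rfl
    rw [h3]
    exact hzx

set_option backward.isDefEq.respectTransparency.types false in
set_option maxHeartbeats 800000 in
/-- **Condition (C)** for an integral morphism injective on points. -/
theorem propC_of_injective {X Y : Scheme.{u}} (f : X ⟶ Y) [IsIntegralHom f]
    (hf : Function.Injective f) : BigSite.PropC f := by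
  intro U g _
  classical
  have hloc := fun u : U => propC_local f hf g u
  choose Vc vc hvc hc hhc huc using hloc
  haveI : ∀ t, Etale (vc t) := hvc
  let V : Scheme.{u} := ∐ Vc
  let v : V ⟶ Y := Sigma.desc vc
  haveI : Etale v := IsZariskiLocalAtSource.sigmaDesc (P := @Etale) hvc
  let 𝒰V : Scheme.OpenCover.{u} V := sigmaOpenCover Vc
  let 𝒲 : Scheme.OpenCover.{u} (pullback f v) := Scheme.Pullback.openCoverOfRight 𝒰V f v
  have hcomp : ∀ t : U, Sigma.ι Vc t ≫ v = vc t := fun t => Sigma.ι_desc _ _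
  let cg : ∀ t : U, pullback f (Sigma.ι Vc t ≫ v) ≅ pullback f (vc t) :=
    fun t => pullback.congrHom rfl (hcomp t)
  have hcg1 : ∀ t, (cg t).hom ≫ pullback.fst f (vc t) = pullback.fst f (Sigma.ι Vc t ≫ v) := by
    intro t
    change (pullback.congrHom rfl (hcomp t)).hom ≫ _ = _
    rw [pullback.congrHom_hom, pullback.lift_fst, Category.comp_id]
  let k : ∀ t : U, 𝒲.X t ⟶ U := fun t => (cg t).hom ≫ hc t
  have hk : ∀ t : U, k t ≫ g = 𝒲.f t ≫ pullback.fst f v := by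
    intro t
    change ((cg t).hom ≫ hc t) ≫ g =
      pullback.map f (Sigma.ι Vc t ≫ v) f v (𝟙 X) (Sigma.ι Vc t) (𝟙 Y) (by simp) (by simp) ≫
        pullback.fst f v
    rw [Category.assoc, hhc t, hcg1 t, pullback.lift_fst, Category.comp_id]
  have h𝒲snd : ∀ t : U, 𝒲.f t ≫ pullback.snd f v =
      pullback.snd f (Sigma.ι Vc t ≫ v) ≫ Sigma.ι Vc t := by
    intro t
    change pullback.map f (Sigma.ι Vc t ≫ v) f v (𝟙 X) (Sigma.ι Vc t) (𝟙 Y) (by simp) (by simp) ≫
      pullback.snd f v = _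
    rw [pullback.lift_snd]
  have h𝒲disj : ∀ a b, a ≠ b → ∀ (s : 𝒲.X a) (t : 𝒲.X b), 𝒲.f a s ≠ 𝒲.f b t := by
    intro a b hab s t hst
    have h0 : (𝒲.f a ≫ pullback.snd f v) s = (𝒲.f b ≫ pullback.snd f v) t := by
      rw [Scheme.Hom.comp_apply, Scheme.Hom.comp_apply, hst]
    rw [h𝒲snd a, h𝒲snd b] at h0
    have h1 : (Sigma.ι Vc a) ((pullback.snd f (Sigma.ι Vc a ≫ v)) s) =
        (Sigma.ι Vc b) ((pullback.snd f (Sigma.ι Vc b ≫ v)) t) := h0
    have hd := disjoint_opensRange_sigmaι Vc a b hab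
    rw [disjoint_iff] at hd
    have hmem : (Sigma.ι Vc a) ((pullback.snd f (Sigma.ι Vc a ≫ v)) s) ∈
        (Sigma.ι Vc a).opensRange ⊓ (Sigma.ι Vc b).opensRange :=
      ⟨⟨_, rfl⟩, ⟨_, h1.symm⟩⟩
    rw [hd] at hmem
    exact hmem
  obtain ⟨h, hh⟩ := exists_glue_of_disjoint 𝒲 h𝒲disj k
  refine ⟨V, v, inferInstance, h, ?_, ⟨fun t => ?_⟩⟩
  · apply 𝒲.hom_ext
    intro a
    rw [← Category.assoc, hh a, hk a]
  · obtain ⟨z, hz⟩ := huc t
    refine ⟨𝒲.f t ((cg t).inv z), ?_⟩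
    have h1 : (𝒲.f t ≫ h) ((cg t).inv z) = k t ((cg t).inv z) := by rw [hh t]
    rw [Scheme.Hom.comp_apply] at h1
    rw [h1]
    change ((cg t).hom ≫ hc t) ((cg t).inv z) = t
    rw [Scheme.Hom.comp_apply, ← Scheme.Hom.comp_apply (cg t).inv, Iso.inv_hom_id]
    exact hz

/-- **Condition (C)** for an integral morphism which is a closed topological embedding. -/
theorem propC {X Y : Scheme.{u}} (f : X ⟶ Y) [IsIntegralHom f]
    (hf : Topology.IsClosedEmbedding f.base) : BigSite.PropC f :=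
  propC_of_injective f hf.injective

end Groth.Agent.Lib.Helper3.IntPropC
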