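import Groth.Agent.Lib.Helper9.HensK.Basic
import Mathlib.Algebra.Category.ModuleCat.Monoidal.Closed
import Mathlib.Algebra.Category.ModuleCat.FilteredColimits
import Mathlib.CategoryTheory.Limits.Types.Filtered

/-!
# Tensoring the colimit of pointed étale algebras (helper3)

`D ⊗[C] PtColim C K` is the filtered colimit of the `D ⊗[C] N.S`: every element comes from a stage,
and an element of a stage which dies in the colimit dies at a later stage.
-/

set_option linter.style.haveILetI false
set_option linter.unusedSectionVars false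
set_option autoImplicit false

universe u

open CategoryTheory CategoryTheory.Limits TensorProduct MonoidalCategory

namespace Groth.Agent.Lib.Helper3.IntSplitColim

open Groth.Agent.Lib.Helper9.HensK

variable (C : Type u) [CommRing C] (K : Type u) [CommRing K] [Algebra C K]
  (D : Type u) [CommRing D] [Algebra C D]

/-- The structure map of a stage. -/
noncomputable def stageMap (N : PtEt C K) : D ⊗[C] N.S →ₐ[D] D ⊗[C] PtColim C K :=
  Algebra.TensorProduct.map (AlgHom.id D D) (PtColim.ιₐ N)

/-- The transition maps. -/
noncomputable def transMap {N N' : PtEt C K} (f : N ⟶ N') : D ⊗[C] N.S →ₐ[D] D ⊗[C] N'.S :=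
  Algebra.TensorProduct.map (AlgHom.id D D) f.1

variable {C K}

theorem stageMap_comp_transMap {N N' : PtEt C K} (f : N ⟶ N') :
    (stageMap C K D N').comp (transMap C K D f) = stageMap C K D N := by
  unfold stageMap transMap
  rw [← Algebra.TensorProduct.map_comp, AlgHom.comp_id, PtColim.ιₐ_comp]

theorem stageMap_transMap {N N' : PtEt C K} (f : N ⟶ N') (x : D ⊗[C] N.S) :
    stageMap C K D N' (transMap C K D f x) = stageMap C K D N x :=
  DFunLike.congr_fun (stageMap_comp_transMap D f) x

variable (C K)

/-- Every element of the tensor product comes from a stage. -/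
theorem exists_rep (t : D ⊗[C] PtColim C K) :
    ∃ (N : PtEt C K) (y : D ⊗[C] N.S), stageMap C K D N y = t := by
  induction t using TensorProduct.induction_on with
  | zero => exact ⟨PtEt.base C K, 0, map_zero _⟩
  | tmul d o =>
    obtain ⟨N, z, rfl⟩ := PtColim.exists_rep o
    exact ⟨N, d ⊗ₜ z, by simp [stageMap]⟩
  | add t₁ t₂ h₁ h₂ =>
    obtain ⟨N₁, y₁, rfl⟩ := h₁
    obtain ⟨N₂, y₂, rfl⟩ := h₂
    refine ⟨IsFiltered.max N₁ N₂, transMap C K D (IsFiltered.leftToMax N₁ N₂) y₁ +
      transMap C K D (IsFiltered.rightToMax N₁ N₂) y₂, ?_⟩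
    rw [map_add, stageMap_transMap, stageMap_transMap]

/-- The diagram of stages as `C`-modules. -/
noncomputable def modF : PtEt C K ⥤ ModuleCat.{u} C where
  obj N := ModuleCat.of C N.S
  map f := ModuleCat.ofHom f.1.toLinearMap
  map_id _ := rfl
  map_comp _ _ := rfl

/-- The cocone of the colimit ring as `C`-modules. -/
noncomputable def modCocone : Cocone (modF C K) where
  pt := ModuleCat.of C (PtColim C K)
  ι :=
    { app := fun N => ModuleCat.ofHom (PtColim.ιₐ N).toLinearMap
      naturality := by
        intro N N' f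
        ext x
        exact PtColim.ι_comp f x }

/-- The cocone is a colimit cocone. -/
noncomputable def isColimitModCocone : IsColimit (modCocone C K) := by
  apply isColimitOfReflects (forget (ModuleCat.{u} C))
  apply Types.FilteredColimit.isColimitOf
  · intro x
    obtain ⟨N, y, hy⟩ := PtColim.exists_rep (A := C) (K := K) x
    exact ⟨N, y, hy.symm⟩
  · intro N₁ N₂ x y h
    obtain ⟨N, f, g, hfg⟩ := (PtColim.ι_eq_ι_iff (A := C) (K := K) x y).mp h
    exact ⟨N, f, g, hfg⟩

/-- An element of a stage dying in the colimit dies at a later stage. -/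
theorem exists_transMap_eq_zero (N : PtEt C K) (x : D ⊗[C] N.S) (hx : stageMap C K D N x = 0) :
    ∃ (N' : PtEt C K) (f : N ⟶ N'), transMap C K D f x = 0 := by
  let F := tensorLeft (ModuleCat.of C D)
  have hc : IsColimit (F.mapCocone (modCocone C K)) :=
    isColimitOfPreserves F (isColimitModCocone C K)
  have hc' : IsColimit ((forget (ModuleCat.{u} C)).mapCocone (F.mapCocone (modCocone C K))) :=
    isColimitOfPreserves (forget (ModuleCat.{u} C)) hc
  have key : ∀ (N' : PtEt C K),
      (((F.mapCocone (modCocone C K)).ι.app N').hom : D ⊗[C] N'.S →ₗ[C] D ⊗[C] PtColim C K) =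
        (stageMap C K D N').toLinearMap.restrictScalars C := by
    intro N'
    apply TensorProduct.ext'
    intro d s
    rfl
  have keyT : ∀ {N₁ N₂ : PtEt C K} (f : N₁ ⟶ N₂),
      ((F.map ((modF C K).map f)).hom : D ⊗[C] N₁.S →ₗ[C] D ⊗[C] N₂.S) =
        (transMap C K D f).toLinearMap.restrictScalars C := by
    intro N₁ N₂ f
    apply TensorProduct.ext'
    intro d s
    rfl
  have h1 : ((forget (ModuleCat.{u} C)).mapCocone (F.mapCocone (modCocone C K))).ι.app N x =
      ((forget (ModuleCat.{u} C)).mapCocone (F.mapCocone (modCocone C K))).ι.app N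
        (0 : D ⊗[C] N.S) := by
    change ((F.mapCocone (modCocone C K)).ι.app N).hom x =
      ((F.mapCocone (modCocone C K)).ι.app N).hom (0 : D ⊗[C] N.S)
    rw [key]
    change stageMap C K D N x = stageMap C K D N 0
    rw [hx, map_zero]
  obtain ⟨N', f, g, hfg⟩ := (Types.FilteredColimit.isColimit_eq_iff _ hc').mp h1
  refine ⟨N', f, ?_⟩
  have h2 : (F.map ((modF C K).map f)).hom x =
      (F.map ((modF C K).map g)).hom (0 : D ⊗[C] N.S) := hfg
  rw [keyT, keyT] at h2
  change transMap C K D f x = transMap C K D g 0 at h2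
  rw [h2, map_zero]

end Groth.Agent.Lib.Helper3.IntSplitColim
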