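import Mathlib.RingTheory.FinitePresentation
import Mathlib.RingTheory.Ideal.Quotient.Operations

/-!
# Factoring maps out of a finitely presented algebra through a stage of a "filtered system" (helper3)

An abstract version (no category, no preorder): a family of `D`-algebras `G j` with maps `σ j` to a
`D`-algebra `T` such that every element of `T` comes from a later stage and every element of a stage
dying in `T` dies at a later stage. Then every `D`-algebra map from a finitely presented `D`-algebra
to `T` factors through a stage.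
-/

set_option linter.style.haveILetI false
set_option linter.unusedSectionVars false
set_option autoImplicit false

universe u w

namespace Groth.Agent.Lib.Helper3.IntSplitFP

variable {D : Type u} [CommRing D] {P : Type u} [CommRing P] [Algebra D P]
  {T : Type u} [CommRing T] [Algebra D T]
  {ι : Type w} (G : ι → Type u) [∀ j, CommRing (G j)] [∀ j, Algebra D (G j)]
  (σ : ∀ j, G j →ₐ[D] T)

/-- Every map from a finitely presented algebra to `T` factors through a stage. -/
theorem exists_factor [Algebra.FinitePresentation D P] [Nonempty ι]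
    (hrep : ∀ (j : ι) (t : T), ∃ (j' : ι) (h : G j →ₐ[D] G j') (y : G j'),
      (σ j').comp h = σ j ∧ σ j' y = t)
    (heq : ∀ (j : ι) (x : G j), σ j x = 0 → ∃ (j' : ι) (h : G j →ₐ[D] G j'),
      (σ j').comp h = σ j ∧ h x = 0)
    (χ : P →ₐ[D] T) : ∃ (j : ι) (φ : P →ₐ[D] G j), (σ j).comp φ = χ := by
  classical
  obtain ⟨n, f, hf, hker⟩ := Algebra.FinitePresentation.out (R := D) (A := P)
  -- Step 1: lift the variables
  have h1 : ∀ s : Finset (Fin n), ∃ (j : ι) (y : Fin n → G j),
      ∀ i ∈ s, σ j (y i) = χ (f (MvPolynomial.X i)) := by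
    intro s
    induction s using Finset.induction_on with
    | empty => exact ⟨Classical.arbitrary ι, fun _ => 0, by simp⟩
    | insert a s _ ih =>
      obtain ⟨j, y, hy⟩ := ih
      obtain ⟨j', h, ya, hh, hya⟩ := hrep j (χ (f (MvPolynomial.X a)))
      refine ⟨j', fun i => if i = a then ya else h (y i), ?_⟩
      intro i hi
      by_cases hia : i = a
      · subst hia
        simp [hya]
      · simp only [hia, if_false]
        have : i ∈ s := by
          rcases Finset.mem_insert.mp hi with h' | h'
          · exact absurd h' hia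
          · exact h'
        rw [← hy i this, ← hh]
        rfl
  obtain ⟨j₀, y, hy⟩ := h1 Finset.univ
  let ψ₀ : MvPolynomial (Fin n) D →ₐ[D] G j₀ := MvPolynomial.aeval y
  have hψ₀ : (σ j₀).comp ψ₀ = χ.comp f := by
    apply MvPolynomial.algHom_ext
    intro i
    change σ j₀ (ψ₀ (MvPolynomial.X i)) = χ (f (MvPolynomial.X i))
    rw [MvPolynomial.aeval_X]
    exact hy i (Finset.mem_univ i)
  -- Step 2: kill the relations
  obtain ⟨s, hs⟩ := hker
  have h2 : ∀ s' : Finset (MvPolynomial (Fin n) D), (∀ g ∈ s', f g = 0) →
      ∃ (j : ι) (ψ : MvPolynomial (Fin n) D →ₐ[D] G j), (σ j).comp ψ = χ.comp f ∧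
        ∀ g ∈ s', ψ g = 0 := by
    intro s'
    induction s' using Finset.induction_on with
    | empty => intro _; exact ⟨j₀, ψ₀, hψ₀, by simp⟩
    | insert a s' _ ih =>
      intro hfs
      obtain ⟨j, ψ, hψ, hψs⟩ := ih (fun g hg => hfs g (Finset.mem_insert_of_mem hg))
      have h3 : σ j (ψ a) = 0 := by
        have := DFunLike.congr_fun hψ a
        change σ j (ψ a) = χ (f a) at this
        rw [this, hfs a (Finset.mem_insert_self a s'), map_zero]
      obtain ⟨j', h, hh, hha⟩ := heq j (ψ a) h3
      refine ⟨j', h.comp ψ, ?_, ?_⟩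
      · rw [← AlgHom.comp_assoc, hh, hψ]
      · intro g hg
        rcases Finset.mem_insert.mp hg with rfl | hg
        · exact hha
        · change h (ψ g) = 0
          rw [hψs g hg, map_zero]
  have hfs : ∀ g ∈ s, f g = 0 := by
    intro g hg
    have : g ∈ RingHom.ker f.toRingHom := hs ▸ Ideal.subset_span hg
    exact this
  obtain ⟨j, ψ, hψ, hψs⟩ := h2 s hfs
  have hψker : ∀ x ∈ RingHom.ker f.toRingHom, ψ x = 0 := by
    intro x hx
    have hle : RingHom.ker f.toRingHom ≤ RingHom.ker ψ.toRingHom := by
      rw [← hs, Ideal.span_le]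
      intro g hg
      exact hψs g hg
    exact hle hx
  let φ : P →ₐ[D] G j :=
    (Ideal.Quotient.liftₐ (RingHom.ker f.toRingHom) ψ hψker).comp
      (Ideal.quotientKerAlgEquivOfSurjective hf).symm.toAlgHom
  refine ⟨j, φ, ?_⟩
  apply AlgHom.ext
  intro x
  obtain ⟨p, rfl⟩ := hf x
  have h5 : φ (f p) = ψ p := by
    change Ideal.Quotient.liftₐ (RingHom.ker f.toRingHom) ψ hψker
      ((Ideal.quotientKerAlgEquivOfSurjective hf).symm (f p)) = ψ p
    have : (Ideal.quotientKerAlgEquivOfSurjective hf).symm (f p) =
        Ideal.Quotient.mk _ p := by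
      rw [AlgEquiv.symm_apply_eq]
      rfl
    rw [this]
    rfl
  change σ j (φ (f p)) = χ (f p)
  rw [h5]
  exact DFunLike.congr_fun hψ p

end Groth.Agent.Lib.Helper3.IntSplitFP
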