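import Groth.Agent.Lib.Helper3.IntSplitLocal
import Groth.Agent.Lib.Helper3.IntSplitFP
import Mathlib.AlgebraicGeometry.PullbackCarrier

/-!
# Splitting étale coverings of an integral algebra over a strictly henselian local ring (helper3)

`T` integral over a strictly henselian local ring `R`, `T` a `D`-algebra, `𝒢` a "sieve" of
`D`-algebras. If every prime of `D` has an étale neighbourhood in `𝒢`, then there is a complete
family of orthogonal idempotents `e a` of `T` such that each `T / (1 - e a)` receives a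
`D`-algebra map from an étale member of `𝒢` (`exists_good_idempotents`).
-/

set_option linter.style.haveILetI false
set_option linter.unusedSectionVars false
set_option autoImplicit false

universe u

open IsLocalRing CategoryTheory AlgebraicGeometry TensorProduct

namespace Groth.Agent.Lib.Helper3.IntSplitCover

open Groth.Agent.Lib.Helper3

/-- A prime of a tensor product over a pair of primes with the same contraction. -/
theorem exists_prime_tensorProduct {D T E : Type u} [CommRing D] [CommRing T] [CommRing E]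
    [Algebra D T] [Algebra D E] (n : Ideal T) [hn : n.IsPrime] (P : Ideal E) [hP : P.IsPrime]
    (h : n.comap (algebraMap D T) = P.comap (algebraMap D E)) :
    ∃ Q : Ideal (T ⊗[D] E), Q.IsPrime ∧
      Q.comap (algebraMap T (T ⊗[D] E)) = n := by
  let x : Spec (CommRingCat.of T) := (⟨n, hn⟩ : PrimeSpectrum T)
  let y : Spec (CommRingCat.of E) := (⟨P, hP⟩ : PrimeSpectrum E)
  have hxy : (Spec.map (CommRingCat.ofHom (algebraMap D T))) x =
      (Spec.map (CommRingCat.ofHom (algebraMap D E))) y := by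
    apply PrimeSpectrum.ext
    exact h
  obtain ⟨z, hz1, -⟩ := Scheme.Pullback.exists_preimage_pullback x y hxy
  let w : Spec (CommRingCat.of (T ⊗[D] E)) := (pullbackSpecIso D T E).hom z
  have hw : (Spec.map (CommRingCat.ofHom (algebraMap T (T ⊗[D] E)))) w = x := by
    rw [← hz1]
    change ((pullbackSpecIso D T E).hom ≫ Spec.map (CommRingCat.ofHom (algebraMap T (T ⊗[D] E)))) z
      = _
    rw [pullbackSpecIso_hom_fst']
  refine ⟨(w : PrimeSpectrum (T ⊗[D] E)).asIdeal, (w : PrimeSpectrum (T ⊗[D] E)).2, ?_⟩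
  exact congrArg PrimeSpectrum.asIdeal hw

section

variable (R : Type u) [CommRing R] [HenselianLocalRing R]
  {T : Type u} [CommRing T] [Algebra R T] [Algebra.IsIntegral R T]
  {D : Type u} [CommRing D] [Algebra D T]

include R in
/-- A `D`-algebra map from a finitely presented `D`-algebra to `T_n` factors through
`T / (1 - e)` for an idempotent `e ∉ n`. -/
theorem exists_idempotent_algHom (n : Ideal T) [hn : n.IsMaximal]
    (E : Type u) [CommRing E] [Algebra D E] [Algebra.FinitePresentation D E]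
    (φ : E →ₐ[D] Localization.AtPrime n) :
    ∃ e : T, IsIdempotentElem e ∧ e ∉ n ∧ Nonempty (E →ₐ[D] T ⧸ Ideal.span {1 - e}) := by
  let L := Localization.AtPrime n
  let ι := {e : T // IsIdempotentElem e ∧ e ∉ n}
  let G : ι → Type u := fun e => T ⧸ Ideal.span {1 - e.1}
  have hker : ∀ e : ι, ∀ a ∈ Ideal.span {1 - e.1}, (IsScalarTower.toAlgHom D T L) a = 0 := by
    intro e a ha
    rw [Ideal.mem_span_singleton'] at ha
    obtain ⟨c, rfl⟩ := ha
    change algebraMap T L (c * (1 - e.1)) = 0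
    have hu : IsUnit (algebraMap T L e.1) :=
      IsLocalization.map_units L (⟨e.1, e.2.2⟩ : n.primeCompl)
    have h0 : algebraMap T L e.1 * algebraMap T L (c * (1 - e.1)) = algebraMap T L e.1 * 0 := by
      rw [← map_mul, mul_zero]
      have : e.1 * (c * (1 - e.1)) = c * (e.1 - e.1 * e.1) := by ring
      rw [this, e.2.1.eq, sub_self, mul_zero, map_zero]
    exact hu.mul_left_cancel h0
  let σ : ∀ e : ι, G e →ₐ[D] L := fun e =>
    Ideal.Quotient.liftₐ (Ideal.span {1 - e.1}) (IsScalarTower.toAlgHom D T L) (hker e)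
  have hσ : ∀ (e : ι) (t : T), σ e (Ideal.Quotient.mk _ t) = algebraMap T L t := fun e t => rfl
  haveI : Nonempty ι := ⟨⟨1, IsIdempotentElem.one, fun h => hn.ne_top ((Ideal.eq_top_iff_one _).mpr h)⟩⟩
  have hsurj := IntSplitLocal.algebraMap_surjective_atPrime R n L
  obtain ⟨e, ψ, -⟩ := IntSplitFP.exists_factor (D := D) (P := E) (T := L) G σ
    (by
      intro e t
      obtain ⟨x, rfl⟩ := hsurj t
      exact ⟨e, AlgHom.id D _, Ideal.Quotient.mk _ x, AlgHom.comp_id _, hσ e x⟩)
    (by
      intro e x hx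
      obtain ⟨t, rfl⟩ := Ideal.Quotient.mk_surjective x
      rw [hσ] at hx
      obtain ⟨s, hs⟩ := (IsLocalization.map_eq_zero_iff n.primeCompl L t).mp hx
      obtain ⟨e', u, he', he'n, he'u⟩ := IntSplitLocal.exists_idempotent_unit R (s : T) n s.2
      have het : e' * t = 0 := by
        calc e' * t = (e' * s * u) * t := by rw [he'u]
          _ = e' * u * (s * t) := by ring
          _ = 0 := by rw [hs, mul_zero]
      have hmem : e.1 * e' ∉ n := fun h =>
        (hn.isPrime.mem_or_mem h).elim e.2.2 he'n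
      let e'' : ι := ⟨e.1 * e', e.2.1.mul he', hmem⟩
      have hle : Ideal.span {1 - e.1} ≤ Ideal.span {1 - e''.1} := by
        rw [Ideal.span_singleton_le_iff_mem, Ideal.mem_span_singleton']
        refine ⟨1 - e.1, ?_⟩
        change (1 - e.1) * (1 - e.1 * e') = 1 - e.1
        have := e.2.1.eq
        linear_combination e' * this
      refine ⟨e'', Ideal.Quotient.factorₐ D hle, ?_, ?_⟩
      · apply AlgHom.ext
        intro y
        obtain ⟨y, rfl⟩ := Ideal.Quotient.mk_surjective y
        rfl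
      · change Ideal.Quotient.mk (Ideal.span {1 - e''.1}) t = 0
        rw [Ideal.Quotient.eq_zero_iff_mem, Ideal.mem_span_singleton']
        refine ⟨t, ?_⟩
        change t * (1 - e.1 * e') = t
        linear_combination (-e.1) * het)
    φ
  exact ⟨e.1, e.2.1, e.2.2, ⟨ψ⟩⟩

end

section Good

variable {T : Type u} [CommRing T] {D : Type u} [CommRing D] [Algebra D T]
  (𝒢 : ∀ (E : Type u) [CommRing E], (D →+* E) → Prop)

/-- `T / (1 - e)` receives a `D`-algebra map from an étale `D`-algebra in `𝒢`. -/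
def Good (e : T) : Prop :=
  ∃ (E : Type u) (_ : CommRing E) (_ : Algebra D E), Algebra.Etale D E ∧ 𝒢 E (algebraMap D E) ∧
    Nonempty (E →ₐ[D] T ⧸ Ideal.span {1 - e})

variable {𝒢}

theorem Good.mul {e : T} (h : Good 𝒢 e) (he : IsIdempotentElem e) (e' : T) : Good 𝒢 (e * e') := by
  obtain ⟨E, _, _, hE, hG, ⟨φ⟩⟩ := h
  have hle : Ideal.span {1 - e} ≤ Ideal.span {1 - e * e'} := by
    rw [Ideal.span_singleton_le_iff_mem, Ideal.mem_span_singleton']
    refine ⟨1 - e, ?_⟩
    have := he.eq
    linear_combination e' * this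
  exact ⟨E, _, _, hE, hG, ⟨(Ideal.Quotient.factorₐ D hle).comp φ⟩⟩

theorem isIdempotentElem_prod_one_sub (s : Finset T) (hs : ∀ x ∈ s, IsIdempotentElem x) :
    IsIdempotentElem (∏ x ∈ s, (1 - x)) := by
  classical
  induction s using Finset.induction_on with
  | empty => simp [IsIdempotentElem]
  | insert a s ha ih =>
    rw [Finset.prod_insert ha]
    exact (hs a (Finset.mem_insert_self a s)).one_sub.mul
      (ih (fun x hx => hs x (Finset.mem_insert_of_mem hx)))

/-- Disjointification of a finite set of good idempotents. -/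
theorem exists_orthogonal_of_finset (s : Finset T)
    (hs : ∀ x ∈ s, IsIdempotentElem x ∧ Good 𝒢 x) :
    ∃ (I : Type) (_ : Fintype I) (e : I → T), OrthogonalIdempotents e ∧ (∀ i, Good 𝒢 (e i)) ∧
      ∑ i, e i = 1 - ∏ x ∈ s, (1 - x) := by
  classical
  induction s using Finset.induction_on with
  | empty =>
    refine ⟨PEmpty, inferInstance, PEmpty.elim, ⟨fun i => i.elim, fun i => i.elim⟩,
      fun i => i.elim, by simp⟩
  | insert a s ha ih =>
    obtain ⟨I, _, e, he, hG, hsum⟩ := ih (fun x hx => hs x (Finset.mem_insert_of_mem hx))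
    obtain ⟨haI, haG⟩ := hs a (Finset.mem_insert_self a s)
    set π := ∏ x ∈ s, (1 - x) with hπ
    have hπI : IsIdempotentElem π :=
      isIdempotentElem_prod_one_sub s (fun x hx => (hs x (Finset.mem_insert_of_mem hx)).1)
    have hx : IsIdempotentElem (a * π) := haI.mul hπI
    have hx1 : (a * π) * ∑ i, e i = 0 := by
      rw [hsum]
      have := hπI.eq
      linear_combination (-a) * this
    have hx2 : (∑ i, e i) * (a * π) = 0 := by rw [mul_comm]; exact hx1
    refine ⟨Option I, inferInstance, (Option.elim · (a * π) e), he.option _ hx hx1 hx2, ?_, ?_⟩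
    · rintro (_ | i)
      · exact haG.mul haI π
      · exact hG i
    · rw [Fintype.sum_option, Finset.prod_insert ha]
      simp only [Option.elim]
      rw [hsum]
      ring

theorem prod_one_sub_eq_zero (s : Finset T) (hs : ∀ x ∈ s, IsIdempotentElem x)
    (htop : Ideal.span (s : Set T) = ⊤) : ∏ x ∈ s, (1 - x) = 0 := by
  classical
  set g := ∏ x ∈ s, (1 - x) with hg
  have h1 : ∀ x ∈ s, g * x = 0 := by
    intro x hx
    rw [hg, ← Finset.mul_prod_erase s _ hx]
    have := (hs x hx).eq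
    linear_combination (-(∏ y ∈ s.erase x, (1 - y))) * this
  have h2 : (1 : T) ∈ Ideal.span (s : Set T) := by rw [htop]; trivial
  rw [Ideal.span, Submodule.mem_span_finset] at h2
  obtain ⟨f, -, hf⟩ := h2
  calc g = g * 1 := (mul_one g).symm
    _ = g * ∑ x ∈ s, f x • x := by rw [hf]
    _ = ∑ x ∈ s, f x * (g * x) := by
        rw [Finset.mul_sum]
        refine Finset.sum_congr rfl (fun x _ => ?_)
        rw [smul_eq_mul]; ring
    _ = 0 := by
        refine Finset.sum_eq_zero (fun x hx => ?_)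
        rw [h1 x hx, mul_zero]

end Good

section Main

variable (R : Type u) [CommRing R] [HenselianLocalRing R] [IsSepClosed (ResidueField R)]
  {T : Type u} [CommRing T] [Algebra R T] [Algebra.IsIntegral R T]
  {D : Type u} [CommRing D] [Algebra D T]
  (𝒢 : ∀ (E : Type u) [CommRing E], (D →+* E) → Prop)

include R in
/-- Local form: every maximal ideal of `T` has a good clopen neighbourhood. -/
theorem exists_good_idempotent
    (hcov : ∀ 𝔭 : Ideal D, 𝔭.IsPrime → ∃ (E : Type u) (_ : CommRing E) (_ : Algebra D E),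
      Algebra.Etale D E ∧ 𝒢 E (algebraMap D E) ∧
        ∃ 𝔓 : Ideal E, 𝔓.IsPrime ∧ 𝔓.comap (algebraMap D E) = 𝔭)
    (n : Ideal T) [hn : n.IsMaximal] :
    ∃ e : T, IsIdempotentElem e ∧ e ∉ n ∧ Good 𝒢 e := by
  obtain ⟨E, _, _, hE, hG, 𝔓, h𝔓, h𝔓c⟩ :=
    hcov (n.comap (algebraMap D T)) (Ideal.comap_isPrime _ n)
  haveI := hE
  haveI := h𝔓
  obtain ⟨Q, hQ, hQn⟩ := exists_prime_tensorProduct (D := D) n 𝔓 h𝔓c.symm
  haveI := hQ
  obtain ⟨φ⟩ := IntSplitLocal.exists_algHom_atPrime R n (T ⊗[D] E) Q hQn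
  let φ' : E →ₐ[D] Localization.AtPrime n :=
    (φ.restrictScalars D).comp Algebra.TensorProduct.includeRight
  haveI : Algebra.FinitePresentation D E := inferInstance
  obtain ⟨e, he, hen, ⟨ψ⟩⟩ := exists_idempotent_algHom R n E φ'
  exact ⟨e, he, hen, E, _, _, hE, hG, ⟨ψ⟩⟩

include R in
/-- Global form: a complete family of good orthogonal idempotents. -/
theorem exists_good_idempotents
    (hcov : ∀ 𝔭 : Ideal D, 𝔭.IsPrime → ∃ (E : Type u) (_ : CommRing E) (_ : Algebra D E),
      Algebra.Etale D E ∧ 𝒢 E (algebraMap D E) ∧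
        ∃ 𝔓 : Ideal E, 𝔓.IsPrime ∧ 𝔓.comap (algebraMap D E) = 𝔭) :
    ∃ (m : ℕ) (e : Fin m → T), CompleteOrthogonalIdempotents e ∧ ∀ a, Good 𝒢 (e a) := by
  classical
  let S : Set T := {e | IsIdempotentElem e ∧ Good 𝒢 e}
  have htop : Ideal.span S = ⊤ := by
    by_contra hne
    obtain ⟨n, hn, hle⟩ := Ideal.exists_le_maximal _ hne
    haveI := hn
    obtain ⟨e, he, hen, hG⟩ := exists_good_idempotent R 𝒢 hcov n
    exact hen (hle (Ideal.subset_span ⟨he, hG⟩))
  obtain ⟨s, hsS, hs⟩ := (Ideal.span_eq_top_iff_finite S).mp htop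
  obtain ⟨I, _, e, he, hG, hsum⟩ := exists_orthogonal_of_finset (𝒢 := 𝒢) s (fun x hx => hsS hx)
  rw [prod_one_sub_eq_zero s (fun x hx => (hsS hx).1) hs, sub_zero] at hsum
  have hc : CompleteOrthogonalIdempotents e := ⟨he, hsum⟩
  let eq := Fintype.equivFin I
  exact ⟨Fintype.card I, e ∘ eq.symm, (CompleteOrthogonalIdempotents.equiv eq.symm).mpr hc,
    fun a => hG _⟩

end Main

section MainRestricted

variable (R : Type u) [CommRing R] [HenselianLocalRing R] [IsSepClosed (ResidueField R)]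
  {T : Type u} [CommRing T] [Algebra R T] [Algebra.IsIntegral R T]
  {D : Type u} [CommRing D] [Algebra D T]
  (𝒢 : ∀ (E : Type u) [CommRing E], (D →+* E) → Prop) (Pr : Ideal D → Prop)

include R in
/-- Local form, with the covering hypothesis only at primes satisfying `Pr`. -/
theorem exists_good_idempotent'
    (hcov : ∀ 𝔭 : Ideal D, 𝔭.IsPrime → Pr 𝔭 → ∃ (E : Type u) (_ : CommRing E) (_ : Algebra D E),
      Algebra.Etale D E ∧ 𝒢 E (algebraMap D E) ∧
        ∃ 𝔓 : Ideal E, 𝔓.IsPrime ∧ 𝔓.comap (algebraMap D E) = 𝔭)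
    (n : Ideal T) [hn : n.IsMaximal] (hPr : Pr (n.comap (algebraMap D T))) :
    ∃ e : T, IsIdempotentElem e ∧ e ∉ n ∧ Good 𝒢 e := by
  obtain ⟨E, _, _, hE, hG, 𝔓, h𝔓, h𝔓c⟩ :=
    hcov (n.comap (algebraMap D T)) (Ideal.comap_isPrime _ n) hPr
  haveI := hE
  haveI := h𝔓
  obtain ⟨Q, hQ, hQn⟩ := exists_prime_tensorProduct (D := D) n 𝔓 h𝔓c.symm
  haveI := hQ
  obtain ⟨φ⟩ := IntSplitLocal.exists_algHom_atPrime R n (T ⊗[D] E) Q hQn
  let φ' : E →ₐ[D] Localization.AtPrime n :=
    (φ.restrictScalars D).comp Algebra.TensorProduct.includeRight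
  haveI : Algebra.FinitePresentation D E := inferInstance
  obtain ⟨e, he, hen, ⟨ψ⟩⟩ := exists_idempotent_algHom R n E φ'
  exact ⟨e, he, hen, E, _, _, hE, hG, ⟨ψ⟩⟩

include R in
/-- Global form, with the covering hypothesis only at primes satisfying `Pr`, a property which
holds for the contractions of all maximal ideals of `T`. -/
theorem exists_good_idempotents'
    (hPr : ∀ n : Ideal T, n.IsMaximal → Pr (n.comap (algebraMap D T)))
    (hcov : ∀ 𝔭 : Ideal D, 𝔭.IsPrime → Pr 𝔭 → ∃ (E : Type u) (_ : CommRing E) (_ : Algebra D E),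
      Algebra.Etale D E ∧ 𝒢 E (algebraMap D E) ∧
        ∃ 𝔓 : Ideal E, 𝔓.IsPrime ∧ 𝔓.comap (algebraMap D E) = 𝔭) :
    ∃ (m : ℕ) (e : Fin m → T), CompleteOrthogonalIdempotents e ∧ ∀ a, Good 𝒢 (e a) := by
  classical
  let S : Set T := {e | IsIdempotentElem e ∧ Good 𝒢 e}
  have htop : Ideal.span S = ⊤ := by
    by_contra hne
    obtain ⟨n, hn, hle⟩ := Ideal.exists_le_maximal _ hne
    haveI := hn
    obtain ⟨e, he, hen, hG⟩ := exists_good_idempotent' R 𝒢 Pr hcov n (hPr n hn)
    exact hen (hle (Ideal.subset_span ⟨he, hG⟩))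
  obtain ⟨s, hsS, hs⟩ := (Ideal.span_eq_top_iff_finite S).mp htop
  obtain ⟨I, _, e, he, hG, hsum⟩ := exists_orthogonal_of_finset (𝒢 := 𝒢) s (fun x hx => hsS hx)
  rw [prod_one_sub_eq_zero s (fun x hx => (hsS hx).1) hs, sub_zero] at hsum
  have hc : CompleteOrthogonalIdempotents e := ⟨he, hsum⟩
  let eq := Fintype.equivFin I
  exact ⟨Fintype.card I, e ∘ eq.symm, (CompleteOrthogonalIdempotents.equiv eq.symm).mpr hc,
    fun a => hG _⟩

end MainRestricted

end Groth.Agent.Lib.Helper3.IntSplitCover
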