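import Groth.Agent.Lib.Helper3.IdemBij
import Groth.Agent.Lib.Helper3.IdemLift
import Groth.Agent.Lib.Helper3.HenselianMap
import Mathlib.FieldTheory.PurelyInseparable.Basic

/-!
# Integral algebras over henselian local rings (helper3)

* `henselianRing_map_of_isIntegral'`: universe-polymorphic version of
  `henselianRing_map_of_isIntegral`.
* `henselianLocalRing_of_isIntegral'`: a local ring integral over a henselian local ring is
  henselian (universe polymorphic).
* `exists_idempotents_of_isIntegral_of_finite_maximal`: an integral algebra with finitely many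
  maximal ideals over a henselian local ring has complete orthogonal idempotents indexed by its
  maximal ideals.
* `exists_ringEquiv_pi_henselian_of_isIntegral`: such an algebra is a finite product of henselian
  local rings, each a quotient of the algebra.
-/

set_option autoImplicit false
set_option linter.style.haveILetI false
set_option linter.unusedSectionVars false

universe u v

namespace Groth.Agent.Lib.Helper3.IntegralHensSplit

open IsLocalRing

/-- Universe-polymorphic version of `henselianRing_map_of_isIntegral`. -/
theorem henselianRing_map_of_isIntegral' {A : Type u} [CommRing A] (I : Ideal A)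
    [HenselianRing A I] (B : Type v) [CommRing B] [Algebra A B] [Algebra.IsIntegral A B] :
    HenselianRing B (Ideal.map (algebraMap A B) I) := by
  let eA : ULift.{v} A ≃+* A := ULift.ringEquiv
  let eB : ULift.{u} B ≃+* B := ULift.ringEquiv
  have h1 : HenselianRing (ULift.{v} A) (I.map (eA.symm : A →+* ULift.{v} A)) :=
    henselianRing_of_ringEquiv eA.symm I
  let φ : ULift.{v} A →+* ULift.{u} B :=
    (eB.symm : B →+* ULift.{u} B).comp ((algebraMap A B).comp (eA : ULift.{v} A →+* A))
  letI : Algebra (ULift.{v} A) (ULift.{u} B) := φ.toAlgebra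
  have hint : Algebra.IsIntegral (ULift.{v} A) (ULift.{u} B) := by
    rw [← algebraMap_isIntegral_iff]
    show φ.IsIntegral
    refine RingHom.IsIntegral.trans _ _ (RingHom.IsIntegral.trans _ _ ?_ ?_) ?_
    · exact RingHom.isIntegral_of_surjective _ eA.surjective
    · exact algebraMap_isIntegral_iff.mpr inferInstance
    · exact RingHom.isIntegral_of_surjective _ eB.symm.surjective
  have h2 : HenselianRing (ULift.{u} B)
      (Ideal.map φ (I.map (eA.symm : A →+* ULift.{v} A))) :=
    henselianRing_map_of_isIntegral (I.map (eA.symm : A →+* ULift.{v} A)) (ULift.{u} B)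
  have h3 := henselianRing_of_ringEquiv eB _ (hI := h2)
  rw [Ideal.map_map, Ideal.map_map] at h3
  have hcomp : (((eB : ULift.{u} B →+* B).comp φ).comp (eA.symm : A →+* ULift.{v} A)) =
      algebraMap A B := by
    ext x
    rfl
  rwa [hcomp] at h3

theorem henselianLocalRing_of_henselianRing_maximalIdeal' (T : Type v) [CommRing T]
    [IsLocalRing T] [h : HenselianRing T (maximalIdeal T)] : HenselianLocalRing T where
  is_henselian f hf a₀ h₁ h₂ := h.is_henselian f hf a₀ h₁ (h₂.map _)

/-- For an integral algebra `T` over a local ring `R`, every prime of `T` containing `𝔪_R T` is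
maximal. -/
theorem isMaximal_of_map_maximalIdeal_le {R : Type u} [CommRing R] [IsLocalRing R]
    {T : Type v} [CommRing T] [Algebra R T] [Algebra.IsIntegral R T] (q : Ideal T) [q.IsPrime]
    (hq : (maximalIdeal R).map (algebraMap R T) ≤ q) : q.IsMaximal := by
  have h1 : (q.comap (algebraMap R T)).IsMaximal := by
    have h2 : maximalIdeal R ≤ q.comap (algebraMap R T) := Ideal.map_le_iff_le_comap.mp hq
    have h3 : q.comap (algebraMap R T) ≠ ⊤ := (Ideal.comap_isPrime _ q).ne_top
    rw [← (maximalIdeal.isMaximal R).eq_of_le h3 h2]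
    exact maximalIdeal.isMaximal R
  exact Ideal.isMaximal_of_isIntegral_of_isMaximal_comap q h1

/-- For an integral algebra `T` over a local ring `R`, `𝔪_R T` lies in every maximal ideal. -/
theorem map_maximalIdeal_le_of_isMaximal {R : Type u} [CommRing R] [IsLocalRing R]
    {T : Type v} [CommRing T] [Algebra R T] [Algebra.IsIntegral R T] (q : Ideal T) [q.IsMaximal] :
    (maximalIdeal R).map (algebraMap R T) ≤ q := by
  rw [Ideal.map_le_iff_le_comap]
  have : (q.comap (algebraMap R T)).IsMaximal :=
    Ideal.isMaximal_comap_of_isIntegral_of_isMaximal q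
  rw [IsLocalRing.eq_maximalIdeal this]

/-- The radical of `𝔪_R T` is the Jacobson radical of `T`. -/
theorem radical_map_maximalIdeal {R : Type u} [CommRing R] [IsLocalRing R]
    {T : Type v} [CommRing T] [Algebra R T] [Algebra.IsIntegral R T] :
    ((maximalIdeal R).map (algebraMap R T)).radical = Ideal.jacobson (⊥ : Ideal T) := by
  apply le_antisymm
  · rw [Ideal.jacobson]
    apply le_sInf
    rintro q ⟨-, hq⟩
    haveI := hq
    rw [hq.isPrime.radical_le_iff]
    exact map_maximalIdeal_le_of_isMaximal q
  · rw [Ideal.radical_eq_sInf ((maximalIdeal R).map (algebraMap R T))]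
    apply le_sInf
    rintro q ⟨hq1, hq2⟩
    haveI := hq2
    have h4 : q.IsMaximal := isMaximal_of_map_maximalIdeal_le q hq1
    exact sInf_le ⟨bot_le, h4⟩

/-- A local ring integral over a henselian local ring is henselian (universe polymorphic). -/
theorem henselianLocalRing_of_isIntegral' (R : Type u) [CommRing R] [HenselianLocalRing R]
    (T : Type v) [CommRing T] [IsLocalRing T] [Algebra R T] [Algebra.IsIntegral R T] :
    HenselianLocalRing T := by
  have hH1 : HenselianRing T ((maximalIdeal R).map (algebraMap R T)) :=
    henselianRing_map_of_isIntegral' (maximalIdeal R) T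
  have hrad : ((maximalIdeal R).map (algebraMap R T)).radical = (maximalIdeal T).radical := by
    rw [radical_map_maximalIdeal, IsLocalRing.jacobson_eq_maximalIdeal ⊥ bot_ne_top,
      (maximalIdeal.isMaximal _).isPrime.radical]
  haveI hH2 : HenselianRing T (maximalIdeal T) :=
    (henselianRing_iff_of_radical_eq _ _ hrad).mp hH1
  exact henselianLocalRing_of_henselianRing_maximalIdeal' T

/-- An integral algebra over a henselian local ring is henselian along its Jacobson radical. -/
theorem henselianRing_jacobson_of_isIntegral (R : Type u) [CommRing R] [HenselianLocalRing R]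
    (T : Type v) [CommRing T] [Algebra R T] [Algebra.IsIntegral R T] :
    HenselianRing T (Ideal.jacobson (⊥ : Ideal T)) := by
  have hH1 : HenselianRing T ((maximalIdeal R).map (algebraMap R T)) :=
    henselianRing_map_of_isIntegral' (maximalIdeal R) T
  have h2 := (henselianRing_radical_iff _).mpr hH1
  rwa [radical_map_maximalIdeal] at h2

/-- Idempotents lift modulo the Jacobson radical of an integral algebra over a henselian local
ring. -/
theorem exists_idempotent_sub_mem_jacobson (R : Type u) [CommRing R] [HenselianLocalRing R]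
    {T : Type v} [CommRing T] [Algebra R T] [Algebra.IsIntegral R T] (b : T)
    (hb : b * b - b ∈ Ideal.jacobson (⊥ : Ideal T)) :
    ∃ e : T, IsIdempotentElem e ∧ e - b ∈ Ideal.jacobson (⊥ : Ideal T) := by
  haveI := henselianRing_jacobson_of_isIntegral R T
  have hbij := bijOn_idempotents_of_henselianRing (A := T) (Ideal.jacobson (⊥ : Ideal T))
    (B := T) (Ideal.jacobson (⊥ : Ideal T)) (by simp)
  have hidem : IsIdempotentElem (Ideal.Quotient.mk (Ideal.jacobson (⊥ : Ideal T)) b) := by
    show _ * _ = _
    rw [← map_mul, Ideal.Quotient.eq]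
    exact hb
  obtain ⟨e, he, hee⟩ := hbij.surjOn hidem
  exact ⟨e, he, Ideal.Quotient.eq.mp hee⟩

/-- An integral algebra with finitely many maximal ideals over a henselian local ring has a family
of complete orthogonal idempotents indexed by its maximal ideals, the `m`-th one lying outside `m`
and inside every other maximal ideal. -/
theorem exists_idempotents_of_isIntegral_of_finite_maximal (R : Type u) [CommRing R]
    [HenselianLocalRing R] (T : Type v) [CommRing T] [Algebra R T] [Algebra.IsIntegral R T]
    [Fintype {m : Ideal T // m.IsMaximal}] :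
    ∃ e : {m : Ideal T // m.IsMaximal} → T, CompleteOrthogonalIdempotents e ∧
      (∀ m, e m ∉ m.1) ∧ ∀ m m', m' ≠ m → e m ∈ m'.1 := by
  classical
  have hjac : ∀ x : T, (∀ m : {m : Ideal T // m.IsMaximal}, x ∈ m.1) →
      x ∈ Ideal.jacobson (⊥ : Ideal T) := by
    intro x hx
    rw [Ideal.jacobson, Ideal.mem_sInf]
    rintro q ⟨-, hq⟩
    exact hx ⟨q, hq⟩
  have hjac' : ∀ x : T, x ∈ Ideal.jacobson (⊥ : Ideal T) →
      ∀ m : {m : Ideal T // m.IsMaximal}, x ∈ m.1 := by
    intro x hx m
    rw [Ideal.jacobson, Ideal.mem_sInf] at hx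
    exact hx ⟨bot_le, m.2⟩
  have hcop : Pairwise (Function.onFun IsCoprime fun m : {m : Ideal T // m.IsMaximal} => m.1) := by
    intro m m' hmm'
    haveI := m.2
    haveI := m'.2
    exact Ideal.isCoprime_of_isMaximal (fun h => hmm' (Subtype.ext h))
  -- CRT elements
  have hx : ∀ m : {m : Ideal T // m.IsMaximal}, ∃ x : T, x - 1 ∈ m.1 ∧ ∀ m', m' ≠ m → x ∈ m'.1 := by
    intro m
    obtain ⟨r, hr⟩ := Ideal.exists_forall_sub_mem_ideal hcop (fun m' => if m' = m then 1 else 0)
    refine ⟨r, by simpa using hr m, fun m' hm' => ?_⟩
    have := hr m'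
    simpa [hm'] using this
  choose x hx1 hx0 using hx
  have hxidem : ∀ m, x m * x m - x m ∈ Ideal.jacobson (⊥ : Ideal T) := by
    intro m
    apply hjac
    intro m'
    by_cases h : m' = m
    · subst h
      have : x m' * x m' - x m' = x m' * (x m' - 1) := by ring
      rw [this]
      exact Ideal.mul_mem_left _ _ (hx1 m')
    · have : x m * x m - x m = (x m - 1) * x m := by ring
      rw [this]
      exact Ideal.mul_mem_left _ _ (hx0 m m' h)
  choose e heidem hex using fun m => exists_idempotent_sub_mem_jacobson R (x m) (hxidem m)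
  have hemem : ∀ m m', m' ≠ m → e m ∈ m'.1 := by
    intro m m' h
    have h1 := hjac' _ (hex m) m'
    have h2 := hx0 m m' h
    have := Ideal.add_mem _ h1 h2
    rwa [sub_add_cancel] at this
  have henot : ∀ m, e m ∉ m.1 := by
    intro m hmem
    have h1 := hjac' _ (hex m) m
    have h2 := hx1 m
    have h3 : (1 : T) = e m - (e m - x m) - (x m - 1) := by ring
    have h4 : (1 : T) ∈ m.1 := by
      rw [h3]
      exact Ideal.sub_mem _ (Ideal.sub_mem _ hmem h1) h2
    exact m.2.ne_top ((Ideal.eq_top_iff_one _).mpr h4)
  have hortho : OrthogonalIdempotents e := by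
    refine ⟨heidem, ?_⟩
    intro m m' hmm'
    apply eq_zero_of_isIdempotentElem_of_mem_jacobson ((heidem m).mul (heidem m'))
    apply hjac
    intro m''
    by_cases h : m'' = m
    · subst h
      exact Ideal.mul_mem_left _ _ (hemem m' m'' hmm')
    · exact Ideal.mul_mem_right _ _ (hemem m m'' h)
  refine ⟨e, ⟨hortho, ?_⟩, henot, hemem⟩
  -- completeness
  have hsum : IsIdempotentElem (∑ m, e m) := hortho.isIdempotentElem_sum
  have h1 : IsIdempotentElem (1 - ∑ m, e m) := hsum.one_sub
  have h2 : 1 - ∑ m, e m = 0 := by
    apply eq_zero_of_isIdempotentElem_of_mem_jacobson h1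
    apply hjac
    intro m'
    have h3 : 1 - ∑ m, e m = (1 - e m') - ∑ m ∈ Finset.univ.erase m', e m := by
      rw [← Finset.add_sum_erase Finset.univ e (Finset.mem_univ m')]
      ring
    rw [h3]
    refine Ideal.sub_mem _ ?_ (Ideal.sum_mem _ fun m hm => ?_)
    · have h4 := hjac' _ (hex m') m'
      have h5 := hx1 m'
      have h6 : 1 - e m' = -(e m' - x m') - (x m' - 1) := by ring
      rw [h6]
      exact Ideal.sub_mem _ (Ideal.neg_mem_iff _ |>.mpr h4) h5
    · exact hemem m m' (Finset.ne_of_mem_erase hm).symm
  exact (sub_eq_zero.mp h2).symm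

/-- The quotient of `T` by `1 - e`, `e` an idempotent lying outside exactly one maximal ideal, is
a local ring. -/
theorem isLocalRing_quotient_of_idempotent {T : Type v} [CommRing T] (e : T)
    (he : IsIdempotentElem e) (m : Ideal T) [hm : m.IsMaximal] (hem : e ∉ m)
    (h : ∀ q : Ideal T, q.IsMaximal → q ≠ m → e ∈ q) :
    IsLocalRing (T ⧸ Ideal.span {1 - e}) := by
  have h1e : 1 - e ∈ m := by
    have h0 : e * (1 - e) = 0 := by
      have := he.eq
      linear_combination -this
    have h2 : e * (1 - e) ∈ m := by rw [h0]; exact m.zero_mem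
    exact (hm.isPrime.mem_or_mem h2).resolve_left hem
  have hle : Ideal.span {1 - e} ≤ m := (Ideal.span_singleton_le_iff_mem _).mpr h1e
  have hnontriv : Nontrivial (T ⧸ Ideal.span {1 - e}) := by
    rw [Ideal.Quotient.nontrivial_iff]
    intro htop
    rw [htop] at hle
    exact hm.ne_top (top_le_iff.mp hle)
  obtain ⟨M, hM⟩ := Ideal.exists_maximal (T ⧸ Ideal.span {1 - e})
  refine IsLocalRing.of_unique_max_ideal ⟨M, hM, fun M' hM' => ?_⟩
  have key : ∀ N : Ideal (T ⧸ Ideal.span {1 - e}), N.IsMaximal →
      Ideal.comap (Ideal.Quotient.mk (Ideal.span {1 - e})) N = m := by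
    intro N hN
    have hmax := Ideal.comap_isMaximal_of_surjective (Ideal.Quotient.mk (Ideal.span {1 - e}))
      Ideal.Quotient.mk_surjective (K := N)
    by_contra hne
    have hmem := h _ hmax hne
    have h1 : (1 - e) ∈ Ideal.comap (Ideal.Quotient.mk (Ideal.span {1 - e})) N := by
      have h0 : Ideal.Quotient.mk (Ideal.span {1 - e}) (1 - e) = 0 :=
        Ideal.Quotient.eq_zero_iff_mem.mpr (Ideal.subset_span rfl)
      rw [Ideal.mem_comap, h0]
      exact N.zero_mem
    have h2 := Ideal.add_mem _ hmem h1
    rw [add_sub_cancel] at h2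
    exact hmax.ne_top ((Ideal.eq_top_iff_one _).mpr h2)
  exact (Ideal.comap_injective_of_surjective _ Ideal.Quotient.mk_surjective
    ((key M hM).trans (key M' hM').symm)).symm

/-- **An integral algebra with finitely many maximal ideals over a henselian local ring is a finite
product of henselian local rings**, each of them a quotient of the algebra. -/
theorem exists_ringEquiv_pi_henselian_of_isIntegral (R : Type u) [CommRing R]
    [HenselianLocalRing R] (T : Type v) [CommRing T] [Algebra R T] [Algebra.IsIntegral R T]
    (hfin : {m : Ideal T | m.IsMaximal}.Finite) :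
    ∃ (n : ℕ) (I : Fin n → Ideal T), (∀ i, HenselianLocalRing (T ⧸ I i)) ∧
      Nonempty (T ≃+* ∀ i, T ⧸ I i) := by
  classical
  haveI : Finite {m : Ideal T // m.IsMaximal} := hfin.to_subtype
  haveI : Fintype {m : Ideal T // m.IsMaximal} := Fintype.ofFinite _
  obtain ⟨e, he, henot, hemem⟩ := exists_idempotents_of_isIntegral_of_finite_maximal R T
  let eqv := Fintype.equivFin {m : Ideal T // m.IsMaximal}
  refine ⟨Fintype.card {m : Ideal T // m.IsMaximal},
    fun i => Ideal.span {1 - e (eqv.symm i)}, ?_, ?_⟩
  · intro i
    haveI := (eqv.symm i).2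
    haveI : IsLocalRing (T ⧸ Ideal.span {1 - e (eqv.symm i)}) :=
      isLocalRing_quotient_of_idempotent (e (eqv.symm i)) (he.idem _) (eqv.symm i).1
        (henot _) (fun q hq hne => hemem (eqv.symm i) ⟨q, hq⟩ (fun h => hne (congrArg Subtype.val h)))
    exact henselianLocalRing_of_isIntegral' R _
  · have he' : CompleteOrthogonalIdempotents (e ∘ eqv.symm) := by
      refine ⟨⟨fun i => he.idem _, fun i j hij => he.ortho (fun h => hij (eqv.symm.injective h))⟩, ?_⟩
      rw [← he.complete]
      exact Fintype.sum_equiv eqv.symm _ _ (fun _ => rfl)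
    exact ⟨RingEquiv.ofBijective _ he'.bijective_pi⟩

/-- A local homomorphism statement: an integral algebra map from a local ring to a local ring is
local. -/
theorem isLocalHom_of_isIntegral (R : Type u) [CommRing R] [IsLocalRing R]
    (T : Type v) [CommRing T] [IsLocalRing T] [Algebra R T] [Algebra.IsIntegral R T] :
    IsLocalHom (algebraMap R T) := by
  refine ⟨fun a ha => ?_⟩
  by_contra hna
  have h1 : a ∈ maximalIdeal R := (IsLocalRing.mem_maximalIdeal a).mpr hna
  have h2 : algebraMap R T a ∈ maximalIdeal T :=
    map_maximalIdeal_le_of_isMaximal (maximalIdeal T) (Ideal.mem_map_of_mem _ h1)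
  exact (IsLocalRing.mem_maximalIdeal _).mp h2 ha

/-- The residue field of a local ring integral over a local ring with separably closed residue
field is separably closed. -/
theorem isSepClosed_residueField_of_isIntegral (R : Type u) [CommRing R] [IsLocalRing R]
    [IsSepClosed (ResidueField R)]
    (T : Type v) [CommRing T] [IsLocalRing T] [Algebra R T] [Algebra.IsIntegral R T] :
    IsSepClosed (ResidueField T) := by
  haveI := isLocalHom_of_isIntegral R T
  haveI : Algebra.IsIntegral R (ResidueField T) := Algebra.IsIntegral.trans T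
  haveI : Algebra.IsIntegral (ResidueField R) (ResidueField T) :=
    Algebra.IsIntegral.tower_top (R := R)
  exact Algebra.IsAlgebraic.isSepClosed (F := ResidueField R)

end Groth.Agent.Lib.Helper3.IntegralHensSplit
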