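import Groth.Agent.Lib.Helper3.HensSplitFinite
import Groth.Agent.Lib.Helper3.IntegralHensSplit
import Groth.Agent.Lib.Helper3.HensColim
import Groth.Agent.Lib.Helper3.StrictHens

/-!
# Integral algebras over a henselian local ring: local structure at maximal ideals (helper3)

For `T` integral over a henselian local ring `R` and a maximal ideal `n` of `T`:
* every `s ∉ n` becomes invertible on a clopen neighbourhood `D(e)` of `n` (`exists_idempotent_unit`);
* `T → T_n` is surjective, `T_n` is integral over `R`, henselian, and has separably closed residue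
  field if `R` has;
* if `R` is strictly henselian, every étale `T`-algebra with a prime over `n` has a `T`-algebra
  section to `T_n`.
-/

set_option linter.style.haveILetI false
set_option linter.unusedSectionVars false
set_option autoImplicit false

universe u

open IsLocalRing PrimeSpectrum Polynomial

namespace Groth.Agent.Lib.Helper3.IntSplitLocal

open Groth.Agent.Lib.Helper3

variable (R : Type u) [CommRing R] [HenselianLocalRing R]
  {T : Type u} [CommRing T] [Algebra R T] [Algebra.IsIntegral R T]

/-- Auxiliary: if the first `n` coefficients of `p` lie in the maximal ideal, then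
`p(s) ≡ s ^ n * q(s)` modulo `𝔪 T` with `q(0) = pₙ`. -/
theorem exists_shift (s : T) : ∀ (n : ℕ) (p : R[X]), (∀ i < n, p.coeff i ∈ maximalIdeal R) →
    ∃ q : R[X], q.coeff 0 = p.coeff n ∧
      aeval s p - s ^ n * aeval s q ∈ (maximalIdeal R).map (algebraMap R T) := by
  intro n
  induction n with
  | zero =>
    intro p _
    exact ⟨p, rfl, by simp⟩
  | succ n ih =>
    intro p hp
    obtain ⟨q, hq0, hq⟩ := ih p.divX (fun i hi => by
      rw [Polynomial.coeff_divX]
      exact hp (i + 1) (Nat.succ_lt_succ hi))
    refine ⟨q, by rw [hq0, Polynomial.coeff_divX], ?_⟩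
    have h1 : aeval s p = aeval s p.divX * s + algebraMap R T (p.coeff 0) := by
      conv_lhs => rw [← Polynomial.divX_mul_X_add p]
      simp
    have h2 : aeval s p - s ^ (n + 1) * aeval s q =
        (aeval s p.divX - s ^ n * aeval s q) * s + algebraMap R T (p.coeff 0) := by
      rw [h1]; ring
    rw [h2]
    exact Ideal.add_mem _ (Ideal.mul_mem_right _ _ hq)
      (Ideal.mem_map_of_mem _ (hp 0 (Nat.succ_pos n)))

/-- Modulo `𝔪 T`, the powers of an element stabilise up to a factor. -/
theorem exists_pow_sub_mem (s : T) : ∃ (n : ℕ) (t : T),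
    s ^ n - s ^ (n + 1) * t ∈ (maximalIdeal R).map (algebraMap R T) := by
  classical
  obtain ⟨p, hpm, hp⟩ := Algebra.IsIntegral.isIntegral (R := R) s
  have hex : ∃ n, p.coeff n ∉ maximalIdeal R := by
    refine ⟨p.natDegree, ?_⟩
    rw [hpm.coeff_natDegree]
    exact fun h => (Ideal.ne_top_iff_one _).mp (maximalIdeal.isMaximal R).ne_top h
  let n := Nat.find hex
  have hn : p.coeff n ∉ maximalIdeal R := Nat.find_spec hex
  have hlt : ∀ i < n, p.coeff i ∈ maximalIdeal R := fun i hi => by
    by_contra h
    exact Nat.find_min hex hi h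
  obtain ⟨q, hq0, hq⟩ := exists_shift R s n p hlt
  have hps : aeval s p = 0 := hp
  rw [hps, zero_sub] at hq
  have hu : IsUnit (p.coeff n) := by
    rwa [mem_maximalIdeal, mem_nonunits_iff, not_not] at hn
  obtain ⟨b, hb⟩ := hu.exists_right_inv
  have h1 : aeval s q = aeval s q.divX * s + algebraMap R T (q.coeff 0) := by
    conv_lhs => rw [← Polynomial.divX_mul_X_add q]
    simp
  refine ⟨n, -(algebraMap R T b * aeval s q.divX), ?_⟩
  have h2 : s ^ n - s ^ (n + 1) * -(algebraMap R T b * aeval s q.divX) =
      -(s ^ n * aeval s q) * (-(algebraMap R T b)) := by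
    rw [h1, hq0]
    have h3 : algebraMap R T (p.coeff n) * algebraMap R T b = 1 := by
      rw [← map_mul, hb, map_one]
    linear_combination (-(s ^ n)) * h3
  rw [h2]
  exact Ideal.mul_mem_right _ _ hq

/-- The trace of a basic open on the closed fibre is closed. -/
theorem isClosed_basicOpen_inter (s : T) :
    IsClosed ((basicOpen s : Set (PrimeSpectrum T)) ∩
      zeroLocus ((maximalIdeal R).map (algebraMap R T) : Set T)) := by
  obtain ⟨n, t, hnt⟩ := exists_pow_sub_mem R s
  set J := (maximalIdeal R).map (algebraMap R T) with hJ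
  have hkey : s ^ n * (1 - (s * t) ^ n) ∈ J := by
    have h1 : s ^ n * (1 - (s * t) ^ n) =
        (s ^ n - s ^ (n + 1) * t) * ∑ i ∈ Finset.range n, (s * t) ^ i := by
      rw [← mul_neg_geom_sum (s * t) n]
      ring
    rw [h1]
    exact Ideal.mul_mem_right _ _ hnt
  have heq : (basicOpen s : Set (PrimeSpectrum T)) ∩ zeroLocus (J : Set T) =
      zeroLocus ((J ⊔ Ideal.span {1 - (s * t) ^ n} : Ideal T) : Set T) := by
    ext q
    simp only [Set.mem_inter_iff, mem_zeroLocus, SetLike.coe_subset_coe, sup_le_iff,
      Ideal.span_singleton_le_iff_mem]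
    constructor
    · rintro ⟨hs, hq⟩
      refine ⟨hq, ?_⟩
      have h1 : s ^ n * (1 - (s * t) ^ n) ∈ q.asIdeal := hq hkey
      rcases q.2.mem_or_mem h1 with h2 | h2
      · exact absurd (q.2.mem_of_pow_mem n h2) hs
      · exact h2
    · rintro ⟨hq, h1⟩
      refine ⟨?_, hq⟩
      intro hs
      have hs' : s ∈ q.asIdeal := hs
      rcases Nat.eq_zero_or_pos n with hn0 | hn0
      · subst hn0
        have h2 : (1 : T) - s * t ∈ q.asIdeal := by
          have := hq hnt
          simpa using this
        have h3 : (1 : T) ∈ q.asIdeal := by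
          have : (1 : T) = (1 - s * t) + s * t := by ring
          rw [this]
          exact Ideal.add_mem _ h2 (Ideal.mul_mem_right _ _ hs')
        exact q.2.ne_top ((Ideal.eq_top_iff_one _).mpr h3)
      · have h2 : (s * t) ^ n ∈ q.asIdeal :=
          Ideal.pow_mem_of_mem _ (Ideal.mul_mem_right _ _ hs') n hn0
        have h3 : (1 : T) ∈ q.asIdeal := by
          have : (1 : T) = (1 - (s * t) ^ n) + (s * t) ^ n := by ring
          rw [this]
          exact Ideal.add_mem _ h1 h2
        exact q.2.ne_top ((Ideal.eq_top_iff_one _).mpr h3)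
  rw [heq]
  exact isClosed_zeroLocus _

include R in
/-- Every element outside a maximal ideal `n` is invertible on a clopen neighbourhood of `n`. -/
theorem exists_idempotent_unit (s : T) (n : Ideal T) [hn : n.IsMaximal] (hs : s ∉ n) :
    ∃ e u : T, IsIdempotentElem e ∧ e ∉ n ∧ e * s * u = e := by
  obtain ⟨e, he, h1, h2⟩ := HensSplitFinite.exists_idempotent_basicOpen (maximalIdeal R) T
    (basicOpen s : Set (PrimeSpectrum T)) (basicOpen s).2 (isClosed_basicOpen_inter R s)
  have hen : e ∉ n := by
    have hmem : (⟨n, hn.isPrime⟩ : PrimeSpectrum T) ∈ (basicOpen s : Set (PrimeSpectrum T)) ∩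
        zeroLocus ((maximalIdeal R).map (algebraMap R T) : Set T) := by
      refine ⟨hs, ?_⟩
      rw [mem_zeroLocus, SetLike.coe_subset_coe]
      exact IntegralHensSplit.map_maximalIdeal_le_of_isMaximal n
    exact h2 hmem
  have h3 : basicOpen e ≤ basicOpen s := h1
  rw [basicOpen_le_basicOpen_iff] at h3
  obtain ⟨k, hk⟩ := h3
  rw [Ideal.mem_span_singleton'] at hk
  obtain ⟨u, hu⟩ := hk
  refine ⟨e, u, he, hen, ?_⟩
  have h4 : e ^ (k + 1) = e := he.pow_succ_eq k
  calc e * s * u = e * (u * s) := by ring
    _ = e * e ^ k := by rw [hu]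
    _ = e ^ (k + 1) := by ring
    _ = e := h4

section AtPrime

include R in
/-- The localization of `T` at a maximal ideal is a quotient of `T`. -/
theorem algebraMap_surjective_atPrime (n : Ideal T) [hn : n.IsMaximal] (L : Type u) [CommRing L]
    [Algebra T L] [IsLocalization.AtPrime L n] : Function.Surjective (algebraMap T L) := by
  intro x
  obtain ⟨t, s, rfl⟩ := IsLocalization.exists_mk'_eq n.primeCompl x
  obtain ⟨e, u, he, hen, heu⟩ := exists_idempotent_unit R (s : T) n s.2
  have hue : IsUnit (algebraMap T L e) := IsLocalization.map_units L (⟨e, hen⟩ : n.primeCompl)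
  have h1 : algebraMap T L (s : T) * algebraMap T L u = 1 := by
    have h2 : algebraMap T L e * (algebraMap T L (s : T) * algebraMap T L u) =
        algebraMap T L e * 1 := by
      rw [mul_one, ← map_mul, ← map_mul, ← mul_assoc, heu]
    exact hue.mul_left_cancel h2
  refine ⟨t * u, ?_⟩
  rw [eq_comm, IsLocalization.mk'_eq_iff_eq_mul, map_mul, mul_assoc, mul_comm (algebraMap T L u), h1,
    mul_one]

include R in
/-- The localization of `T` at a maximal ideal is integral over `R`. -/
theorem isIntegral_atPrime (n : Ideal T) [hn : n.IsMaximal] (L : Type u) [CommRing L]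
    [Algebra T L] [IsLocalization.AtPrime L n] [Algebra R L] [IsScalarTower R T L] :
    Algebra.IsIntegral R L := by
  haveI : Algebra.IsIntegral T L :=
    Algebra.isIntegral_of_surjective (algebraMap_surjective_atPrime R n L)
  exact Algebra.IsIntegral.trans T

open TensorProduct in
include R in
/-- Over a strictly henselian local ring: an étale algebra over an integral algebra `T` with a
prime over the maximal ideal `n` admits a `T`-algebra map to `T_n`. -/
theorem exists_algHom_atPrime [IsSepClosed (ResidueField R)] (n : Ideal T) [hn : n.IsMaximal]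
    (T' : Type u) [CommRing T'] [Algebra T T'] [Algebra.Etale T T'] (Q : Ideal T') [Q.IsPrime]
    (hQ : Q.comap (algebraMap T T') = n) : Nonempty (T' →ₐ[T] Localization.AtPrime n) := by
  let L := Localization.AtPrime n
  haveI : Algebra.IsIntegral R L := isIntegral_atPrime R n L
  haveI : HenselianLocalRing L := IntegralHensSplit.henselianLocalRing_of_isIntegral' R L
  haveI : IsSepClosed (ResidueField L) :=
    IntegralHensSplit.isSepClosed_residueField_of_isIntegral R L
  -- the map `L → κ(Q)`
  have hunits : ∀ y : n.primeCompl, IsUnit (algebraMap T Q.ResidueField (y : T)) := by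
    intro y
    rw [isUnit_iff_ne_zero, IsScalarTower.algebraMap_apply T T' Q.ResidueField, Ne,
      Ideal.algebraMap_residueField_eq_zero]
    intro h
    have : (y : T) ∈ Q.comap (algebraMap T T') := h
    rw [hQ] at this
    exact y.2 this
  let g : L →+* Q.ResidueField :=
    IsLocalization.lift (M := n.primeCompl) (S := L) (g := algebraMap T Q.ResidueField) hunits
  have hg : ∀ t : T, g (algebraMap T L t) = algebraMap T Q.ResidueField t := fun t =>
    IsLocalization.lift_eq hunits t
  haveI hgloc : IsLocalHom g := by
    constructor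
    intro x hx
    obtain ⟨t, s, rfl⟩ := IsLocalization.exists_mk'_eq n.primeCompl x
    have h1 : g (IsLocalization.mk' L t s) * algebraMap T Q.ResidueField (s : T) =
        algebraMap T Q.ResidueField t := by
      rw [← hg, ← hg, ← map_mul, IsLocalization.mk'_spec]
    have h2 : algebraMap T Q.ResidueField t ≠ 0 := by
      rw [← h1]
      exact mul_ne_zero hx.ne_zero (hunits s).ne_zero
    have h3 : t ∉ n := by
      intro ht
      apply h2
      rw [IsScalarTower.algebraMap_apply T T' Q.ResidueField,
        Ideal.algebraMap_residueField_eq_zero]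
      have : t ∈ Q.comap (algebraMap T T') := by rw [hQ]; exact ht
      exact this
    have h4 : IsUnit (algebraMap T L t) := IsLocalization.map_units L (⟨t, h3⟩ : n.primeCompl)
    have h5 : IsLocalization.mk' L t s * algebraMap T L (s : T) = algebraMap T L t :=
      IsLocalization.mk'_spec L t s
    exact isUnit_of_mul_isUnit_left (h5 ▸ h4)
  letI algLκ : Algebra L Q.ResidueField := g.toAlgebra
  letI algkκ : Algebra (ResidueField L) Q.ResidueField := (ResidueField.lift g).toAlgebra
  haveI : IsScalarTower L (ResidueField L) Q.ResidueField :=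
    IsScalarTower.of_algebraMap_eq fun x => rfl
  haveI : IsScalarTower T L Q.ResidueField :=
    IsScalarTower.of_algebraMap_eq fun t => (hg t).symm
  let ψ₀ : T' →ₐ[T] Q.ResidueField := IsScalarTower.toAlgHom T T' Q.ResidueField
  let ψ : L ⊗[T] T' →ₐ[L] Q.ResidueField :=
    Algebra.TensorProduct.lift (Algebra.ofId L Q.ResidueField) ψ₀ (fun _ _ => Commute.all _ _)
  obtain ⟨σ, -⟩ := exists_algHom_of_etale_of_isSepClosed (R := L) (A := L ⊗[T] T')
    (L := Q.ResidueField) ψ
  exact ⟨(σ.restrictScalars T).comp Algebra.TensorProduct.includeRight⟩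

end AtPrime

end Groth.Agent.Lib.Helper3.IntSplitLocal
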