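import Groth.Agent.Lib.Helper3.IntSplitStage
import Groth.Agent.Lib.Helper3.EtGammaExact
import Groth.Agent.Lib.Helper3.EtLocalRingScheme
import Mathlib.AlgebraicGeometry.Morphisms.Integral

/-!
# Integral morphisms and étale coverings: splitting after an étale base change (helper3)

For an integral morphism `f : X ⟶ Y`, an object `V` of the small étale site of `Y`, a covering sieve
`R` of `X ×_Y V` and a point `v` of `V`, there is an étale neighbourhood `V'` of `v` such that
`X ×_Y V'` is a finite disjoint union of opens each of which maps into `R` (`splitAt`).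
-/

set_option linter.style.haveILetI false
set_option linter.unusedSectionVars false
set_option autoImplicit false

universe u

open CategoryTheory CategoryTheory.Limits AlgebraicGeometry Opposite TopologicalSpace TensorProduct

namespace Groth.Agent.Lib.Helper3.IntSplitScheme

open Groth.Agent.Lib.Helper3 Groth.Agent.Lib.Helper3.EtLocalRingScheme
  Groth.Agent.Lib.Helper9.HensK

/-- The opens of a scheme isomorphic to `Spec A` cut out by a complete family of orthogonal
idempotents are pairwise disjoint and cover. -/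
theorem opensRange_disjoint_cover {A : Type u} [CommRing A] {m : ℕ} (e : Fin m → A)
    (he : CompleteOrthogonalIdempotents e) {Z' : Scheme.{u}} (τ : Spec (CommRingCat.of A) ≅ Z') :
    (∀ a b, a ≠ b → Disjoint
      (Spec.map (CommRingCat.ofHom (algebraMap A (Localization.Away (e a)))) ≫ τ.hom).opensRange
      (Spec.map (CommRingCat.ofHom (algebraMap A (Localization.Away (e b)))) ≫ τ.hom).opensRange) ∧
    (⨆ a, (Spec.map (CommRingCat.ofHom (algebraMap A (Localization.Away (e a)))) ≫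
      τ.hom).opensRange = ⊤) := by
  have hmem : ∀ (a : Fin m) (w : Spec (CommRingCat.of A)),
      w ∈ Set.range (Spec.map (CommRingCat.ofHom (algebraMap A (Localization.Away (e a))))) ↔
        e a ∉ (w : PrimeSpectrum A).asIdeal := by
    intro a w
    have h1 := PrimeSpectrum.localization_away_comap_range (Localization.Away (e a)) (e a)
    have h2 : (w : PrimeSpectrum A) ∈ Set.range (PrimeSpectrum.comap
        (algebraMap A (Localization.Away (e a)))) ↔ e a ∉ (w : PrimeSpectrum A).asIdeal := by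
      rw [h1]; rfl
    exact h2
  have hrange : ∀ (a : Fin m) (z : Z'),
      z ∈ Set.range (Spec.map (CommRingCat.ofHom (algebraMap A (Localization.Away (e a)))) ≫
        τ.hom) ↔ ∃ w : Spec (CommRingCat.of A), e a ∉ (w : PrimeSpectrum A).asIdeal ∧
          τ.hom w = z := by
    intro a z
    constructor
    · rintro ⟨y, rfl⟩
      exact ⟨Spec.map (CommRingCat.ofHom (algebraMap A (Localization.Away (e a)))) y,
        (hmem a _).mp ⟨y, rfl⟩, rfl⟩
    · rintro ⟨w, hw, rfl⟩
      obtain ⟨y, rfl⟩ := (hmem a w).mpr hw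
      exact ⟨y, rfl⟩
  have hinj : Function.Injective τ.hom :=
    (ConcreteCategory.bijective_of_isIso (C := TopCat) τ.hom.base).1
  have hsurj : Function.Surjective τ.hom :=
    (ConcreteCategory.bijective_of_isIso (C := TopCat) τ.hom.base).2
  constructor
  · intro a b hab
    rw [disjoint_iff]
    apply Opens.ext
    ext z
    simp only [Opens.coe_inf, Scheme.Hom.coe_opensRange, Set.mem_inter_iff, Opens.coe_bot,
      Set.mem_empty_iff_false, iff_false, not_and]
    intro hza hzb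
    obtain ⟨w, hw, rfl⟩ := (hrange a z).mp hza
    obtain ⟨w', hw', hww'⟩ := (hrange b _).mp hzb
    have : w' = w := hinj hww'
    subst this
    have h0 : e a * e b ∈ (w' : PrimeSpectrum A).asIdeal := by
      rw [he.ortho hab]; exact Ideal.zero_mem _
    rcases (w' : PrimeSpectrum A).2.mem_or_mem h0 with h | h
    · exact hw h
    · exact hw' h
  · rw [eq_top_iff]
    intro z _
    obtain ⟨w, rfl⟩ := hsurj z
    have hw : ∃ a, e a ∉ (w : PrimeSpectrum A).asIdeal := by
      by_contra hcon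
      have hcon' : ∀ a, e a ∈ (w : PrimeSpectrum A).asIdeal := fun a => by
        by_contra h; exact hcon ⟨a, h⟩
      have h1 : (∑ a, e a) ∈ (w : PrimeSpectrum A).asIdeal := Ideal.sum_mem _ (fun a _ => hcon' a)
      rw [he.complete] at h1
      exact (w : PrimeSpectrum A).2.ne_top ((Ideal.eq_top_iff_one _).mpr h1)
    obtain ⟨a, ha⟩ := hw
    refine Opens.mem_iSup.mpr ⟨a, ?_⟩
    change τ.hom w ∈ ((Spec.map (CommRingCat.ofHom (algebraMap A (Localization.Away (e a)))) ≫
      τ.hom).opensRange : Set Z')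
    rw [Scheme.Hom.coe_opensRange]
    exact (hrange a _).mpr ⟨w, ha, rfl⟩

/-- An affine étale chart around a point of a scheme étale over an affine scheme. -/
theorem exists_affine_etale_chart {Z U : Scheme.{u}} [IsAffine Z] (w : U ⟶ Z) [Etale w] (x : U) :
    ∃ (W : U.Opens) (hW : IsAffineOpen W) (hx : x ∈ W) (hle : W ≤ w ⁻¹ᵁ ⊤),
      RingHom.Etale (w.appLE ⊤ W hle).hom ∧
      hW.fromSpec ≫ w = Spec.map (w.appLE ⊤ W hle) ≫ Z.isoSpec.inv ∧
      (hW.primeIdealOf ⟨x, hx⟩).asIdeal.comap (w.appLE ⊤ W hle).hom =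
        (Z.isoSpec.hom (w x) : PrimeSpectrum Γ(Z, ⊤)).asIdeal := by
  obtain ⟨W, hW, hxW, -⟩ := exists_isAffineOpen_mem_and_subset (U := ⊤) (x := x) (by simp)
  have hle : W ≤ w ⁻¹ᵁ ⊤ := by simp
  have h1 : Spec.map (w.appLE ⊤ W hle) ≫ Z.isoSpec.inv = hW.fromSpec ≫ w := by
    rw [← IsAffineOpen.fromSpec_top]
    exact IsAffineOpen.SpecMap_appLE_fromSpec w (isAffineOpen_top Z) hW hle
  refine ⟨W, hW, hxW, hle, ?_, h1.symm, ?_⟩
  · exact HasRingHomProperty.appLE (P := @Etale) w inferInstance ⟨⊤, isAffineOpen_top Z⟩ ⟨W, hW⟩ hle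
  · let pt : Spec Γ(U, W) := hW.primeIdealOf ⟨x, hxW⟩
    have hpt : hW.fromSpec pt = x := hW.fromSpec_primeIdealOf ⟨x, hxW⟩
    have h2 : (Spec.map (w.appLE ⊤ W hle)) pt = Z.isoSpec.hom (w x) := by
      have h3 : (Spec.map (w.appLE ⊤ W hle) ≫ Z.isoSpec.inv) pt = (hW.fromSpec ≫ w) pt := by
        rw [h1]
      rw [Scheme.Hom.comp_apply, Scheme.Hom.comp_apply, hpt] at h3
      rw [← h3, ← Scheme.Hom.comp_apply, Iso.inv_hom_id]
      rfl
    exact congrArg PrimeSpectrum.asIdeal h2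

variable {X Y : Scheme.{u}} (f : X ⟶ Y)

/-- The conclusion: after an étale neighbourhood `V'` of `v`, `X ×_Y V'` is a finite disjoint
union of opens each mapping into the sieve `R`. -/
def SplitAt (V : Y.Etale) (R : Sieve ((EtCoh.bc f).obj V)) (v : V.left) : Prop :=
  ∃ (V' : Y.Etale) (g : V' ⟶ V) (v' : V'.left), g.left v' = v ∧
    ∃ (n : ℕ) (D : Fin n → ((EtCoh.bc f).obj V').left.Opens),
      (∀ i j, i ≠ j → Disjoint (D i) (D j)) ∧ (⨆ i, D i = ⊤) ∧
      ∀ i, R (openHom ((EtCoh.bc f).obj V') (D i) ≫ (EtCoh.bc f).map g)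

set_option backward.isDefEq.respectTransparency.types false in
set_option maxHeartbeats 800000 in
/-- The affine case. -/
theorem splitAt_of_isAffine [IsIntegralHom f] (V : Y.Etale) [IsAffine V.left]
    (R : Sieve ((EtCoh.bc f).obj V)) (hR : R ∈ X.smallEtaleTopology ((EtCoh.bc f).obj V))
    (v : V.left) : SplitAt f V R v := by
  classical
  let 𝒵 : X.Etale := (EtCoh.bc f).obj V
  let vh : V.left ⟶ Y := V.hom
  let Z : Scheme.{u} := pullback vh f
  let p : Z ⟶ V.left := pullback.fst vh f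
  haveI : IsIntegralHom p := inferInstance
  haveI : IsAffine Z := isAffine_of_isAffineHom p
  let C : CommRingCat.{u} := Γ(V.left, ⊤)
  let D : CommRingCat.{u} := Γ(Z, ⊤)
  let φ : C ⟶ D := p.appTop
  letI algCD : Algebra C D := φ.hom.toAlgebra
  haveI : Algebra.IsIntegral C D := by
    have h1 : φ.hom.IsIntegral := IsIntegralHom.isIntegral_app p ⊤ (isAffineOpen_top _)
    exact algebraMap_isIntegral_iff.mp h1
  -- the point and the field
  let q : PrimeSpectrum C := V.left.isoSpec.hom v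
  let κ := q.asIdeal.ResidueField
  let K := AlgebraicClosure κ
  letI algCK : Algebra C K := ((algebraMap κ K).comp (algebraMap C κ)).toAlgebra
  have hker : ∀ c : C, algebraMap C K c = 0 ↔ c ∈ q.asIdeal := by
    intro c
    change algebraMap κ K (algebraMap C κ c) = 0 ↔ _
    rw [map_eq_zero_iff _ (algebraMap κ K).injective, Ideal.algebraMap_residueField_eq_zero]
  -- the predicate
  let 𝒢 : ∀ (E : Type u) [CommRing E], (D →+* E) → Prop := fun E _ ψ =>
    ∃ (U : X.Etale) (u : U ⟶ 𝒵) (m : Spec (CommRingCat.of E) ⟶ U.left), R u ∧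
      m ≫ (u.left : U.left ⟶ Z) = Spec.map (CommRingCat.ofHom ψ) ≫ Z.isoSpec.inv
  have h𝒢 : ∀ (E E' : Type u) [CommRing E] [CommRing E'] (ψ : D →+* E) (h : E →+* E'),
      𝒢 E ψ → 𝒢 E' (h.comp ψ) := by
    intro E E' iE iE' ψ h hG
    obtain ⟨U, u, m, hu, hm⟩ := hG
    refine ⟨U, u, Spec.map (CommRingCat.ofHom h) ≫ m, hu, ?_⟩
    calc (Spec.map (CommRingCat.ofHom h) ≫ m) ≫ (u.left : U.left ⟶ Z)
        = Spec.map (CommRingCat.ofHom h) ≫ (m ≫ (u.left : U.left ⟶ Z)) := Category.assoc _ _ _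
      _ = Spec.map (CommRingCat.ofHom h) ≫ Spec.map (CommRingCat.ofHom ψ) ≫ Z.isoSpec.inv :=
          congrArg (fun t => Spec.map (CommRingCat.ofHom h) ≫ t) hm
      _ = Spec.map (CommRingCat.ofHom (h.comp ψ)) ≫ Z.isoSpec.inv := by
          rw [← Category.assoc, ← Spec.map_comp]
          rfl
  have hcov : ∀ 𝔭 : Ideal D, 𝔭.IsPrime → ∃ (E : Type u) (_ : CommRing E) (_ : Algebra D E),
      Algebra.Etale D E ∧ 𝒢 E (algebraMap D E) ∧
        ∃ 𝔓 : Ideal E, 𝔓.IsPrime ∧ 𝔓.comap (algebraMap D E) = 𝔭 := by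
    intro 𝔭 h𝔭
    let z : Z := Z.isoSpec.inv (⟨𝔭, h𝔭⟩ : PrimeSpectrum D)
    rw [EtZarDense.mem_smallEtaleTopology_iff] at hR
    obtain ⟨U, u, x, hu, hux⟩ := hR z
    let w : U.left ⟶ Z := u.left
    haveI : Etale w := inferInstanceAs (Etale u.left)
    obtain ⟨W, hW, hxW, hle, hEt, hfac, hprime⟩ := exists_affine_etale_chart w x
    letI algDE : Algebra D Γ(U.left, W) := (w.appLE ⊤ W hle).hom.toAlgebra
    refine ⟨Γ(U.left, W), inferInstance, algDE, hEt, ⟨U, u, hW.fromSpec, hu, hfac⟩,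
      (hW.primeIdealOf ⟨x, hxW⟩).asIdeal, (hW.primeIdealOf ⟨x, hxW⟩).2, ?_⟩
    rw [show algebraMap D Γ(U.left, W) = (w.appLE ⊤ W hle).hom from rfl, hprime]
    have : w x = z := hux
    rw [this]
    change (Z.isoSpec.hom (Z.isoSpec.inv (⟨𝔭, h𝔭⟩ : PrimeSpectrum D)) : PrimeSpectrum D).asIdeal = 𝔭
    rw [← Scheme.Hom.comp_apply, Iso.inv_hom_id]
    rfl
  obtain ⟨N, m, e, he, hgood⟩ := IntSplitStage.exists_split_stage (C := C) (D := D) K 𝒢 h𝒢 hcov
  -- the étale neighbourhood
  let ψN : C ⟶ CommRingCat.of N.S := CommRingCat.ofHom (algebraMap C N.S)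
  let g₀ : Spec (CommRingCat.of N.S) ⟶ V.left := Spec.map ψN ≫ V.left.isoSpec.inv
  haveI : Etale (Spec.map ψN) :=
    (HasRingHomProperty.Spec_iff (P := @Etale)).mpr (RingHom.etale_algebraMap.mpr inferInstance)
  haveI : Etale g₀ := inferInstance
  haveI : Etale (g₀ ≫ vh) := inferInstance
  let V' : Y.Etale := Scheme.Etale.mk (g₀ ≫ vh)
  let g : V' ⟶ V := MorphismProperty.Over.homMk g₀ rfl trivial
  let v' : Spec (CommRingCat.of N.S) :=
    (⟨RingHom.ker N.σ.toRingHom, RingHom.ker_isPrime _⟩ : PrimeSpectrum N.S)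
  have hv' : g₀ v' = v := by
    have h1 : (Spec.map ψN) v' = V.left.isoSpec.hom v := by
      apply PrimeSpectrum.ext
      ext c
      change N.σ (algebraMap C N.S c) = 0 ↔ c ∈ q.asIdeal
      rw [N.σ.commutes, hker]
    change V.left.isoSpec.inv ((Spec.map ψN) v') = v
    rw [h1, ← Scheme.Hom.comp_apply, Iso.hom_inv_id]
    rfl
  -- the two cartesian squares
  let 𝒵' : X.Etale := (EtCoh.bc f).obj V'
  let v'h : Spec (CommRingCat.of N.S) ⟶ Y := g₀ ≫ vh
  let Z' : Scheme.{u} := pullback v'h f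
  let p' : Z' ⟶ Spec (CommRingCat.of N.S) := pullback.fst v'h f
  let bg : Z' ⟶ Z := ((EtCoh.bc f).map g).left
  have hP1 : IsPullback bg p' p g₀ := EtCoh.isPullback_bc_map f g
  let inl : D ⟶ CommRingCat.of (D ⊗[C] N.S) :=
    CommRingCat.ofHom Algebra.TensorProduct.includeLeftRingHom
  let inr : CommRingCat.of N.S ⟶ CommRingCat.of (D ⊗[C] N.S) :=
    CommRingCat.ofHom Algebra.TensorProduct.includeRight.toRingHom
  have hP2 : IsPullback (Spec.map inl) (Spec.map inr) (Spec.map φ) (Spec.map ψN) :=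
    isPullback_SpecMap_of_isPushout _ _ _ _ (CommRingCat.isPushout_tensorProduct C D N.S)
  have hP2' : IsPullback (Spec.map inl ≫ Z.isoSpec.inv) (Spec.map inr) p g₀ :=
    IsPullback.of_iso hP2 (Iso.refl _) Z.isoSpec.symm (Iso.refl _) V.left.isoSpec.symm
      (by simp) (by simp) (Scheme.isoSpec_inv_naturality p) (by simp [g₀])
  let τ : Spec (CommRingCat.of (D ⊗[C] N.S)) ≅ Z' := hP2'.isoIsPullback _ _ hP1
  have hτ : τ.hom ≫ bg = Spec.map inl ≫ Z.isoSpec.inv :=
    IsPullback.isoIsPullback_hom_fst _ _ hP2' hP1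
  obtain ⟨hdisj, hcover⟩ := opensRange_disjoint_cover e he τ
  let j : ∀ a : Fin m, Spec (CommRingCat.of (Localization.Away (e a))) ⟶ Z' := fun a =>
    Spec.map (CommRingCat.ofHom (algebraMap (D ⊗[C] N.S) (Localization.Away (e a)))) ≫ τ.hom
  haveI hjo : ∀ a, IsOpenImmersion (j a) := fun a => inferInstance
  refine ⟨V', g, v', hv', m, fun a => (j a).opensRange, hdisj, hcover, fun a => ?_⟩
  obtain ⟨U, u, mm, hu, hmm⟩ := hgood a
  let uZ : U.left ⟶ Z := u.left
  have h1 : mm ≫ uZ = j a ≫ bg := by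
    have h2 : Spec.map (CommRingCat.ofHom
        ((algebraMap (D ⊗[C] N.S) (Localization.Away (e a))).comp
          Algebra.TensorProduct.includeLeftRingHom)) =
        Spec.map (CommRingCat.ofHom (algebraMap (D ⊗[C] N.S) (Localization.Away (e a)))) ≫
          Spec.map inl := by
      rw [← Spec.map_comp]
      rfl
    calc mm ≫ uZ = Spec.map (CommRingCat.ofHom
          ((algebraMap (D ⊗[C] N.S) (Localization.Away (e a))).comp
            Algebra.TensorProduct.includeLeftRingHom)) ≫ Z.isoSpec.inv := hmm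
      _ = Spec.map (CommRingCat.ofHom (algebraMap (D ⊗[C] N.S) (Localization.Away (e a)))) ≫
            (Spec.map inl ≫ Z.isoSpec.inv) := by rw [h2, Category.assoc]
      _ = Spec.map (CommRingCat.ofHom (algebraMap (D ⊗[C] N.S) (Localization.Away (e a)))) ≫
            (τ.hom ≫ bg) := by rw [hτ]
      _ = j a ≫ bg := (Category.assoc _ _ _).symm
  let Da : Z'.Opens := (j a).opensRange
  let k₀ : Da.toScheme ⟶ U.left := (j a).isoOpensRange.inv ≫ mm
  have hι : (j a).isoOpensRange.inv ≫ j a = Da.ι := by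
    rw [Iso.inv_comp_eq]
    exact ((j a).isoOpensRange_hom_ι).symm
  have hk₀ : k₀ ≫ uZ = Da.ι ≫ bg := by
    calc k₀ ≫ uZ = (j a).isoOpensRange.inv ≫ (mm ≫ uZ) := Category.assoc _ _ _
      _ = (j a).isoOpensRange.inv ≫ (j a ≫ bg) := by rw [h1]
      _ = ((j a).isoOpensRange.inv ≫ j a) ≫ bg := (Category.assoc _ _ _).symm
      _ = Da.ι ≫ bg := by rw [hι]
  let zh : Z ⟶ X := 𝒵.hom
  let z'h : Z' ⟶ X := 𝒵'.hom
  let uh : U.left ⟶ X := U.hom
  have hu1 : uZ ≫ zh = uh := Over.w u.hom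
  have hbg1 : bg ≫ zh = z'h := Over.w ((EtCoh.bc f).map g).hom
  have hkw : k₀ ≫ uh = Da.ι ≫ z'h := by
    rw [← hu1, ← Category.assoc, hk₀, Category.assoc, hbg1]
  let k : openObj 𝒵' Da ⟶ U := MorphismProperty.Over.homMk k₀ hkw trivial
  have hk : k ≫ u = openHom 𝒵' Da ≫ (EtCoh.bc f).map g := by
    apply MorphismProperty.Over.Hom.ext
    exact hk₀
  change R (openHom 𝒵' Da ≫ (EtCoh.bc f).map g)
  rw [← hk]
  exact R.downward_closed hu k

set_option backward.isDefEq.respectTransparency.types false in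
/-- **Property (B), sieve form.** For an integral morphism `f : X ⟶ Y`, every covering sieve of
`X ×_Y V` splits after an étale neighbourhood of any given point of `V`. -/
theorem splitAt [IsIntegralHom f] (V : Y.Etale)
    (R : Sieve ((EtCoh.bc f).obj V)) (hR : R ∈ X.smallEtaleTopology ((EtCoh.bc f).obj V))
    (v : V.left) : SplitAt f V R v := by
  obtain ⟨V₀, hV₀, hv, -⟩ := exists_isAffineOpen_mem_and_subset (U := ⊤) (x := v) (by simp)
  let V1 : Y.Etale := openObj V V₀
  let g₁ : V1 ⟶ V := openHom V V₀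
  haveI : IsAffine V1.left := hV₀
  let R₁ : Sieve ((EtCoh.bc f).obj V1) := R.pullback ((EtCoh.bc f).map g₁)
  have hR₁ : R₁ ∈ X.smallEtaleTopology ((EtCoh.bc f).obj V1) :=
    X.smallEtaleTopology.pullback_stable _ hR
  obtain ⟨V', g', v', hv', n, D, hdisj, hcov, hD⟩ :=
    splitAt_of_isAffine f V1 R₁ hR₁ (⟨v, hv⟩ : V₀)
  refine ⟨V', g' ≫ g₁, v', ?_, n, D, hdisj, hcov, fun i => ?_⟩
  · change V₀.ι (g'.left v') = v
    rw [hv']
    rfl
  · have := hD i
    change R ((openHom ((EtCoh.bc f).obj V') (D i) ≫ (EtCoh.bc f).map g') ≫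
      (EtCoh.bc f).map g₁) at this
    rwa [Category.assoc, ← Functor.map_comp] at this

end Groth.Agent.Lib.Helper3.IntSplitScheme
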