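import Groth.Agent.Lib.Helper3.IntSplitCover
import Groth.Agent.Lib.Helper3.IntSplitColim
import Groth.Agent.Lib.Helper9.HensK.Residue
import Mathlib.RingTheory.Etale.Pi

/-!
# Splitting étale coverings of an integral algebra after an étale extension of the base (helper3)

`C → D` integral, `K` a separably closed field over `C`, `𝒢` a sieve of `D`-algebras such that every
prime of `D` has an étale neighbourhood in `𝒢`. Then there is a pointed étale `C`-algebra `N` and a
complete family of orthogonal idempotents of `D ⊗[C] N.S` whose localizations all lie in `𝒢`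
(`exists_split_stage`).
-/

set_option linter.style.haveILetI false
set_option linter.unusedSectionVars false
set_option autoImplicit false

universe u

open IsLocalRing TensorProduct Polynomial CategoryTheory

namespace Groth.Agent.Lib.Helper3.IntSplitStage

open Groth.Agent.Lib.Helper3 Groth.Agent.Lib.Helper9.HensK

/-- The residue field of the colimit of pointed étale algebras over a separably closed field is
separably closed. -/
theorem isSepClosed_residueField_ptColim (C : Type u) [CommRing C] (K : Type u) [Field K]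
    [IsSepClosed K] [Algebra C K] : IsSepClosed (ResidueField (PtColim C K)) := by
  apply IsSepClosed.of_exists_root
  intro p hpm hpirr hpsep
  let τ : ResidueField (PtColim C K) →+* K := PtColim.residueFieldToK
  have hlifts : p ∈ Polynomial.lifts (IsLocalRing.residue (PtColim C K)) := by
    rw [Polynomial.lifts_iff_coeffs_subset_range]
    intro c _
    exact IsLocalRing.residue_surjective c
  obtain ⟨f, hf1, -, hfm⟩ := Polynomial.lifts_and_natDegree_eq_and_monic hlifts hpm
  have hdeg : (p.map τ).degree ≠ 0 := by
    rw [Polynomial.degree_map]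
    exact (Polynomial.degree_pos_of_irreducible hpirr).ne'
  obtain ⟨α, hα⟩ := IsSepClosed.exists_root (p.map τ) hdeg hpsep.map
  have hres : (PtColim.residue : PtColim C K →ₐ[C] K).toRingHom =
      τ.comp (IsLocalRing.residue (PtColim C K)) := rfl
  have h1 : (f.map (PtColim.residue : PtColim C K →ₐ[C] K).toRingHom).eval α = 0 := by
    rw [hres, ← Polynomial.map_map, hf1]
    exact hα
  have h2 : IsUnit ((f.derivative.map (PtColim.residue : PtColim C K →ₐ[C] K).toRingHom).eval α) := by
    rw [hres, ← Polynomial.map_map, ← Polynomial.derivative_map, hf1, isUnit_iff_ne_zero,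
      Polynomial.eval_map]
    apply hpsep.eval₂_derivative_ne_zero τ
    rw [← Polynomial.eval_map]
    exact hα
  obtain ⟨a, ha, -⟩ := PtColim.exists_root f hfm α h1 h2
  refine ⟨IsLocalRing.residue _ a, ?_⟩
  rw [← hf1, Polynomial.eval_map, Polynomial.eval₂_at_apply]
  rw [Polynomial.IsRoot.def] at ha
  rw [ha, map_zero]

/-- In the localization at an idempotent, the idempotent becomes `1`. -/
theorem algebraMap_away_idempotent {A : Type u} [CommRing A] {e : A} (he : IsIdempotentElem e) :
    algebraMap A (Localization.Away e) e = 1 := by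
  have hu : IsUnit (algebraMap A (Localization.Away e) e) :=
    IsLocalization.Away.algebraMap_isUnit e
  have h1 : algebraMap A (Localization.Away e) e * algebraMap A (Localization.Away e) e =
      algebraMap A (Localization.Away e) e * 1 := by
    rw [← map_mul, he.eq, mul_one]
  exact hu.mul_left_cancel h1

section Main

variable {C D : Type u} [CommRing C] [CommRing D] [Algebra C D] [Algebra.IsIntegral C D]
  (K : Type u) [Field K] [IsSepClosed K] [Algebra C K]
  (𝒢 : ∀ (E : Type u) [CommRing E], (D →+* E) → Prop)

/-- Integrality of `D ⊗[C] O` over `O` (for the right algebra structure). -/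
theorem isIntegral_right (O : Type u) [CommRing O] [Algebra C O] :
    letI := Algebra.TensorProduct.rightAlgebra (R := C) (A := D) (B := O)
    Algebra.IsIntegral O (D ⊗[C] O) := by
  letI := Algebra.TensorProduct.rightAlgebra (R := C) (A := D) (B := O)
  constructor
  intro x
  let f : O ⊗[C] D →+* D ⊗[C] O := (Algebra.TensorProduct.comm C O D).toAlgHom.toRingHom
  have hf : (algebraMap O (D ⊗[C] O)).comp (RingHom.id O) = f.comp (algebraMap O (O ⊗[C] D)) := by
    ext o
    change (1 : D) ⊗ₜ[C] o = (Algebra.TensorProduct.comm C O D) (o ⊗ₜ[C] (1 : D))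
    simp
  have hx : x = f ((Algebra.TensorProduct.comm C O D).symm x) := by
    change x = (Algebra.TensorProduct.comm C O D) ((Algebra.TensorProduct.comm C O D).symm x)
    simp
  rw [hx]
  exact (Algebra.IsIntegral.isIntegral (R := O) _).map_of_comp_eq (RingHom.id O) f hf

/-- **Splitting at a finite étale stage.** -/
theorem exists_split_stage
    (h𝒢 : ∀ (E E' : Type u) [CommRing E] [CommRing E'] (φ : D →+* E) (h : E →+* E'),
      𝒢 E φ → 𝒢 E' (h.comp φ))
    (hcov : ∀ 𝔭 : Ideal D, 𝔭.IsPrime → ∃ (E : Type u) (_ : CommRing E) (_ : Algebra D E),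
      Algebra.Etale D E ∧ 𝒢 E (algebraMap D E) ∧
        ∃ 𝔓 : Ideal E, 𝔓.IsPrime ∧ 𝔓.comap (algebraMap D E) = 𝔭) :
    ∃ (N : PtEt C K) (m : ℕ) (e : Fin m → D ⊗[C] N.S), CompleteOrthogonalIdempotents e ∧
      ∀ a, 𝒢 (Localization.Away (e a))
        ((algebraMap (D ⊗[C] N.S) (Localization.Away (e a))).comp
          Algebra.TensorProduct.includeLeftRingHom) := by
  classical
  let O := PtColim C K
  let T := D ⊗[C] O
  letI algOT : Algebra O T := Algebra.TensorProduct.rightAlgebra (R := C) (A := D) (B := O)
  haveI : Algebra.IsIntegral O T := isIntegral_right (C := C) (D := D) O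
  haveI : IsSepClosed (ResidueField O) := isSepClosed_residueField_ptColim C K
  obtain ⟨m, e, he, hgood⟩ := IntSplitCover.exists_good_idempotents (T := T) O 𝒢 hcov
  choose E hCR hAlg hEt hG hφ using hgood
  letI := hCR
  letI := hAlg
  haveI := hEt
  let φ : ∀ a, E a →ₐ[D] T ⧸ Ideal.span {1 - e a} := fun a => (hφ a).some
  let ρ : T ≃ₐ[D] ∀ a, T ⧸ Ideal.span {1 - e a} :=
    AlgEquiv.ofBijective (AlgHom.pi (fun a => Ideal.Quotient.mkₐ D (Ideal.span {1 - e a})))
      he.bijective_pi
  let χ : (∀ a, E a) →ₐ[D] T :=
    ρ.symm.toAlgHom.comp (AlgHom.pi (fun a => (φ a).comp (Pi.evalAlgHom D E a)))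
  haveI : Algebra.FinitePresentation D (∀ a, E a) := inferInstance
  obtain ⟨N, ψ, -⟩ := IntSplitFP.exists_factor (D := D) (P := ∀ a, E a) (T := T)
    (fun N : PtEt C K => D ⊗[C] N.S) (fun N => IntSplitColim.stageMap C K D N)
    (by
      intro N t
      obtain ⟨N₁, y₁, hy₁⟩ := IntSplitColim.exists_rep C K D t
      refine ⟨IsFiltered.max N N₁, IntSplitColim.transMap C K D (IsFiltered.leftToMax N N₁),
        IntSplitColim.transMap C K D (IsFiltered.rightToMax N N₁) y₁,
        IntSplitColim.stageMap_comp_transMap D _, ?_⟩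
      rw [IntSplitColim.stageMap_transMap, hy₁])
    (by
      intro N x hx
      obtain ⟨N', f, hf⟩ := IntSplitColim.exists_transMap_eq_zero C K D N x hx
      exact ⟨N', IntSplitColim.transMap C K D f, IntSplitColim.stageMap_comp_transMap D f, hf⟩)
    χ
  let e' : Fin m → D ⊗[C] N.S := fun a => ψ (Pi.single a 1)
  have he' : CompleteOrthogonalIdempotents e' :=
    (CompleteOrthogonalIdempotents.single E).map ψ.toRingHom
  refine ⟨N, m, e', he', fun a => ?_⟩
  have hone : algebraMap (D ⊗[C] N.S) (Localization.Away (e' a)) (e' a) = 1 :=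
    algebraMap_away_idempotent (he'.idem a)
  let h : E a →+* Localization.Away (e' a) :=
    { toFun := fun x => algebraMap _ (Localization.Away (e' a)) (ψ (Pi.single a x))
      map_one' := hone
      map_mul' := fun x y => by rw [Pi.single_mul, map_mul, map_mul]
      map_zero' := by rw [Pi.single_zero, map_zero, map_zero]
      map_add' := fun x y => by rw [Pi.single_add, map_add, map_add] }
  have hcomp : h.comp (algebraMap D (E a)) =
      (algebraMap (D ⊗[C] N.S) (Localization.Away (e' a))).comp
        Algebra.TensorProduct.includeLeftRingHom := by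
    ext d
    change algebraMap _ (Localization.Away (e' a)) (ψ (Pi.single a (algebraMap D (E a) d))) =
      algebraMap _ (Localization.Away (e' a)) (d ⊗ₜ[C] (1 : N.S))
    have h1 : (Pi.single a (algebraMap D (E a) d) : ∀ a, E a) = d • Pi.single a 1 := by
      rw [← Pi.single_smul, Algebra.smul_def, mul_one]
    rw [h1, map_smul, Algebra.smul_def, map_mul, hone, mul_one]
    rfl
  rw [← hcomp]
  exact h𝒢 (E a) (Localization.Away (e' a)) (algebraMap D (E a)) h (hG a)

/-- **Splitting at a finite étale stage**, with the covering hypothesis only at the primes of `D`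
over the kernel of `C → K`. -/
theorem exists_split_stage'
    (h𝒢 : ∀ (E E' : Type u) [CommRing E] [CommRing E'] (φ : D →+* E) (h : E →+* E'),
      𝒢 E φ → 𝒢 E' (h.comp φ))
    (hcov : ∀ 𝔭 : Ideal D, 𝔭.IsPrime →
      𝔭.comap (algebraMap C D) = RingHom.ker (algebraMap C K) →
      ∃ (E : Type u) (_ : CommRing E) (_ : Algebra D E),
      Algebra.Etale D E ∧ 𝒢 E (algebraMap D E) ∧
        ∃ 𝔓 : Ideal E, 𝔓.IsPrime ∧ 𝔓.comap (algebraMap D E) = 𝔭) :
    ∃ (N : PtEt C K) (m : ℕ) (e : Fin m → D ⊗[C] N.S), CompleteOrthogonalIdempotents e ∧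
      ∀ a, 𝒢 (Localization.Away (e a))
        ((algebraMap (D ⊗[C] N.S) (Localization.Away (e a))).comp
          Algebra.TensorProduct.includeLeftRingHom) := by
  classical
  let O := PtColim C K
  let T := D ⊗[C] O
  letI algOT : Algebra O T := Algebra.TensorProduct.rightAlgebra (R := C) (A := D) (B := O)
  haveI : Algebra.IsIntegral O T := isIntegral_right (C := C) (D := D) O
  haveI : IsSepClosed (ResidueField O) := isSepClosed_residueField_ptColim C K
  have hPr : ∀ n : Ideal T, n.IsMaximal →
      (n.comap (algebraMap D T)).comap (algebraMap C D) = RingHom.ker (algebraMap C K) := by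
    intro n hn
    haveI := hn
    have hmax : n.comap (algebraMap O T) = maximalIdeal O := by
      haveI : (n.comap (algebraMap O T)).IsMaximal :=
        Ideal.isMaximal_comap_of_isIntegral_of_isMaximal n
      exact IsLocalRing.eq_maximalIdeal inferInstance
    ext c
    rw [Ideal.mem_comap, Ideal.mem_comap, RingHom.mem_ker]
    have h1 : algebraMap D T (algebraMap C D c) = algebraMap O T (algebraMap C O c) := by
      change (algebraMap C D c) ⊗ₜ[C] (1 : O) = (1 : D) ⊗ₜ[C] (algebraMap C O c)
      rw [Algebra.algebraMap_eq_smul_one, Algebra.algebraMap_eq_smul_one, TensorProduct.smul_tmul]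
    rw [h1, ← Ideal.mem_comap, hmax, PtColim.mem_maximalIdeal_iff, AlgHom.commutes]
  obtain ⟨m, e, he, hgood⟩ := IntSplitCover.exists_good_idempotents' (T := T) O 𝒢
    (fun 𝔭 => 𝔭.comap (algebraMap C D) = RingHom.ker (algebraMap C K)) hPr hcov
  choose E hCR hAlg hEt hG hφ using hgood
  letI := hCR
  letI := hAlg
  haveI := hEt
  let φ : ∀ a, E a →ₐ[D] T ⧸ Ideal.span {1 - e a} := fun a => (hφ a).some
  let ρ : T ≃ₐ[D] ∀ a, T ⧸ Ideal.span {1 - e a} :=
    AlgEquiv.ofBijective (AlgHom.pi (fun a => Ideal.Quotient.mkₐ D (Ideal.span {1 - e a})))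
      he.bijective_pi
  let χ : (∀ a, E a) →ₐ[D] T :=
    ρ.symm.toAlgHom.comp (AlgHom.pi (fun a => (φ a).comp (Pi.evalAlgHom D E a)))
  haveI : Algebra.FinitePresentation D (∀ a, E a) := inferInstance
  obtain ⟨N, ψ, -⟩ := IntSplitFP.exists_factor (D := D) (P := ∀ a, E a) (T := T)
    (fun N : PtEt C K => D ⊗[C] N.S) (fun N => IntSplitColim.stageMap C K D N)
    (by
      intro N t
      obtain ⟨N₁, y₁, hy₁⟩ := IntSplitColim.exists_rep C K D t
      refine ⟨IsFiltered.max N N₁, IntSplitColim.transMap C K D (IsFiltered.leftToMax N N₁),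
        IntSplitColim.transMap C K D (IsFiltered.rightToMax N N₁) y₁,
        IntSplitColim.stageMap_comp_transMap D _, ?_⟩
      rw [IntSplitColim.stageMap_transMap, hy₁])
    (by
      intro N x hx
      obtain ⟨N', f, hf⟩ := IntSplitColim.exists_transMap_eq_zero C K D N x hx
      exact ⟨N', IntSplitColim.transMap C K D f, IntSplitColim.stageMap_comp_transMap D f, hf⟩)
    χ
  let e' : Fin m → D ⊗[C] N.S := fun a => ψ (Pi.single a 1)
  have he' : CompleteOrthogonalIdempotents e' :=
    (CompleteOrthogonalIdempotents.single E).map ψ.toRingHom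
  refine ⟨N, m, e', he', fun a => ?_⟩
  have hone : algebraMap (D ⊗[C] N.S) (Localization.Away (e' a)) (e' a) = 1 :=
    algebraMap_away_idempotent (he'.idem a)
  let h : E a →+* Localization.Away (e' a) :=
    { toFun := fun x => algebraMap _ (Localization.Away (e' a)) (ψ (Pi.single a x))
      map_one' := hone
      map_mul' := fun x y => by rw [Pi.single_mul, map_mul, map_mul]
      map_zero' := by rw [Pi.single_zero, map_zero, map_zero]
      map_add' := fun x y => by rw [Pi.single_add, map_add, map_add] }
  have hcomp : h.comp (algebraMap D (E a)) =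
      (algebraMap (D ⊗[C] N.S) (Localization.Away (e' a))).comp
        Algebra.TensorProduct.includeLeftRingHom := by
    ext d
    change algebraMap _ (Localization.Away (e' a)) (ψ (Pi.single a (algebraMap D (E a) d))) =
      algebraMap _ (Localization.Away (e' a)) (d ⊗ₜ[C] (1 : N.S))
    have h1 : (Pi.single a (algebraMap D (E a) d) : ∀ a, E a) = d • Pi.single a 1 := by
      rw [← Pi.single_smul, Algebra.smul_def, mul_one]
    rw [h1, map_smul, Algebra.smul_def, map_mul, hone, mul_one]
    rfl
  rw [← hcomp]
  exact h𝒢 (E a) (Localization.Away (e' a)) (algebraMap D (E a)) h (hG a)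

end Main

end Groth.Agent.Lib.Helper3.IntSplitStage
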