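import Groth.Agent.Lib.Helper3.IntUnivInj
import Groth.Prelude.Def_EtCore
import Mathlib.Algebra.Homology.DerivedCategory.Ext.MapBijective

/-!
# Universal homeomorphisms induce isomorphisms on étale cohomology (helper3)
-/

set_option linter.style.haveILetI false
set_option linter.unusedSectionVars false
set_option autoImplicit false
set_option backward.isDefEq.respectTransparency.types false

universe u

open CategoryTheory CategoryTheory.Limits AlgebraicGeometry Opposite

namespace Groth.Agent.Lib.Helper3.IntUnivHomeo

open Groth.Agent.Lib.Helper3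

variable {X₀ X : Scheme.{u}} (i : X₀ ⟶ X) [IsIntegralHom i] [UniversallyInjective i] [Surjective i]

theorem push_isEquivalence : (EtCoh.push i).IsEquivalence := by
  obtain ⟨hfull, hfaith, hess, -⟩ := IntUnivInj.main i
  have hsurj : Set.range i.base = Set.univ := Set.range_eq_univ.mpr i.surjective
  exact { faithful := hfaith
          full := hfull
          essSurj := ⟨fun G => (hess G).mpr (by rw [hsurj]; exact Set.subset_univ _)⟩ }

theorem pull_isEquivalence : (EtCoh.pull i).IsEquivalence := by
  haveI := push_isEquivalence i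
  exact (EtCoh.pullPushAdj i).isEquivalence_left_of_isEquivalence_right

theorem Hpull_bijective [PreservesFiniteLimits (EtCoh.pull i)] (F : EtCoh.Ab X) (q : ℕ) :
    Function.Bijective (EtCore.Hpull i F q) := by
  haveI := pull_isEquivalence i
  haveI : (EtCoh.pull i).PreservesInjectiveObjects :=
    Functor.preservesInjectiveObjects_of_adjunction_of_preservesMonomorphisms
      (EtCoh.pull i).asEquivalence.symm.toAdjunction
  unfold EtCore.Hpull
  rw [AddMonoidHom.coe_comp]
  refine Function.Bijective.comp ?_
    (Functor.mapExt_bijective_of_preservesInjectiveObjects (EtCoh.pull i) _ _ q)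
  let α := EtCore.pullConst i ℤ
  constructor
  · intro e₁ e₂ h
    have h' : (Abelian.Ext.mk₀ α.inv).comp e₁ (zero_add q) =
        (Abelian.Ext.mk₀ α.inv).comp e₂ (zero_add q) := h
    have h2 := congrArg (fun e => (Abelian.Ext.mk₀ α.hom).comp e (zero_add q)) h'
    simp only [Abelian.Ext.mk₀_comp_mk₀_assoc, Iso.hom_inv_id, Abelian.Ext.mk₀_id_comp] at h2
    exact h2
  · intro e
    refine ⟨(Abelian.Ext.mk₀ α.hom).comp e (zero_add q), ?_⟩
    change (Abelian.Ext.mk₀ α.inv).comp ((Abelian.Ext.mk₀ α.hom).comp e (zero_add q))
      (zero_add q) = e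
    simp only [Abelian.Ext.mk₀_comp_mk₀_assoc, Iso.inv_hom_id, Abelian.Ext.mk₀_id_comp]

end Groth.Agent.Lib.Helper3.IntUnivHomeo
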