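import Mathlib

set_option autoImplicit false
set_option linter.style.haveILetI false
set_option linter.unusedSectionVars false
universe u

open TensorProduct IsLocalRing

namespace Groth.Agent.Lib.Helper3

section LocalTensor

variable (R B C : Type u) [CommRing R] [IsLocalRing R] [CommRing B] [IsLocalRing B] [CommRing C]
  [IsLocalRing C] [Algebra R B] [Algebra R C] [IsLocalHom (algebraMap R B)]
  [IsLocalHom (algebraMap R C)] [Algebra.IsIntegral R B]

/-- The ideal of `C ⊗[R] B` generated by the two maximal ideals. -/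
def tensorJ : Ideal (C ⊗[R] B) :=
  (maximalIdeal C).map (algebraMap C (C ⊗[R] B)) ⊔
    (maximalIdeal B).map (Algebra.TensorProduct.includeRight : B →ₐ[R] C ⊗[R] B).toRingHom

theorem comap_left_of_isMaximal (M : Ideal (C ⊗[R] B)) [hM : M.IsMaximal] :
    M.comap (algebraMap C (C ⊗[R] B)) = maximalIdeal C := by
  have : (M.comap (algebraMap C (C ⊗[R] B))).IsMaximal :=
    Ideal.isMaximal_comap_of_isIntegral_of_isMaximal M
  exact IsLocalRing.eq_maximalIdeal this

theorem comap_right_of_isMaximal (M : Ideal (C ⊗[R] B)) [hM : M.IsMaximal] :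
    M.comap (Algebra.TensorProduct.includeRight : B →ₐ[R] C ⊗[R] B).toRingHom =
      maximalIdeal B := by
  have hC : (maximalIdeal C).comap (algebraMap R C) = maximalIdeal R :=
    ((local_hom_TFAE (algebraMap R C)).out 0 4 rfl rfl).mp inferInstance
  have h1 : (M.comap (Algebra.TensorProduct.includeRight : B →ₐ[R] C ⊗[R] B).toRingHom).comap
      (algebraMap R B) = maximalIdeal R := by
    rw [Ideal.comap_comap, AlgHom.toRingHom_eq_coe, AlgHom.comp_algebraMap,
      IsScalarTower.algebraMap_eq R C (C ⊗[R] B), ← Ideal.comap_comap,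
      comap_left_of_isMaximal R B C M, hC]
  have h2 : ((M.comap (Algebra.TensorProduct.includeRight : B →ₐ[R] C ⊗[R] B).toRingHom).comap
      (algebraMap R B)).IsMaximal := by
    rw [h1]; exact maximalIdeal.isMaximal R
  have h3 : (M.comap (Algebra.TensorProduct.includeRight : B →ₐ[R] C ⊗[R] B).toRingHom).IsMaximal :=
    Ideal.isMaximal_of_isIntegral_of_isMaximal_comap _ h2
  exact IsLocalRing.eq_maximalIdeal h3

theorem tensorJ_le_of_isMaximal (M : Ideal (C ⊗[R] B)) [hM : M.IsMaximal] :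
    tensorJ R B C ≤ M := by
  unfold tensorJ
  rw [sup_le_iff, Ideal.map_le_iff_le_comap, Ideal.map_le_iff_le_comap,
    comap_left_of_isMaximal R B C M, comap_right_of_isMaximal R B C M]
  exact ⟨le_rfl, le_rfl⟩

theorem exists_pow_sub_mem_tensorJ (q : ℕ) (hq : q.Prime ∨ q = 1)
    (hqR : q.Prime → (q : R) ∈ maximalIdeal R)
    (hpi : ∀ b : B, ∃ (n : ℕ) (a : R), b ^ q ^ n - algebraMap R B a ∈ maximalIdeal B)
    (x : C ⊗[R] B) :
    ∃ (n : ℕ) (c : C), x ^ q ^ n - algebraMap C (C ⊗[R] B) c ∈ tensorJ R B C := by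
  induction x using TensorProduct.induction_on with
  | zero => exact ⟨0, 0, by simp⟩
  | tmul c b =>
    obtain ⟨n, a, ha⟩ := hpi b
    refine ⟨n, c ^ q ^ n * algebraMap R C a, ?_⟩
    have h1 : (c ⊗ₜ[R] b) ^ q ^ n - algebraMap C (C ⊗[R] B) (c ^ q ^ n * algebraMap R C a) =
        algebraMap C (C ⊗[R] B) (c ^ q ^ n) *
          (Algebra.TensorProduct.includeRight : B →ₐ[R] C ⊗[R] B).toRingHom
            (b ^ q ^ n - algebraMap R B a) := by
      rw [Algebra.TensorProduct.tmul_pow, Algebra.TensorProduct.algebraMap_apply,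
        Algebra.TensorProduct.algebraMap_apply, Algebra.algebraMap_self, RingHom.id_apply,
        RingHom.id_apply]
      change _ = (c ^ q ^ n) ⊗ₜ[R] (1 : B) * ((1 : C) ⊗ₜ[R] (b ^ q ^ n - algebraMap R B a))
      rw [Algebra.TensorProduct.tmul_mul_tmul, mul_one, one_mul, TensorProduct.tmul_sub,
        Algebra.algebraMap_eq_smul_one a, Algebra.algebraMap_eq_smul_one a, mul_smul_comm,
        mul_one, TensorProduct.smul_tmul]
    rw [h1]
    apply Ideal.mul_mem_left
    exact Ideal.mem_sup_right (Ideal.mem_map_of_mem _ ha)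
  | add x y hx hy =>
    obtain ⟨n, c, hc⟩ := hx
    obtain ⟨m, d, hd⟩ := hy
    have hx' : x ^ q ^ (n + m) - algebraMap C (C ⊗[R] B) (c ^ q ^ m) ∈ tensorJ R B C := by
      rw [pow_add, pow_mul, map_pow]
      exact Ideal.mem_of_dvd _ (sub_dvd_pow_sub_pow _ _ _) hc
    have hy' : y ^ q ^ (n + m) - algebraMap C (C ⊗[R] B) (d ^ q ^ n) ∈ tensorJ R B C := by
      rw [add_comm n m, pow_add, pow_mul, map_pow]
      exact Ideal.mem_of_dvd _ (sub_dvd_pow_sub_pow _ _ _) hd
    refine ⟨n + m, c ^ q ^ m + d ^ q ^ n, ?_⟩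
    rcases hq with hq | hq
    · obtain ⟨r, hr⟩ := exists_add_pow_prime_pow_eq hq x y (n + m)
      have hqJ : ((q : ℕ) : C ⊗[R] B) ∈ tensorJ R B C := by
        have h1 : ((q : ℕ) : C) ∈ maximalIdeal C := by
          have := hqR hq
          have h2 : algebraMap R C (q : R) ∈ maximalIdeal C := by
            have hC : (maximalIdeal C).comap (algebraMap R C) = maximalIdeal R :=
              ((local_hom_TFAE (algebraMap R C)).out 0 4 rfl rfl).mp inferInstance
            rw [← hC] at this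
            exact this
          rwa [map_natCast] at h2
        have h3 : algebraMap C (C ⊗[R] B) ((q : ℕ) : C) ∈ tensorJ R B C :=
          Ideal.mem_sup_left (Ideal.mem_map_of_mem _ h1)
        rwa [map_natCast] at h3
      rw [hr, map_add]
      have : x ^ q ^ (n + m) + y ^ q ^ (n + m) + ↑q * x * y * r -
          (algebraMap C (C ⊗[R] B) (c ^ q ^ m) + algebraMap C (C ⊗[R] B) (d ^ q ^ n)) =
          (x ^ q ^ (n + m) - algebraMap C (C ⊗[R] B) (c ^ q ^ m)) +
          (y ^ q ^ (n + m) - algebraMap C (C ⊗[R] B) (d ^ q ^ n)) + ↑q * (x * y * r) := by ring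
      rw [this]
      exact Ideal.add_mem _ (Ideal.add_mem _ hx' hy') (Ideal.mul_mem_right _ _ hqJ)
    · subst hq
      simp only [one_pow, pow_one] at hx' hy' ⊢
      have : x + y - algebraMap C (C ⊗[R] B) (c + d) =
          (x - algebraMap C (C ⊗[R] B) c) + (y - algebraMap C (C ⊗[R] B) d) := by
        rw [map_add]; ring
      rw [this]
      exact Ideal.add_mem _ hx' hy'

theorem isLocalRing_tensor_of_purelyInseparable [Nontrivial (C ⊗[R] B)] (q : ℕ)
    (hq : q.Prime ∨ q = 1) (hqR : q.Prime → (q : R) ∈ maximalIdeal R)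
    (hpi : ∀ b : B, ∃ (n : ℕ) (a : R), b ^ q ^ n - algebraMap R B a ∈ maximalIdeal B) :
    IsLocalRing (C ⊗[R] B) := by
  obtain ⟨M₀, hM₀⟩ := Ideal.exists_maximal (C ⊗[R] B)
  have key : ∀ (M₁ M₂ : Ideal (C ⊗[R] B)), M₁.IsMaximal → M₂.IsMaximal → M₁ ≤ M₂ := by
    intro M₁ M₂ h₁ h₂ x hx
    obtain ⟨n, c, hc⟩ := exists_pow_sub_mem_tensorJ R B C q hq hqR hpi x
    have h1 : algebraMap C (C ⊗[R] B) c ∈ M₁ := by
      have := Ideal.sub_mem _ (Ideal.pow_mem_of_mem M₁ hx (q ^ n) (by
        rcases hq with hq | hq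
        · exact pow_pos hq.pos _
        · subst hq; simp)) (tensorJ_le_of_isMaximal R B C M₁ hc)
      rwa [sub_sub_cancel] at this
    have h2 : c ∈ maximalIdeal C := by
      rw [← comap_left_of_isMaximal R B C M₁]
      exact h1
    have h3 : algebraMap C (C ⊗[R] B) c ∈ M₂ := by
      rw [← comap_left_of_isMaximal R B C M₂] at h2
      exact h2
    have h4 : x ^ q ^ n ∈ M₂ := by
      have := Ideal.add_mem _ (tensorJ_le_of_isMaximal R B C M₂ hc) h3
      rwa [sub_add_cancel] at this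
    exact h₂.isPrime.mem_of_pow_mem _ h4
  exact IsLocalRing.of_unique_max_ideal
    ⟨M₀, hM₀, fun M hM => le_antisymm (key M M₀ hM hM₀) (key M₀ M hM₀ hM)⟩

/-- If every element of `C` is congruent to an element of `R` modulo the maximal ideal (trivial
residue field extension) and `B` is an integral local `R`-algebra, then `C ⊗[R] B` is local. -/
theorem isLocalRing_tensor_of_residue_surjective [Nontrivial (C ⊗[R] B)]
    (hres : ∀ c : C, ∃ a : R, c - algebraMap R C a ∈ maximalIdeal C) :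
    IsLocalRing (C ⊗[R] B) := by
  have hrep : ∀ x : C ⊗[R] B, ∃ b : B, x - (1 : C) ⊗ₜ[R] b ∈ tensorJ R B C := by
    intro x
    induction x using TensorProduct.induction_on with
    | zero => exact ⟨0, by simp⟩
    | tmul c b =>
      obtain ⟨a, ha⟩ := hres c
      refine ⟨a • b, ?_⟩
      have h1 : c ⊗ₜ[R] b - (1 : C) ⊗ₜ[R] (a • b) =
          algebraMap C (C ⊗[R] B) (c - algebraMap R C a) *
            (Algebra.TensorProduct.includeRight : B →ₐ[R] C ⊗[R] B).toRingHom b := by
        rw [Algebra.TensorProduct.algebraMap_apply, Algebra.algebraMap_self, RingHom.id_apply]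
        change _ = (c - algebraMap R C a) ⊗ₜ[R] (1 : B) * ((1 : C) ⊗ₜ[R] b)
        rw [Algebra.TensorProduct.tmul_mul_tmul, mul_one, one_mul, TensorProduct.sub_tmul,
          Algebra.algebraMap_eq_smul_one a, TensorProduct.smul_tmul]
      rw [h1]
      apply Ideal.mul_mem_right
      exact Ideal.mem_sup_left (Ideal.mem_map_of_mem _ ha)
    | add x y hx hy =>
      obtain ⟨b₁, h₁⟩ := hx
      obtain ⟨b₂, h₂⟩ := hy
      refine ⟨b₁ + b₂, ?_⟩
      have : x + y - (1 : C) ⊗ₜ[R] (b₁ + b₂) =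
          (x - (1 : C) ⊗ₜ[R] b₁) + (y - (1 : C) ⊗ₜ[R] b₂) := by
        rw [TensorProduct.tmul_add]; ring
      rw [this]
      exact Ideal.add_mem _ h₁ h₂
  obtain ⟨M₀, hM₀⟩ := Ideal.exists_maximal (C ⊗[R] B)
  have key : ∀ (M₁ M₂ : Ideal (C ⊗[R] B)), M₁.IsMaximal → M₂.IsMaximal → M₁ ≤ M₂ := by
    intro M₁ M₂ h₁ h₂ x hx
    obtain ⟨b, hb⟩ := hrep x
    have h1 : (1 : C) ⊗ₜ[R] b ∈ M₁ := by
      have := Ideal.sub_mem _ hx (tensorJ_le_of_isMaximal R B C M₁ hb)
      rwa [sub_sub_cancel] at this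
    have h2 : b ∈ maximalIdeal B := by
      rw [← comap_right_of_isMaximal R B C M₁]
      exact h1
    have h3 : (1 : C) ⊗ₜ[R] b ∈ M₂ := by
      rw [← comap_right_of_isMaximal R B C M₂] at h2
      exact h2
    have := Ideal.add_mem _ (tensorJ_le_of_isMaximal R B C M₂ hb) h3
    rwa [sub_add_cancel] at this
  exact IsLocalRing.of_unique_max_ideal
    ⟨M₀, hM₀, fun M hM => le_antisymm (key M M₀ hM hM₀) (key M₀ M hM₀ hM)⟩

end LocalTensor

end Groth.Agent.Lib.Helper3
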