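import Groth.Prelude.Def_EtAcyc
import Groth.Agent.S3047
import Mathlib.AlgebraicGeometry.Morphisms.QuasiSeparated

set_option autoImplicit false
set_option backward.isDefEq.respectTransparency false
set_option linter.unusedSectionVars false
set_option linter.style.haveILetI false

universe u
open CategoryTheory CategoryTheory.Limits AlgebraicGeometry Opposite

namespace Groth.Agent.Lib.Helper3.MinusOneAcyclic

/-- if a prime is not in the image of `Spec A → Spec R`, some `f ∉ p` lies in every prime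
in the image that contains `p`. -/
lemma exists_notMem_of_notMem_range {R A : Type u} [CommRing R] [CommRing A] (φ : R →+* A)
    (p : PrimeSpectrum R) (hp : p ∉ Set.range (PrimeSpectrum.comap φ)) :
    ∃ f : R, f ∉ p.asIdeal ∧ ∀ Q : PrimeSpectrum A, p ≤ PrimeSpectrum.comap φ Q →
      f ∈ (PrimeSpectrum.comap φ Q).asIdeal := by
  rw [PrimeSpectrum.mem_range_comap_iff] at hp
  have hle : p.asIdeal ≤ (p.asIdeal.map φ).comap φ := Ideal.le_comap_map
  have : ¬ ((p.asIdeal.map φ).comap φ ≤ p.asIdeal) := fun h => hp (le_antisymm h hle)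
  obtain ⟨f, hf1, hf2⟩ := Set.not_subset.1 this
  refine ⟨f, hf2, ?_⟩
  intro Q hQ
  change φ f ∈ Q.asIdeal
  have h1 : p.asIdeal.map φ ≤ Q.asIdeal := by
    rw [Ideal.map_le_iff_le_comap]
    exact hQ
  exact h1 hf1

/-- For a quasi-compact morphism `g` and a point `y` outside its image there is an open neighbourhood
`U` of `y` such that no point of `U` in the image of `g` is a specialization of `y`. -/
lemma exists_open_nbhd {X Y : Scheme.{u}} (g : X ⟶ Y) [QuasiCompact g] (y : Y)
    (hy : y ∉ Set.range g.base) :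
    ∃ U : Y.Opens, y ∈ U ∧ ∀ x : X, g.base x ∈ U → ¬ (y ⤳ g.base x) := by
  obtain ⟨_, ⟨U0, hU0 : IsAffineOpen U0, rfl⟩, hyU0, -⟩ :=
    (Y.isBasis_affineOpens).exists_subset_of_mem_open (Set.mem_univ y) isOpen_univ
  have hc : IsCompact ((g ⁻¹ᵁ U0 : X.Opens) : Set X) :=
    QuasiCompact.isCompact_preimage (f := g) _ U0.isOpen hU0.isCompact
  obtain ⟨A, h, hh⟩ := isCompact_iff_exists.1 hc
  let ι0 : Spec Γ(Y, U0) ⟶ Y := hU0.fromSpec
  have hrange : Set.range ι0.base = (U0 : Set Y) := hU0.range_fromSpec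
  have hsub : Set.range (h ≫ g).base ⊆ Set.range ι0.base := by
    rw [hrange]
    rintro _ ⟨a, rfl⟩
    have : h.base a ∈ ((g ⁻¹ᵁ U0 : X.Opens) : Set X) := by rw [← hh]; exact ⟨a, rfl⟩
    exact this
  let k : Spec A ⟶ Spec Γ(Y, U0) := IsOpenImmersion.lift ι0 (h ≫ g) hsub
  have hk : k ≫ ι0 = h ≫ g := IsOpenImmersion.lift_fac _ _ _
  obtain ⟨φ, hφ⟩ : ∃ φ : Γ(Y, U0) ⟶ A, Spec.map φ = k := ⟨Spec.preimage k, Spec.map_preimage k⟩
  obtain ⟨p, hp⟩ : ∃ p : Spec Γ(Y, U0), ι0.base p = y := by
    have : y ∈ Set.range ι0.base := by rw [hrange]; exact hyU0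
    exact this
  have hpk : p ∉ Set.range (PrimeSpectrum.comap φ.hom) := by
    rintro ⟨a, ha⟩
    apply hy
    refine ⟨h.base a, ?_⟩
    have h1 : k.base a = p := by rw [← hφ]; exact ha
    have h2 : (k ≫ ι0).base a = (h ≫ g).base a := by rw [hk]
    calc g.base (h.base a) = (h ≫ g).base a := rfl
      _ = (k ≫ ι0).base a := h2.symm
      _ = ι0.base (k.base a) := rfl
      _ = y := by rw [h1, hp]
  obtain ⟨f, hf1, hf2⟩ := exists_notMem_of_notMem_range φ.hom p hpk
  refine ⟨ι0 ''ᵁ (PrimeSpectrum.basicOpen f), ⟨p, hf1, hp⟩, ?_⟩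
  rintro x ⟨q, hq1, hq2⟩ hsp
  have hxU0 : g.base x ∈ (U0 : Set Y) := by rw [← hrange, ← hq2]; exact ⟨q, rfl⟩
  have hx : x ∈ Set.range h.base := by rw [hh]; exact hxU0
  obtain ⟨a, rfl⟩ := hx
  have h2 : (k ≫ ι0).base a = (h ≫ g).base a := by rw [hk]
  have h3 : ι0.base (k.base a) = g.base (h.base a) := h2
  have hinj : Function.Injective ι0.base := ι0.isOpenEmbedding.injective
  have hq : q = k.base a := hinj (hq2.trans h3.symm)
  have hsp' : p ⤳ k.base a := by
    rw [← ι0.isOpenEmbedding.isInducing.specializes_iff, hp, h3]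
    exact hsp
  let p' : PrimeSpectrum Γ(Y, U0) := p
  let a' : PrimeSpectrum A := a
  have hka : k.base a = PrimeSpectrum.comap φ.hom a' := by rw [← hφ]; rfl
  have hle : p' ≤ PrimeSpectrum.comap φ.hom a' := by
    rw [PrimeSpectrum.le_iff_specializes, ← hka]
    exact hsp'
  have hmem := hf2 a' hle
  apply hq1
  rw [hq, hka]
  exact hmem


section FunSheaf

open Groth.Agent.Lib.Helper43

variable (Z : Scheme.{u})

/-- the presheaf of all `Bool`-valued functions on the underlying point sets. -/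
noncomputable def funPsh : (Z.Etale)ᵒᵖ ⥤ Type (u + 1) where
  obj W := ULift.{u + 1} (W.unop.left → Bool)
  map {W W'} h := TypeCat.ofHom (fun s => ULift.up (fun w => s.down (h.unop.left.base w)))
  map_id W := by
    ext s
    rfl
  map_comp f g := by
    ext s
    rfl

lemma funPsh_map_down {W W' : Z.Etale} (h : W' ⟶ W) (s : (funPsh Z).obj (op W)) (w : W'.left) :
    ((funPsh Z).map h.op s).down w = s.down (h.left.base w) := rfl

lemma funPsh_ext {W : Z.Etale} (s t : (funPsh Z).obj (op W)) (h : ∀ w, s.down w = t.down w) :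
    s = t := by
  cases s; cases t
  congr 1
  funext w
  exact h w

lemma exists_common {W T1 T2 : Z.Etale} (f1 : T1 ⟶ W) (f2 : T2 ⟶ W) (y1 : T1.left) (y2 : T2.left)
    (hy : f1.left.base y1 = f2.left.base y2) :
    ∃ (T3 : Z.Etale) (a : T3 ⟶ T1) (b : T3 ⟶ T2) (z : T3.left),
      a ≫ f1 = b ≫ f2 ∧ a.left.base z = y1 ∧ b.left.base z = y2 := by
  obtain ⟨z, hz1, hz2⟩ :=
    Scheme.Pullback.exists_preimage_pullback (f := f1.left) (g := f2.left) y1 y2 hy
  let T3 : Z.Etale := Scheme.Etale.mk (pullback.fst f1.left f2.left ≫ T1.hom)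
  let a : T3 ⟶ T1 := MorphismProperty.Over.homMk (pullback.fst f1.left f2.left) rfl
  have hb : pullback.snd f1.left f2.left ≫ T2.hom = pullback.fst f1.left f2.left ≫ T1.hom := by
    have h1 : f1.left ≫ W.hom = T1.hom := MorphismProperty.Over.w f1
    have h2 : f2.left ≫ W.hom = T2.hom := MorphismProperty.Over.w f2
    rw [← h1, ← h2, ← Category.assoc, ← Category.assoc, pullback.condition]
  let b : T3 ⟶ T2 := MorphismProperty.Over.homMk (pullback.snd f1.left f2.left) hb
  refine ⟨T3, a, b, z, ?_, hz1, hz2⟩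
  apply MorphismProperty.Over.Hom.ext
  exact pullback.condition

lemma isSheaf_funPsh : Presieve.IsSheaf Z.smallEtaleTopology (funPsh Z) := by
  intro W S hS
  rw [EtOpenSub.mem_smallEtaleTopology_iff'] at hS
  intro x hx
  choose T f y hf hy using hS
  have key : ∀ {T1 T2 : Z.Etale} (f1 : T1 ⟶ W) (f2 : T2 ⟶ W) (h1 : S f1) (h2 : S f2)
      (y1 : T1.left) (y2 : T2.left), f1.left.base y1 = f2.left.base y2 →
      (x f1 h1).down y1 = (x f2 h2).down y2 := by
    intro T1 T2 f1 f2 h1 h2 y1 y2 h12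
    obtain ⟨T3, a, b, z, hab, hz1, hz2⟩ := exists_common Z f1 f2 y1 y2 h12
    have hc := hx a b h1 h2 hab
    have := congrArg (fun s : (funPsh Z).obj (op T3) => s.down z) hc
    simp only [funPsh_map_down] at this
    rw [hz1, hz2] at this
    exact this
  refine ⟨ULift.up (fun w => (x (f w) (hf w)).down (y w)), ?_, ?_⟩
  · intro T1 f1 h1
    apply funPsh_ext
    intro w
    rw [funPsh_map_down]
    exact key (f _) f1 (hf _) h1 _ _ (hy _)
  · intro t ht
    apply funPsh_ext
    intro w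
    have h1 := ht (f w) (hf w)
    have := congrArg (fun s : (funPsh Z).obj (op (T w)) => s.down (y w)) h1
    simp only [funPsh_map_down] at this
    rw [hy] at this
    exact this

/-- the sheaf of all `Bool`-valued functions. -/
noncomputable def funSh : EtDesc.Sh Z :=
  ⟨funPsh Z, (isSheaf_iff_isSheaf_of_type _ _).2 (isSheaf_funPsh Z)⟩

end FunSheaf


section Main

open Groth.Agent.Lib.Helper43

/-- a section of `G.map w` when the base change lands in the open `W0`. -/
lemma exists_section_bc {T Z : Scheme.{u}} (g' : T ⟶ Z) (W0 : Z.Opens)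
    (h : ∀ t : T, g'.base t ∈ W0) :
    ∃ k : (EtCoh.bc g').obj (EtCoh.top Z) ⟶ (EtCoh.bc g').obj (Scheme.Etale.mk W0.ι),
      k ≫ (EtCoh.bc g').map (MorphismProperty.Over.homMk W0.ι (Category.comp_id _) :
        Scheme.Etale.mk W0.ι ⟶ EtCoh.top Z) = 𝟙 _ := by
  let w : Scheme.Etale.mk W0.ι ⟶ EtCoh.top Z := MorphismProperty.Over.homMk W0.ι (Category.comp_id _)
  have sq := EtCoh.isPullback_bc_map g' w
  let p1 : ((EtCoh.bc g').obj (EtCoh.top Z)).left ⟶ Z := pullback.fst (EtCoh.top Z).hom g'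
  have hr : Set.range p1.base ⊆ Set.range W0.ι.base := by
    rintro _ ⟨t, rfl⟩
    rw [Scheme.Opens.range_ι]
    have hc : p1 ≫ (EtCoh.top Z).hom = pullback.snd (EtCoh.top Z).hom g' ≫ g' := pullback.condition
    have h1 : p1 ≫ (EtCoh.top Z).hom = p1 := Category.comp_id _
    rw [h1] at hc
    rw [hc]
    exact h _
  let l : ((EtCoh.bc g').obj (EtCoh.top Z)).left ⟶ (W0 : Scheme.{u}) := IsOpenImmersion.lift W0.ι p1 hr
  have hl : l ≫ W0.ι = p1 := IsOpenImmersion.lift_fac _ _ _
  let kl := sq.lift (𝟙 _) l (by rw [Category.id_comp]; exact hl.symm)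
  have hkl : kl ≫ ((EtCoh.bc g').map w).left = 𝟙 _ := sq.lift_fst _ _ _
  have hw : ((EtCoh.bc g').map w).left ≫ ((EtCoh.bc g').obj (EtCoh.top Z)).hom =
      ((EtCoh.bc g').obj (Scheme.Etale.mk W0.ι)).hom := MorphismProperty.Over.w _
  refine ⟨MorphismProperty.Over.homMk kl ?_, ?_⟩
  · rw [← hw, ← Category.assoc, hkl, Category.id_comp]
  · apply MorphismProperty.Over.Hom.ext
    exact hkl

variable {X Y : Scheme.{u}} (g : X ⟶ Y)

theorem surjective_of_minusOne [QuasiCompact g] (hg : EtAcyc.IsMinusOneAcyclic g) :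
    Function.Surjective g.base := by
  by_contra hns
  rw [Function.Surjective] at hns
  push Not at hns
  obtain ⟨y, hy⟩ := hns
  have hy' : y ∉ Set.range g.base := by
    rintro ⟨x, hx⟩
    exact hy x hx
  obtain ⟨U, hyU, hU⟩ := exists_open_nbhd g y hy'
  let V : Y.Etale := Scheme.Etale.mk U.ι
  let Z : Scheme.{u} := V.left
  let g' : pullback V.hom g ⟶ Z := EtAcyc.prj g V
  let F : EtDesc.Sh Z := funSh Z
  have hmono : Mono ((EtDesc.adjSh g').unit.app F) := hg V F
  let y0 : Z := ⟨y, hyU⟩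
  let W0 : Z.Opens := ⟨(closure {y0})ᶜ, isClosed_closure.isOpen_compl⟩
  have hA : ∀ t : (pullback V.hom g : Scheme.{u}), g'.base t ∈ W0 := by
    intro t hcl
    have hsp : y0 ⤳ g'.base t := specializes_iff_mem_closure.2 hcl
    have hsp2 : U.ι.base y0 ⤳ U.ι.base (g'.base t) := hsp.map U.ι.continuous
    have hc : (g' ≫ V.hom).base t = ((pullback.snd V.hom g) ≫ g).base t :=
      congrArg (fun m : pullback V.hom g ⟶ Y => m.base t) pullback.condition
    have hc' : U.ι.base (g'.base t) = g.base ((pullback.snd V.hom g).base t) := hc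
    have hmem : g.base ((pullback.snd V.hom g).base t) ∈ U := by
      rw [← hc']
      exact (g'.base t).2
    apply hU _ hmem
    rw [← hc']
    exact hsp2
  classical
  let s0 : F.obj.obj (op (EtCoh.top Z)) := ULift.up (fun _ => false)
  let s1 : F.obj.obj (op (EtCoh.top Z)) := ULift.up (fun w => decide (w = y0))
  let w : Scheme.Etale.mk W0.ι ⟶ EtCoh.top Z := MorphismProperty.Over.homMk W0.ι (Category.comp_id _)
  have hres : F.obj.map w.op s0 = F.obj.map w.op s1 := by
    apply funPsh_ext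
    intro w'
    change false = decide (W0.ι.base w' = y0)
    have : W0.ι.base w' ≠ y0 := by
      intro h
      have h1 : W0.ι.base w' ∈ (W0 : Set Z) := w'.2
      rw [h] at h1
      exact h1 (subset_closure rfl)
    exact (decide_eq_false this).symm
  obtain ⟨k, hk⟩ := exists_section_bc g' W0 hA
  let G := EtCoh.bc g'
  let P := G.op.lan.obj F.obj
  let α := G.op.lanUnit.app F.obj
  have hα : ∀ s, α.app (op (EtCoh.top Z)) s =
      P.map k.op (α.app (op (Scheme.Etale.mk W0.ι)) (F.obj.map w.op s)) := by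
    intro s
    have hn' : α.app (op (Scheme.Etale.mk W0.ι)) (F.obj.map w.op s) =
        P.map (G.map w).op (α.app (op (EtCoh.top Z)) s) :=
      NatTrans.naturality_apply α w.op s
    rw [hn']
    have h2 : P.map k.op (P.map (G.map w).op (α.app (op (EtCoh.top Z)) s)) =
        P.map (k ≫ G.map w).op (α.app (op (EtCoh.top Z)) s) := by
      rw [op_comp, P.map_comp]
      rfl
    rw [h2, hk]
    have h3 : P.map (𝟙 (G.obj (EtCoh.top Z))).op = 𝟙 _ := by
      rw [op_id, P.map_id]
    rw [h3]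
    rfl
  have hαeq : α.app (op (EtCoh.top Z)) s0 = α.app (op (EtCoh.top Z)) s1 := by
    rw [hα s0, hα s1, hres]
  let adj₁ := EtDesc.adjSh g'
  let adj₂ := Functor.sheafPullbackConstruction.sheafAdjunctionContinuous (EtCoh.bc g')
    (Type (u + 1)) Z.smallEtaleTopology (pullback V.hom g).smallEtaleTopology
  have hfac : adj₁.unit.app F ≫ (EtDesc.pushSh g').map ((Adjunction.leftAdjointUniq adj₁ adj₂).hom.app F) =
      adj₂.unit.app F := Adjunction.unit_leftAdjointUniq_hom_app adj₁ adj₂ F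
  have hm2 : Mono (adj₂.unit.app F) := by
    rw [← hfac]
    infer_instance
  have hm3 : Mono (adj₂.unit.app F).hom := (Sheaf.Hom.mono_iff_presheaf_mono _ _ _).1 hm2
  have hm4 : Mono ((adj₂.unit.app F).hom.app (op (EtCoh.top Z))) := inferInstance
  rw [mono_iff_injective] at hm4
  have h1 := Groth.Agent.S3047.constr_unit_hom g' F
  have e0 := congrArg (fun (β : F.obj ⟶ _) => β.app (op (EtCoh.top Z)) s0) h1
  have e1 := congrArg (fun (β : F.obj ⟶ _) => β.app (op (EtCoh.top Z)) s1) h1
  have heq : (adj₂.unit.app F).hom.app (op (EtCoh.top Z)) s0 =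
      (adj₂.unit.app F).hom.app (op (EtCoh.top Z)) s1 := by
    refine e0.trans (Eq.trans ?_ e1.symm)
    change (toSheafify _ P).app _ (α.app (op (EtCoh.top Z)) s0) =
      (toSheafify _ P).app _ (α.app (op (EtCoh.top Z)) s1)
    rw [hαeq]
  have hs01 : s0 = s1 := hm4 heq
  have := congrArg (fun s : (funPsh Z).obj (op (EtCoh.top Z)) => s.down y0) hs01
  simp [s0, s1] at this

end Main

end Groth.Agent.Lib.Helper3.MinusOneAcyclic
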