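import Mathlib

/-!
# Neighbourhoods of `V(J)` in `Spec R`

* `exists_basicOpen_subset_of_zeroLocus_subset` : if `V(J) ⊆ U` with `U` open, there is `g` with
  `1 - g ∈ J` and `D(g) ⊆ U`.
* `quotientMap_away_bijective_of_one_sub_mem` : if `1 - g ∈ J` then `R/J → R_g/J R_g` is bijective.
* `isOpen_setOf_quasiFiniteAt` : the quasi-finite locus of a finite type algebra is open.
* `quasiFinite_away_of_basicOpen_subset` : if every prime of `D(g)` is quasi-finite then
  `R_g` is quasi-finite.
-/

namespace Groth.Agent.Lib.Helper3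

open PrimeSpectrum

theorem exists_basicOpen_subset_of_zeroLocus_subset {R : Type*} [CommRing R] (J : Ideal R)
    (U : Set (PrimeSpectrum R)) (hU : IsOpen U) (h : zeroLocus (J : Set R) ⊆ U) :
    ∃ g : R, 1 - g ∈ J ∧ (↑(basicOpen g) : Set (PrimeSpectrum R)) ⊆ U := by
  obtain ⟨K, hK⟩ := (isClosed_iff_zeroLocus_ideal _).mp hU.isClosed_compl
  have hJK : J ⊔ K = ⊤ := by
    rw [← zeroLocus_empty_iff_eq_top, zeroLocus_sup, ← hK]
    rw [Set.eq_empty_iff_forall_notMem]
    rintro x ⟨hx1, hx2⟩
    exact hx2 (h hx1)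
  obtain ⟨j, hj, k, hk, hjk⟩ := Submodule.mem_sup.mp (hJK ▸ Submodule.mem_top : (1 : R) ∈ J ⊔ K)
  refine ⟨k, ?_, ?_⟩
  · have : 1 - k = j := by rw [← hjk]; ring
    rw [this]; exact hj
  · intro x hx
    by_contra hxU
    have hxK : x ∈ zeroLocus (K : Set R) := by rw [← hK]; exact hxU
    exact hx (hxK hk)

theorem quotientMap_away_bijective_of_one_sub_mem {R : Type*} [CommRing R] (J : Ideal R) (g : R)
    (hg : 1 - g ∈ J) (T : Type*) [CommRing T] [Algebra R T] [IsLocalization.Away g T] :
    Function.Bijective (Ideal.quotientMap (J.map (algebraMap R T)) (algebraMap R T)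
      Ideal.le_comap_map) := by
  have hpow : ∀ n : ℕ, 1 - g ^ n ∈ J := by
    intro n
    induction n with
    | zero => simp
    | succ n ih =>
      have : 1 - g ^ (n + 1) = (1 - g ^ n) + g ^ n * (1 - g) := by ring
      rw [this]
      exact J.add_mem ih (J.mul_mem_left _ hg)
  constructor
  · rw [injective_iff_map_eq_zero]
    intro x hx
    obtain ⟨r, rfl⟩ := Ideal.Quotient.mk_surjective x
    rw [Ideal.quotientMap_mk, Ideal.Quotient.eq_zero_iff_mem] at hx
    rw [Ideal.Quotient.eq_zero_iff_mem]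
    rw [IsLocalization.algebraMap_mem_map_algebraMap_iff (Submonoid.powers g)] at hx
    obtain ⟨m, ⟨n, rfl⟩, hm⟩ := hx
    have : r = g ^ n * r + (1 - g ^ n) * r := by ring
    rw [this]
    exact J.add_mem hm (J.mul_mem_right _ (hpow n))
  · intro y
    obtain ⟨t, rfl⟩ := Ideal.Quotient.mk_surjective y
    obtain ⟨r, ⟨_, n, rfl⟩, rfl⟩ := IsLocalization.exists_mk'_eq (Submonoid.powers g) t
    refine ⟨Ideal.Quotient.mk _ r, ?_⟩
    rw [Ideal.quotientMap_mk, Ideal.Quotient.eq]
    set s : Submonoid.powers g := ⟨g ^ n, n, rfl⟩ with hs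
    have h1 : algebraMap R T r - IsLocalization.mk' T r s =
        - (algebraMap R T (1 - g ^ n) * IsLocalization.mk' T r s) := by
      have h2 : IsLocalization.mk' T r s * algebraMap R T (g ^ n) =
          algebraMap R T r := IsLocalization.mk'_spec T r s
      rw [map_sub, map_one, sub_mul, one_mul, mul_comm (algebraMap R T (g ^ n)), h2]
      ring
    rw [h1]
    exact neg_mem (Ideal.mul_mem_right _ _ (Ideal.mem_map_of_mem _ (hpow n)))

end Groth.Agent.Lib.Helper3
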