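import Groth.Agent.Lib.Helper3.StrictHensSection
import Mathlib.AlgebraicGeometry.SpreadingOut
import Mathlib.AlgebraicGeometry.Morphisms.FlatMono
import Mathlib.AlgebraicGeometry.Morphisms.Separated
import Mathlib.AlgebraicGeometry.Morphisms.FormallyUnramified
import Mathlib.AlgebraicGeometry.ResidueField

/-!
# Étale schemes over schemes with strictly henselian local rings (helper3)

* `exists_opens_isOpenImmersion_of_henselian_stalk`: if `g : U ⟶ X` is étale, the local ring of
  `X` at `g u` is strictly henselian and `X` is germ-injective at `g u`, then `g` is an open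
  immersion on an open neighbourhood of `u`.
* `eq_of_isOpenImmersion_of_mem_inf`: separatedness argument.
* `exists_sigma_opens_iso`: a separated étale scheme over an integral scheme which is locally on
  the source an open immersion is a disjoint union of opens.
-/

set_option autoImplicit false
set_option linter.unusedSectionVars false
set_option linter.style.haveILetI false

universe u

open CategoryTheory CategoryTheory.Limits AlgebraicGeometry Opposite IsLocalRing

namespace Groth.Agent.Lib.Helper3.NormalSepClosedEtale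

/-- The residue field extension of an étale morphism at a point over a point with separably closed
residue field is trivial. -/
theorem residueFieldMap_bijective {U X : Scheme.{u}} (g : U ⟶ X) [Etale g] (u : U)
    [IsSepClosed (X.residueField (g u))] :
    Function.Bijective (g.residueFieldMap u).hom := by
  letI : Algebra (X.residueField (g u)) (U.residueField u) := (g.residueFieldMap u).hom.toAlgebra
  haveI : Algebra.IsSeparable (X.residueField (g u)) (U.residueField u) := inferInstance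
  refine ⟨(g.residueFieldMap u).hom.injective, ?_⟩
  exact IsSepClosed.algebraMap_surjective (X.residueField (g u)) (U.residueField u)

/-- If the local ring of `X` at `g u` is strictly henselian (and `X` is germ-injective there), an
étale morphism `g : U ⟶ X` restricts to an open immersion on an open neighbourhood of `u`. -/
theorem exists_opens_isOpenImmersion_of_henselian_stalk {U X : Scheme.{u}} (g : U ⟶ X) [Etale g]
    (u : U) [HenselianLocalRing (X.presheaf.stalk (g u))]
    [IsSepClosed (X.residueField (g u))] [X.IsGermInjectiveAt (g u)] :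
    ∃ W : U.Opens, u ∈ W ∧ IsOpenImmersion (W.ι ≫ g) := by
  -- the residue field isomorphism
  have hbij := residueFieldMap_bijective g u
  let eκ : X.residueField (g u) ≃+* U.residueField u := RingEquiv.ofBijective _ hbij
  let ψinv : U.residueField u ⟶ X.residueField (g u) := CommRingCat.ofHom eκ.symm.toRingHom
  have hψ : g.residueFieldMap u ≫ ψinv = 𝟙 _ := by
    ext a
    exact eκ.symm_apply_apply a
  -- the base change to the local ring
  let gY := pullback.snd g (X.fromSpecStalk (g u))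
  have hcompat : (Spec.map ψinv ≫ U.fromSpecResidueField u) ≫ g =
      Spec.map (X.residue (g u)) ≫ X.fromSpecStalk (g u) := by
    rw [Category.assoc, ← Scheme.Hom.SpecMap_residueFieldMap_fromSpecResidueField,
      ← Spec.map_comp_assoc, hψ, Spec.map_id, Category.id_comp]
    rfl
  let y : Spec (X.residueField (g u)) ⟶ pullback g (X.fromSpecStalk (g u)) :=
    pullback.lift (Spec.map ψinv ≫ U.fromSpecResidueField u) (Spec.map (X.residue (g u))) hcompat
  have hy : y ≫ gY = Spec.map (X.residue (g u)) := pullback.lift_snd _ _ _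
  have hHens : HenselianLocalRing (X.presheaf.stalk (g u)) := inferInstance
  obtain ⟨σ, hσ1, hσ2⟩ := @StrictHensSection.exists_section_of_etale_of_henselian
    (X.presheaf.stalk (g u)) _ hHens _ gY inferInstance y hy
  let φ : Spec (X.presheaf.stalk (g u)) ⟶ U := σ ≫ pullback.fst g (X.fromSpecStalk (g u))
  have hφ : φ ≫ g = X.fromSpecStalk (g u) ≫ 𝟙 X := by
    rw [Category.comp_id, Category.assoc, pullback.condition, ← Category.assoc]
    change (σ ≫ gY) ≫ _ = _
    rw [hσ1]
    exact Category.id_comp _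
  obtain ⟨O, hxO, s, hφs, hs⟩ := spread_out_of_isGermInjective' (𝟙 X) g φ hφ
  rw [Category.comp_id] at hs
  -- `s` is an open immersion
  haveI : Etale (s ≫ g) := by rw [hs]; infer_instance
  haveI : Etale s := Etale.of_comp s g
  haveI : Mono (s ≫ g) := by rw [hs]; infer_instance
  haveI : Mono s := mono_of_mono s g
  haveI : IsOpenImmersion s := IsOpenImmersion.of_flat_of_mono s
  refine ⟨s.opensRange, ?_, ?_⟩
  · -- `u = s (g u)`
    have h1 : φ (closedPoint (X.presheaf.stalk (g u))) = u := by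
      have h2 : Spec.map (X.residue (g u)) ≫ φ = Spec.map ψinv ≫ U.fromSpecResidueField u := by
        change Spec.map (X.residue (g u)) ≫ σ ≫ _ = _
        rw [← Category.assoc]
        change (Spec.map (CommRingCat.ofHom (IsLocalRing.residue _)) ≫ σ) ≫ _ = _
        rw [hσ2]
        exact pullback.lift_fst _ _ _
      have h3 : Spec.map (X.residue (g u)) (default : Spec (X.residueField (g u))) =
          closedPoint (X.presheaf.stalk (g u)) := Scheme.SpecMap_residue_apply _ _
      rw [← h3, ← Scheme.Hom.comp_apply, h2, Scheme.Hom.comp_apply,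
        Scheme.fromSpecResidueField_apply]
    rw [hφs] at h1
    exact ⟨_, h1⟩
  · have : s.opensRange.ι ≫ g = (s.isoOpensRange).inv ≫ O.ι := by
      rw [← hs, ← Category.assoc]
      congr 1
      rw [Iso.eq_inv_comp]
      exact s.isoOpensRange_hom_ι
    rw [this]
    infer_instance

/-- Separatedness argument: if `g : U ⟶ X` is unramified and separated over an integral scheme,
`W, W'` are opens of `U` on which `g` is an open immersion and which meet, then two points
`u ∈ W`, `u' ∈ W'` with the same image are equal. -/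
theorem eq_of_isOpenImmersion_of_mem_inf {U X : Scheme.{u}} [IsIntegral X] (g : U ⟶ X)
    [FormallyUnramified g] [LocallyOfFiniteType g] [IsSeparated g]
    (W W' : U.Opens) [IsOpenImmersion (W.ι ≫ g)] [IsOpenImmersion (W'.ι ≫ g)]
    (ξ : U) (hξ : ξ ∈ W) (hξ' : ξ ∈ W') (u u' : U) (hu : u ∈ W) (hu' : u' ∈ W')
    (h : g u = g u') : u = u' := by
  let P := pullback (W.ι ≫ g) (W'.ι ≫ g)
  let j : P ⟶ X := pullback.fst (W.ι ≫ g) (W'.ι ≫ g) ≫ W.ι ≫ g
  haveI : IsOpenImmersion j := inferInstance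
  -- the "diagonal" of `W ⊓ W'`
  let d : (W ⊓ W').toScheme ⟶ P :=
    pullback.lift (U.homOfLE inf_le_left) (U.homOfLE inf_le_right) (by simp)
  let m : P ⟶ pullback g g :=
    pullback.map (W.ι ≫ g) (W'.ι ≫ g) g g W.ι W'.ι (𝟙 X) (by simp) (by simp)
  have hm1 : m ≫ pullback.fst g g = pullback.fst (W.ι ≫ g) (W'.ι ≫ g) ≫ W.ι :=
    pullback.lift_fst _ _ _
  have hm2 : m ≫ pullback.snd g g = pullback.snd (W.ι ≫ g) (W'.ι ≫ g) ≫ W'.ι :=
    pullback.lift_snd _ _ _
  have hd1 : d ≫ pullback.fst (W.ι ≫ g) (W'.ι ≫ g) = U.homOfLE inf_le_left :=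
    pullback.lift_fst _ _ _
  have hd2 : d ≫ pullback.snd (W.ι ≫ g) (W'.ι ≫ g) = U.homOfLE inf_le_right :=
    pullback.lift_snd _ _ _
  have hd : d ≫ m = (W ⊓ W').ι ≫ pullback.diagonal g := by
    apply pullback.hom_ext
    · rw [Category.assoc, hm1, ← Category.assoc, hd1, Category.assoc, pullback.diagonal_fst,
        Category.comp_id, Scheme.homOfLE_ι]
    · rw [Category.assoc, hm2, ← Category.assoc, hd2, Category.assoc, pullback.diagonal_snd,
        Category.comp_id, Scheme.homOfLE_ι]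
  let ξ₀ : (W ⊓ W').toScheme := ⟨ξ, hξ, hξ'⟩
  haveI : Nonempty P := ⟨d ξ₀⟩
  haveI : IsIntegral P := isIntegral_of_isOpenImmersion j
  haveI : IsClosedImmersion (pullback.diagonal g) := IsSeparated.diagonal_isClosedImmersion
  have hclopen : IsClopen (Set.range (pullback.diagonal g)) :=
    ⟨(pullback.diagonal g).isClosedEmbedding.isClosed_range,
      (pullback.diagonal g).isOpenEmbedding.isOpen_range⟩
  have hC : IsClopen (m ⁻¹' Set.range (pullback.diagonal g)) := hclopen.preimage m.continuous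
  have hne : (m ⁻¹' Set.range (pullback.diagonal g)).Nonempty := by
    refine ⟨d ξ₀, ?_⟩
    rw [Set.mem_preimage, ← Scheme.Hom.comp_apply, hd, Scheme.Hom.comp_apply]
    exact ⟨_, rfl⟩
  have huniv := hC.eq_univ hne
  have h' : (W.ι ≫ g) ⟨u, hu⟩ = (W'.ι ≫ g) ⟨u', hu'⟩ := by
    simpa using h
  obtain ⟨z, hz1, hz2⟩ := Scheme.Pullback.exists_preimage_pullback
    (f := W.ι ≫ g) (g := W'.ι ≫ g) ⟨u, hu⟩ ⟨u', hu'⟩ h'
  have hz : m z ∈ Set.range (pullback.diagonal g) := by
    have : z ∈ m ⁻¹' Set.range (pullback.diagonal g) := by rw [huniv]; trivial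
    exact this
  obtain ⟨t, ht⟩ := hz
  have h1 : pullback.fst g g (m z) = u := by
    rw [← Scheme.Hom.comp_apply]
    have : m ≫ pullback.fst g g = pullback.fst (W.ι ≫ g) (W'.ι ≫ g) ≫ W.ι :=
      pullback.lift_fst _ _ _
    rw [this, Scheme.Hom.comp_apply, hz1]
    rfl
  have h2 : pullback.snd g g (m z) = u' := by
    rw [← Scheme.Hom.comp_apply]
    have : m ≫ pullback.snd g g = pullback.snd (W.ι ≫ g) (W'.ι ≫ g) ≫ W'.ι :=
      pullback.lift_snd _ _ _
    rw [this, Scheme.Hom.comp_apply, hz2]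
    rfl
  have h3 : pullback.fst g g (pullback.diagonal g t) = t := by
    rw [← Scheme.Hom.comp_apply, pullback.diagonal_fst]
    rfl
  have h4 : pullback.snd g g (pullback.diagonal g t) = t := by
    rw [← Scheme.Hom.comp_apply, pullback.diagonal_snd]
    rfl
  rw [← h1, ← h2, ← ht, h3, h4]

/-- If `g` restricts to an open immersion on an open containing `u`, the stalk map of `g` at `u`
is an isomorphism. -/
theorem isIso_stalkMap_of_isOpenImmersion_ι_comp {U X : Scheme.{u}} (g : U ⟶ X) (W : U.Opens)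
    [IsOpenImmersion (W.ι ≫ g)] (u : U) (hu : u ∈ W) : IsIso (g.stalkMap u) := by
  have h1 : (W.ι ≫ g).stalkMap ⟨u, hu⟩ = g.stalkMap (W.ι ⟨u, hu⟩) ≫ W.ι.stalkMap ⟨u, hu⟩ :=
    Scheme.Hom.stalkMap_comp _ _ _
  have h0 : IsIso ((W.ι ≫ g).stalkMap ⟨u, hu⟩) :=
    (IsOpenImmersion.iff_isIso_stalkMap.mp ‹IsOpenImmersion (W.ι ≫ g)›).2 _
  have h2 : IsIso (g.stalkMap (W.ι ⟨u, hu⟩) ≫ W.ι.stalkMap ⟨u, hu⟩) := by
    rw [← h1]; exact h0
  have h3 : IsIso (W.ι.stalkMap ⟨u, hu⟩) :=
    (IsOpenImmersion.iff_isIso_stalkMap.mp (inferInstance : IsOpenImmersion W.ι)).2 _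
  exact IsIso.of_isIso_comp_right (g.stalkMap (W.ι ⟨u, hu⟩)) (W.ι.stalkMap ⟨u, hu⟩)

/-- **A separated étale scheme over an integral scheme which is locally on the source an open
immersion is a disjoint union of open subschemes of the base.** -/
theorem exists_sigma_opens_iso {U X : Scheme.{u}} [IsIntegral X] (g : U ⟶ X) [Etale g]
    [IsSeparated g]
    (hloc : ∀ u : U, ∃ W : U.Opens, u ∈ W ∧ IsOpenImmersion (W.ι ≫ g)) :
    ∃ (ι : Type u) (V : ι → X.Opens) (e : (∐ fun i => (V i : Scheme.{u})) ≅ U),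
      ∀ i, Sigma.ι (fun i => (V i : Scheme.{u})) i ≫ e.hom ≫ g = (V i).ι := by
  classical
  let η : X := genericPoint X
  let ι := {ξ : U // g ξ = η}
  let Comp : ι → U.Opens := fun ξ => sSup {W : U.Opens | IsOpenImmersion (W.ι ≫ g) ∧ ξ.1 ∈ W}
  have mem_Comp : ∀ (ξ : ι) (u : U), u ∈ Comp ξ ↔
      ∃ W : U.Opens, IsOpenImmersion (W.ι ≫ g) ∧ ξ.1 ∈ W ∧ u ∈ W := by
    intro ξ u
    simp only [Comp, TopologicalSpace.Opens.mem_sSup, Set.mem_ofPred_eq]
    constructor
    · rintro ⟨W, ⟨h1, h2⟩, h3⟩; exact ⟨W, h1, h2, h3⟩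
    · rintro ⟨W, h1, h2, h3⟩; exact ⟨W, ⟨h1, h2⟩, h3⟩
  -- generic points of good opens
  have hgen : ∀ (W : U.Opens), IsOpenImmersion (W.ι ≫ g) → ∀ u ∈ W, ∃ ξ : ι, ξ.1 ∈ W := by
    intro W hW u hu
    have hopen : IsOpen (Set.range (W.ι ≫ g)) := (W.ι ≫ g).isOpenEmbedding.isOpen_range
    have hmem : η ∈ Set.range (W.ι ≫ g) := by
      rw [(genericPoint_spec X).mem_open_set_iff hopen]
      exact ⟨(W.ι ≫ g) ⟨u, hu⟩, trivial, ⟨_, rfl⟩⟩
    obtain ⟨w, hw⟩ := hmem
    exact ⟨⟨W.ι w, hw⟩, w.2⟩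
  have hcover : ∀ u : U, ∃ ξ : ι, u ∈ Comp ξ := by
    intro u
    obtain ⟨W, hu, hW⟩ := hloc u
    obtain ⟨ξ, hξ⟩ := hgen W hW u hu
    exact ⟨ξ, (mem_Comp ξ u).mpr ⟨W, hW, hξ, hu⟩⟩
  have hdisj : ∀ (ξ ξ' : ι) (u : U), u ∈ Comp ξ → u ∈ Comp ξ' → ξ = ξ' := by
    intro ξ ξ' u h1 h2
    obtain ⟨W, hW, hξW, huW⟩ := (mem_Comp ξ u).mp h1
    obtain ⟨W', hW', hξW', huW'⟩ := (mem_Comp ξ' u).mp h2
    apply Subtype.ext
    exact eq_of_isOpenImmersion_of_mem_inf g W W' u huW huW' ξ.1 ξ'.1 hξW hξW'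
      (ξ.2.trans ξ'.2.symm)
  have hinj : ∀ (ξ : ι) (u u' : U), u ∈ Comp ξ → u' ∈ Comp ξ → g u = g u' → u = u' := by
    intro ξ u u' h1 h2 h
    obtain ⟨W, hW, hξW, huW⟩ := (mem_Comp ξ u).mp h1
    obtain ⟨W', hW', hξW', huW'⟩ := (mem_Comp ξ u').mp h2
    exact eq_of_isOpenImmersion_of_mem_inf g W W' ξ.1 hξW hξW' u u' huW huW' h
  have hstalk : ∀ u : U, IsIso (g.stalkMap u) := by
    intro u
    obtain ⟨W, hu, hW⟩ := hloc u
    exact isIso_stalkMap_of_isOpenImmersion_ι_comp g W u hu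
  have hOI : ∀ ξ : ι, IsOpenImmersion ((Comp ξ).ι ≫ g) := by
    intro ξ
    have hemb : Topology.IsOpenEmbedding ((Comp ξ).ι ≫ g) := by
      refine Topology.IsOpenEmbedding.of_continuous_injective_isOpenMap
        ((Comp ξ).ι ≫ g).continuous ?_ ((Comp ξ).ι ≫ g).isOpenMap
      intro a b hab
      apply Subtype.ext
      exact hinj ξ a.1 b.1 a.2 b.2 (by simpa using hab)
    haveI : ∀ x, IsIso (((Comp ξ).ι ≫ g).stalkMap x) := by
      intro x
      rw [Scheme.Hom.stalkMap_comp]
      have ha : IsIso (g.stalkMap ((Comp ξ).ι x)) := hstalk ((Comp ξ).ι x)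
      have hb : IsIso ((Comp ξ).ι.stalkMap x) :=
        (IsOpenImmersion.iff_isIso_stalkMap.mp (inferInstance : IsOpenImmersion (Comp ξ).ι)).2 _
      exact @IsIso.comp_isIso _ _ _ _ _ _ _ ha hb
    exact IsOpenImmersion.of_isIso_stalkMap _ hemb
  -- assembly
  let V : ι → X.Opens := fun ξ => ((Comp ξ).ι ≫ g).opensRange
  let k : ∀ ξ : ι, (V ξ : Scheme.{u}) ⟶ U := fun ξ =>
    haveI := hOI ξ
    (((Comp ξ).ι ≫ g).isoOpensRange).inv ≫ (Comp ξ).ι
  have hk : ∀ ξ, k ξ ≫ g = (V ξ).ι := by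
    intro ξ
    haveI := hOI ξ
    change ((((Comp ξ).ι ≫ g).isoOpensRange).inv ≫ (Comp ξ).ι) ≫ g = _
    rw [Category.assoc, Iso.inv_comp_eq]
    exact (((Comp ξ).ι ≫ g).isoOpensRange_hom_ι).symm
  haveI hkOI : ∀ ξ, IsOpenImmersion (k ξ) := by
    intro ξ
    haveI := hOI ξ
    change IsOpenImmersion ((((Comp ξ).ι ≫ g).isoOpensRange).inv ≫ (Comp ξ).ι)
    infer_instance
  have hkrange : ∀ ξ, (k ξ).opensRange = Comp ξ := by
    intro ξ
    haveI := hOI ξ
    change ((((Comp ξ).ι ≫ g).isoOpensRange).inv ≫ (Comp ξ).ι).opensRange = _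
    rw [Scheme.Hom.opensRange_comp_of_isIso, Scheme.Opens.opensRange_ι]
  have hcov : ⨆ ξ, (k ξ).opensRange = ⊤ := by
    rw [eq_top_iff]
    intro u _
    obtain ⟨ξ, hξ⟩ := hcover u
    rw [TopologicalSpace.Opens.mem_iSup]
    exact ⟨ξ, by rw [hkrange]; exact hξ⟩
  have hdisj' : Pairwise (Function.onFun Disjoint fun ξ => (k ξ).opensRange) := by
    intro ξ ξ' hne
    rw [Function.onFun, hkrange, hkrange, disjoint_iff]
    ext u
    simp only [TopologicalSpace.Opens.coe_inf, Set.mem_inter_iff, SetLike.mem_coe,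
      TopologicalSpace.Opens.coe_bot, Set.mem_empty_iff_false, iff_false, not_and]
    intro h1 h2
    exact hne (hdisj ξ ξ' u h1 h2)
  obtain ⟨hc⟩ := nonempty_isColimit_cofanMk_of k hcov hdisj'
  let e : (∐ fun ξ => (V ξ : Scheme.{u})) ≅ U :=
    (colimit.isColimit _).coconePointUniqueUpToIso hc
  refine ⟨ι, V, e, fun ξ => ?_⟩
  have h1 : Sigma.ι (fun ξ => (V ξ : Scheme.{u})) ξ ≫ e.hom = k ξ :=
    IsColimit.comp_coconePointUniqueUpToIso_hom (colimit.isColimit _) hc ⟨ξ⟩
  rw [← Category.assoc, h1, hk]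

end Groth.Agent.Lib.Helper3.NormalSepClosedEtale
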