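import Groth.Agent.Lib.Helper3.NormalSepClosedEtale
import Groth.Agent.Lib.Helper3.EtaleQuotLift

/-!
# Étale schemes over closed subschemes of normal schemes with separably closed function field
(helper3)

* `exists_sigma_iso_of_partition`: assembling a partition into opens mapping isomorphically onto
  opens of the base into a coproduct decomposition.
* `exists_finite_sigma_opens_iso_of_closedImmersion`: S0624.
-/

set_option autoImplicit false
set_option linter.unusedSectionVars false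
set_option linter.style.haveILetI false

universe u

open CategoryTheory CategoryTheory.Limits AlgebraicGeometry Opposite IsLocalRing

namespace Groth.Agent.Lib.Helper3.NormalSepClosedEtale

/-- A partition of `V` into opens each mapping by an open immersion to `Z` exhibits `V` as a
disjoint union of open subschemes of `Z`. -/
theorem exists_sigma_iso_of_partition {V Z : Scheme.{u}} (φ : V ⟶ Z) {ι : Type u}
    (T : ι → V.Opens) (hOI : ∀ k, IsOpenImmersion ((T k).ι ≫ φ))
    (hcover : ∀ v : V, ∃ k, v ∈ T k) (hdisj : ∀ k k' (v : V), v ∈ T k → v ∈ T k' → k = k') :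
    ∃ (W : ι → Z.Opens) (e : (∐ fun k => (W k : Scheme.{u})) ≅ V),
      ∀ k, Sigma.ι (fun k => (W k : Scheme.{u})) k ≫ e.hom ≫ φ = (W k).ι := by
  let W : ι → Z.Opens := fun ξ => ((T ξ).ι ≫ φ).opensRange
  let k : ∀ ξ : ι, (W ξ : Scheme.{u}) ⟶ V := fun ξ =>
    haveI := hOI ξ
    (((T ξ).ι ≫ φ).isoOpensRange).inv ≫ (T ξ).ι
  have hk : ∀ ξ, k ξ ≫ φ = (W ξ).ι := by
    intro ξ
    haveI := hOI ξ
    change ((((T ξ).ι ≫ φ).isoOpensRange).inv ≫ (T ξ).ι) ≫ φ = _
    rw [Category.assoc, Iso.inv_comp_eq]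
    exact (((T ξ).ι ≫ φ).isoOpensRange_hom_ι).symm
  haveI hkOI : ∀ ξ, IsOpenImmersion (k ξ) := by
    intro ξ
    haveI := hOI ξ
    change IsOpenImmersion ((((T ξ).ι ≫ φ).isoOpensRange).inv ≫ (T ξ).ι)
    infer_instance
  have hkrange : ∀ ξ, (k ξ).opensRange = T ξ := by
    intro ξ
    haveI := hOI ξ
    change ((((T ξ).ι ≫ φ).isoOpensRange).inv ≫ (T ξ).ι).opensRange = _
    rw [Scheme.Hom.opensRange_comp_of_isIso, Scheme.Opens.opensRange_ι]
  have hcov : ⨆ ξ, (k ξ).opensRange = ⊤ := by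
    rw [eq_top_iff]
    intro u _
    obtain ⟨ξ, hξ⟩ := hcover u
    rw [TopologicalSpace.Opens.mem_iSup]
    exact ⟨ξ, by rw [hkrange]; exact hξ⟩
  have hdisj' : Pairwise (Function.onFun Disjoint fun ξ => (k ξ).opensRange) := by
    intro ξ ξ' hne
    rw [Function.onFun, hkrange, hkrange, disjoint_iff]
    ext u
    simp only [TopologicalSpace.Opens.coe_inf, Set.mem_inter_iff, SetLike.mem_coe,
      TopologicalSpace.Opens.coe_bot, Set.mem_empty_iff_false, iff_false, not_and]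
    intro h1 h2
    exact hne (hdisj ξ ξ' u h1 h2)
  obtain ⟨hc⟩ := nonempty_isColimit_cofanMk_of k hcov hdisj'
  let e : (∐ fun ξ => (W ξ : Scheme.{u})) ≅ V :=
    (colimit.isColimit _).coconePointUniqueUpToIso hc
  refine ⟨W, e, fun ξ => ?_⟩
  have h1 : Sigma.ι (fun ξ => (W ξ : Scheme.{u})) ξ ≫ e.hom = k ξ :=
    IsColimit.comp_coconePointUniqueUpToIso_hom (colimit.isColimit _) hc ⟨ξ⟩
  rw [← Category.assoc, h1, hk]

/-- **S0624 core.** If every separated étale scheme over the affine scheme `X` is a disjoint union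
of opens of `X`, then every affine scheme étale over a closed subscheme `Z` of `X` is a finite
disjoint union of opens of `Z`. -/
theorem exists_finite_sigma_opens_iso_of_closedImmersion {V Z X : Scheme.{u}} [IsAffine X]
    (hloc : ∀ {U : Scheme.{u}} (g : U ⟶ X) [Etale g] [IsSeparated g],
      ∃ (ι : Type u) (V' : ι → X.Opens) (e : (∐ fun i => (V' i : Scheme.{u})) ≅ U),
        ∀ i, Sigma.ι (fun i => (V' i : Scheme.{u})) i ≫ e.hom ≫ g = (V' i).ι)
    (i : Z ⟶ X) [IsClosedImmersion i] (φ : V ⟶ Z) [Etale φ] [IsAffine V] :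
    ∃ (ι : Type u) (_ : Finite ι) (W : ι → Z.Opens)
      (e : (∐ fun k => (W k : Scheme.{u})) ≅ V),
      ∀ k, Sigma.ι (fun k => (W k : Scheme.{u})) k ≫ e.hom ≫ φ = (W k).ι := by
  classical
  obtain ⟨hZaff, hα⟩ := IsClosedImmersion.isAffine_surjective_of_isAffine i
  haveI := hZaff
  let R := Γ(X, ⊤)
  let S₀ := Γ(Z, ⊤)
  let C := Γ(V, ⊤)
  let α : R ⟶ S₀ := i.appTop
  let β : S₀ ⟶ C := φ.appTop
  have hβ : β.hom.Etale := (HasRingHomProperty.iff_of_isAffine (P := @Etale)).mp ‹Etale φ›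
  let I : Ideal R := RingHom.ker α.hom
  let e₀ : R ⧸ I ≃+* S₀ := RingHom.quotientKerEquivOfSurjective hα
  letI algC : Algebra (R ⧸ I) C := (β.hom.comp e₀.toRingHom).toAlgebra
  haveI : Algebra.Etale (R ⧸ I) C := by
    rw [← RingHom.etale_algebraMap]
    change (β.hom.comp e₀.toRingHom).Etale
    exact RingHom.Etale.stableUnderComposition _ _ (RingHom.Etale.of_bijective e₀.bijective) hβ
  obtain ⟨B, _, _, hBet, ψ, hψsurj, -, hψ⟩ := exists_etale_lift_of_quotient I C
  let γ : R ⟶ CommRingCat.of B := CommRingCat.ofHom (algebraMap R B)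
  let g : Spec (CommRingCat.of B) ⟶ X := Spec.map γ ≫ X.isoSpec.inv
  haveI : Etale (Spec.map γ) :=
    HasRingHomProperty.Spec_iff.mpr (RingHom.etale_algebraMap.mpr hBet)
  haveI : Etale g := inferInstance
  haveI : IsSeparated g := inferInstance
  obtain ⟨ι', V', e, he⟩ := hloc g
  let ψ' : CommRingCat.of B ⟶ C := CommRingCat.ofHom ψ
  let t : V ⟶ Spec (CommRingCat.of B) := V.isoSpec.hom ≫ Spec.map ψ'
  have h1 : γ ≫ ψ' = (φ ≫ i).appTop := by
    rw [Scheme.Hom.comp_appTop]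
    ext x
    exact hψ x
  have ht : t ≫ g = φ ≫ i := by
    change (V.isoSpec.hom ≫ Spec.map ψ') ≫ Spec.map γ ≫ X.isoSpec.inv = _
    rw [Category.assoc, ← Spec.map_comp_assoc, h1, Scheme.isoSpec_inv_naturality,
      Iso.hom_inv_id_assoc]
  haveI : IsClosedImmersion (Spec.map ψ') := IsClosedImmersion.spec_of_surjective ψ' hψsurj
  haveI : Mono t := inferInstance
  let Uξ : ι' → (Spec (CommRingCat.of B)).Opens := fun ξ =>
    (Sigma.ι (fun i => (V' i : Scheme.{u})) ξ ≫ e.hom).opensRange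
  let T : ι' → V.Opens := fun ξ => t ⁻¹ᵁ Uξ ξ
  have hcover : ∀ v : V, ∃ ξ, v ∈ T ξ := by
    intro v
    obtain ⟨⟨ξ, y⟩, hy⟩ := (sigmaMk (fun i => (V' i : Scheme.{u}))).surjective (e.inv (t v))
    rw [sigmaMk_mk] at hy
    refine ⟨ξ, y, ?_⟩
    rw [Scheme.Hom.comp_apply, hy, ← Scheme.Hom.comp_apply, e.inv_hom_id]
    rfl
  have hdisj : ∀ ξ ξ' (v : V), v ∈ T ξ → v ∈ T ξ' → ξ = ξ' := by
    intro ξ ξ' v h1 h2
    by_contra hne
    obtain ⟨y, hy⟩ := h1
    obtain ⟨y', hy'⟩ := h2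
    have h3 : Sigma.ι (fun i => (V' i : Scheme.{u})) ξ y =
        Sigma.ι (fun i => (V' i : Scheme.{u})) ξ' y' := by
      have hinj : Function.Injective e.hom := by
        intro a b hab
        have h5 := congrArg (fun x => e.inv x) hab
        simp only [← Scheme.Hom.comp_apply, e.hom_inv_id] at h5
        exact h5
      apply hinj
      rw [← Scheme.Hom.comp_apply, ← Scheme.Hom.comp_apply]
      exact hy.trans hy'.symm
    have h4 := (sigmaι_eq_iff _ _ _ _ _).mp h3
    exact hne (congrArg Sigma.fst h4)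
  have hOI : ∀ ξ, IsOpenImmersion ((T ξ).ι ≫ φ) := by
    intro ξ
    haveI : Mono ((Uξ ξ).ι ≫ g) := by
      have h5 : (Uξ ξ).ι ≫ g =
          ((Sigma.ι (fun i => (V' i : Scheme.{u})) ξ ≫ e.hom).isoOpensRange).inv ≫ (V' ξ).ι := by
        rw [Iso.eq_inv_comp, ← Category.assoc, Scheme.Hom.isoOpensRange_hom_ι, Category.assoc]
        exact he ξ
      rw [h5]; infer_instance
    have h6 : (t ∣_ Uξ ξ) ≫ (Uξ ξ).ι = (T ξ).ι ≫ t := morphismRestrict_ι t (Uξ ξ)
    haveI : Mono ((t ∣_ Uξ ξ) ≫ (Uξ ξ).ι) := by rw [h6]; infer_instance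
    haveI : Mono (t ∣_ Uξ ξ) := mono_of_mono _ (Uξ ξ).ι
    haveI : Mono (((T ξ).ι ≫ φ) ≫ i) := by
      rw [Category.assoc, ← ht, ← Category.assoc, ← h6, Category.assoc]
      infer_instance
    haveI : Mono ((T ξ).ι ≫ φ) := mono_of_mono _ i
    exact IsOpenImmersion.of_flat_of_mono _
  -- finiteness
  let ι := {ξ : ι' // (T ξ : Set V).Nonempty}
  have hfin : Finite ι := by
    obtain ⟨s, hs⟩ := isCompact_univ.elim_finite_subcover (fun ξ => (T ξ : Set V))
      (fun ξ => (T ξ).isOpen) (fun v _ => by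
        obtain ⟨ξ, hξ⟩ := hcover v
        exact Set.mem_iUnion.mpr ⟨ξ, hξ⟩)
    have hmem : ∀ k : ι, k.1 ∈ s := by
      intro k
      obtain ⟨v, hv⟩ := k.2
      have := hs (Set.mem_univ v)
      simp only [Set.mem_iUnion] at this
      obtain ⟨ξ', hξ's, hv'⟩ := this
      rw [hdisj k.1 ξ' v hv hv']
      exact hξ's
    exact Finite.of_injective (fun k : ι => (⟨k.1, hmem k⟩ : s))
      (fun a b hab => Subtype.ext (congrArg (fun x : s => x.1) hab))
  obtain ⟨W, e', he'⟩ := exists_sigma_iso_of_partition φ (fun k : ι => T k.1)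
    (fun k => hOI k.1)
    (fun v => by
      obtain ⟨ξ, hξ⟩ := hcover v
      exact ⟨⟨ξ, v, hξ⟩, hξ⟩)
    (fun k k' v h1 h2 => Subtype.ext (hdisj k.1 k'.1 v h1 h2))
  exact ⟨ι, hfin, W, e', he'⟩

end Groth.Agent.Lib.Helper3.NormalSepClosedEtale
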