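import Groth.Agent.Lib.Helper3.NormalSepClosedEtale2
import Mathlib.AlgebraicGeometry.Morphisms.Finite
import Mathlib.AlgebraicGeometry.Morphisms.Proper

/-!
# Sections of finite étale covers of closed subschemes of normal schemes with separably closed
function field (helper3)

* `exists_section_of_sigma_opens`: a finite morphism `φ : V ⟶ Z` which is surjective and such that
  `V` is a finite disjoint union of opens of `Z` has a section.
* `exists_section_of_finite_etale_surjective`: S0625.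
-/

set_option autoImplicit false
set_option linter.unusedSectionVars false
set_option linter.style.haveILetI false

universe u

open CategoryTheory CategoryTheory.Limits AlgebraicGeometry Opposite IsLocalRing

namespace Groth.Agent.Lib.Helper3.NormalSepClosedEtale

/-- A closed surjective morphism from a finite disjoint union of opens of `Z` (each mapping by the
inclusion) has a section. -/
theorem exists_section_of_sigma_opens {V Z : Scheme.{u}} (φ : V ⟶ Z) (hclosed : IsClosedMap φ)
    (hsurj : Function.Surjective φ)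
    {ι : Type u} [Finite ι] (W : ι → Z.Opens) (e : (∐ fun k => (W k : Scheme.{u})) ≅ V)
    (he : ∀ k, Sigma.ι (fun k => (W k : Scheme.{u})) k ≫ e.hom ≫ φ = (W k).ι) :
    ∃ s : Z ⟶ V, s ≫ φ = 𝟙 Z := by
  classical
  -- the pieces of `V`
  let κ : ∀ k, (W k : Scheme.{u}) ⟶ V := fun k => Sigma.ι (fun k => (W k : Scheme.{u})) k ≫ e.hom
  have hκ : ∀ k, κ k ≫ φ = (W k).ι := fun k => by
    change (Sigma.ι (fun k => (W k : Scheme.{u})) k ≫ e.hom) ≫ φ = _
    rw [Category.assoc]; exact he k
  have hVcover : ∀ v : V, ∃ k y, κ k y = v := by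
    intro v
    obtain ⟨⟨ξ, y⟩, hy⟩ := (sigmaMk (fun i => (W i : Scheme.{u}))).surjective (e.inv v)
    rw [sigmaMk_mk] at hy
    refine ⟨ξ, y, ?_⟩
    change (Sigma.ι (fun k => (W k : Scheme.{u})) ξ ≫ e.hom) y = v
    rw [Scheme.Hom.comp_apply, hy, ← Scheme.Hom.comp_apply, e.inv_hom_id]
    rfl
  have hinj : Function.Injective e.hom := by
    intro a b hab
    have h5 := congrArg (fun x => e.inv x) hab
    simp only [← Scheme.Hom.comp_apply, e.hom_inv_id] at h5
    exact h5
  have hVdisj : ∀ k k' y y', κ k y = κ k' y' → k = k' := by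
    intro k k' y y' h
    have h3 : Sigma.ι (fun i => (W i : Scheme.{u})) k y =
        Sigma.ι (fun i => (W i : Scheme.{u})) k' y' := by
      apply hinj
      rw [← Scheme.Hom.comp_apply, ← Scheme.Hom.comp_apply]
      exact h
    exact congrArg Sigma.fst ((sigmaι_eq_iff _ _ _ _ _).mp h3)
  -- each `W k` is closed
  have hWclosed : ∀ k, IsClosed (W k : Set Z) := by
    intro k
    have hrange : (W k : Set Z) = φ '' Set.range (κ k) := by
      ext z
      constructor
      · intro hz
        refine ⟨κ k ⟨z, hz⟩, ⟨_, rfl⟩, ?_⟩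
        rw [← Scheme.Hom.comp_apply, hκ]
        rfl
      · rintro ⟨_, ⟨y, rfl⟩, rfl⟩
        rw [← Scheme.Hom.comp_apply, hκ]
        exact y.2
    rw [hrange]
    apply hclosed
    -- the range of `κ k` is closed: its complement is the union of the other ranges
    have hcompl : (Set.range (κ k))ᶜ = ⋃ k' ∈ {k' | k' ≠ k}, Set.range (κ k') := by
      ext v
      simp only [Set.mem_compl_iff, Set.mem_range, not_exists, Set.mem_iUnion, Set.mem_ofPred_eq,
        exists_prop]
      constructor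
      · intro h
        obtain ⟨k', y, hy⟩ := hVcover v
        refine ⟨k', ?_, y, hy⟩
        rintro rfl
        exact h y hy
      · rintro ⟨k', hne, y', hy'⟩ y hy
        exact hne (hVdisj k' k y' y (hy'.trans hy.symm))
    rw [← isOpen_compl_iff, hcompl]
    exact isOpen_biUnion fun k' _ => (κ k').isOpenEmbedding.isOpen_range
  -- enumerate
  obtain ⟨n, ⟨σ⟩⟩ := Finite.exists_equiv_fin ι
  let W' : Fin n → Z.Opens := fun j => W (σ.symm j)
  let Zk : Fin n → Z.Opens := fun k =>
    ⟨(W' k : Set Z) ∩ ⋂ j ∈ Finset.univ.filter (· < k), (W' j : Set Z)ᶜ,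
      (W' k).isOpen.inter (isOpen_biInter_finset fun j _ => (hWclosed _).isOpen_compl)⟩
  have mem_Zk : ∀ k z, z ∈ Zk k ↔ z ∈ W' k ∧ ∀ j < k, z ∉ W' j := by
    intro k z
    change z ∈ (W' k : Set Z) ∩ ⋂ j ∈ Finset.univ.filter (· < k), (W' j : Set Z)ᶜ ↔ _
    simp
  have hZle : ∀ k, Zk k ≤ W' k := fun k z hz => ((mem_Zk k z).mp hz).1
  have hZcov : ⨆ k, ((Zk k).ι).opensRange = ⊤ := by
    rw [eq_top_iff]
    intro z _
    obtain ⟨v, hv⟩ := hsurj z
    obtain ⟨k₀, y, hy⟩ := hVcover v
    have hne : {k : Fin n | z ∈ W' k}.Nonempty := by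
      refine ⟨σ k₀, ?_⟩
      change z ∈ W (σ.symm (σ k₀))
      rw [Equiv.symm_apply_apply, ← hv, ← hy, ← Scheme.Hom.comp_apply, hκ]
      exact y.2
    obtain ⟨k, hk, hmin⟩ := wellFounded_lt.has_min _ hne
    rw [TopologicalSpace.Opens.mem_iSup]
    refine ⟨k, ?_⟩
    rw [Scheme.Opens.opensRange_ι, mem_Zk]
    exact ⟨hk, fun j hj hmem => hmin j hmem hj⟩
  have hZdisj : Pairwise (Function.onFun Disjoint fun k => ((Zk k).ι).opensRange) := by
    intro k k' hne
    rw [Function.onFun, Scheme.Opens.opensRange_ι, Scheme.Opens.opensRange_ι, disjoint_iff]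
    ext z
    simp only [TopologicalSpace.Opens.coe_inf, Set.mem_inter_iff, SetLike.mem_coe,
      TopologicalSpace.Opens.coe_bot, Set.mem_empty_iff_false, iff_false, not_and]
    intro h1 h2
    rw [mem_Zk] at h1 h2
    rcases lt_or_gt_of_ne hne with h | h
    · exact h2.2 k h h1.1
    · exact h1.2 k' h h2.1
  obtain ⟨hc⟩ := nonempty_isColimit_cofanMk_of (fun k => (Zk k).ι) hZcov hZdisj
  let m : ∀ k, (Zk k : Scheme.{u}) ⟶ V := fun k => Z.homOfLE (hZle k) ≫ κ (σ.symm k)
  have hm : ∀ k, m k ≫ φ = (Zk k).ι := by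
    intro k
    change (Z.homOfLE (hZle k) ≫ κ (σ.symm k)) ≫ φ = _
    rw [Category.assoc, hκ]
    exact Scheme.homOfLE_ι _ _
  let s : Z ⟶ V := hc.desc (Cofan.mk V m)
  refine ⟨s, ?_⟩
  apply hc.hom_ext
  rintro ⟨k⟩
  have h1 : (Zk k).ι ≫ s = m k := hc.fac (Cofan.mk V m) ⟨k⟩
  change (Zk k).ι ≫ s ≫ φ = (Zk k).ι ≫ 𝟙 Z
  rw [← Category.assoc, h1, hm, Category.comp_id]

/-- **S0625 core.** -/
theorem exists_section_of_finite_etale_surjective {V Z X : Scheme.{u}} [IsAffine X]
    (hloc : ∀ {U : Scheme.{u}} (g : U ⟶ X) [Etale g] [IsSeparated g],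
      ∃ (ι : Type u) (V' : ι → X.Opens) (e : (∐ fun i => (V' i : Scheme.{u})) ≅ U),
        ∀ i, Sigma.ι (fun i => (V' i : Scheme.{u})) i ≫ e.hom ≫ g = (V' i).ι)
    (i : Z ⟶ X) [IsClosedImmersion i] (φ : V ⟶ Z) [Etale φ] [IsFinite φ] [Surjective φ] :
    ∃ s : Z ⟶ V, s ≫ φ = 𝟙 Z := by
  obtain ⟨hZaff, -⟩ := IsClosedImmersion.isAffine_surjective_of_isAffine i
  haveI := hZaff
  haveI : IsAffine V := isAffine_of_isAffineHom φ
  obtain ⟨ι, hfin, W, e, he⟩ := exists_finite_sigma_opens_iso_of_closedImmersion hloc i φ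
  haveI := hfin
  exact exists_section_of_sigma_opens φ φ.isClosedMap φ.surjective W e he

end Groth.Agent.Lib.Helper3.NormalSepClosedEtale
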