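import Mathlib

/-!
# Integral parts of subalgebras generated by finitely many elements

For a flat algebra `S` over a domain `A` and a set `s ⊆ S`, `intPart A s` is the `A`-subalgebra of
`S` of elements `x` integral over `A` with `a • x ∈ A[s]` for some `a ≠ 0` (the integral closure of
`A` in the "field generated by `s`").
-/

set_option autoImplicit false
set_option linter.style.haveILetI false
set_option linter.unusedSectionVars false

universe u

namespace Groth.Agent.Lib.Helper3.NormalSub

open Polynomial

/-- An integral element over a domain, non-zero in a domain, satisfies a monic polynomial with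
non-zero constant coefficient. -/
theorem exists_monic_coeff_zero_ne_zero {A R : Type*} [CommRing A] [CommRing R] [IsDomain R]
    [Algebra A R] {u : R} (hu : IsIntegral A u) (hu0 : u ≠ 0) :
    ∃ q : A[X], q.Monic ∧ aeval u q = 0 ∧ q.coeff 0 ≠ 0 := by
  classical
  haveI : Nontrivial A := (algebraMap A R).domain_nontrivial
  obtain ⟨p, hp, hpu⟩ := hu
  have hp0 : p ≠ 0 := hp.ne_zero
  obtain ⟨q, hq, hndvd⟩ := Polynomial.exists_eq_pow_rootMultiplicity_mul_and_not_dvd p hp0 (0 : A)
  rw [C_0, sub_zero] at hq hndvd
  refine ⟨q, ?_, ?_, ?_⟩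
  · have h1 : (X ^ p.rootMultiplicity 0 * q).Monic := hq ▸ hp
    exact (monic_X_pow _).of_mul_monic_left h1
  · have h1 : aeval u p = 0 := hpu
    rw [hq, map_mul, map_pow, aeval_X] at h1
    rcases mul_eq_zero.mp h1 with h2 | h2
    · exact absurd (IsNilpotent.eq_zero ⟨_, h2⟩) hu0
    · exact h2
  · intro h0
    exact hndvd (Polynomial.X_dvd_iff.mpr h0)

section IC

variable {A S : Type u} [CommRing A] [IsDomain A] [CommRing S] [Algebra A S]

/-- Key lemma: if `R ⊆ S` is an integrally closed domain, `x ∈ S` is integral over `A`, and
`a • x ∈ R` for some `a` acting as a non-zero-divisor on `S`, then `x ∈ R`. -/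
theorem mem_of_isIntegral_of_smul_mem (R : Subalgebra A S) [IsDomain R] [IsIntegrallyClosed R]
    (x : S) (hx : IsIntegral A x) (a : A) (ha : algebraMap A S a ∈ nonZeroDivisors S)
    (hax : a • x ∈ R) : x ∈ R := by
  have ha0 : algebraMap A R a ≠ 0 := by
    intro h
    have h1 : algebraMap A S a = 0 := by
      have := congrArg (fun z : R => (z : S)) h
      exact this
    rw [h1] at ha
    have : (0 : S) * 1 = 0 := zero_mul 1
    have h2 := (mem_nonZeroDivisors_iff.mp ha).2 1 (by rw [mul_zero])
    -- `1 = 0` in `S`, so `R` is trivial, contradiction with `IsDomain R`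
    have h3 : (1 : R) = 0 := Subtype.ext h2
    exact one_ne_zero h3
  set K := FractionRing R
  let d : R := ⟨a • x, hax⟩
  obtain ⟨p, hp, hpx⟩ := hx
  -- the scaled polynomial kills `d`
  have h1 : aeval (a • x) (scaleRoots p a) = 0 := by
    rw [Algebra.smul_def, aeval_def, scaleRoots_eval₂_mul, ← aeval_def]
    have : aeval x p = 0 := hpx
    rw [this, mul_zero]
  have h2 : aeval d (scaleRoots p a) = 0 := by
    apply Subtype.ext
    have := (aeval_algHom_apply R.val d (scaleRoots p a)).symm
    exact this.trans h1
  -- in the fraction field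
  have hfa : algebraMap A K a ≠ 0 := by
    rw [IsScalarTower.algebraMap_apply A R K]
    exact (map_ne_zero_iff _ (IsFractionRing.injective R K)).mpr ha0
  set x' : K := algebraMap R K d / algebraMap A K a with hx'
  have h3 : eval₂ (algebraMap A K) x' p = 0 := by
    have h4 : eval₂ (algebraMap A K) (algebraMap A K a * x') (scaleRoots p a) = 0 := by
      have h5 : algebraMap A K a * x' = algebraMap R K d := by
        rw [hx', mul_div_cancel₀ _ hfa]
      rw [h5]
      have h6 := congrArg (algebraMap R K) h2
      rw [map_zero, ← aeval_algebraMap_apply, aeval_def] at h6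
      exact h6
    rw [scaleRoots_eval₂_mul] at h4
    exact (mul_eq_zero.mp h4).resolve_left (pow_ne_zero _ hfa)
  have h7 : IsIntegral A x' := ⟨p, hp, h3⟩
  have h8 : IsIntegral R x' := h7.tower_top
  obtain ⟨y, hy⟩ := IsIntegrallyClosed.algebraMap_eq_of_integral h8
  -- `a • y = d`
  have h9 : algebraMap A R a * y = d := by
    apply IsFractionRing.injective R K
    rw [map_mul, hy, hx', ← IsScalarTower.algebraMap_apply A R K, mul_div_cancel₀ _ hfa]
  have h10 : algebraMap A S a * (y : S) = algebraMap A S a * x := by
    have := congrArg (fun z : R => (z : S)) h9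
    change algebraMap A S a * (y : S) = a • x at this
    rw [Algebra.smul_def] at this
    exact this
  have h11 : (y : S) = x := (mul_cancel_left_mem_nonZeroDivisors ha).mp h10
  rw [← h11]
  exact y.2

end IC

end Groth.Agent.Lib.Helper3.NormalSub
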