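import Groth.Agent.Lib.Helper3.NormalSub1

/-!
# The integral part `intPart A s` of the "field generated by `s`" inside an `A`-algebra `S`
-/

set_option autoImplicit false
set_option linter.style.haveILetI false
set_option linter.unusedSectionVars false

universe u

namespace Groth.Agent.Lib.Helper3.NormalSub

open Polynomial

section Defs

variable (A : Type u) {S : Type u} [CommRing A] [IsDomain A] [CommRing S] [Algebra A S]

/-- Elements of `S` with a non-zero `A`-multiple in `A[s]`. -/
def fracPart (s : Set S) : Subalgebra A S where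
  carrier := {x | ∃ a : A, a ≠ 0 ∧ a • x ∈ Algebra.adjoin A s}
  mul_mem' := by
    rintro x y ⟨a, ha, hax⟩ ⟨b, hb, hby⟩
    refine ⟨a * b, mul_ne_zero ha hb, ?_⟩
    have : (a * b) • (x * y) = (a • x) * (b • y) := by
      rw [Algebra.smul_def, Algebra.smul_def, Algebra.smul_def, map_mul]; ring
    rw [this]
    exact Subalgebra.mul_mem _ hax hby
  add_mem' := by
    rintro x y ⟨a, ha, hax⟩ ⟨b, hb, hby⟩
    refine ⟨a * b, mul_ne_zero ha hb, ?_⟩
    have : (a * b) • (x + y) = b • (a • x) + a • (b • y) := by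
      simp only [Algebra.smul_def, map_mul]; ring
    rw [this]
    exact Subalgebra.add_mem _ (Subalgebra.smul_mem _ hax b) (Subalgebra.smul_mem _ hby a)
  algebraMap_mem' := by
    intro r
    refine ⟨1, one_ne_zero, ?_⟩
    rw [one_smul]
    exact Subalgebra.algebraMap_mem _ r

/-- The integral closure of `A` in the "field generated by `s`". -/
def intPart (s : Set S) : Subalgebra A S := integralClosure A S ⊓ fracPart A s

variable {A}

theorem mem_intPart_iff {s : Set S} {x : S} :
    x ∈ intPart A s ↔ IsIntegral A x ∧ ∃ a : A, a ≠ 0 ∧ a • x ∈ Algebra.adjoin A s :=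
  Iff.rfl

theorem isIntegral_of_mem_intPart {s : Set S} {x : S} (hx : x ∈ intPart A s) : IsIntegral A x :=
  hx.1

/-- `intPart A s` lies in every integrally closed domain `R ⊆ S` containing `s`. -/
theorem intPart_le (hnzd : ∀ a : A, a ≠ 0 → algebraMap A S a ∈ nonZeroDivisors S) (s : Set S)
    (R : Subalgebra A S) [IsDomain R] [IsIntegrallyClosed R] (hs : s ⊆ R) : intPart A s ≤ R := by
  rintro x ⟨hx, a, ha, hax⟩
  exact mem_of_isIntegral_of_smul_mem R x hx a (hnzd a ha) (Algebra.adjoin_le hs hax)

/-- An integral multiple: elements of `R` algebraic over `A` become members of `intPart` after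
multiplication by a non-zero element of `A`, if they lie in `fracPart`. -/
theorem smul_mem_intPart {s : Set S} {x : S} (hx : x ∈ fracPart A s) (c : A)
    (hc : IsIntegral A (c • x)) : c • x ∈ intPart A s :=
  ⟨hc, Subalgebra.smul_mem _ hx c⟩

end Defs

section Closed

variable {A : Type u} {S : Type u} [CommRing A] [IsDomain A] [CommRing S] [Algebra A S]

/-- `intPart A s` is integrally closed (in its fraction field), provided it sits inside an
integrally closed domain `R ⊆ S`. -/
theorem isIntegrallyClosed_intPart (hnzd : ∀ a : A, a ≠ 0 → algebraMap A S a ∈ nonZeroDivisors S)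
    (s : Set S) (R : Subalgebra A S) [IsDomain R] [IsIntegrallyClosed R] (hs : s ⊆ R)
    [IsDomain (intPart A s)] : IsIntegrallyClosed (intPart A s) := by
  classical
  have hle : intPart A s ≤ R := intPart_le hnzd s R hs
  set D₀ := intPart A s with hD₀
  let ι : D₀ →ₐ[A] R := Subalgebra.inclusion hle
  have hι : Function.Injective ι := Subalgebra.inclusion_injective hle
  set K₀ := FractionRing D₀
  set F := FractionRing R
  let g : D₀ →ₐ[A] F := (IsScalarTower.toAlgHom A R F).comp ι
  have hg : Function.Injective g := (IsFractionRing.injective R F).comp hι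
  let j : K₀ →ₐ[A] F := IsFractionRing.liftAlgHom (K := K₀) hg
  have hj : ∀ x : D₀, j (algebraMap D₀ K₀ x) = algebraMap R F (ι x) := fun x =>
    (IsFractionRing.liftAlgHom_apply (K := K₀) hg _).trans (IsFractionRing.lift_algebraMap hg x)
  have hjinj : Function.Injective j := (j : K₀ →+* F).injective
  haveI : Algebra.IsIntegral A D₀ := ⟨fun x => by
    have h1 : IsIntegral A (x : S) := x.2.1
    exact (isIntegral_algHom_iff D₀.val Subtype.val_injective).mp h1⟩
  refine (isIntegrallyClosed_iff K₀).mpr fun {y} hy => ?_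
  -- integrality transfers
  have hyA : IsIntegral A y := isIntegral_trans y hy
  have hjy : IsIntegral A (j y) := hyA.map j
  have hjyR : IsIntegral R (j y) := hjy.tower_top
  obtain ⟨e, he⟩ := IsIntegrallyClosed.algebraMap_eq_of_integral hjyR
  have heA : IsIntegral A e := by
    have h1 : IsIntegral A (algebraMap R F e) := he ▸ hjy
    exact (isIntegral_algHom_iff (IsScalarTower.toAlgHom A R F) (IsFractionRing.injective R F)).mp h1
  have heS : IsIntegral A (e : S) := heA.map R.val
  -- write `y = x₁ / x₂`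
  obtain ⟨x₁, x₂, hx₂, hy12⟩ := IsFractionRing.div_surjective (A := D₀) y
  have hx₂0 : x₂ ≠ 0 := nonZeroDivisors.ne_zero hx₂
  have hmul : e * ι x₂ = ι x₁ := by
    apply IsFractionRing.injective R F
    rw [map_mul, he, ← hj, ← hj, ← map_mul, ← hy12]
    congr 1
    rw [div_mul_cancel₀]
    exact (map_ne_zero_iff _ (IsFractionRing.injective D₀ K₀)).mpr hx₂0
  have hmulS : (e : S) * (x₂ : S) = (x₁ : S) := by
    have := congrArg (fun z : R => (z : S)) hmul
    exact this
  obtain ⟨-, a₁, ha₁, hu₁⟩ := x₁.2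
  obtain ⟨hx₂int, a₂, ha₂, hu₂⟩ := x₂.2
  set u₁ : S := a₁ • (x₁ : S) with hu₁def
  set u₂ : S := a₂ • (x₂ : S) with hu₂def
  -- `u₂` is a non-zero integral element of the domain `R`
  have hu₂R : u₂ ∈ R := Algebra.adjoin_le hs hu₂
  have hu₂0 : (⟨u₂, hu₂R⟩ : R) ≠ 0 := by
    intro h
    have h1 : u₂ = 0 := congrArg Subtype.val h
    rw [hu₂def, Algebra.smul_def] at h1
    have h2 : (x₂ : S) = 0 := by
      have := (mem_nonZeroDivisors_iff.mp (hnzd a₂ ha₂)).1 (x₂ : S)
      exact this h1
    exact hx₂0 (Subtype.ext h2)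
  have hu₂int : IsIntegral A (⟨u₂, hu₂R⟩ : R) := by
    have h1 : IsIntegral A u₂ := by
      rw [hu₂def, Algebra.smul_def]
      exact IsIntegral.mul isIntegral_algebraMap hx₂int
    exact (isIntegral_algHom_iff R.val Subtype.val_injective).mp h1
  obtain ⟨q, -, hq0, hqc⟩ := exists_monic_coeff_zero_ne_zero hu₂int hu₂0
  -- `u₂ * v = c₀`
  have hq0S : aeval u₂ q = 0 := by
    have h1 := congrArg (fun z : R => (z : S)) hq0
    exact (aeval_algHom_apply R.val (⟨u₂, hu₂R⟩ : R) q).trans h1
  have hdiv : u₂ * aeval u₂ q.divX + algebraMap A S (q.coeff 0) = 0 := by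
    have h1 : q = q.divX * X + C (q.coeff 0) := (Polynomial.divX_mul_X_add q).symm
    rw [h1] at hq0S
    simp only [map_add, map_mul, aeval_X, aeval_C] at hq0S
    rw [mul_comm]
    exact hq0S
  have hvmem : aeval u₂ q.divX ∈ Algebra.adjoin A s := by
    have h1 : aeval u₂ q.divX ∈ Algebra.adjoin A {u₂} := Polynomial.aeval_mem_adjoin_singleton A u₂
    exact Algebra.adjoin_le (Set.singleton_subset_iff.mpr hu₂) h1
  -- conclusion
  have hefrac : ∃ a : A, a ≠ 0 ∧ a • (e : S) ∈ Algebra.adjoin A s := by
    refine ⟨a₁ * q.coeff 0, mul_ne_zero ha₁ hqc, ?_⟩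
    have h1 : (a₁ * q.coeff 0) • (e : S) = - (a₂ • (u₁ * aeval u₂ q.divX)) := by
      have h2 : algebraMap A S (q.coeff 0) = - (u₂ * aeval u₂ q.divX) := by
        rw [eq_neg_iff_add_eq_zero, add_comm]; exact hdiv
      rw [Algebra.smul_def, map_mul, h2, hu₁def, hu₂def, ← hmulS]
      simp only [Algebra.smul_def]
      ring
    rw [h1]
    exact Subalgebra.neg_mem _ (Subalgebra.smul_mem _ (Subalgebra.mul_mem _ hu₁ hvmem) a₂)
  refine ⟨⟨(e : S), heS, hefrac⟩, ?_⟩
  apply hjinj
  rw [hj, ← he]
  congr 1

end Closed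

end Groth.Agent.Lib.Helper3.NormalSub
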