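import Groth.Agent.Lib.Helper3.NormalSub2

/-!
# Localising a subalgebra of a local ring at the contraction of the maximal ideal, inside the
ambient ring
-/

set_option autoImplicit false
set_option linter.style.haveILetI false
set_option linter.unusedSectionVars false

universe u

namespace Groth.Agent.Lib.Helper3.NormalSub

section LocSub

variable {A S : Type u} [CommRing A] [CommRing S] [Algebra A S]

/-- The localisation of the subalgebra `R ⊆ S` at the elements which are units of `S`, realised
inside `S`. -/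
def locSub (R : Subalgebra A S) : Subalgebra A S where
  carrier := {x | ∃ b ∈ R, IsUnit b ∧ x * b ∈ R}
  mul_mem' := by
    rintro x y ⟨b, hb, hbu, hxb⟩ ⟨c, hc, hcu, hyc⟩
    refine ⟨b * c, R.mul_mem hb hc, hbu.mul hcu, ?_⟩
    have : x * y * (b * c) = (x * b) * (y * c) := by ring
    rw [this]
    exact R.mul_mem hxb hyc
  add_mem' := by
    rintro x y ⟨b, hb, hbu, hxb⟩ ⟨c, hc, hcu, hyc⟩
    refine ⟨b * c, R.mul_mem hb hc, hbu.mul hcu, ?_⟩
    have : (x + y) * (b * c) = (x * b) * c + (y * c) * b := by ring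
    rw [this]
    exact R.add_mem (R.mul_mem hxb hc) (R.mul_mem hyc hb)
  algebraMap_mem' := by
    intro r
    exact ⟨1, R.one_mem, isUnit_one, by rw [mul_one]; exact R.algebraMap_mem r⟩

theorem le_locSub (R : Subalgebra A S) : R ≤ locSub R := fun x hx =>
  ⟨1, R.one_mem, isUnit_one, by rw [mul_one]; exact hx⟩

theorem locSub_le (R R' : Subalgebra A S) (hRR' : R ≤ R')
    (hinv : ∀ b ∈ R', IsUnit b → ∃ c ∈ R', b * c = 1) : locSub R ≤ R' := by
  rintro x ⟨b, hb, hbu, hxb⟩
  obtain ⟨c, hc, hbc⟩ := hinv b (hRR' hb) hbu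
  have : x = (x * b) * c := by rw [mul_assoc, hbc, mul_one]
  rw [this]
  exact R'.mul_mem (hRR' hxb) hc

theorem inv_mem_locSub (R : Subalgebra A S) (x : S) (hx : x ∈ locSub R) (hu : IsUnit x) :
    ∃ y ∈ locSub R, x * y = 1 := by
  obtain ⟨b, hb, hbu, hxb⟩ := hx
  obtain ⟨y, hy⟩ := hu.exists_right_inv
  refine ⟨y, ⟨x * b, hxb, hu.mul hbu, ?_⟩, hy⟩
  have : y * (x * b) = (x * y) * b := by ring
  rw [this, hy, one_mul]
  exact hb

theorem isLocalHom_locSub (R : Subalgebra A S) : IsLocalHom (algebraMap (locSub R) S) := by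
  constructor
  intro x hx
  obtain ⟨y, hy, hxy⟩ := inv_mem_locSub R x x.2 hx
  exact IsUnit.of_mul_eq_one (⟨y, hy⟩ : locSub R) (Subtype.ext hxy)

theorem isLocalRing_locSub [IsLocalRing S] (R : Subalgebra A S) : IsLocalRing (locSub R) :=
  haveI := isLocalHom_locSub R
  RingHom.domain_isLocalRing (algebraMap (locSub R) S)

/-- The submonoid of `R` of elements which are units of `S`. -/
def unitsIn (R : Subalgebra A S) : Submonoid R := (IsUnit.submonoid S).comap R.val

/-- The `R`-algebra structure of `locSub R`. -/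
@[reducible] def locSubAlgebra (R : Subalgebra A S) : Algebra R (locSub R) :=
  (Subalgebra.inclusion (le_locSub R)).toRingHom.toAlgebra

theorem isScalarTower_locSub (R : Subalgebra A S) :
    letI := locSubAlgebra R
    IsScalarTower A R (locSub R) :=
  letI := locSubAlgebra R
  IsScalarTower.of_algebraMap_eq (fun _ => rfl)

theorem isLocalization_locSub (R : Subalgebra A S) :
    letI := locSubAlgebra R
    IsLocalization (unitsIn R) (locSub R) := by
  letI := locSubAlgebra R
  refine ⟨?_, ?_, ?_⟩
  · rintro ⟨b, hb⟩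
    have hbu : IsUnit (b : S) := hb
    obtain ⟨y, hy, hby⟩ := inv_mem_locSub R (b : S) (le_locSub R b.2) hbu
    exact IsUnit.of_mul_eq_one (⟨y, hy⟩ : locSub R) (Subtype.ext hby)
  · rintro ⟨x, b, hb, hbu, hxb⟩
    exact ⟨(⟨x * b, hxb⟩, ⟨⟨b, hb⟩, hbu⟩), Subtype.ext rfl⟩
  · intro x y hxy
    refine ⟨1, ?_⟩
    have h1 : (x : S) = (y : S) := congrArg (fun z : locSub R => (z : S)) hxy
    simp only [OneMemClass.coe_one, one_mul]
    exact Subtype.ext h1

theorem unitsIn_le_nonZeroDivisors (R : Subalgebra A S) : unitsIn R ≤ nonZeroDivisors R := by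
  intro b hb
  have hbu : IsUnit (b : S) := hb
  rw [mem_nonZeroDivisors_iff_right]
  intro x hx
  have h1 : (x : S) * (b : S) = 0 := congrArg (fun z : R => (z : S)) hx
  exact Subtype.ext (hbu.mul_left_eq_zero.mp h1)

theorem isDomain_locSub (R : Subalgebra A S) [IsDomain R] : IsDomain (locSub R) :=
  letI := locSubAlgebra R
  haveI := isLocalization_locSub R
  IsLocalization.isDomain_of_le_nonZeroDivisors (locSub R) (unitsIn_le_nonZeroDivisors R)

theorem isIntegrallyClosed_locSub (R : Subalgebra A S) [IsDomain R] [IsIntegrallyClosed R] :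
    IsIntegrallyClosed (locSub R) :=
  letI := locSubAlgebra R
  haveI := isLocalization_locSub R
  isIntegrallyClosed_of_isLocalization (locSub R) (unitsIn R) (unitsIn_le_nonZeroDivisors R)

theorem essFiniteType_locSub (R : Subalgebra A S) [Algebra.FiniteType A R] :
    Algebra.EssFiniteType A (locSub R) := by
  letI := locSubAlgebra R
  haveI := isLocalization_locSub R
  haveI := isScalarTower_locSub R
  haveI : Algebra.EssFiniteType R (locSub R) := Algebra.EssFiniteType.of_isLocalization _ (unitsIn R)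
  exact Algebra.EssFiniteType.comp A R (locSub R)

end LocSub

end Groth.Agent.Lib.Helper3.NormalSub
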