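import Groth.Agent.Lib.Helper3.NormalSub3
import Groth.Agent.Lib.Helper3.FracSub
import Groth.Agent.Lib.Helper24.SmoothNormal

/-!
# A normal local subalgebra `D'` of an essentially étale subalgebra `E` of `S`: `E` is
essentially étale (hence faithfully flat) over `D'`
-/

set_option autoImplicit false
set_option linter.style.haveILetI false
set_option linter.unusedSectionVars false

universe u

namespace Groth.Agent.Lib.Helper3.NormalSub

open IsLocalRing TensorProduct Polynomial
open Groth.Agent.Lib.Helper3.EssEtaleSub Groth.Agent.Lib.Helper3.FracEssEtale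

/-- A non-zero algebraic element of a domain satisfies a polynomial with non-zero constant
coefficient. -/
theorem exists_aeval_eq_zero_coeff_zero_ne_zero {A R : Type*} [CommRing A] [CommRing R] [IsDomain R]
    [Algebra A R] {u : R} (hu : IsAlgebraic A u) (hu0 : u ≠ 0) :
    ∃ q : A[X], aeval u q = 0 ∧ q.coeff 0 ≠ 0 := by
  classical
  obtain ⟨p, hp0, hpu⟩ := hu
  obtain ⟨q, hq, hndvd⟩ := Polynomial.exists_eq_pow_rootMultiplicity_mul_and_not_dvd p hp0 (0 : A)
  rw [C_0, sub_zero] at hq hndvd
  refine ⟨q, ?_, ?_⟩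
  · rw [hq, map_mul, map_pow, aeval_X] at hpu
    rcases mul_eq_zero.mp hpu with h2 | h2
    · exact absurd (IsNilpotent.eq_zero ⟨_, h2⟩) hu0
    · exact h2
  · intro h0
    exact hndvd (Polynomial.X_dvd_iff.mpr h0)

section TArg

variable {A S E₀ : Type u} [CommRing A] [IsLocalRing A] [CommRing S] [IsLocalRing S] [Algebra A S]
  [IsLocalHom (algebraMap A S)] [CommRing E₀] [Algebra A E₀]
  (φ : E₀ →ₐ[A] S) (D' : Subalgebra A S)

/-- The base change of `φ` to `D'`. -/
noncomputable def bcMap : D' ⊗[A] E₀ →ₐ[D'] S :=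
  Algebra.TensorProduct.lift (Algebra.ofId D' S) φ (fun _ _ => Commute.all _ _)

theorem bcMap_tmul (d : D') (e : E₀) : bcMap φ D' (d ⊗ₜ e) = (d : S) * φ e := by
  unfold bcMap
  rw [Algebra.TensorProduct.lift_tmul]
  rfl

theorem bcMap_mem (hD'E : D' ≤ (locLift φ).range) (b : D' ⊗[A] E₀) :
    bcMap φ D' b ∈ (locLift φ).range := by
  induction b using TensorProduct.induction_on with
  | zero => rw [map_zero]; exact Subalgebra.zero_mem _
  | tmul d e =>
    rw [bcMap_tmul]
    exact Subalgebra.mul_mem _ (hD'E d.2) (range_le_range_locLift φ ⟨e, rfl⟩)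
  | add x y hx hy => rw [map_add]; exact Subalgebra.add_mem _ hx hy

variable [IsLocalRing D'] [IsLocalHom (algebraMap D' S)]

/-- The local ring `T`: the localisation of `D' ⊗ E₀` at the prime below the maximal ideal of
`S`. -/
abbrev TT : Type u := Localization.AtPrime (primeOf (bcMap φ D'))

theorem range_locLift_bcMap (hD'E : D' ≤ (locLift φ).range) :
    ((locLift (bcMap φ D')).range : Set S) = ((locLift φ).range : Set S) := by
  ext x
  constructor
  · intro hx
    obtain ⟨a, s, hs, h⟩ := (mem_range_locLift_iff (bcMap φ D') x).mp hx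
    obtain ⟨c, hc, hsc⟩ := exists_inv_mem_range_locLift φ _ (bcMap_mem φ D' hD'E s) hs
    have : x = bcMap φ D' a * c := by
      rw [← h, mul_assoc, hsc, mul_one]
    rw [this]
    exact Subalgebra.mul_mem _ (bcMap_mem φ D' hD'E a) hc
  · intro hx
    obtain ⟨a, s, hs, h⟩ := (mem_range_locLift_iff φ x).mp hx
    refine (mem_range_locLift_iff (bcMap φ D') x).mpr ⟨1 ⊗ₜ a, 1 ⊗ₜ s, ?_, ?_⟩
    · rw [bcMap_tmul]; simpa using hs
    · rw [bcMap_tmul, bcMap_tmul]; simpa using h

variable [IsDomain D'] [IsIntegrallyClosed D'] [Algebra.Etale A E₀]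

theorem isDomain_TT : IsDomain (TT φ D') :=
  (Groth.Agent.Lib.Helper24.isNormalRing_of_etale D' (D' ⊗[A] E₀) (primeOf (bcMap φ D'))).1

theorem isEssentiallyEtale_TT : EGA4loc.IsEssentiallyEtale D' (TT φ D') :=
  isEssentiallyEtale_of_algEquiv_loc (bcMap φ D') _ AlgEquiv.refl

/-- `T → S` is injective. -/
theorem locLift_bcMap_injective : Function.Injective (locLift (bcMap φ D')) := by
  haveI := isDomain_TT φ D'
  have hess := isEssentiallyEtale_TT φ D'
  haveI := quasiFinite_of_isEssentiallyEtale hess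
  haveI := flat_of_isEssentiallyEtale hess
  have hmin : (minimalPrimes D').Finite := by
    rw [IsDomain.minimalPrimes_eq_singleton_bot]; exact Set.finite_singleton _
  have hloc : IsLocalization (imNZD D' (TT φ D')) (FractionRing (TT φ D')) :=
    isLocalization_fractionRing D' (TT φ D') hmin
  obtain ⟨_, _, hfin⟩ := finOverFrac_of_quasiFinite D' (TT φ D') hmin (FractionRing (TT φ D'))
  rw [injective_iff_map_eq_zero]
  intro t ht
  by_contra ht0
  -- `t` is algebraic over `D'`
  have halg : IsAlgebraic D' t := by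
    have h1 : IsAlgebraic (FractionRing D') (algebraMap (TT φ D') (FractionRing (TT φ D')) t) :=
      (Algebra.IsIntegral.isIntegral (R := FractionRing D') _).isAlgebraic
    have h2 : IsAlgebraic D' (algebraMap (TT φ D') (FractionRing (TT φ D')) t) :=
      (IsFractionRing.isAlgebraic_iff D' (FractionRing D') (FractionRing (TT φ D'))).mpr h1
    exact (isAlgebraic_algebraMap_iff (IsFractionRing.injective (TT φ D') _)).mp h2
  obtain ⟨q, hq, hq0⟩ := exists_aeval_eq_zero_coeff_zero_ne_zero halg ht0
  have h3 : aeval (locLift (bcMap φ D') t) q = 0 := by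
    rw [aeval_algHom_apply, hq, map_zero]
  rw [ht] at h3
  have h4 : aeval (0 : S) q = algebraMap D' S (q.coeff 0) := by
    rw [← Polynomial.coeff_zero_eq_aeval_zero']
  rw [h4] at h3
  have h5 : (q.coeff 0 : S) = 0 := h3
  exact hq0 (Subtype.ext h5)

end TArg

end Groth.Agent.Lib.Helper3.NormalSub
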