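import Groth.Agent.Lib.Helper3.NormalSub4
import Groth.Agent.Lib.Helper3.EssEtaleSub2

/-!
# Consequences of the injectivity of `T → S`
-/

set_option autoImplicit false
set_option linter.style.haveILetI false
set_option linter.unusedSectionVars false

universe u

namespace Groth.Agent.Lib.Helper3.NormalSub

open IsLocalRing TensorProduct Polynomial
open Groth.Agent.Lib.Helper3.EssEtaleSub Groth.Agent.Lib.Helper3.FracEssEtale

section TArg2

variable {A S E₀ : Type u} [CommRing A] [IsLocalRing A] [CommRing S] [IsLocalRing S] [Algebra A S]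
  [IsLocalHom (algebraMap A S)] [Module.Flat A S] [CommRing E₀] [Algebra A E₀]
  [Algebra.Etale A E₀]
  (φ : E₀ →ₐ[A] S) (D' : Subalgebra A S) [IsLocalRing D'] [IsLocalHom (algebraMap D' S)]
  [IsDomain D'] [IsIntegrallyClosed D']

/-- `T ≃ (E₀)_n` as `A`-algebras. -/
noncomputable def equivTT (hD'E : D' ≤ (locLift φ).range) :
    TT φ D' ≃ₐ[A] Localization.AtPrime (primeOf φ) :=
  let e1 : TT φ D' ≃ₐ[A] ((locLift (bcMap φ D')).range.restrictScalars A) :=
    (AlgEquiv.ofInjective (locLift (bcMap φ D')) (locLift_bcMap_injective φ D')).restrictScalars A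
  let e2 : ((locLift (bcMap φ D')).range.restrictScalars A) ≃ₐ[A] (locLift φ).range :=
    Subalgebra.equivOfEq _ _ (SetLike.coe_injective (range_locLift_bcMap φ D' hD'E))
  let e3 : Localization.AtPrime (primeOf φ) ≃ₐ[A] (locLift φ).range :=
    AlgEquiv.ofInjective (locLift φ) (locLift_injective φ)
  (e1.trans e2).trans e3.symm

theorem isLocalHom_algebraMap_TT : IsLocalHom (algebraMap D' (TT φ D')) := by
  have h : (locLift (bcMap φ D')).toRingHom.comp (algebraMap D' (TT φ D')) = algebraMap D' S := by
    ext d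
    exact (locLift (bcMap φ D')).commutes d
  haveI : IsLocalHom ((locLift (bcMap φ D')).toRingHom.comp (algebraMap D' (TT φ D'))) := by
    rw [h]; infer_instance
  exact isLocalHom_of_comp (algebraMap D' (TT φ D')) (locLift (bcMap φ D')).toRingHom

theorem faithfullyFlat_TT : Module.FaithfullyFlat D' (TT φ D') := by
  haveI := flat_of_isEssentiallyEtale (isEssentiallyEtale_TT φ D')
  haveI := isLocalHom_algebraMap_TT φ D'
  exact Module.FaithfullyFlat.of_flat_of_isLocalHom

theorem isLocalHom_algebraMap_A_TT : IsLocalHom (algebraMap A (TT φ D')) := by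
  have h : (locLift (bcMap φ D')).toRingHom.comp (algebraMap A (TT φ D')) = algebraMap A S := by
    ext a
    change locLift (bcMap φ D') (algebraMap A (TT φ D') a) = _
    rw [IsScalarTower.algebraMap_apply A D' (TT φ D'), AlgHom.commutes]
    rfl
  haveI : IsLocalHom ((locLift (bcMap φ D')).toRingHom.comp (algebraMap A (TT φ D'))) := by
    rw [h]; infer_instance
  exact isLocalHom_of_comp (algebraMap A (TT φ D')) (locLift (bcMap φ D')).toRingHom

theorem map_maximalIdeal_TT (hD'E : D' ≤ (locLift φ).range) :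
    (maximalIdeal A).map (algebraMap A (TT φ D')) = maximalIdeal (TT φ D') := by
  haveI := isLocalHom_algebraMap_A_TT φ D'
  haveI : Algebra.FormallyUnramified A (TT φ D') :=
    Algebra.FormallyUnramified.of_equiv (equivTT φ D' hD'E).symm
  haveI : Algebra.EssFiniteType A (TT φ D') :=
    (Algebra.EssFiniteType.iff_of_algEquiv (equivTT φ D' hD'E)).mpr inferInstance
  exact Algebra.FormallyUnramified.map_maximalIdeal

/-- The maximal ideal of `D'` is generated by that of `A`. -/
theorem map_maximalIdeal_eq (hD'E : D' ≤ (locLift φ).range) :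
    (maximalIdeal A).map (algebraMap A D') = maximalIdeal D' := by
  haveI := faithfullyFlat_TT φ D'
  haveI := isLocalHom_algebraMap_TT φ D'
  haveI : IsLocalHom (algebraMap A D') := isLocalHom_algebraMap_subalgebra D'
  apply Ideal.map_injective_of_faithfullyFlat (A := D') (B := TT φ D')
  have h1 : ((maximalIdeal A).map (algebraMap A D')).map (algebraMap D' (TT φ D')) =
      maximalIdeal (TT φ D') := by
    rw [Ideal.map_map, ← IsScalarTower.algebraMap_eq]
    exact map_maximalIdeal_TT φ D' hD'E
  have h2 : (maximalIdeal D').map (algebraMap D' (TT φ D')) ≤ maximalIdeal (TT φ D') :=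
    ((IsLocalRing.local_hom_TFAE (algebraMap D' (TT φ D'))).out 0 2).mp
      ‹IsLocalHom (algebraMap D' (TT φ D'))›
  have h3 : (maximalIdeal A).map (algebraMap A D') ≤ maximalIdeal D' :=
    ((IsLocalRing.local_hom_TFAE (algebraMap A D')).out 0 2).mp ‹IsLocalHom (algebraMap A D')›
  change ((maximalIdeal A).map (algebraMap A D')).map (algebraMap D' (TT φ D')) =
    (maximalIdeal D').map (algebraMap D' (TT φ D'))
  apply le_antisymm (Ideal.map_mono h3)
  rw [h1]
  exact h2

/-- Faithfully flat descent of divisibility: `E ∩ Frac(D') = D'`. -/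
theorem mem_of_mul_eq (hD'E : D' ≤ (locLift φ).range) (x : S) (hx : x ∈ (locLift φ).range)
    (c₁ c₂ : D') (hc₂ : c₂ ≠ 0) (h : x * (c₂ : S) = (c₁ : S)) : x ∈ D' := by
  haveI := faithfullyFlat_TT φ D'
  haveI := isDomain_TT φ D'
  have hx' : x ∈ (locLift (bcMap φ D')).range := by
    have := range_locLift_bcMap φ D' hD'E
    have h2 : x ∈ ((locLift (bcMap φ D')).range : Set S) := by rw [this]; exact hx
    exact h2
  obtain ⟨t, rfl⟩ := hx'
  have hinj := locLift_bcMap_injective φ D'
  have h1 : t * algebraMap D' (TT φ D') c₂ = algebraMap D' (TT φ D') c₁ := by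
    apply hinj
    rw [map_mul, AlgHom.commutes, AlgHom.commutes]
    exact h
  have h2 : c₁ ∈ ((Ideal.span {c₂}).map (algebraMap D' (TT φ D'))).comap
      (algebraMap D' (TT φ D')) := by
    rw [Ideal.mem_comap, ← h1]
    exact Ideal.mul_mem_left _ _ (Ideal.mem_map_of_mem _ (Ideal.mem_span_singleton_self c₂))
  rw [Ideal.comap_map_eq_self_of_faithfullyFlat, Ideal.mem_span_singleton'] at h2
  obtain ⟨y, hy⟩ := h2
  have hc₂T : algebraMap D' (TT φ D') c₂ ≠ 0 := by
    intro h0
    apply hc₂
    exact (FaithfulSMul.algebraMap_injective D' (TT φ D')) (h0.trans (map_zero _).symm)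
  have h3 : t = algebraMap D' (TT φ D') y := by
    have h4 : t * algebraMap D' (TT φ D') c₂ =
        algebraMap D' (TT φ D') y * algebraMap D' (TT φ D') c₂ := by
      rw [h1, ← map_mul, hy]
    exact mul_right_cancel₀ hc₂T h4
  rw [h3]
  change locLift (bcMap φ D') (algebraMap D' (TT φ D') y) ∈ D'
  rw [AlgHom.commutes]
  exact y.2

end TArg2

end Groth.Agent.Lib.Helper3.NormalSub
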