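import Groth.Agent.Lib.Helper3.NormalSub5

/-!
# Normal local subalgebras of a strict henselization of a normal Noetherian local domain are
directed unions of essentially étale local subalgebras
-/

set_option autoImplicit false
set_option linter.style.haveILetI false
set_option linter.unusedSectionVars false

universe u

namespace Groth.Agent.Lib.Helper3.NormalSub

open IsLocalRing TensorProduct Polynomial
open Groth.Agent.Lib.Helper3.EssEtaleSub Groth.Agent.Lib.Helper3.FracEssEtale
  Groth.Agent.Lib.Helper3.FracSub

/-- Elements of a quasi-finite flat domain over a domain are algebraic. -/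
theorem isAlgebraic_of_quasiFinite_flat (A E : Type u) [CommRing A] [IsDomain A] [CommRing E]
    [IsDomain E] [Algebra A E] [Algebra.QuasiFinite A E] [Module.Flat A E] (t : E) :
    IsAlgebraic A t := by
  have hmin : (minimalPrimes A).Finite := by
    rw [IsDomain.minimalPrimes_eq_singleton_bot]; exact Set.finite_singleton _
  have hloc : IsLocalization (imNZD A E) (FractionRing E) := isLocalization_fractionRing A E hmin
  obtain ⟨_, _, hfin⟩ := finOverFrac_of_quasiFinite A E hmin (FractionRing E)
  have h1 : IsAlgebraic (FractionRing A) (algebraMap E (FractionRing E) t) :=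
    (Algebra.IsIntegral.isIntegral (R := FractionRing A) _).isAlgebraic
  have h2 : IsAlgebraic A (algebraMap E (FractionRing E) t) :=
    (IsFractionRing.isAlgebraic_iff A (FractionRing A) (FractionRing E)).mpr h1
  exact (isAlgebraic_algebraMap_iff (IsFractionRing.injective E _)).mp h2

/-- The integral closure of a normal Noetherian domain `A` in the fraction field of a quasi-finite
flat formally unramified domain `E` over `A` is a Noetherian `A`-module. -/
theorem isNoetherian_integralClosure_fractionRing (A E : Type u) [CommRing A] [IsDomain A]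
    [IsIntegrallyClosed A] [IsNoetherianRing A] [CommRing E] [IsDomain E] [Algebra A E]
    [Algebra.QuasiFinite A E] [Module.Flat A E] [Algebra.FormallyUnramified A E] :
    IsNoetherian A (integralClosure A (FractionRing E)) := by
  have hmin : (minimalPrimes A).Finite := by
    rw [IsDomain.minimalPrimes_eq_singleton_bot]; exact Set.finite_singleton _
  have hloc : IsLocalization (imNZD A E) (FractionRing E) := isLocalization_fractionRing A E hmin
  obtain ⟨_, _, hfin⟩ := finOverFrac_of_quasiFinite A E hmin (FractionRing E)
  haveI : Algebra.FormallyUnramified E (FractionRing E) :=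
    Algebra.FormallyUnramified.of_isLocalization (nonZeroDivisors E)
  haveI : Algebra.FormallyUnramified A (FractionRing E) :=
    Algebra.FormallyUnramified.comp A E (FractionRing E)
  haveI : Algebra.FormallyUnramified (FractionRing A) (FractionRing E) :=
    Algebra.FormallyUnramified.of_restrictScalars A (FractionRing A) (FractionRing E)
  haveI : Algebra.IsSeparable (FractionRing A) (FractionRing E) :=
    Algebra.FormallyUnramified.isSeparable (FractionRing A) (FractionRing E)
  exact IsIntegralClosure.isNoetherian A (FractionRing A) (FractionRing E)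
    (integralClosure A (FractionRing E))

section Main

variable {A S : Type u} [CommRing A] [IsLocalRing A] [IsDomain A] [IsIntegrallyClosed A]
  [IsNoetherianRing A] [CommRing S] [IsLocalRing S] [Algebra A S] [IsLocalHom (algebraMap A S)]
  [Module.Flat A S]

theorem algebraMap_mem_nonZeroDivisors (a : A) (ha : a ≠ 0) :
    algebraMap A S a ∈ nonZeroDivisors S :=
  imNZD_le_nonZeroDivisors A S ⟨a, mem_nonZeroDivisors_of_ne_zero ha, rfl⟩

open Groth.Agent.Lib.Helper9 in
/-- Main theorem. -/
theorem exists_essEtale_le (hcov : IsEtaleCoveredFin A S)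
    (hsep : Algebra.IsSeparable (ResidueField A) (ResidueField S))
    (D : Subalgebra A S) [IsLocalRing D] [IsLocalHom (algebraMap D S)] [IsDomain D]
    [IsIntegrallyClosed D] (s : Finset S) (hs : (s : Set S) ⊆ (D : Set S)) :
    ∃ D' : Subalgebra A S, D' ≤ D ∧ (s : Set S) ⊆ (D' : Set S) ∧
      ∃ _ : IsLocalRing D', IsLocalHom (algebraMap D' S) ∧ EGA4loc.IsEssentiallyEtale A D' := by
  classical
  have hnzd : ∀ a : A, a ≠ 0 → algebraMap A S a ∈ nonZeroDivisors S :=
    algebraMap_mem_nonZeroDivisors
  obtain ⟨E₀, _, _, _, φ, hφ⟩ := exists_locLift_of_finset hcov s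
  set E := (locLift φ).range with hE
  have hsE : (s : Set S) ⊆ (E : Set S) := fun x hx => hφ x hx
  -- `E` is a normal domain, quasi-finite, flat and unramified over `A`
  let eL : Localization.AtPrime (primeOf φ) ≃ₐ[A] E :=
    AlgEquiv.ofInjective (locLift φ) (locLift_injective φ)
  obtain ⟨hLdom, hLic⟩ := Groth.Agent.Lib.Helper24.isNormalRing_of_etale A E₀ (primeOf φ)
  haveI : IsDomain E := eL.toRingEquiv.toMulEquiv.isDomain_iff.mp hLdom
  haveI : IsIntegrallyClosed E := IsIntegrallyClosed.of_equiv eL.toRingEquiv
  obtain ⟨_, hEess⟩ := range_locLift_spec φ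
  haveI : Algebra.QuasiFinite A E := quasiFinite_of_isEssentiallyEtale hEess
  haveI : Module.Flat A E := flat_of_isEssentiallyEtale hEess
  haveI : Algebra.FormallyUnramified A E := Algebra.FormallyUnramified.of_equiv eL
  -- the integral part
  set D₀ := intPart A (s : Set S) with hD₀
  have hD₀E : D₀ ≤ E := intPart_le hnzd _ E hsE
  have hD₀D : D₀ ≤ D := intPart_le hnzd _ D hs
  haveI : IsDomain D₀ :=
    (Subalgebra.inclusion_injective hD₀E).isDomain (Subalgebra.inclusion hD₀E).toRingHom
  haveI : IsIntegrallyClosed D₀ := isIntegrallyClosed_intPart hnzd _ E hsE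
  -- finiteness
  haveI : Module.Finite A D₀ := by
    haveI := isNoetherian_integralClosure_fractionRing A E
    let g : D₀ →ₐ[A] FractionRing E :=
      (IsScalarTower.toAlgHom A E (FractionRing E)).comp (Subalgebra.inclusion hD₀E)
    have hg : Function.Injective g :=
      (IsFractionRing.injective E _).comp (Subalgebra.inclusion_injective hD₀E)
    have hgi : ∀ x : D₀, g x ∈ integralClosure A (FractionRing E) := fun x => by
      have h1 : IsIntegral A (x : S) := x.2.1
      have h2 : IsIntegral A x := (isIntegral_algHom_iff D₀.val Subtype.val_injective).mp h1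
      exact h2.map g
    let g' : D₀ →ₗ[A] integralClosure A (FractionRing E) :=
      { toFun := fun x => ⟨g x, hgi x⟩
        map_add' := fun x y => Subtype.ext (map_add g x y)
        map_smul' := fun a x => Subtype.ext (map_smul g a x) }
    have hg' : Function.Injective g' := fun x y hxy => hg (congrArg Subtype.val hxy)
    exact Module.Finite.of_injective g' hg'
  -- the localisation
  set D' := locSub D₀ with hD'
  haveI : IsLocalRing D' := isLocalRing_locSub D₀
  haveI : IsLocalHom (algebraMap D' S) := isLocalHom_locSub D₀
  haveI : IsDomain D' := isDomain_locSub D₀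
  haveI : IsIntegrallyClosed D' := isIntegrallyClosed_locSub D₀
  haveI : Algebra.EssFiniteType A D' := essFiniteType_locSub D₀
  have hD'E : D' ≤ E := locSub_le D₀ E hD₀E
    (fun b hb hbu => exists_inv_mem_range_locLift φ b hb hbu)
  have hD'D : D' ≤ D := by
    apply locSub_le D₀ D hD₀D
    intro b hb hbu
    have hbD : IsUnit (⟨b, hb⟩ : D) := isUnit_of_isUnit_val D _ hbu
    obtain ⟨c, hc⟩ := hbD.exists_right_inv
    exact ⟨c, c.2, congrArg Subtype.val hc⟩
  -- the maximal ideal
  have hm : (maximalIdeal A).map (algebraMap A D') = maximalIdeal D' :=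
    map_maximalIdeal_eq φ D' hD'E
  -- `s ⊆ D'`
  have hsD' : (s : Set S) ⊆ (D' : Set S) := by
    intro x hx
    have halg : IsAlgebraic A (⟨x, hsE hx⟩ : E) := isAlgebraic_of_quasiFinite_flat A E _
    obtain ⟨c, hc0, hcint⟩ := halg.exists_integral_multiple
    have hcS : IsIntegral A (c • x) := hcint.map E.val
    have hxfrac : x ∈ fracPart A (s : Set S) :=
      ⟨1, one_ne_zero, by rw [one_smul]; exact Algebra.subset_adjoin hx⟩
    have h1 : c • x ∈ D₀ := smul_mem_intPart hxfrac c hcS
    have h2 : c • x ∈ D' := le_locSub D₀ h1
    have hc2 : (algebraMap A D' c) ≠ 0 := by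
      intro h0
      have h3 : algebraMap A S c = 0 := congrArg Subtype.val h0
      have h4 := hnzd c hc0
      rw [h3] at h4
      have h5 : (1 : S) = 0 := (mem_nonZeroDivisors_iff.mp h4).1 1 (by rw [zero_mul])
      exact one_ne_zero h5
    refine mem_of_mul_eq φ D' hD'E x (hsE hx) ⟨c • x, h2⟩ (algebraMap A D' c) hc2 ?_
    change x * algebraMap A S c = c • x
    rw [Algebra.smul_def, mul_comm]
  -- conclusion
  haveI : IsLocalHom (algebraMap A D') := isLocalHom_algebraMap_subalgebra D'
  haveI : Algebra.IsSeparable (ResidueField A) (ResidueField D') :=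
    Algebra.isSeparable_tower_bot_of_isSeparable (ResidueField A) (ResidueField D')
      (ResidueField S)
  haveI : Algebra.FormallyUnramified A D' := Algebra.FormallyUnramified.of_map_maximalIdeal hm
  exact ⟨D', hD'D, hsD', inferInstance, inferInstance,
    isEssentiallyEtale_of_formallyUnramified D'⟩

end Main

end Groth.Agent.Lib.Helper3.NormalSub
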