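import Groth.Agent.Lib.Helper3.NormalSub6

/-!
# A normal local subalgebra with finitely generated fraction field is essentially étale
-/

set_option autoImplicit false
set_option linter.style.haveILetI false
set_option linter.unusedSectionVars false

universe u

namespace Groth.Agent.Lib.Helper3.NormalSub

open IsLocalRing TensorProduct Polynomial
open Groth.Agent.Lib.Helper3.EssEtaleSub Groth.Agent.Lib.Helper3.FracEssEtale
  Groth.Agent.Lib.Helper3.FracSub

section RangeForm

variable {A S : Type u} [CommRing A] [IsLocalRing A] [CommRing S] [IsLocalRing S] [Algebra A S]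
  [IsLocalHom (algebraMap A S)]

/-- An essentially étale local subalgebra dominated by `S` is the range of some `locLift`. -/
theorem exists_eq_range_locLift (D' : Subalgebra A S) [IsLocalRing D']
    [IsLocalHom (algebraMap D' S)] (hess : EGA4loc.IsEssentiallyEtale A D') :
    ∃ (E₁ : Type u) (_ : CommRing E₁) (_ : Algebra A E₁) (_ : Algebra.Etale A E₁)
      (φ₁ : E₁ →ₐ[A] S), D' = (locLift φ₁).range := by
  obtain ⟨C, _, _, q, _, hC, hq, ⟨e⟩⟩ := hess
  let φ₁ : C →ₐ[A] S :=
    D'.val.comp ((e.symm : Localization.AtPrime q →ₐ[A] D').comp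
      (IsScalarTower.toAlgHom A C (Localization.AtPrime q)))
  have hφ₁ : ∀ c : C, φ₁ c = ((e.symm (algebraMap C (Localization.AtPrime q) c) : D') : S) :=
    fun c => rfl
  refine ⟨C, inferInstance, inferInstance, hC, φ₁, ?_⟩
  apply le_antisymm
  · intro d hd
    obtain ⟨a, s, has⟩ := IsLocalization.exists_mk'_eq q.primeCompl (e ⟨d, hd⟩)
    have h1 : e ⟨d, hd⟩ * algebraMap C (Localization.AtPrime q) s =
        algebraMap C (Localization.AtPrime q) a := by
      rw [← has, IsLocalization.mk'_spec]
    have h2 : (⟨d, hd⟩ : D') * e.symm (algebraMap C (Localization.AtPrime q) s) =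
        e.symm (algebraMap C (Localization.AtPrime q) a) := by
      rw [← h1, map_mul, e.symm_apply_apply]
    have hu : IsUnit (e.symm (algebraMap C (Localization.AtPrime q) (s : C))) :=
      (IsLocalization.map_units (Localization.AtPrime q) s).map e.symm
    rw [mem_range_locLift_iff]
    refine ⟨a, s, ?_, ?_⟩
    · rw [hφ₁]; exact hu.map D'.val
    · rw [hφ₁, hφ₁]
      exact congrArg (fun z : D' => (z : S)) h2
  · intro x hx
    rw [mem_range_locLift_iff] at hx
    obtain ⟨a, s, hs, h⟩ := hx
    rw [hφ₁] at hs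
    rw [hφ₁, hφ₁] at h
    have hsu : IsUnit (e.symm (algebraMap C (Localization.AtPrime q) s)) :=
      isUnit_of_isUnit_val D' _ hs
    obtain ⟨c, hc⟩ := hsu.exists_right_inv
    have hc' : ((e.symm (algebraMap C (Localization.AtPrime q) s) : D') : S) * (c : S) = 1 :=
      congrArg (fun z : D' => (z : S)) hc
    have hx' : x = ((e.symm (algebraMap C (Localization.AtPrime q) a) * c : D') : S) := by
      calc x = x * (((e.symm (algebraMap C (Localization.AtPrime q) s) : D') : S) * (c : S)) := by
              rw [hc', mul_one]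
        _ = (x * ((e.symm (algebraMap C (Localization.AtPrime q) s) : D') : S)) * (c : S) := by
              ring
        _ = ((e.symm (algebraMap C (Localization.AtPrime q) a) : D') : S) * (c : S) := by rw [h]
        _ = _ := rfl
    rw [hx']
    exact (e.symm (algebraMap C (Localization.AtPrime q) a) * c).2

end RangeForm

section Main2

variable {A S : Type u} [CommRing A] [IsLocalRing A] [IsDomain A] [IsIntegrallyClosed A]
  [IsNoetherianRing A] [CommRing S] [IsLocalRing S] [Algebra A S] [IsLocalHom (algebraMap A S)]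
  [Module.Flat A S]

theorem isEssentiallyEtale_of_subalgebra_eq {B B' : Subalgebra A S} (h : B = B')
    (hB : EGA4loc.IsEssentiallyEtale A B) : EGA4loc.IsEssentiallyEtale A B' := by
  subst h
  exact hB

open Groth.Agent.Lib.Helper9 in
/-- A normal local subalgebra of `S`, dominated by `S`, whose fraction field is generated over `A`
by finitely many of its elements, is essentially étale over `A`. -/
theorem isEssentiallyEtale_of_fg (hcov : IsEtaleCoveredFin A S)
    (hsep : Algebra.IsSeparable (ResidueField A) (ResidueField S))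
    (D : Subalgebra A S) [IsLocalRing D] [IsLocalHom (algebraMap D S)] [IsDomain D]
    [IsIntegrallyClosed D]
    (hfg : ∃ s : Finset D, Subfield.closure (Set.range (algebraMap A (FractionRing D)) ∪
        (algebraMap D (FractionRing D)) '' (s : Set D)) = ⊤) :
    EGA4loc.IsEssentiallyEtale A D := by
  classical
  obtain ⟨s, hs⟩ := hfg
  obtain ⟨D', hD'D, hsD', _, _, hess⟩ := exists_essEtale_le hcov hsep D (s.image D.val)
    (by
      intro x hx
      simp only [Finset.coe_image, Set.mem_image] at hx
      obtain ⟨d, -, rfl⟩ := hx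
      exact d.2)
  obtain ⟨E₁, _, _, _, φ₁, hrange⟩ := exists_eq_range_locLift D' hess
  have hmin : (minimalPrimes A).Finite := by
    rw [IsDomain.minimalPrimes_eq_singleton_bot]; exact Set.finite_singleton _
  haveI : IsDomain D' :=
    (Subalgebra.inclusion_injective hD'D).isDomain (Subalgebra.inclusion hD'D).toRingHom
  -- every element of the fraction field of `D` is a quotient of elements of `D'`
  have key : ∀ z ∈ Subfield.closure (Set.range (algebraMap A (FractionRing D)) ∪
      (algebraMap D (FractionRing D)) '' (s : Set D)),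
      ∃ c₁ c₂ : D', c₂ ≠ 0 ∧ z * algebraMap D (FractionRing D) (Subalgebra.inclusion hD'D c₂) =
        algebraMap D (FractionRing D) (Subalgebra.inclusion hD'D c₁) := by
    intro z hz
    have hinj : Function.Injective (fun c : D' =>
        algebraMap D (FractionRing D) (Subalgebra.inclusion hD'D c)) :=
      (IsFractionRing.injective D _).comp (Subalgebra.inclusion_injective hD'D)
    have hne : ∀ c : D', c ≠ 0 →
        algebraMap D (FractionRing D) (Subalgebra.inclusion hD'D c) ≠ 0 := fun c hc h0 =>
      hc (hinj (h0.trans (by simp)))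
    induction hz using Subfield.closure_induction with
    | mem x hx =>
      rcases hx with ⟨a, rfl⟩ | ⟨d, hd, rfl⟩
      · refine ⟨algebraMap A D' a, 1, one_ne_zero, ?_⟩
        rw [map_one, map_one, mul_one, AlgHom.commutes, ← IsScalarTower.algebraMap_apply]
      · have hdD' : (d : S) ∈ D' := hsD' (by
          simp only [Finset.coe_image, Set.mem_image]
          exact ⟨d, hd, rfl⟩)
        refine ⟨⟨d, hdD'⟩, 1, one_ne_zero, ?_⟩
        rw [map_one, map_one, mul_one]
        rfl
    | one => exact ⟨1, 1, one_ne_zero, by simp⟩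
    | add x y _ _ hx hy =>
      obtain ⟨a₁, a₂, ha₂, hxa⟩ := hx
      obtain ⟨b₁, b₂, hb₂, hyb⟩ := hy
      refine ⟨a₁ * b₂ + b₁ * a₂, a₂ * b₂, mul_ne_zero ha₂ hb₂, ?_⟩
      simp only [map_add, map_mul]
      rw [← hxa, ← hyb]; ring
    | neg x _ hx =>
      obtain ⟨a₁, a₂, ha₂, hxa⟩ := hx
      refine ⟨-a₁, a₂, ha₂, ?_⟩
      simp only [map_neg]
      rw [← hxa]; ring
    | inv x _ hx =>
      obtain ⟨a₁, a₂, ha₂, hxa⟩ := hx
      by_cases hx0 : x = 0
      · refine ⟨0, 1, one_ne_zero, ?_⟩
        rw [hx0, inv_zero, zero_mul, map_zero, map_zero]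
      · have ha₁ : a₁ ≠ 0 := by
          rintro rfl
          rw [map_zero, map_zero] at hxa
          exact hx0 ((mul_eq_zero.mp hxa).resolve_right (hne a₂ ha₂))
        refine ⟨a₂, a₁, ha₁, ?_⟩
        rw [← hxa]
        field_simp
    | mul x y _ _ hx hy =>
      obtain ⟨a₁, a₂, ha₂, hxa⟩ := hx
      obtain ⟨b₁, b₂, hb₂, hyb⟩ := hy
      refine ⟨a₁ * b₁, a₂ * b₂, mul_ne_zero ha₂ hb₂, ?_⟩
      simp only [map_mul]
      rw [← hxa, ← hyb]; ring
  -- `D ≤ D'`
  have hDD' : D ≤ D' := by
    intro d hd
    obtain ⟨c₁, c₂, hc₂, h⟩ := key (algebraMap D (FractionRing D) ⟨d, hd⟩) (by rw [hs]; trivial)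
    have h1 : (⟨d, hd⟩ : D) * Subalgebra.inclusion hD'D c₂ = Subalgebra.inclusion hD'D c₁ := by
      apply IsFractionRing.injective D (FractionRing D)
      rw [map_mul]; exact h
    have h2 : (c₂ : S) * d = (c₁ : S) := by
      have := congrArg (fun z : D => (z : S)) h1
      rw [mul_comm]
      exact this
    have hc₂nzd : (c₂ : S) ∈ nonZeroDivisors S :=
      mem_nonZeroDivisors_of_subalgebra hmin hcov D' c₂ (mem_nonZeroDivisors_of_ne_zero hc₂)
    have h3 : d ∈ (locLift φ₁).range :=
      mem_range_locLift_of_mul_mem φ₁ (c₂ : S) (c₁ : S) d (hrange ▸ c₂.2) (hrange ▸ c₁.2)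
        hc₂nzd h2
    rw [hrange]
    exact h3
  exact isEssentiallyEtale_of_subalgebra_eq (le_antisymm hD'D hDD') hess

end Main2

end Groth.Agent.Lib.Helper3.NormalSub
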