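import Groth.Agent.H53.EtStalkHens
import Mathlib.RingTheory.Unramified.Finite
import Mathlib.RingTheory.Etale.Basic

/-!
# The étale local ring of an algebraic space at a geometric point: canonical maps from étale algebras
(helper3)

* `ringHom_ext_of_unramified`: two ring homs from an unramified algebra to a local ring which agree
  on the base and modulo the maximal ideal are equal (universe polymorphic in the target).
* `exists_nbhd_of_etale_algebra`: an étale algebra over the global functions of an étale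
  neighbourhood, with a compatible point, gives a finer étale neighbourhood.
* `canMap`: the canonical map from such an étale algebra to the étale local ring.
-/

set_option autoImplicit false
set_option linter.unusedSectionVars false
set_option linter.style.haveILetI false
set_option backward.isDefEq.respectTransparency false

universe u v

open CategoryTheory CategoryTheory.Limits AlgebraicGeometry Opposite IsLocalRing TensorProduct

namespace Groth.Agent.Lib.Helper3.OEtStalkSH

open AlgSp Groth.Agent.H53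

section Unramified

/-- Two ring homs from a finite type unramified `A`-algebra to a local ring which agree on `A`
and modulo the maximal ideal are equal. -/
theorem ringHom_ext_of_unramified {A B : Type u} {T : Type v} [CommRing A] [CommRing B]
    [CommRing T] [IsLocalRing T] [Algebra A B] [Algebra.FormallyUnramified A B]
    [Algebra.FiniteType A B] (h₁ h₂ : B →+* T)
    (hA : ∀ a, h₁ (algebraMap A B a) = h₂ (algebraMap A B a))
    (hres : ∀ b, h₁ b - h₂ b ∈ maximalIdeal T) : h₁ = h₂ := by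
  letI : Algebra A T := (h₁.comp (algebraMap A B)).toAlgebra
  let h₁' : B →ₐ[A] T := { h₁ with commutes' := fun _ => rfl }
  let h₂' : B →ₐ[A] T := { h₂ with commutes' := fun a => (hA a).symm }
  let Θ : B ⊗[A] B →ₐ[A] T := Algebra.TensorProduct.lift h₁' h₂' (fun _ _ => Commute.all _ _)
  let Θ' : B ⊗[A] B →ₐ[A] T := Algebra.TensorProduct.lift h₁' h₁' (fun _ _ => Commute.all _ _)
  have hΘ : ∀ b b' : B, Θ (b ⊗ₜ b') = h₁ b * h₂ b' := fun b b' =>
    Algebra.TensorProduct.lift_tmul _ _ _ _ _
  have hΘ' : ∀ b b' : B, Θ' (b ⊗ₜ b') = h₁ b * h₁ b' := fun b b' =>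
    Algebra.TensorProduct.lift_tmul _ _ _ _ _
  have hΘ'mul : ∀ x : B ⊗[A] B, Θ' x = h₁ (Algebra.TensorProduct.lmul' A x) := by
    intro x
    induction x using TensorProduct.induction_on with
    | zero => simp
    | tmul b b' => rw [hΘ', Algebra.TensorProduct.lmul'_apply_tmul, map_mul]
    | add x y hx hy => rw [map_add, map_add, map_add, hx, hy]
  have hdiff : ∀ x : B ⊗[A] B, Θ x - Θ' x ∈ maximalIdeal T := by
    intro x
    induction x using TensorProduct.induction_on with
    | zero => simp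
    | tmul b b' =>
      rw [hΘ, hΘ', ← mul_sub]
      apply Ideal.mul_mem_left
      have := hres b'
      rw [← neg_sub]
      exact neg_mem this
    | add x y hx hy =>
      rw [map_add, map_add, add_sub_add_comm]
      exact add_mem hx hy
  set t := Algebra.FormallyUnramified.elem A B with ht
  have hτ1 : Θ' t = 1 := by
    rw [hΘ'mul, Algebra.FormallyUnramified.lmul_elem, map_one]
  have hτu : IsUnit (Θ t) := by
    by_contra hnu
    have h1 : Θ t ∈ maximalIdeal T := (mem_maximalIdeal _).mpr hnu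
    have h2 := sub_mem h1 (hdiff t)
    rw [sub_sub_cancel, hτ1] at h2
    exact (maximalIdeal.isMaximal T).ne_top ((Ideal.eq_top_iff_one _).mpr h2)
  ext s
  have h3 := congrArg Θ (Algebra.FormallyUnramified.one_tmul_mul_elem (R := A) (S := B) s)
  rw [map_mul, map_mul, hΘ, hΘ, map_one, map_one, one_mul, mul_one] at h3
  exact (hτu.mul_left_inj.mp h3).symm

end Unramified

variable {S : Scheme.{u}} {Y : Sp S}

section KeyLemma

/-- An étale algebra over the ring of global functions of an étale neighbourhood, with a point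
compatible with the geometric point, gives a finer étale neighbourhood on which the algebra maps to
the global functions. -/
theorem exists_nbhd_of_etale_algebra (p : FieldPt Y) (N : EtNbhd p)
    (B : Type u) [CommRing B] [Algebra Γ(N.1.obj.left.left, ⊤) B]
    [Algebra.Etale Γ(N.1.obj.left.left, ⊤) B]
    (β : B →+* p.K) (hβ : ∀ a, β (algebraMap Γ(N.1.obj.left.left, ⊤) B a) = evA p N a) :
    ∃ (N' : EtNbhd p) (g : N' ⟶ N) (γ : B →+* Γ(N'.1.obj.left.left, ⊤)),
      (∀ a, γ (algebraMap Γ(N.1.obj.left.left, ⊤) B a) = g.1.hom.left.left.appTop.hom a) ∧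
      ∀ b, evA p N' (γ b) = β b := by
  let Z : Scheme.{u} := N.1.obj.left.left
  let A : CommRingCat.{u} := Γ(Z, ⊤)
  let l : Spec (CommRingCat.of p.K) ⟶ Z := N.2.1.left
  let B' : CommRingCat.{u} := CommRingCat.of B
  let φ : A ⟶ B' := CommRingCat.ofHom (algebraMap A B)
  let βc : B' ⟶ CommRingCat.of p.K := CommRingCat.ofHom β
  have hφβ : φ ≫ βc = l.appTop ≫ (Scheme.ΓSpecIso (CommRingCat.of p.K)).hom := by
    apply CommRingCat.hom_ext
    apply RingHom.ext
    intro a
    exact hβ a
  have hφ : Etale (Spec.map φ) := by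
    rw [HasRingHomProperty.Spec_iff (P := @Etale)]
    exact RingHom.etale_algebraMap.2 inferInstance
  let Z' : Scheme.{u} := pullback Z.toSpecΓ (Spec.map φ)
  let π : Z' ⟶ Z := pullback.fst _ _
  let σ : Z' ⟶ Spec B' := pullback.snd _ _
  have hπ : Etale π := inferInstance
  have hcond : π ≫ Z.toSpecΓ = σ ≫ Spec.map φ := pullback.condition
  have hcompat : l ≫ Z.toSpecΓ = Spec.map βc ≫ Spec.map φ := by
    rw [Scheme.toSpecΓ_naturality, ← SpecMap_ΓSpecIso_hom, ← Spec.map_comp, ← Spec.map_comp, hφβ]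
  let l' : Spec (CommRingCat.of p.K) ⟶ Z' := pullback.lift l (Spec.map βc) hcompat
  have hl'π : l' ≫ π = l := pullback.lift_fst _ _ _
  have hl'σ : l' ≫ σ = Spec.map βc := pullback.lift_snd _ _ _
  -- the new étale neighbourhood
  let U' : Over S := Over.mk (π ≫ N.1.obj.left.hom)
  let πO : U' ⟶ N.1.obj.left := Over.homMk π rfl
  let E' : EtOver Y := EtOver.mk ((yon S).map πO ≫ N.1.obj.hom)
    ((repWith_isMultiplicative (S := S) @Etale).comp_mem _ _
      ((repWith_yon_map_iff _ _).2 (show Etale π from hπ)) N.1.property)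
  let gE : E' ⟶ N.1 := EtOver.homMk πO rfl
  have hl'str : l' ≫ π ≫ N.1.obj.left.hom = p.pt.hom := by
    rw [← Category.assoc, hl'π]
    exact Over.w N.2.1
  let l'O : p.pt ⟶ U' := Over.homMk l' hl'str
  have hl'O : l'O ≫ πO = N.2.1 := Over.OverMorphism.ext hl'π
  have hlift : (yon S).map l'O ≫ E'.obj.hom = p.toHom := by
    change (yon S).map l'O ≫ (yon S).map πO ≫ N.1.obj.hom = p.toHom
    rw [← Category.assoc, ← Functor.map_comp, hl'O]
    exact N.2.2
  let N' : EtNbhd p := ⟨E', ⟨l'O, hlift⟩⟩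
  let g : N' ⟶ N := ⟨gE, Subtype.ext hl'O⟩
  let γ : B' ⟶ Γ(Z', ⊤) := (Scheme.ΓSpecIso B').inv ≫ σ.appTop
  have hγ : π.appTop = φ ≫ γ := by
    have h2 := congrArg Scheme.Hom.appTop hcond
    rw [Scheme.Hom.comp_appTop, Scheme.Hom.comp_appTop, Scheme.toSpecΓ_appTop] at h2
    have h3 : π.appTop = (Scheme.ΓSpecIso A).inv ≫ (Spec.map φ).appTop ≫ σ.appTop := by
      rw [← h2, Iso.inv_hom_id_assoc]
    rw [h3, ← Category.assoc, ← Scheme.ΓSpecIso_inv_naturality, Category.assoc]
  refine ⟨N', g, γ.hom, ?_, ?_⟩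
  · intro a
    have h4 : π.appTop.hom = γ.hom.comp (algebraMap A B) := congrArg CommRingCat.Hom.hom hγ
    exact (DFunLike.congr_fun h4 a).symm
  · intro b
    change (Scheme.ΓSpecIso (CommRingCat.of p.K)).hom.hom
      (l'.appTop.hom (σ.appTop.hom ((Scheme.ΓSpecIso B').inv.hom b))) = β b
    have h6 : (Scheme.ΓSpecIso B').inv ≫ σ.appTop ≫ l'.appTop ≫
        (Scheme.ΓSpecIso (CommRingCat.of p.K)).hom = βc := by
      rw [← Category.assoc σ.appTop, ← Scheme.Hom.comp_appTop, hl'σ, ← Category.assoc,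
        ← Scheme.ΓSpecIso_inv_naturality, Category.assoc, Iso.inv_hom_id, Category.comp_id]
    exact ConcreteCategory.congr_hom h6 b

end KeyLemma

section CanMap

/-- Existence of the canonical map from an étale algebra with a point to the étale local ring. -/
theorem exists_canMap (p : FieldPt Y) (N : EtNbhd p)
    (B : Type u) [CommRing B] [Algebra Γ(N.1.obj.left.left, ⊤) B]
    [Algebra.Etale Γ(N.1.obj.left.left, ⊤) B]
    (β : B →+* p.K) (hβ : ∀ a, β (algebraMap Γ(N.1.obj.left.left, ⊤) B a) = evA p N a) :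
    ∃ h : B →+* ↥(OEtStalk p),
      (∀ a, h (algebraMap Γ(N.1.obj.left.left, ⊤) B a) = ιA p N a) ∧
      ∀ b, evStalk p (h b) = β b := by
  obtain ⟨N', g, γ, hγ1, hγ2⟩ := exists_nbhd_of_etale_algebra p N B β hβ
  refine ⟨(ιA p N').comp γ, fun a => ?_, fun b => ?_⟩
  · rw [RingHom.comp_apply, hγ1, ← ιA_map p g a]
  · rw [RingHom.comp_apply, evStalk_ιA, hγ2]

/-- Uniqueness of the canonical map. -/
theorem canMap_unique (hX : IsAlgSpace Y) (p : FieldPt Y) (hp : p.IsGeometric) (N : EtNbhd p)
    (B : Type u) [CommRing B] [Algebra Γ(N.1.obj.left.left, ⊤) B]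
    [Algebra.Etale Γ(N.1.obj.left.left, ⊤) B]
    (β : B →+* p.K) (h₁ h₂ : B →+* ↥(OEtStalk p))
    (h₁A : ∀ a, h₁ (algebraMap Γ(N.1.obj.left.left, ⊤) B a) = ιA p N a)
    (h₁β : ∀ b, evStalk p (h₁ b) = β b)
    (h₂A : ∀ a, h₂ (algebraMap Γ(N.1.obj.left.left, ⊤) B a) = ιA p N a)
    (h₂β : ∀ b, evStalk p (h₂ b) = β b) : h₁ = h₂ := by
  letI := isLocalRing_OEtStalk hX p hp
  apply ringHom_ext_of_unramified (A := Γ(N.1.obj.left.left, ⊤)) h₁ h₂
  · intro a
    rw [h₁A, h₂A]
  · intro b
    rw [mem_maximalIdeal_OEtStalk_iff hX p hp, map_sub, h₁β, h₂β, sub_self]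

/-- The canonical map from an étale algebra with a point to the étale local ring. -/
noncomputable def canMap (p : FieldPt Y) (N : EtNbhd p)
    (B : Type u) [CommRing B] [Algebra Γ(N.1.obj.left.left, ⊤) B]
    [Algebra.Etale Γ(N.1.obj.left.left, ⊤) B]
    (β : B →+* p.K) (hβ : ∀ a, β (algebraMap Γ(N.1.obj.left.left, ⊤) B a) = evA p N a) :
    B →+* ↥(OEtStalk p) := (exists_canMap p N B β hβ).choose

theorem canMap_algebraMap (p : FieldPt Y) (N : EtNbhd p)
    (B : Type u) [CommRing B] [Algebra Γ(N.1.obj.left.left, ⊤) B]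
    [Algebra.Etale Γ(N.1.obj.left.left, ⊤) B]
    (β : B →+* p.K) (hβ : ∀ a, β (algebraMap Γ(N.1.obj.left.left, ⊤) B a) = evA p N a)
    (a : Γ(N.1.obj.left.left, ⊤)) :
    canMap p N B β hβ (algebraMap Γ(N.1.obj.left.left, ⊤) B a) = ιA p N a :=
  (exists_canMap p N B β hβ).choose_spec.1 a

theorem evStalk_canMap (p : FieldPt Y) (N : EtNbhd p)
    (B : Type u) [CommRing B] [Algebra Γ(N.1.obj.left.left, ⊤) B]
    [Algebra.Etale Γ(N.1.obj.left.left, ⊤) B]
    (β : B →+* p.K) (hβ : ∀ a, β (algebraMap Γ(N.1.obj.left.left, ⊤) B a) = evA p N a) (b : B) :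
    evStalk p (canMap p N B β hβ b) = β b :=
  (exists_canMap p N B β hβ).choose_spec.2 b

theorem eq_canMap (hX : IsAlgSpace Y) (p : FieldPt Y) (hp : p.IsGeometric) (N : EtNbhd p)
    (B : Type u) [CommRing B] [Algebra Γ(N.1.obj.left.left, ⊤) B]
    [Algebra.Etale Γ(N.1.obj.left.left, ⊤) B]
    (β : B →+* p.K) (hβ : ∀ a, β (algebraMap Γ(N.1.obj.left.left, ⊤) B a) = evA p N a)
    (h : B →+* ↥(OEtStalk p))
    (hA : ∀ a, h (algebraMap Γ(N.1.obj.left.left, ⊤) B a) = ιA p N a)
    (hβ' : ∀ b, evStalk p (h b) = β b) : h = canMap p N B β hβ :=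
  canMap_unique hX p hp N B β h _ hA hβ' (canMap_algebraMap p N B β hβ) (evStalk_canMap p N B β hβ)

end CanMap

end Groth.Agent.Lib.Helper3.OEtStalkSH
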