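import Groth.Agent.Lib.Helper3.OEtStalkSH1
import Groth.Agent.Lib.Helper9.HensK.Basic
import Mathlib.FieldTheory.IsSepClosed
import Mathlib.RingTheory.Etale.Field
import Mathlib.Algebra.Ring.Shrink

/-!
# The étale local ring of an algebraic space at a geometric point is a colimit of pointed étale
algebras over an affine étale neighbourhood (helper3)

For an affine étale neighbourhood `N₀` of a geometric point `p` of an algebraic space, with ring of
functions `A`, and a field `κ` between `A` and `p.K`, the étale local ring `OEtStalk p` is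
isomorphic to `PtColim A Ks`, `Ks` the separable closure of `κ` in `p.K`.
-/

set_option autoImplicit false
set_option linter.unusedSectionVars false
set_option linter.style.haveILetI false
set_option backward.isDefEq.respectTransparency false

universe u

open CategoryTheory CategoryTheory.Limits AlgebraicGeometry Opposite IsLocalRing TensorProduct

namespace Groth.Agent.Lib.Helper3.OEtStalkSH

open AlgSp Groth.Agent.H53 Groth.Agent.Lib.Helper9.HensK

section Separable

/-- A point of an étale algebra with values in a field extension has separable coordinates. -/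
theorem isSeparable_of_etale_point {A κ K : Type u} [CommRing A] [Field κ] [Field K]
    [Algebra A κ] [Algebra κ K] [Algebra A K] [IsScalarTower A κ K]
    (B : Type u) [CommRing B] [Algebra A B] [Algebra.Etale A B] (β : B →ₐ[A] K) (b : B) :
    IsSeparable κ (β b) := by
  let β' : κ ⊗[A] B →ₐ[κ] K :=
    Algebra.TensorProduct.lift (Algebra.ofId κ K) β (fun _ _ => Commute.all _ _)
  have hβ' : β' (1 ⊗ₜ b) = β b := by
    simp [β']
  let P : Ideal (κ ⊗[A] B) := RingHom.ker β'
  haveI : P.IsPrime := RingHom.ker_isPrime β'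
  haveI : Algebra.IsSeparable κ ((κ ⊗[A] B) ⧸ P) := inferInstance
  let β'' : (κ ⊗[A] B) ⧸ P →ₐ[κ] K := Ideal.Quotient.liftₐ P β' (fun a ha => ha)
  have hx : IsSeparable κ (Ideal.Quotient.mk P ((1 : κ) ⊗ₜ[A] b)) :=
    Algebra.IsSeparable.isSeparable κ _
  have h1 : β'' (Ideal.Quotient.mk P ((1 : κ) ⊗ₜ[A] b)) = β b := by
    rw [← hβ']
    rfl
  rw [← h1]
  unfold IsSeparable at hx ⊢
  refine hx.of_dvd (minpoly.dvd κ _ ?_)
  rw [Polynomial.aeval_algHom_apply, minpoly.aeval, map_zero]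

end Separable

variable {S : Scheme.{u}} {Y : Sp S}

section Shrink

/-- Every étale neighbourhood can be shrunk to an affine one. -/
theorem exists_affine_shrink (p : FieldPt Y) (N : EtNbhd p) :
    ∃ (W : EtNbhd p) (_ : W ⟶ N), IsAffine W.1.obj.left.left := by
  obtain ⟨D, hD, hzD, -⟩ := exists_isAffineOpen_mem_and_subset (x := etNbhdPt p N)
    (U := (⊤ : N.1.obj.left.left.Opens)) trivial
  exact ⟨etNbhdOpen p N D hzD, etNbhdOpenHom p N D hzD, hD⟩

/-- A morphism of affine étale neighbourhoods induces an étale ring map on global functions. -/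
theorem etale_appTop (p : FieldPt Y) {W N : EtNbhd p} [IsAffine W.1.obj.left.left]
    [IsAffine N.1.obj.left.left] (h : W ⟶ N) : h.1.hom.left.left.appTop.hom.Etale := by
  have h1 : Etale h.1.hom.left.left := EtOver.etale_left h.1
  exact (HasRingHomProperty.iff_of_isAffine (P := @Etale)).mp h1

end Shrink

section Main

variable (hX : IsAlgSpace Y) (p : FieldPt Y) (hp : p.IsGeometric)
  (N₀ : EtNbhd p) [IsAffine N₀.1.obj.left.left]
  (κ : Type u) [Field κ] [Algebra Γ(N₀.1.obj.left.left, ⊤) κ] [Algebra κ p.K]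
  (hκ : ∀ a, algebraMap κ p.K (algebraMap Γ(N₀.1.obj.left.left, ⊤) κ a) = evA p N₀ a)

/-- The algebra structure of the separable closure of `κ` in `p.K` over the functions on `N₀`. -/
@[reducible] noncomputable def algAKs :
    Algebra Γ(N₀.1.obj.left.left, ⊤) ↥(separableClosure κ p.K) :=
  ((algebraMap κ ↥(separableClosure κ p.K)).comp (algebraMap Γ(N₀.1.obj.left.left, ⊤) κ)).toAlgebra

attribute [local instance] algAKs

/-- The point of a pointed étale algebra, with values in `p.K`. -/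
noncomputable def βN (N : PtEt Γ(N₀.1.obj.left.left, ⊤) ↥(separableClosure κ p.K)) : N.S →+* p.K :=
  (algebraMap ↥(separableClosure κ p.K) p.K).comp N.σ.toRingHom

include hκ in
theorem hβN (N : PtEt Γ(N₀.1.obj.left.left, ⊤) ↥(separableClosure κ p.K))
    (a : Γ(N₀.1.obj.left.left, ⊤)) :
    βN p N₀ κ N (algebraMap Γ(N₀.1.obj.left.left, ⊤) N.S a) = evA p N₀ a := by
  change algebraMap ↥(separableClosure κ p.K) p.K (N.σ (algebraMap _ N.S a)) = _
  rw [AlgHom.commutes, ← hκ a]
  rfl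

/-- The canonical map from a pointed étale algebra to the étale local ring. -/
noncomputable def gN (N : PtEt Γ(N₀.1.obj.left.left, ⊤) ↥(separableClosure κ p.K)) :
    N.S →+* ↥(OEtStalk p) :=
  canMap p N₀ N.S (βN p N₀ κ N) (hβN p N₀ κ hκ N)

include hX hp in
theorem gN_comp {N₁ N₂ : PtEt Γ(N₀.1.obj.left.left, ⊤) ↥(separableClosure κ p.K)} (f : N₁ ⟶ N₂)
    (y : N₁.S) : gN p N₀ κ hκ N₂ (f.1 y) = gN p N₀ κ hκ N₁ y := by
  have h : (gN p N₀ κ hκ N₂).comp f.1.toRingHom = gN p N₀ κ hκ N₁ := by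
    apply eq_canMap hX p hp N₀ N₁.S (βN p N₀ κ N₁) (hβN p N₀ κ hκ N₁)
    · intro a
      change gN p N₀ κ hκ N₂ (f.1 (algebraMap _ N₁.S a)) = _
      rw [AlgHom.commutes]
      exact canMap_algebraMap p N₀ N₂.S _ _ a
    · intro b
      change evStalk p (gN p N₀ κ hκ N₂ (f.1 b)) = _
      rw [gN, evStalk_canMap]
      change algebraMap ↥(separableClosure κ p.K) p.K (N₂.σ (f.1 b)) =
        algebraMap ↥(separableClosure κ p.K) p.K (N₁.σ b)
      rw [PtEt.Hom.σ_apply]
  exact DFunLike.congr_fun h y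

include hX hp hκ in
/-- The comparison for an affine étale neighbourhood over `N₀`: it gives a pointed étale algebra
whose canonical map is the structure map of the neighbourhood. -/
theorem exists_ptEt_of_nbhd (W : EtNbhd p) [IsAffine W.1.obj.left.left] (h : W ⟶ N₀) :
    ∃ (N : PtEt Γ(N₀.1.obj.left.left, ⊤) ↥(separableClosure κ p.K))
      (e : Γ(W.1.obj.left.left, ⊤) →+* N.S),
      (∀ b, gN p N₀ κ hκ N (e b) = ιA p W b) ∧
      ∀ (N₁ : PtEt Γ(N₀.1.obj.left.left, ⊤) ↥(separableClosure κ p.K))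
        (f : N₁.S →+* Γ(W.1.obj.left.left, ⊤)),
        (∀ a, f (algebraMap _ N₁.S a) = h.1.hom.left.left.appTop.hom a) →
        (∀ y, evA p W (f y) = βN p N₀ κ N₁ y) →
        ∃ m : N₁ ⟶ N, ∀ y, m.1 y = e (f y) := by
  letI algAB : Algebra Γ(N₀.1.obj.left.left, ⊤) Γ(W.1.obj.left.left, ⊤) :=
    h.1.hom.left.left.appTop.hom.toAlgebra
  haveI hEt : Algebra.Etale Γ(N₀.1.obj.left.left, ⊤) Γ(W.1.obj.left.left, ⊤) :=
    etale_appTop p h
  letI algAK : Algebra Γ(N₀.1.obj.left.left, ⊤) p.K := (evA p N₀).toAlgebra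
  haveI : IsScalarTower Γ(N₀.1.obj.left.left, ⊤) κ p.K :=
    IsScalarTower.of_algebraMap_eq fun a => (hκ a).symm
  let βalg : Γ(W.1.obj.left.left, ⊤) →ₐ[Γ(N₀.1.obj.left.left, ⊤)] p.K :=
    { evA p W with commutes' := fun a => evA_map p h a }
  have hsep : ∀ b, evA p W b ∈ separableClosure κ p.K := fun b =>
    isSeparable_of_etale_point (κ := κ) Γ(W.1.obj.left.left, ⊤) βalg b
  let σ : Γ(W.1.obj.left.left, ⊤) →ₐ[Γ(N₀.1.obj.left.left, ⊤)] ↥(separableClosure κ p.K) :=
    { (evA p W).codRestrict (separableClosure κ p.K) hsep with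
      commutes' := fun a => by
        apply Subtype.ext
        change evA p W (h.1.hom.left.left.appTop.hom a) = _
        rw [evA_map p h a, ← hκ a]
        rfl }
  have hσ : ∀ b, algebraMap ↥(separableClosure κ p.K) p.K (σ b) = evA p W b := fun b => rfl
  refine ⟨PtEt.of Γ(W.1.obj.left.left, ⊤) σ,
    (PtEt.ofEquiv Γ(W.1.obj.left.left, ⊤) σ).toAlgHom.toRingHom, ?_, ?_⟩
  · intro b
    have hβW : ∀ a, evA p W (algebraMap Γ(N₀.1.obj.left.left, ⊤) Γ(W.1.obj.left.left, ⊤) a) =
        evA p N₀ a := fun a => evA_map p h a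
    have h1 : (gN p N₀ κ hκ (PtEt.of Γ(W.1.obj.left.left, ⊤) σ)).comp
        (PtEt.ofEquiv Γ(W.1.obj.left.left, ⊤) σ).toAlgHom.toRingHom = ιA p W := by
      apply canMap_unique hX p hp N₀ Γ(W.1.obj.left.left, ⊤) (evA p W)
      · intro a
        change gN p N₀ κ hκ _ (PtEt.ofEquiv Γ(W.1.obj.left.left, ⊤) σ (algebraMap _ _ a)) = _
        rw [AlgEquiv.commutes]
        exact canMap_algebraMap p N₀ _ _ _ a
      · intro b
        change evStalk p (gN p N₀ κ hκ _ (PtEt.ofEquiv Γ(W.1.obj.left.left, ⊤) σ b)) = _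
        rw [gN, evStalk_canMap]
        change algebraMap ↥(separableClosure κ p.K) p.K
          ((PtEt.of Γ(W.1.obj.left.left, ⊤) σ).σ (PtEt.ofEquiv Γ(W.1.obj.left.left, ⊤) σ b)) = _
        rw [PtEt.of_σ_apply, hσ]
      · intro a
        exact (ιA_map p h a).symm
      · intro b
        exact evStalk_ιA p W b
    exact DFunLike.congr_fun h1 b
  · intro N₁ f hfA hfβ
    let f' : N₁.S →ₐ[Γ(N₀.1.obj.left.left, ⊤)] Γ(W.1.obj.left.left, ⊤) :=
      { f with commutes' := hfA }
    have hf : σ.comp f' = N₁.σ := by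
      ext y
      change evA p W (f y) = _
      rw [hfβ y]
      rfl
    exact ⟨PtEt.homOf N₁ Γ(W.1.obj.left.left, ⊤) σ f' hf, fun y => rfl⟩

include hX hp hκ in
/-- Every element of the étale local ring comes from a pointed étale algebra over `N₀`. -/
theorem exists_gN_eq (s : ↥(OEtStalk p)) :
    ∃ (N : PtEt Γ(N₀.1.obj.left.left, ⊤) ↥(separableClosure κ p.K)) (y : N.S),
      gN p N₀ κ hκ N y = s := by
  obtain ⟨N₁, a₁, rfl⟩ := ιA_surjective hX p hp s
  obtain ⟨W, g₁, g₀, -⟩ := cone_objs_etNbhd p N₁ N₀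
  obtain ⟨W', j, hW'⟩ := exists_affine_shrink p W
  obtain ⟨N, e, he, -⟩ := exists_ptEt_of_nbhd hX p hp N₀ κ hκ W' (j ≫ g₀)
  refine ⟨N, e ((j ≫ g₁).1.hom.left.left.appTop.hom a₁), ?_⟩
  rw [he, ← ιA_map p (j ≫ g₁) a₁]

include hX hp hκ in
/-- The étale local ring at a geometric point is essentially small. -/
theorem small_OEtStalk : Small.{u} ↥(OEtStalk p) := by
  let F : (Σ N : PtEt Γ(N₀.1.obj.left.left, ⊤) ↥(separableClosure κ p.K), N.S) → ↥(OEtStalk p) :=
    fun x => gN p N₀ κ hκ x.1 x.2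
  have hF : Function.Surjective F := fun s => by
    obtain ⟨N, y, h⟩ := exists_gN_eq hX p hp N₀ κ hκ s
    exact ⟨⟨N, y⟩, h⟩
  exact small_of_surjective hF

theorem appTop_comp_apply {N₁ N₂ N₃ : EtNbhd p} (f : N₁ ⟶ N₂) (g : N₂ ⟶ N₃)
    (a : Γ(N₃.1.obj.left.left, ⊤)) :
    (f ≫ g).1.hom.left.left.appTop.hom a =
      f.1.hom.left.left.appTop.hom (g.1.hom.left.left.appTop.hom a) := rfl

include hX hp hκ in
/-- The kernel of the canonical maps: an element of a pointed étale algebra which dies in the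
étale local ring dies in the colimit of pointed étale algebras. -/
theorem ι_eq_zero_of_gN_eq_zero (N : PtEt Γ(N₀.1.obj.left.left, ⊤) ↥(separableClosure κ p.K))
    (y : N.S) (hy : gN p N₀ κ hκ N y = 0) : PtColim.ι N y = 0 := by
  obtain ⟨N', g, γ, hγ1, hγ2⟩ :=
    exists_nbhd_of_etale_algebra p N₀ N.S (βN p N₀ κ N) (hβN p N₀ κ hκ N)
  have h1 : (ιA p N').comp γ = gN p N₀ κ hκ N := by
    apply eq_canMap hX p hp N₀ N.S (βN p N₀ κ N) (hβN p N₀ κ hκ N)
    · intro a
      rw [RingHom.comp_apply, hγ1, ← ιA_map p g a]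
    · intro b
      rw [RingHom.comp_apply, evStalk_ιA, hγ2]
  have h2 : ιA p N' (γ y) = ιA p N' 0 := by
    rw [map_zero, ← hy, ← h1]
    rfl
  obtain ⟨N'', k, hk⟩ := (ιA_eq_iff hX p hp N' (γ y) 0).mp h2
  obtain ⟨W', j, hW'⟩ := exists_affine_shrink p N''
  obtain ⟨M, e', -, hM⟩ := exists_ptEt_of_nbhd hX p hp N₀ κ hκ W' ((j ≫ k) ≫ g)
  let f : N.S →+* Γ(W'.1.obj.left.left, ⊤) := ((j ≫ k).1.hom.left.left.appTop.hom).comp γ
  have hfA : ∀ a, f (algebraMap _ N.S a) = ((j ≫ k) ≫ g).1.hom.left.left.appTop.hom a := by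
    intro a
    change (j ≫ k).1.hom.left.left.appTop.hom (γ (algebraMap _ N.S a)) = _
    rw [hγ1]
    rfl
  have hfβ : ∀ y', evA p W' (f y') = βN p N₀ κ N y' := by
    intro y'
    change evA p W' ((j ≫ k).1.hom.left.left.appTop.hom (γ y')) = _
    rw [evA_map p (j ≫ k), hγ2]
  obtain ⟨m, hm⟩ := hM N f hfA hfβ
  have hfy : f y = 0 := by
    change (j ≫ k).1.hom.left.left.appTop.hom (γ y) = 0
    rw [appTop_comp_apply, hk, map_zero, map_zero]
  rw [← PtColim.ι_comp m, hm, hfy, map_zero, map_zero]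

include hX hp hκ in
/-- **The étale local ring at a geometric point as a colimit of pointed étale algebras over an
affine étale neighbourhood.** -/
theorem exists_ringEquiv :
    Nonempty (PtColim Γ(N₀.1.obj.left.left, ⊤) ↥(separableClosure κ p.K) ≃+* ↥(OEtStalk p)) := by
  haveI := small_OEtStalk hX p hp N₀ κ hκ
  let e : Shrink.{u} ↥(OEtStalk p) ≃+* ↥(OEtStalk p) := Shrink.ringEquiv _
  let Φ : PtColim Γ(N₀.1.obj.left.left, ⊤) ↥(separableClosure κ p.K) →+*
      Shrink.{u} ↥(OEtStalk p) :=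
    PtColim.desc (fun N => e.symm.toRingHom.comp (gN p N₀ κ hκ N)) (fun N₁ N₂ f x => by
      change e.symm (gN p N₀ κ hκ N₂ (f.1 x)) = e.symm (gN p N₀ κ hκ N₁ x)
      rw [gN_comp hX p hp N₀ κ hκ f x])
  have hΦ : ∀ (N : PtEt Γ(N₀.1.obj.left.left, ⊤) ↥(separableClosure κ p.K)) (y : N.S),
      Φ (PtColim.ι N y) = e.symm (gN p N₀ κ hκ N y) := fun N y => PtColim.desc_ι _ _ N y
  have hinj : Function.Injective Φ := by
    rw [injective_iff_map_eq_zero]
    intro x hx
    obtain ⟨N, y, rfl⟩ := PtColim.exists_rep x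
    rw [hΦ] at hx
    have h0 : gN p N₀ κ hκ N y = 0 := by
      have := congrArg e hx
      rwa [RingEquiv.apply_symm_apply, map_zero] at this
    exact ι_eq_zero_of_gN_eq_zero hX p hp N₀ κ hκ N y h0
  have hsurj : Function.Surjective Φ := by
    intro s'
    obtain ⟨N, y, h⟩ := exists_gN_eq hX p hp N₀ κ hκ (e s')
    refine ⟨PtColim.ι N y, ?_⟩
    rw [hΦ, h, RingEquiv.symm_apply_apply]
  exact ⟨(RingEquiv.ofBijective Φ ⟨hinj, hsurj⟩).trans e⟩

end Main

end Groth.Agent.Lib.Helper3.OEtStalkSH
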