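import Groth.Agent.Lib.Helper3.OEtStalkSH2
import Groth.Agent.Lib.Helper3.BrnchScheme
import Groth.Agent.Lib.Helper3.HensEquiv

/-!
# The étale local ring of an algebraic space at a geometric point is a strict henselization of the
local ring of any étale neighbourhood (helper3)
-/

set_option autoImplicit false
set_option linter.unusedSectionVars false
set_option linter.style.haveILetI false
set_option backward.isDefEq.respectTransparency false

universe u

open CategoryTheory CategoryTheory.Limits AlgebraicGeometry Opposite IsLocalRing TensorProduct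

namespace Groth.Agent.Lib.Helper3.OEtStalkSH

open AlgSp Groth.Agent.H53 Groth.Agent.Lib.Helper9.HensK

variable {S : Scheme.{u}} {Y : Sp S}

section Affine

theorem stalkClosedPointTo_germ_top (p : FieldPt Y) (N : EtNbhd p)
    (a : Γ(N.1.obj.left.left, ⊤)) :
    (Scheme.stalkClosedPointTo N.2.1.left).hom
      ((N.1.obj.left.left.presheaf.germ ⊤ (etNbhdPt p N) trivial).hom a) = evA p N a := by
  have h := Scheme.germ_stalkClosedPointTo N.2.1.left (⊤ : N.1.obj.left.left.Opens) trivial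
  have h2 := ConcreteCategory.congr_hom h a
  refine h2.trans ?_
  simp [evA, Scheme.Hom.appTop]

/-- **The étale local ring at a geometric point is a strict henselization of the local ring of an
affine étale neighbourhood.** -/
theorem exists_strictHenselization_ringEquiv_of_isAffine (hX : IsAlgSpace Y) (p : FieldPt Y)
    (hp : p.IsGeometric) (N₀ : EtNbhd p) [IsAffine N₀.1.obj.left.left] :
    ∃ (Ash : Type u) (_ : CommRing Ash) (_ : IsLocalRing Ash)
      (_ : Algebra ↑(N₀.1.obj.left.left.presheaf.stalk (etNbhdPt p N₀)) Ash)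
      (_ : IsLocalHom (algebraMap ↑(N₀.1.obj.left.left.presheaf.stalk (etNbhdPt p N₀)) Ash)),
      Hensel.IsStrictHenselization ↑(N₀.1.obj.left.left.presheaf.stalk (etNbhdPt p N₀)) Ash ∧
      Nonempty (Ash ≃+* ↥(OEtStalk p)) := by
  have hp' : IsAlgClosed p.K := hp
  have hW : IsAffineOpen (⊤ : N₀.1.obj.left.left.Opens) := isAffineOpen_top _
  let ψ : ↑(N₀.1.obj.left.left.presheaf.stalk (etNbhdPt p N₀)) →+* p.K :=
    (Scheme.stalkClosedPointTo N₀.2.1.left).hom
  haveI hψ : IsLocalHom ψ := Scheme.isLocalHom_stalkClosedPointTo' N₀.2.1.left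
  letI algLK : Algebra ↑(N₀.1.obj.left.left.presheaf.stalk (etNbhdPt p N₀)) p.K := ψ.toAlgebra
  letI algκK : Algebra (ResidueField ↑(N₀.1.obj.left.left.presheaf.stalk (etNbhdPt p N₀))) p.K :=
    (ResidueField.lift ψ).toAlgebra
  letI algRL : Algebra Γ(N₀.1.obj.left.left, ⊤)
      ↑(N₀.1.obj.left.left.presheaf.stalk (etNbhdPt p N₀)) :=
    BrnchScheme.algRL (etNbhdPt p N₀) ⊤ trivial
  letI algAκ : Algebra Γ(N₀.1.obj.left.left, ⊤)
      (ResidueField ↑(N₀.1.obj.left.left.presheaf.stalk (etNbhdPt p N₀))) :=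
    ((algebraMap ↑(N₀.1.obj.left.left.presheaf.stalk (etNbhdPt p N₀)) _).comp
      (N₀.1.obj.left.left.presheaf.germ ⊤ (etNbhdPt p N₀) trivial).hom).toAlgebra
  have hκ : ∀ a, algebraMap (ResidueField ↑(N₀.1.obj.left.left.presheaf.stalk (etNbhdPt p N₀)))
      p.K (algebraMap Γ(N₀.1.obj.left.left, ⊤) _ a) = evA p N₀ a := by
    intro a
    change ResidueField.lift ψ (residue _ ((N₀.1.obj.left.left.presheaf.germ ⊤
      (etNbhdPt p N₀) trivial).hom a)) = _
    rw [ResidueField.lift_residue_apply]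
    exact stalkClosedPointTo_germ_top p N₀ a
  obtain ⟨e⟩ := exists_ringEquiv hX p hp N₀
    (ResidueField ↑(N₀.1.obj.left.left.presheaf.stalk (etNbhdPt p N₀))) hκ
  letI algAKs := algAKs p N₀ (ResidueField ↑(N₀.1.obj.left.left.presheaf.stalk (etNbhdPt p N₀)))
  letI algLKs : Algebra ↑(N₀.1.obj.left.left.presheaf.stalk (etNbhdPt p N₀))
      ↥(separableClosure (ResidueField ↑(N₀.1.obj.left.left.presheaf.stalk (etNbhdPt p N₀))) p.K) :=
    ((algebraMap (ResidueField ↑(N₀.1.obj.left.left.presheaf.stalk (etNbhdPt p N₀))) _).comp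
      (algebraMap ↑(N₀.1.obj.left.left.presheaf.stalk (etNbhdPt p N₀)) _)).toAlgebra
  haveI : IsScalarTower ↑(N₀.1.obj.left.left.presheaf.stalk (etNbhdPt p N₀))
      (ResidueField ↑(N₀.1.obj.left.left.presheaf.stalk (etNbhdPt p N₀)))
      ↥(separableClosure (ResidueField ↑(N₀.1.obj.left.left.presheaf.stalk (etNbhdPt p N₀))) p.K) :=
    IsScalarTower.of_algebraMap_eq fun _ => rfl
  haveI : IsScalarTower Γ(N₀.1.obj.left.left, ⊤)
      ↑(N₀.1.obj.left.left.presheaf.stalk (etNbhdPt p N₀))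
      ↥(separableClosure (ResidueField ↑(N₀.1.obj.left.left.presheaf.stalk (etNbhdPt p N₀))) p.K) :=
    IsScalarTower.of_algebraMap_eq fun _ => rfl
  haveI : IsSepClosure (ResidueField ↑(N₀.1.obj.left.left.presheaf.stalk (etNbhdPt p N₀)))
      ↥(separableClosure (ResidueField ↑(N₀.1.obj.left.left.presheaf.stalk (etNbhdPt p N₀))) p.K) :=
    separableClosure.isSepClosure _ _
  haveI : IsLocalization.AtPrime ↑(N₀.1.obj.left.left.presheaf.stalk (etNbhdPt p N₀))
      (hW.primeIdealOf ⟨etNbhdPt p N₀, trivial⟩).asIdeal :=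
    hW.isLocalization_stalk ⟨etNbhdPt p N₀, trivial⟩
  haveI : IsLocalHom (algebraMap ↑(N₀.1.obj.left.left.presheaf.stalk (etNbhdPt p N₀))
      ↥(separableClosure (ResidueField ↑(N₀.1.obj.left.left.presheaf.stalk (etNbhdPt p N₀))) p.K)) :=
    BrnchScheme.isLocalHom_of_tower _ _
  letI := PtColimLocal.algebraL (hW.primeIdealOf ⟨etNbhdPt p N₀, trivial⟩).asIdeal
    ↑(N₀.1.obj.left.left.presheaf.stalk (etNbhdPt p N₀))
    ↥(separableClosure (ResidueField ↑(N₀.1.obj.left.left.presheaf.stalk (etNbhdPt p N₀))) p.K)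
  haveI := PtColimLocal.isScalarTower_algebraL (hW.primeIdealOf ⟨etNbhdPt p N₀, trivial⟩).asIdeal
    ↑(N₀.1.obj.left.left.presheaf.stalk (etNbhdPt p N₀))
    ↥(separableClosure (ResidueField ↑(N₀.1.obj.left.left.presheaf.stalk (etNbhdPt p N₀))) p.K)
  haveI := PtColimLocal.isLocalHom_algebraMap (hW.primeIdealOf ⟨etNbhdPt p N₀, trivial⟩).asIdeal
    ↑(N₀.1.obj.left.left.presheaf.stalk (etNbhdPt p N₀))
    ↥(separableClosure (ResidueField ↑(N₀.1.obj.left.left.presheaf.stalk (etNbhdPt p N₀))) p.K)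
  have hSH := PtColimLocal.isStrictHenselization
    (hW.primeIdealOf ⟨etNbhdPt p N₀, trivial⟩).asIdeal
    ↑(N₀.1.obj.left.left.presheaf.stalk (etNbhdPt p N₀))
    ↥(separableClosure (ResidueField ↑(N₀.1.obj.left.left.presheaf.stalk (etNbhdPt p N₀))) p.K)
  exact ⟨_, inferInstance, inferInstance, inferInstance, inferInstance, hSH, ⟨e⟩⟩

end Affine

section General

/-- **The étale local ring at a geometric point is a strict henselization of the local ring of any
étale neighbourhood at its point.** -/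
theorem exists_strictHenselization_ringEquiv (hX : IsAlgSpace Y) (p : FieldPt Y)
    (hp : p.IsGeometric) (N : EtNbhd p) :
    ∃ (Ash : Type u) (_ : CommRing Ash) (_ : IsLocalRing Ash)
      (_ : Algebra ↑(N.1.obj.left.left.presheaf.stalk (etNbhdPt p N)) Ash)
      (_ : IsLocalHom (algebraMap ↑(N.1.obj.left.left.presheaf.stalk (etNbhdPt p N)) Ash)),
      Hensel.IsStrictHenselization ↑(N.1.obj.left.left.presheaf.stalk (etNbhdPt p N)) Ash ∧
      Nonempty (Ash ≃+* ↥(OEtStalk p)) := by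
  obtain ⟨D, hD, hzD, -⟩ := exists_isAffineOpen_mem_and_subset (x := etNbhdPt p N)
    (U := (⊤ : N.1.obj.left.left.Opens)) trivial
  haveI : IsAffine (etNbhdOpen p N D hzD).1.obj.left.left := hD
  obtain ⟨Ash, _, _, algL', hloc', hSH', he⟩ :=
    exists_strictHenselization_ringEquiv_of_isAffine hX p hp (etNbhdOpen p N D hzD)
  have h : D.ι (etNbhdPt p (etNbhdOpen p N D hzD)) = etNbhdPt p N :=
    etNbhdPt_map p (etNbhdOpenHom p N D hzD)
  let φ₁ : N.1.obj.left.left.presheaf.stalk (etNbhdPt p N) ≅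
      N.1.obj.left.left.presheaf.stalk (D.ι (etNbhdPt p (etNbhdOpen p N D hzD))) :=
    N.1.obj.left.left.presheaf.stalkCongr (.of_eq h.symm)
  let φ₂ : N.1.obj.left.left.presheaf.stalk (D.ι (etNbhdPt p (etNbhdOpen p N D hzD))) ≅
      (D : Scheme.{u}).presheaf.stalk (etNbhdPt p (etNbhdOpen p N D hzD)) :=
    asIso (D.ι.stalkMap (etNbhdPt p (etNbhdOpen p N D hzD)))
  let φ : ↑(N.1.obj.left.left.presheaf.stalk (etNbhdPt p N)) ≃+*
      ↑((etNbhdOpen p N D hzD).1.obj.left.left.presheaf.stalk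
        (etNbhdPt p (etNbhdOpen p N D hzD))) :=
    (φ₁ ≪≫ φ₂).commRingCatIsoToRingEquiv
  letI algL : Algebra ↑(N.1.obj.left.left.presheaf.stalk (etNbhdPt p N)) Ash :=
    ((algebraMap _ Ash).comp φ.toRingHom).toAlgebra
  haveI hloc : IsLocalHom (algebraMap ↑(N.1.obj.left.left.presheaf.stalk (etNbhdPt p N)) Ash) :=
    HensEquiv.isLocalHom_comp_ringEquiv (algebraMap _ Ash) φ
  have hSH : Hensel.IsStrictHenselization
      ↑(N.1.obj.left.left.presheaf.stalk (etNbhdPt p N)) Ash :=
    HensEquiv.isStrictHenselization_of_ringEquiv (S := Ash) φ rfl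
  exact ⟨Ash, inferInstance, inferInstance, algL, hloc, hSH, he⟩

end General

end Groth.Agent.Lib.Helper3.OEtStalkSH
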