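import Groth.Agent.Lib.Helper3.OEtStalkSH3
import Groth.Agent.S2743
import Groth.Agent.Lib.Helper9.Hens.NoetherianHens
import Groth.Agent.Lib.Helper9.Hens.Dimension

/-!
# Consequences of `OEtStalk p` being a strict henselization of the local ring of an étale chart
(helper3)

For an étale chart `a : h_U ⟶ X` and a point `u` of `U` lying over the class of the geometric point
`p`, the ring `OEtStalk p` is (isomorphic to) a strict henselization of `𝒪_{U,u}`.  Hence: number of
minimal primes = number of geometric branches, equal Krull dimension, Noetherian iff, regular iff.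
-/

set_option autoImplicit false
set_option linter.unusedSectionVars false
set_option linter.style.haveILetI false
set_option backward.isDefEq.respectTransparency false

universe u

open CategoryTheory CategoryTheory.Limits AlgebraicGeometry Opposite IsLocalRing TensorProduct

namespace Groth.Agent.Lib.Helper3.OEtStalkSH

open AlgSp Groth.Agent.H53

variable {S : Scheme.{u}} {Y : Sp S}

/-- **Chart version**: for an étale chart `a : h_U ⟶ Y` and `u ∈ U` over the class of the geometric
point `p`, the étale local ring at `p` is a strict henselization of `𝒪_{U,u}`. -/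
theorem exists_strictHenselization_ringEquiv_chart (hX : IsAlgSpace Y) (p : FieldPt Y)
    (hp : p.IsGeometric) {U : Over S} (a : (yon S).obj U ⟶ Y) (ha : RepWith @Etale a)
    (u : ↥U.left) (h : Points.ofPt a u = Points.mk p) :
    ∃ (Ash : Type u) (_ : CommRing Ash) (_ : IsLocalRing Ash)
      (_ : Algebra ↑(U.left.presheaf.stalk u) Ash)
      (_ : IsLocalHom (algebraMap ↑(U.left.presheaf.stalk u) Ash)),
      Hensel.IsStrictHenselization ↑(U.left.presheaf.stalk u) Ash ∧
      Nonempty (Ash ≃+* ↥(OEtStalk p)) := by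
  obtain ⟨l, hl⟩ := exists_lift_through_point hX p hp (EtOver.mk a ha) u h.symm
  subst hl
  exact exists_strictHenselization_ringEquiv hX p hp ⟨EtOver.mk a ha, l⟩

theorem encard_minimalPrimes_OEtStalk (hX : IsAlgSpace Y) (p : FieldPt Y)
    (hp : p.IsGeometric) {U : Over S} (a : (yon S).obj U ⟶ Y) (ha : RepWith @Etale a)
    (u : ↥U.left) (h : Points.ofPt a u = Points.mk p) :
    (minimalPrimes ↥(OEtStalk p)).encard = Brnch.numGeomBranchesAt U.left u := by
  obtain ⟨Ash, _, _, _, _, hSH, ⟨e⟩⟩ := exists_strictHenselization_ringEquiv_chart hX p hp a ha u h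
  rw [← ENat.card_coe_set_eq, ← HensEquiv.card_minimalPrimes_congr e]
  exact Groth.Agent.S9238.result _ Ash

theorem ringKrullDim_OEtStalk (hX : IsAlgSpace Y) (p : FieldPt Y)
    (hp : p.IsGeometric) {U : Over S} (a : (yon S).obj U ⟶ Y) (ha : RepWith @Etale a)
    (u : ↥U.left) (h : Points.ofPt a u = Points.mk p) :
    ringKrullDim ↥(OEtStalk p) = ringKrullDim ↥(U.left.presheaf.stalk u) := by
  obtain ⟨Ash, _, _, _, _, hSH, ⟨e⟩⟩ := exists_strictHenselization_ringEquiv_chart hX p hp a ha u h
  rw [← ringKrullDim_eq_of_ringEquiv e]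
  exact Groth.Agent.Lib.Helper9.ringKrullDim_eq_of_isStrictHenselization _ Ash

theorem isNoetherianRing_OEtStalk_iff (hX : IsAlgSpace Y) (p : FieldPt Y)
    (hp : p.IsGeometric) {U : Over S} (a : (yon S).obj U ⟶ Y) (ha : RepWith @Etale a)
    (u : ↥U.left) (h : Points.ofPt a u = Points.mk p) :
    IsNoetherianRing ↥(OEtStalk p) ↔ IsNoetherianRing ↥(U.left.presheaf.stalk u) := by
  obtain ⟨Ash, _, _, _, _, hSH, ⟨e⟩⟩ := exists_strictHenselization_ringEquiv_chart hX p hp a ha u h
  rw [Groth.Agent.Lib.Helper9.isNoetherianRing_iff_of_isStrictHenselization _ Ash]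
  exact ⟨fun _ => isNoetherianRing_of_ringEquiv _ e.symm,
    fun _ => isNoetherianRing_of_ringEquiv _ e⟩

theorem isRegularLocalRing_OEtStalk_iff (hX : IsAlgSpace Y) (p : FieldPt Y)
    (hp : p.IsGeometric) {U : Over S} (a : (yon S).obj U ⟶ Y) (ha : RepWith @Etale a)
    (u : ↥U.left) (h : Points.ofPt a u = Points.mk p) :
    IsRegularLocalRing ↥(OEtStalk p) ↔ IsRegularLocalRing ↥(U.left.presheaf.stalk u) := by
  obtain ⟨Ash, _, _, _, _, hSH, ⟨e⟩⟩ := exists_strictHenselization_ringEquiv_chart hX p hp a ha u h
  constructor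
  · intro hreg
    have h1 : IsRegularLocalRing Ash := IsRegularLocalRing.of_ringEquiv e.symm
    have hN : IsNoetherianRing ↑(U.left.presheaf.stalk u) :=
      (Groth.Agent.Lib.Helper9.isNoetherianRing_iff_of_isStrictHenselization _ Ash).mpr
        inferInstance
    exact (Groth.Agent.S2743.result _ Ash).mp h1
  · intro hreg
    have h1 : IsRegularLocalRing Ash := (Groth.Agent.S2743.result _ Ash).mpr hreg
    exact IsRegularLocalRing.of_ringEquiv e

end Groth.Agent.Lib.Helper3.OEtStalkSH
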