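import Groth.Agent.Lib.Helper3.OEtStalkSH4
import Groth.Agent.Lib.Helper3.AlgSpBranches
import Groth.Agent.S9236

/-!
# Charts through a point of an algebraic space, chart invariance of étale-local invariants (helper3)
-/

set_option autoImplicit false
set_option linter.unusedSectionVars false
set_option linter.style.haveILetI false
set_option backward.isDefEq.respectTransparency false

universe u

open CategoryTheory CategoryTheory.Limits AlgebraicGeometry Opposite IsLocalRing TensorProduct

namespace Groth.Agent.Lib.Helper3.OEtStalkSH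

open AlgSp Groth.Agent.H53 Groth.Agent.Lib.Helper3.BrnchScheme
  Groth.Agent.Lib.Helper3.AlgSpBranches

variable {S : Scheme.{u}} {Y : Sp S}

/-- A representable surjective morphism from a scheme hits every point. -/
theorem exists_ofPt_eq_of_surjective {U : Over S} (a : (yon S).obj U ⟶ Y)
    (ha2 : RepWith @Surjective a) (x : Points Y) : ∃ u : ↥U.left, Points.ofPt a u = x := by
  obtain ⟨y, hy⟩ := H52.surjective_points_of_repWith_surjective a ha2 x
  obtain ⟨u, rfl⟩ := (Points.schemeEquiv U).surjective y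
  exact ⟨u, (Points.ofPt_eq_map_ofScheme a u).trans hy⟩

/-- Through every point of an algebraic space passes an étale chart. -/
theorem exists_chart (hX : IsAlgSpace Y) (x : Points Y) :
    ∃ (U : Over S) (a : (yon S).obj U ⟶ Y) (u : ↥U.left),
      RepWith @Etale a ∧ Points.ofPt a u = x := by
  obtain ⟨U, a, ha1, ha2⟩ := hX.atlas
  obtain ⟨u, hu⟩ := exists_ofPt_eq_of_surjective a ha2 x
  exact ⟨U, a, u, ha1, hu⟩

/-- Over every point of an étale chart lies a geometric point. -/
theorem exists_geometric_of_chart {U : Over S} (a : (yon S).obj U ⟶ Y) (ha : RepWith @Etale a)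
    (u : ↥U.left) : ∃ p : FieldPt Y, p.IsGeometric ∧ Points.mk p = Points.ofPt a u := by
  obtain ⟨p, hp, -, -, h⟩ := exists_geometric_lift' (EtOver.mk a ha) u
  exact ⟨p, hp, h⟩

/-- Over every point of an algebraic space lies a geometric point. -/
theorem exists_geometric_over (hX : IsAlgSpace Y) (x : Points Y) :
    ∃ p : FieldPt Y, p.IsGeometric ∧ Points.mk p = x := by
  obtain ⟨U, a, u, ha, rfl⟩ := exists_chart hX x
  exact exists_geometric_of_chart a ha u

/-- An étale chart of a geometric point. -/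
theorem exists_chart_of_geometric (hX : IsAlgSpace Y) (p : FieldPt Y) (hp : p.IsGeometric) :
    ∃ (U : Over S) (a : (yon S).obj U ⟶ Y) (u : ↥U.left),
      RepWith @Etale a ∧ Points.ofPt a u = Points.mk p := by
  obtain ⟨N⟩ := nonempty_etNbhd hX p hp
  exact ⟨N.1.obj.left, N.1.obj.hom, etNbhdPt p N, N.1.property, ofPt_etNbhdPt p N⟩

/-- Composing an étale chart with an étale morphism of schemes gives an étale chart. -/
theorem chart_comp {U : Over S} (a : (yon S).obj U ⟶ Y) (ha : RepWith @Etale a)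
    {V : Scheme.{u}} (g : V ⟶ U.left) (hg : Etale g) (v : V) :
    RepWith @Etale ((yon S).map (Over.homMk g rfl : Over.mk (g ≫ U.hom) ⟶ U) ≫ a) ∧
      Points.ofPt ((yon S).map (Over.homMk g rfl : Over.mk (g ≫ U.hom) ⟶ U) ≫ a) v =
        Points.ofPt a (g v) := by
  refine ⟨?_, ?_⟩
  · exact (AlgSp.RepWith (S := S) @Etale).comp_mem _ _
      ((AlgSp.repWith_yon_map_iff _ _).2 hg) ha
  · rw [Groth.Agent.H53.ofPt_yon_map_comp]
    rfl

section Invariance

variable (hX : IsAlgSpace Y) {U₁ U₂ : Over S} (a₁ : (yon S).obj U₁ ⟶ Y)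
  (a₂ : (yon S).obj U₂ ⟶ Y) (ha₁ : RepWith @Etale a₁) (ha₂ : RepWith @Etale a₂)
  (u₁ : ↥U₁.left) (u₂ : ↥U₂.left) (h : Points.ofPt a₁ u₁ = Points.ofPt a₂ u₂)

include hX ha₁ ha₂ h

theorem numGeomBranchesAt_chart_eq :
    Brnch.numGeomBranchesAt U₁.left u₁ = Brnch.numGeomBranchesAt U₂.left u₂ := by
  obtain ⟨p, hp, hp1⟩ := exists_geometric_of_chart a₁ ha₁ u₁
  rw [← encard_minimalPrimes_OEtStalk hX p hp a₁ ha₁ u₁ hp1.symm,
    ← encard_minimalPrimes_OEtStalk hX p hp a₂ ha₂ u₂ (h.symm.trans hp1.symm)]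

theorem ringKrullDim_chart_eq :
    ringKrullDim ↥(U₁.left.presheaf.stalk u₁) = ringKrullDim ↥(U₂.left.presheaf.stalk u₂) := by
  obtain ⟨p, hp, hp1⟩ := exists_geometric_of_chart a₁ ha₁ u₁
  rw [← ringKrullDim_OEtStalk hX p hp a₁ ha₁ u₁ hp1.symm,
    ← ringKrullDim_OEtStalk hX p hp a₂ ha₂ u₂ (h.symm.trans hp1.symm)]

theorem isNoetherianRing_chart_iff :
    IsNoetherianRing ↥(U₁.left.presheaf.stalk u₁) ↔
      IsNoetherianRing ↥(U₂.left.presheaf.stalk u₂) := by
  obtain ⟨p, hp, hp1⟩ := exists_geometric_of_chart a₁ ha₁ u₁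
  rw [← isNoetherianRing_OEtStalk_iff hX p hp a₁ ha₁ u₁ hp1.symm,
    ← isNoetherianRing_OEtStalk_iff hX p hp a₂ ha₂ u₂ (h.symm.trans hp1.symm)]

theorem isRegularLocalRing_chart_iff :
    IsRegularLocalRing ↥(U₁.left.presheaf.stalk u₁) ↔
      IsRegularLocalRing ↥(U₂.left.presheaf.stalk u₂) := by
  obtain ⟨p, hp, hp1⟩ := exists_geometric_of_chart a₁ ha₁ u₁
  rw [← isRegularLocalRing_OEtStalk_iff hX p hp a₁ ha₁ u₁ hp1.symm,
    ← isRegularLocalRing_OEtStalk_iff hX p hp a₂ ha₂ u₂ (h.symm.trans hp1.symm)]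

end Invariance

section Scheme

theorem encard_minimalPrimes_le_numGeomBranchesAt (U : Scheme.{u}) (u : U) :
    (minimalPrimes ↥(U.presheaf.stalk u)).encard ≤ Brnch.numGeomBranchesAt U u := by
  rw [← encard_components_eq, numGeomBranchesAt_eq_iSup]
  exact le_iSup_of_le U (le_iSup_of_le (𝟙 U) (le_iSup_of_le u
    (le_iSup_of_le ⟨inferInstance, rfl⟩ le_rfl)))

end Scheme

section Branches

variable (hX : IsAlgSpace Y) (x : Points Y)

include hX

/-- If all charts over `x` have at most `n` minimal primes in their local rings, then the number of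
geometric branches at any chart over `x` is at most `n`. -/
theorem numGeomBranchesAt_le_of_forall_chart (n : ℕ∞)
    (H : ∀ (U : Over S) (a : (yon S).obj U ⟶ Y) (u : ↥U.left),
      RepWith @Etale a → Points.ofPt a u = x →
        (minimalPrimes ↥(U.left.presheaf.stalk u)).encard ≤ n)
    {U : Over S} (a : (yon S).obj U ⟶ Y) (ha : RepWith @Etale a) (u : ↥U.left)
    (hu : Points.ofPt a u = x) : Brnch.numGeomBranchesAt U.left u ≤ n := by
  rw [numGeomBranchesAt_eq_iSup]
  refine iSup_le fun V => iSup_le fun g => iSup_le fun v => iSup_le fun hg => ?_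
  obtain ⟨hEt, hgv⟩ := hg
  obtain ⟨h1, h2⟩ := chart_comp a ha g hEt v
  rw [encard_components_eq]
  exact H (Over.mk (g ≫ U.hom)) _ v h1 (by rw [h2, hgv]; exact hu)

/-- If the number of geometric branches at a chart over `x` is a finite number `n`, some chart over
`x` has exactly `n` minimal primes in its local ring. -/
theorem exists_chart_encard_eq (n : ℕ)
    {U : Over S} (a : (yon S).obj U ⟶ Y) (ha : RepWith @Etale a) (u : ↥U.left)
    (hu : Points.ofPt a u = x) (hn : Brnch.numGeomBranchesAt U.left u = n) :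
    ∃ (U' : Over S) (a' : (yon S).obj U' ⟶ Y) (u' : ↥U'.left),
      RepWith @Etale a' ∧ Points.ofPt a' u' = x ∧
        (minimalPrimes ↥(U'.left.presheaf.stalk u')).encard = n := by
  obtain ⟨V, g, v, ⟨hEt, hgv⟩, hle⟩ := exists_etale_of_le_numGeomBranchesAt u n hn.ge
  obtain ⟨h1, h2⟩ := chart_comp a ha g hEt v
  have h3 : Points.ofPt ((yon S).map (Over.homMk g rfl : Over.mk (g ≫ U.hom) ⟶ U) ≫ a) v = x := by
    rw [h2, hgv]; exact hu
  refine ⟨Over.mk (g ≫ U.hom), _, v, h1, h3, ?_⟩
  rw [encard_components_eq] at hle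
  refine le_antisymm ?_ hle
  rw [← hn, ← numGeomBranchesAt_chart_eq hX _ a h1 ha v u (h3.trans hu.symm)]
  exact encard_minimalPrimes_le_numGeomBranchesAt _ v

/-- All charts over `x` have a unique minimal prime in the local ring iff the number of geometric
branches at one chart over `x` is one. -/
theorem forall_chart_hasUniqueMinimalPrime_iff
    {U : Over S} (a : (yon S).obj U ⟶ Y) (ha : RepWith @Etale a) (u : ↥U.left)
    (hu : Points.ofPt a u = x) :
    (∀ (U' : Over S) (a' : (yon S).obj U' ⟶ Y) (u' : ↥U'.left),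
      RepWith @Etale a' → Points.ofPt a' u' = x →
        CAlgX.HasUniqueMinimalPrime ↥(U'.left.presheaf.stalk u')) ↔
      Brnch.numGeomBranchesAt U.left u = 1 := by
  constructor
  · intro H
    apply le_antisymm
    · refine numGeomBranchesAt_le_of_forall_chart hX x 1 ?_ a ha u hu
      intro U' a' u' ha' hu'
      exact ((hasUniqueMinimalPrime_iff_encard _).mp (H U' a' u' ha' hu')).le
    · refine le_trans ?_ (encard_minimalPrimes_le_numGeomBranchesAt U.left u)
      rw [← encard_components_eq]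
      exact one_le_encard_components U.left u
  · intro H U' a' u' ha' hu'
    rw [hasUniqueMinimalPrime_iff_encard]
    apply le_antisymm
    · rw [← H, numGeomBranchesAt_chart_eq hX a a' ha ha' u u' (hu.trans hu'.symm)]
      exact encard_minimalPrimes_le_numGeomBranchesAt _ u'
    · rw [← encard_components_eq]
      exact one_le_encard_components U'.left u'

end Branches

end Groth.Agent.Lib.Helper3.OEtStalkSH
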