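import Groth.Agent.Lib.Helper3.HfpColimit
import Groth.Agent.Lib.Helper3.IdemBij

/-!
# Tools for henselizations of pairs (helper3)

* `exists_etale_nbhd_of_etNbhd` : every stage `N` of the colimit defining the henselization maps
  to an étale neighbourhood with trivial residue extension, compatibly with the maps to `B`.
* `isPairHenselization_of_etale_nbhd` : a henselization `P` of `(R, J)` is also a henselization of
  `(S, JS)` for every étale `R`-algebra `S` with `R/J ≅ S/JS` mapping to `P`.
* `exists_etale_nbhd_factor` : maps from finitely presented algebras to a henselization factor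
  through an étale neighbourhood.
* `isPairHenselization_quotient` : quotients of henselizations.
-/

set_option autoImplicit false
set_option linter.unusedSectionVars false
set_option linter.style.haveILetI false

namespace Groth.Agent.Lib.Helper3

universe u

open Groth.Agent.Lib.Helper9 Groth.Agent.Lib.Helper9.Hens

section Stage

variable {A : Type u} [CommRing A] {I : Ideal A} {B : Type u} [CommRing B] [Algebra A B]

theorem exists_etale_nbhd_of_etNbhd (hB : Hens2.IsPairHenselization A I B) (N : EtNbhd A I) :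
    ∃ (A' : Type u) (_ : CommRing A') (_ : Algebra A A') (_ : Algebra.Etale A A'),
      Function.Bijective
        (Ideal.quotientMap (I.map (algebraMap A A')) (algebraMap A A') Ideal.le_comap_map) ∧
      ∃ (φ : A' →ₐ[A] B) (ι' : N.S →ₐ[A] A'),
        ∀ y : N.S, algEquivPairHens hB (φ (ι' y)) = PairHens.ι N y := by
  let e := algEquivPairHens hB
  obtain ⟨A', _, _, _, ι', hbij, hι'⟩ := exists_etale_lift I N.σ
  have hq : Function.Bijective
      (Ideal.quotientMap (I.map (algebraMap A A')) (algebraMap A A') Ideal.le_comap_map) := hbij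
  have hq' : ∀ s : A', ∃ r : A, s - algebraMap A A' r ∈ I.map (algebraMap A A') :=
    ((quotientMap_bijective_iff (I := I) (S := A')).mp hq).1
  obtain ⟨⟨⟨φ⟩, -⟩⟩ := nonempty_unique_algHom_of_etale_of_bijective hB A' hq
  refine ⟨A', inferInstance, inferInstance, inferInstance, hq, φ, ι', ?_⟩
  let σ₂ : A' →ₐ[A] A ⧸ I := (PairHens.residue.comp (e : B →ₐ[A] PairHens A I)).comp φ
  have hσ₂ : σ₂.comp ι' = N.σ := by
    ext z
    obtain ⟨a, ha⟩ := Ideal.Quotient.mk_surjective (N.σ z)
    have h1 := hι' z
    rw [← ha] at h1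
    have h2 : ι' z - algebraMap A A' a ∈ I.map (algebraMap A A') := by
      rw [← Ideal.Quotient.eq]
      exact h1
    rw [AlgHom.comp_apply, algHom_quotient_apply_eq σ₂ (ι' z) a h2, ha]
  let N₂ := EtNbhd.of A' σ₂
  let g : N ⟶ N₂ := EtNbhd.homOf N A' σ₂ ι' hσ₂
  have h3 : ((e : B →ₐ[A] PairHens A I).comp φ) =
      (PairHens.ιₐ N₂).comp (EtNbhd.ofEquiv A' σ₂).toAlgHom :=
    algHom_subsingleton_of_etale_of_surjective I (I.map (algebraMap A (PairHens A I))) hq' le_rfl
      PairHens.map_le_jacobson _ _
  intro y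
  have h4 : e (φ (ι' y)) = PairHens.ι N₂ (EtNbhd.ofEquiv A' σ₂ (ι' y)) :=
    DFunLike.congr_fun h3 (ι' y)
  have h5 : PairHens.ι N₂ (g.1 y) = PairHens.ι N y := PairHens.ι_comp g y
  rw [EtNbhd.homOf_apply] at h5
  rw [h5] at h4
  exact h4

end Stage

section EtaleNbhd

variable {R : Type u} [CommRing R] {J : Ideal R} {P : Type u} [CommRing P] [Algebra R P]
  {S : Type u} [CommRing S] [Algebra R S] [Algebra.Etale R S] [Algebra S P] [IsScalarTower R S P]

/-- A henselization of `(R, J)` is a henselization of every étale neighbourhood with trivial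
residue extension mapping to it. -/
theorem isPairHenselization_of_etale_nbhd (hP : Hens2.IsPairHenselization R J P)
    (hq : Function.Bijective
      (Ideal.quotientMap (J.map (algebraMap R S)) (algebraMap R S) Ideal.le_comap_map)) :
    Hens2.IsPairHenselization S (J.map (algebraMap R S)) P := by
  have hmap : (J.map (algebraMap R S)).map (algebraMap S P) = J.map (algebraMap R P) := by
    rw [Ideal.map_map, ← IsScalarTower.algebraMap_eq]
  have hq' : ∀ s : S, ∃ r : R, s - algebraMap R S r ∈ J.map (algebraMap R S) :=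
    ((quotientMap_bijective_iff (I := J) (S := S)).mp hq).1
  refine ⟨hmap ▸ hP.1, ?_⟩
  intro C _ K f hC hle
  have hle' : J.map (f.comp (algebraMap R S)) ≤ K := by
    rw [← Ideal.map_map]; exact hle
  obtain ⟨g, hg, hguniq⟩ := hP.2 C K (f.comp (algebraMap R S)) hC hle'
  refine ⟨g, ?_, ?_⟩
  · -- `g ∘ alg_{S→P} = f` since both are `R`-maps out of the étale algebra `S`
    letI : Algebra R C := (f.comp (algebraMap R S)).toAlgebra
    let F₁ : S →ₐ[R] C :=
      { g.comp (algebraMap S P) with
        commutes' := fun r => by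
          change g (algebraMap S P (algebraMap R S r)) = f (algebraMap R S r)
          rw [← IsScalarTower.algebraMap_apply R S P]
          exact DFunLike.congr_fun hg r }
    let F₂ : S →ₐ[R] C := { f with commutes' := fun r => rfl }
    have hJK : J.map (algebraMap R C) ≤ K := hle'
    have := algHom_subsingleton_of_etale_of_surjective J K hq' hJK hC.jac F₁ F₂
    ext s
    exact DFunLike.congr_fun this s
  · intro g' hg'
    apply hguniq
    rw [IsScalarTower.algebraMap_eq R S P, ← RingHom.comp_assoc, hg']

end EtaleNbhd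

section Descent

variable {S : Type u} [CommRing S] {J : Ideal S} {C : Type u} [CommRing C] [Algebra S C]
  {A : Type u} [CommRing A] [Algebra A S] [Algebra A C] [IsScalarTower A S C]
  {W : Type u} [CommRing W] [Algebra A W] [Algebra.FinitePresentation A W]

/-- **Descent.** A map from a finitely presented `A`-algebra `W` to a henselization `C` of
`(S, J)` (`S` an `A`-algebra) factors through an étale neighbourhood of `(S, J)` with trivial
residue extension. (Ring hom version: `θ₁` is a ring hom compatible with the maps from `A`.) -/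
theorem exists_etale_nbhd_factor' (hC : Hens2.IsPairHenselization S J C) (θ₀ : W →ₐ[A] C) :
    ∃ (S' : Type u) (_ : CommRing S') (_ : Algebra S S') (_ : Algebra.Etale S S'),
      Function.Bijective
        (Ideal.quotientMap (J.map (algebraMap S S')) (algebraMap S S') Ideal.le_comap_map) ∧
      ∃ (φ : S' →ₐ[S] C) (θ₁ : W →+* S'),
        (∀ a, θ₁ (algebraMap A W a) = algebraMap S S' (algebraMap A S a)) ∧
        ∀ w, φ (θ₁ w) = θ₀ w := by
  classical
  let e := algEquivPairHens hC
  obtain ⟨n, f, hf, hker⟩ := Algebra.FinitePresentation.out (R := A) (A := W)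
  -- Step 1: lift the generators to a stage `N`
  obtain ⟨N, hN⟩ := PairHens.exists_common
    (Finset.univ.image (fun i : Fin n => e (θ₀ (f (MvPolynomial.X i)))))
  have hN' : ∀ i : Fin n, ∃ y : N.S, PairHens.ι N y = e (θ₀ (f (MvPolynomial.X i))) :=
    fun i => hN _ (Finset.mem_image_of_mem _ (Finset.mem_univ i))
  choose y hy using hN'
  -- Step 2: the polynomial map at stage `N`
  let ψ : MvPolynomial (Fin n) A →+* N.S :=
    MvPolynomial.eval₂Hom ((algebraMap S N.S).comp (algebraMap A S)) y
  have hψ : ∀ p, PairHens.ι N (ψ p) = e (θ₀ (f p)) := by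
    intro p
    have : (PairHens.ι N).comp ψ =
        ((e : C →+* PairHens S J).comp (θ₀ : W →+* C)).comp (f : MvPolynomial (Fin n) A →+* W) := by
      apply MvPolynomial.ringHom_ext
      · intro a
        change PairHens.ι N (ψ (MvPolynomial.C a)) = e (θ₀ (f (MvPolynomial.C a)))
        have h1 : ψ (MvPolynomial.C a) = algebraMap S N.S (algebraMap A S a) := by
          simp [ψ]
        rw [h1, PairHens.ι_algebraMap]
        have h2 : f (MvPolynomial.C a) = algebraMap A W a := by
          rw [← MvPolynomial.algebraMap_eq, f.commutes]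
        rw [h2, θ₀.commutes, IsScalarTower.algebraMap_apply A S C, e.commutes]
      · intro i
        change PairHens.ι N (ψ (MvPolynomial.X i)) = e (θ₀ (f (MvPolynomial.X i)))
        have h1 : ψ (MvPolynomial.X i) = y i := by simp [ψ]
        rw [h1, hy]
    exact DFunLike.congr_fun this p
  -- Step 3: kill the relations
  obtain ⟨s, hs⟩ := hker
  have hkill : ∀ s' : Finset (MvPolynomial (Fin n) A), (∀ g ∈ s', f g = 0) →
      ∃ (N' : EtNbhd S J) (u : N ⟶ N'), ∀ g ∈ s', u.1 (ψ g) = 0 := by
    intro s'
    induction s' using Finset.induction_on with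
    | empty => exact fun _ => ⟨N, CategoryTheory.CategoryStruct.id N, by simp⟩
    | insert g₀ s' _ ih =>
      intro hall
      obtain ⟨N', u, hu⟩ := ih (fun g hg => hall g (Finset.mem_insert_of_mem hg))
      have h0 : PairHens.ι N' (u.1 (ψ g₀)) = PairHens.ι N' 0 := by
        rw [PairHens.ι_comp, hψ, hall g₀ (Finset.mem_insert_self _ _), map_zero, map_zero,
          map_zero]
      obtain ⟨N'', v, hv⟩ := (PairHens.ι_eq_iff _ _).mp h0
      refine ⟨N'', CategoryTheory.CategoryStruct.comp u v, ?_⟩
      intro g hg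
      rw [EtNbhd.comp_val, AlgHom.comp_apply]
      rcases Finset.mem_insert.mp hg with rfl | hg
      · rw [hv, map_zero]
      · rw [hu g hg, map_zero]
  obtain ⟨N', u, hu⟩ := hkill s (fun g hg => by
    have : g ∈ RingHom.ker f.toRingHom := hs ▸ Ideal.subset_span hg
    exact this)
  -- Step 4: pass to an étale neighbourhood with trivial residue extension
  obtain ⟨S', _, _, _, hq, φ, ι', hι'⟩ := exists_etale_nbhd_of_etNbhd hC N'
  letI algS' : Algebra A S' := ((algebraMap S S').comp (algebraMap A S)).toAlgebra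
  haveI towS' : IsScalarTower A S S' := IsScalarTower.of_algebraMap_eq (fun _ => rfl)
  let Ψ : MvPolynomial (Fin n) A →ₐ[A] S' := MvPolynomial.aeval (fun i => ι' (u.1 (y i)))
  have hΨ : ∀ p, Ψ p = ι' (u.1 (ψ p)) := by
    intro p
    have : (Ψ : MvPolynomial (Fin n) A →+* S') =
        ((ι' : N'.S →+* S').comp (u.1 : N.S →+* N'.S)).comp ψ := by
      apply MvPolynomial.ringHom_ext
      · intro a
        change Ψ (MvPolynomial.C a) = ι' (u.1 (ψ (MvPolynomial.C a)))
        have h1 : ψ (MvPolynomial.C a) = algebraMap S N.S (algebraMap A S a) := by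
          simp [ψ]
        rw [h1, AlgHom.commutes, AlgHom.commutes, ← MvPolynomial.algebraMap_eq, Ψ.commutes]
        rfl
      · intro i
        change Ψ (MvPolynomial.X i) = ι' (u.1 (ψ (MvPolynomial.X i)))
        have h1 : ψ (MvPolynomial.X i) = y i := by simp [ψ]
        rw [h1, MvPolynomial.aeval_X]
    exact DFunLike.congr_fun this p
  have hΨker : ∀ x ∈ RingHom.ker f.toRingHom, Ψ x = 0 := by
    intro x hx
    have hle : RingHom.ker f.toRingHom ≤ RingHom.ker Ψ.toRingHom := by
      rw [← hs, Ideal.span_le]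
      intro g hg
      change Ψ g = 0
      rw [hΨ, hu g hg, map_zero]
    exact hle hx
  let θ₁ : W →ₐ[A] S' :=
    (Ideal.Quotient.liftₐ (RingHom.ker f.toRingHom) Ψ hΨker).comp
      (Ideal.quotientKerAlgEquivOfSurjective hf).symm.toAlgHom
  have hθ₁ : ∀ p, θ₁ (f p) = Ψ p := by
    intro p
    change Ideal.Quotient.liftₐ (RingHom.ker f.toRingHom) Ψ hΨker
      ((Ideal.quotientKerAlgEquivOfSurjective hf).symm (f p)) = Ψ p
    have : (Ideal.quotientKerAlgEquivOfSurjective hf).symm (f p) =
        Ideal.Quotient.mk _ p := by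
      rw [AlgEquiv.symm_apply_eq]
      rfl
    rw [this]
    rfl
  refine ⟨S', inferInstance, inferInstance, inferInstance, hq, φ, (θ₁ : W →+* S'), ?_, ?_⟩
  · intro a
    change θ₁ (algebraMap A W a) = _
    rw [θ₁.commutes]
    rfl
  · intro w
    obtain ⟨p, rfl⟩ := hf w
    apply e.injective
    change e (φ (θ₁ (f p))) = _
    rw [hθ₁, hΨ, hι', PairHens.ι_comp, hψ]

/-- Algebra version of `exists_etale_nbhd_factor'`. -/
theorem exists_etale_nbhd_factor (hC : Hens2.IsPairHenselization S J C) (θ₀ : W →ₐ[A] C) :
    ∃ (S' : Type u) (_ : CommRing S') (_ : Algebra S S') (_ : Algebra.Etale S S')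
      (_ : Algebra A S') (_ : IsScalarTower A S S'),
      Function.Bijective
        (Ideal.quotientMap (J.map (algebraMap S S')) (algebraMap S S') Ideal.le_comap_map) ∧
      ∃ (φ : S' →ₐ[S] C) (θ₁ : W →ₐ[A] S'), ∀ w, φ (θ₁ w) = θ₀ w := by
  obtain ⟨S', _, _, _, hq, φ, θ₁, hθ₁, hφ⟩ := exists_etale_nbhd_factor' hC θ₀
  letI algS' : Algebra A S' := ((algebraMap S S').comp (algebraMap A S)).toAlgebra
  haveI towS' : IsScalarTower A S S' := IsScalarTower.of_algebraMap_eq (fun _ => rfl)
  exact ⟨S', inferInstance, inferInstance, inferInstance, algS', towS', hq, φ,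
    { θ₁ with commutes' := hθ₁ }, hφ⟩

end Descent

section Quotient

variable {S : Type u} [CommRing S] {J : Ideal S} {P : Type u} [CommRing P] [Algebra S P]

/-- Henselian-ness passes to surjective images. -/
theorem henselianRing_map_of_surjective {P B : Type u} [CommRing P] [CommRing B] (L : Ideal P)
    [HenselianRing P L] (φ : P →+* B) (hφ : Function.Surjective φ) :
    HenselianRing B (L.map φ) := by
  letI : Algebra P B := φ.toAlgebra
  haveI : Algebra.IsIntegral P B := Algebra.isIntegral_of_surjective hφ
  exact henselianRing_map_of_isIntegral L B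

/-- **Quotients of henselizations.** If `P` is a henselization of `(S, J)` and `φ : P → B` is
surjective with kernel `K' P`, then `B` is a henselization of `(S/K', J(S/K'))`. -/
theorem isPairHenselization_quotient_of_surjective (hP : Hens2.IsPairHenselization S J P)
    {B : Type u} [CommRing B] (φ : P →+* B) (hφ : Function.Surjective φ) (K' : Ideal S)
    (hker : RingHom.ker φ = K'.map (algebraMap S P)) [Algebra (S ⧸ K') B]
    (halg : ∀ s, algebraMap (S ⧸ K') B (Ideal.Quotient.mk K' s) = φ (algebraMap S P s)) :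
    Hens2.IsPairHenselization (S ⧸ K') (J.map (Ideal.Quotient.mk K')) B := by
  have hcomp : (algebraMap (S ⧸ K') B).comp (Ideal.Quotient.mk K') = φ.comp (algebraMap S P) :=
    RingHom.ext halg
  constructor
  · haveI := hP.1
    have h1 := henselianRing_map_of_surjective (J.map (algebraMap S P)) φ hφ
    have h2 : (J.map (Ideal.Quotient.mk K')).map (algebraMap (S ⧸ K') B) =
        (J.map (algebraMap S P)).map φ := by
      rw [Ideal.map_map, Ideal.map_map, hcomp]
    rw [h2]; exact h1
  · intro C _ K f hC hle
    obtain ⟨h, hh, huniq⟩ := hP.2 C K (f.comp (Ideal.Quotient.mk K')) hC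
      (by rw [← Ideal.map_map]; exact hle)
    have hkerle : RingHom.ker φ ≤ RingHom.ker h := by
      rw [hker, Ideal.map_le_iff_le_comap]
      intro k hk
      rw [Ideal.mem_comap, RingHom.mem_ker]
      have := DFunLike.congr_fun hh k
      change h (algebraMap S P k) = f (Ideal.Quotient.mk K' k) at this
      rw [this, Ideal.Quotient.eq_zero_iff_mem.mpr hk, map_zero]
    refine ⟨φ.liftOfSurjective hφ ⟨h, hkerle⟩, ?_, ?_⟩
    · refine RingHom.ext (fun x => ?_)
      obtain ⟨s, rfl⟩ := Ideal.Quotient.mk_surjective x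
      change (φ.liftOfSurjective hφ ⟨h, hkerle⟩) (algebraMap (S ⧸ K') B (Ideal.Quotient.mk K' s)) = _
      rw [halg, RingHom.liftOfSurjective_comp_apply]
      exact DFunLike.congr_fun hh s
    · intro g hg
      apply RingHom.eq_liftOfSurjective
      apply huniq
      rw [RingHom.comp_assoc, ← hcomp, ← RingHom.comp_assoc, hg]

/-- If `P` is a henselization of `(R', J')`, `f : R' → R` is surjective and `B` is a henselization
of `(R, J' R)`, then the induced map `P → B` is surjective with kernel `(ker f) P`. -/
theorem surjective_and_ker_of_isPairHenselization {R' : Type u} [CommRing R'] {J' : Ideal R'}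
    {P : Type u} [CommRing P] [Algebra R' P] (hP : Hens2.IsPairHenselization R' J' P)
    {R : Type u} [CommRing R] (f : R' →+* R) (hf : Function.Surjective f)
    {B : Type u} [CommRing B] [Algebra R B] (hB : Hens2.IsPairHenselization R (J'.map f) B)
    (φ : P →+* B) (hφ : φ.comp (algebraMap R' P) = (algebraMap R B).comp f) :
    Function.Surjective φ ∧ RingHom.ker φ = (RingHom.ker f).map (algebraMap R' P) := by
  set KP : Ideal P := (RingHom.ker f).map (algebraMap R' P) with hKP
  let π : P →+* P ⧸ KP := Ideal.Quotient.mk KP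
  haveI := hP.1
  have hQ : HenselianRing (P ⧸ KP) ((J'.map (algebraMap R' P)).map π) :=
    henselianRing_map_of_surjective _ π Ideal.Quotient.mk_surjective
  -- `ρ : R → Q`
  have hkerρ : RingHom.ker f ≤ RingHom.ker (π.comp (algebraMap R' P)) := by
    intro k hk
    rw [RingHom.mem_ker, RingHom.comp_apply]
    exact Ideal.Quotient.eq_zero_iff_mem.mpr (Ideal.mem_map_of_mem _ hk)
  let ρ : R →+* P ⧸ KP := f.liftOfSurjective hf ⟨π.comp (algebraMap R' P), hkerρ⟩
  have hρ : ρ.comp f = π.comp (algebraMap R' P) := RingHom.liftOfSurjective_comp f hf _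
  have hle : (J'.map f).map ρ ≤ (J'.map (algebraMap R' P)).map π := by
    rw [Ideal.map_map, Ideal.map_map, hρ]
  obtain ⟨ψ, hψ, -⟩ := hB.2 (P ⧸ KP) _ ρ hQ hle
  -- `φ̄ : Q → B`
  have hKPle : ∀ p ∈ KP, φ p = 0 := by
    intro p hp
    have hle' : KP ≤ RingHom.ker φ := by
      rw [hKP, Ideal.map_le_iff_le_comap]
      intro k hk
      rw [Ideal.mem_comap, RingHom.mem_ker]
      have := DFunLike.congr_fun hφ k
      change φ (algebraMap R' P k) = algebraMap R B (f k) at this
      rw [this, (RingHom.mem_ker).mp hk, map_zero]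
    exact hle' hp
  let φb : P ⧸ KP →+* B := Ideal.Quotient.lift KP φ hKPle
  have hφb : ∀ p, φb (π p) = φ p := fun p => rfl
  -- `φ̄ ∘ ψ = id`
  have h1 : φb.comp ψ = RingHom.id B := by
    obtain ⟨i, -, hi⟩ := hB.2 B _ (algebraMap R B) hB.1 le_rfl
    have a1 : φb.comp ψ = i := hi _ (by
      show (φb.comp ψ).comp (algebraMap R B) = algebraMap R B
      rw [RingHom.comp_assoc, hψ]
      ext r
      obtain ⟨r', rfl⟩ := hf r
      change φb (ρ (f r')) = algebraMap R B (f r')
      have : ρ (f r') = π (algebraMap R' P r') := DFunLike.congr_fun hρ r'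
      rw [this, hφb]
      exact DFunLike.congr_fun hφ r')
    have a2 : RingHom.id B = i := hi _ (RingHom.id_comp _)
    rw [a1, a2]
  -- `ψ ∘ φ = π`
  have h2 : ψ.comp φ = π := by
    obtain ⟨i, -, hi⟩ := hP.2 (P ⧸ KP) _ (π.comp (algebraMap R' P)) hQ
      (by rw [Ideal.map_map])
    have a1 : ψ.comp φ = i := hi _ (by
      show (ψ.comp φ).comp (algebraMap R' P) = π.comp (algebraMap R' P)
      rw [RingHom.comp_assoc, hφ, ← RingHom.comp_assoc, hψ, hρ])
    have a2 : π = i := hi _ rfl
    rw [a1, a2]
  have hinj : Function.Injective φb := by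
    intro x y hxy
    obtain ⟨p, rfl⟩ := Ideal.Quotient.mk_surjective x
    obtain ⟨q, rfl⟩ := Ideal.Quotient.mk_surjective y
    have hp : ψ (φ p) = π p := DFunLike.congr_fun h2 p
    have hq : ψ (φ q) = π q := DFunLike.congr_fun h2 q
    change φ p = φ q at hxy
    change π p = π q
    rw [← hp, ← hq, hxy]
  constructor
  · intro b
    obtain ⟨p, hp⟩ := Ideal.Quotient.mk_surjective (ψ b)
    refine ⟨p, ?_⟩
    have : φb (ψ b) = b := DFunLike.congr_fun h1 b
    rw [← this, ← hp]
    rfl
  · apply le_antisymm
    · intro p hp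
      have : φb (π p) = φb 0 := by rw [hφb, map_zero]; exact hp
      exact Ideal.Quotient.eq_zero_iff_mem.mp (hinj this)
    · intro p hp
      exact hKPle p hp

end Quotient

end Groth.Agent.Lib.Helper3
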