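import Groth.Agent.Lib.Helper3.HfpFinite
import Groth.Agent.Lib.Helper3.NbhdLocus
import Groth.Agent.Lib.Helper3.PairHensTools
import Groth.Agent.Lib.Helper9.Hens.PairQuotient
import Groth.Agent.Lib.Helper9.Hens.PairNoetherian

/-!
# Descent from the henselization of a pair to an étale neighbourhood (helper3)

* `exists_smul_eq_zero_of_tmul_eq_zero`: if `H` is flat over `N`, `N/J ≅ H/JH`, and `z ∈ M` dies
  in `H ⊗[N] M`, then `a • z = 0` for some `a ≡ 1 mod J`.
* `exists_etale_nbhd_finite_of_quotient_finite`: Stacks-type statement (S17976): for `A → B` of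
  finite type with `B/IB` finite over `A`, there are an étale neighbourhood `A'` of `V(I)` and an
  étale `B`-algebra `C` finite over `A'` with `B/IB ≅ C/IC`.
-/

set_option autoImplicit false
set_option linter.style.haveILetI false
set_option linter.unusedSectionVars false

universe u

namespace Groth.Agent.Lib.Helper3

open TensorProduct Polynomial
open Groth.Agent.Lib.Helper9 Groth.Agent.Lib.Helper9.Hens

section LemmaV

variable {N : Type u} [CommRing N] (J : Ideal N) {H : Type u} [CommRing H] [Algebra N H]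

/-- A maximal ideal containing `J` does not generate the unit ideal of `H` when `N/J ≅ H/JH`. -/
theorem map_ne_top_of_quotientMap_bijective
    (hq : Function.Bijective (Ideal.quotientMap (J.map (algebraMap N H)) (algebraMap N H)
      Ideal.le_comap_map)) (m : Ideal N) (hm : m.IsMaximal) (hJm : J ≤ m) :
    m.map (algebraMap N H) ≠ ⊤ := by
  intro htop
  obtain ⟨hsurj, hinj⟩ := (quotientMap_bijective_iff (I := J) (S := H)).mp hq
  -- the ideal of elements congruent to an element of `m`
  let K : Ideal H :=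
    { carrier := {s | ∃ r ∈ m, s - algebraMap N H r ∈ J.map (algebraMap N H)}
      zero_mem' := ⟨0, m.zero_mem, by simp⟩
      add_mem' := by
        rintro x y ⟨r, hr, hx⟩ ⟨r', hr', hy⟩
        refine ⟨r + r', m.add_mem hr hr', ?_⟩
        have : x + y - algebraMap N H (r + r') = (x - algebraMap N H r) + (y - algebraMap N H r') := by
          rw [map_add]; ring
        rw [this]
        exact Ideal.add_mem _ hx hy
      smul_mem' := by
        rintro c x ⟨r, hr, hx⟩
        obtain ⟨c', hc'⟩ := hsurj c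
        refine ⟨c' * r, m.mul_mem_left _ hr, ?_⟩
        have : c • x - algebraMap N H (c' * r) =
            c * (x - algebraMap N H r) + (c - algebraMap N H c') * algebraMap N H r := by
          rw [map_mul, smul_eq_mul]; ring
        rw [this]
        exact Ideal.add_mem _ (Ideal.mul_mem_left _ _ hx) (Ideal.mul_mem_right _ _ hc') }
  have hmK : m.map (algebraMap N H) ≤ K := by
    rw [Ideal.map_le_iff_le_comap]
    intro r hr
    exact ⟨r, hr, by simp⟩
  have h1 : (1 : H) ∈ K := hmK (htop ▸ Submodule.mem_top)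
  obtain ⟨r, hr, h2⟩ := h1
  have h3 : algebraMap N H (1 - r) ∈ J.map (algebraMap N H) := by
    rw [map_sub, map_one]; exact h2
  have h4 : 1 - r ∈ m := hJm (hinj _ h3)
  have h5 : (1 : N) ∈ m := by
    have := m.add_mem h4 hr
    rwa [sub_add_cancel] at this
  exact hm.ne_top ((Ideal.eq_top_iff_one _).mpr h5)

/-- **Descent of vanishing.** -/
theorem exists_smul_eq_zero_of_tmul_eq_zero [Module.Flat N H]
    (hq : Function.Bijective (Ideal.quotientMap (J.map (algebraMap N H)) (algebraMap N H)
      Ideal.le_comap_map))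
    {M : Type*} [AddCommGroup M] [Module N M] (z : M) (hz : (1 : H) ⊗ₜ[N] z = 0) :
    ∃ a : N, a - 1 ∈ J ∧ a • z = 0 := by
  let g : N →ₗ[N] M := LinearMap.toSpanSingleton N M z
  let ann : Ideal N := LinearMap.ker g
  have hex : Function.Exact (ann.subtype.lTensor H) (g.lTensor H) :=
    Module.Flat.lTensor_exact H (LinearMap.exact_subtype_ker_map g)
  have h0 : (g.lTensor H) ((1 : H) ⊗ₜ[N] (1 : N)) = 0 := by
    rw [LinearMap.lTensor_tmul]
    simpa [g] using hz
  obtain ⟨y, hy⟩ := (hex _).mp h0
  -- push to `H`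
  let μ : H ⊗[N] N →ₗ[N] H := (TensorProduct.rid N H).toLinearMap
  have hμ : ∀ y : H ⊗[N] ann, μ ((ann.subtype.lTensor H) y) ∈ ann.map (algebraMap N H) := by
    intro y
    induction y using TensorProduct.induction_on with
    | zero => simp
    | tmul h a =>
      rw [LinearMap.lTensor_tmul]
      simp only [μ, LinearEquiv.coe_coe, TensorProduct.rid_tmul, Submodule.subtype_apply]
      rw [Algebra.smul_def]
      exact Ideal.mul_mem_right _ _ (Ideal.mem_map_of_mem _ a.2)
    | add x y hx hy =>
      rw [map_add, map_add]; exact Ideal.add_mem _ hx hy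
  have h1 : (1 : H) ∈ ann.map (algebraMap N H) := by
    have := hμ y
    rw [hy] at this
    simpa [μ] using this
  have htop : ann.map (algebraMap N H) = ⊤ := (Ideal.eq_top_iff_one _).mpr h1
  have hsup : ann ⊔ J = ⊤ := by
    by_contra hne
    obtain ⟨m, hm, hle⟩ := Ideal.exists_le_maximal _ hne
    have := map_ne_top_of_quotientMap_bijective J hq m hm (le_sup_right.trans hle)
    apply this
    rw [eq_top_iff, ← htop]
    exact Ideal.map_mono (le_sup_left.trans hle)
  obtain ⟨a, ha, j, hj, haj⟩ := Submodule.mem_sup.mp ((Ideal.eq_top_iff_one _).mp hsup)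
  refine ⟨a, ?_, ?_⟩
  · have : a - 1 = -j := by rw [← haj]; ring
    rw [this]; exact J.neg_mem hj
  · have : g a = 0 := ha
    simpa [g] using this

end LemmaV

section Cancel

variable {A N H : Type u} [CommRing A] [CommRing N] [CommRing H] [Algebra A N] [Algebra A H]
  [Algebra N H] [IsScalarTower A N H] {M' : Type u} [AddCommGroup M'] [Module A M']

theorem tmul_eq_zero_of_rTensor_eq_zero (z : N ⊗[A] M')
    (hz : (LinearMap.rTensor M' (IsScalarTower.toAlgHom A N H).toLinearMap) z = 0) :
    (1 : H) ⊗ₜ[N] z = 0 := by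
  let c := TensorProduct.AlgebraTensorModule.cancelBaseChange A N H H M'
  have hc : ∀ z : N ⊗[A] M', c ((1 : H) ⊗ₜ[N] z) =
      (LinearMap.rTensor M' (IsScalarTower.toAlgHom A N H).toLinearMap) z := by
    intro z
    induction z using TensorProduct.induction_on with
    | zero => simp
    | tmul n m =>
      rw [TensorProduct.AlgebraTensorModule.cancelBaseChange_tmul, LinearMap.rTensor_tmul]
      simp [Algebra.smul_def]
    | add x y hx hy => rw [tmul_add, map_add, map_add, hx, hy]
  apply c.injective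
  rw [hc, hz, map_zero]

end Cancel

section Lemmas

variable {A : Type u} [CommRing A] {N N' : Type u} [CommRing N] [CommRing N'] [Algebra A N]
  [Algebra A N'] {B : Type u} [CommRing B] [Algebra A B]

theorem map_aeval_tmul (ι : N →ₐ[A] N') (b : B) (p : N[X]) :
    (Algebra.TensorProduct.map ι (AlgHom.id A B)) (aeval ((1 : N) ⊗ₜ[A] b) p) =
      aeval ((1 : N') ⊗ₜ[A] b) (p.map (ι : N →+* N')) := by
  rw [aeval_def, aeval_def, eval₂_map]
  have h1 := Polynomial.hom_eval₂ p (algebraMap N (N ⊗[A] B))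
    ((Algebra.TensorProduct.map ι (AlgHom.id A B)) : N ⊗[A] B →+* N' ⊗[A] B) ((1 : N) ⊗ₜ[A] b)
  rw [RingHom.coe_coe] at h1
  rw [h1]
  congr 1
  · simp

theorem map_smul_eq_mul (ι : N →ₐ[A] N') (a : N) (z : N ⊗[A] B) :
    (Algebra.TensorProduct.map ι (AlgHom.id A B)) (a • z) =
      algebraMap N' (N' ⊗[A] B) (ι a) * (Algebra.TensorProduct.map ι (AlgHom.id A B)) z := by
  rw [Algebra.smul_def, map_mul]
  congr 1

theorem rTensor_eq_map (ι : N →ₐ[A] N') (z : N ⊗[A] B) :
    (LinearMap.rTensor B ι.toLinearMap) z = (Algebra.TensorProduct.map ι (AlgHom.id A B)) z := by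
  induction z using TensorProduct.induction_on with
  | zero => simp
  | tmul n b => simp
  | add x y hx hy => rw [map_add, map_add, hx, hy]

end Lemmas

section HLevel

variable {A : Type u} [CommRing A] (I : Ideal A) (B : Type u) [CommRing B] [Algebra A B]
  [Algebra.FiniteType A B]

/-- Over a Henselian pair `(H, IH)` (with `H` an `A`-algebra), `H ⊗ B` splits off a finite part
containing `V(I)`. -/
theorem exists_idempotent_tensor_of_quotient_finite
    (hfin : Module.Finite A (B ⧸ Ideal.map (algebraMap A B) I))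
    (H : Type u) [CommRing H] [Algebra A H] [HenselianRing H (I.map (algebraMap A H))] :
    ∃ e : H ⊗[A] B, IsIdempotentElem e ∧ 1 - e ∈ I.map (algebraMap A (H ⊗[A] B)) ∧
      ∀ b : B, ∃ m : H[X], m.Monic ∧ e * aeval ((1 : H) ⊗ₜ[A] b) m = 0 := by
  set IH := I.map (algebraMap A H) with hIH
  let BH := H ⊗[A] B
  set J := IH.map (algebraMap H BH) with hJ
  have hJ' : J = I.map (algebraMap A BH) := by
    rw [hJ, hIH, Ideal.map_map, ← IsScalarTower.algebraMap_eq]
  haveI : Algebra.IsIntegral A (B ⧸ I.map (algebraMap A B)) := inferInstance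
  let γ : B ⧸ I.map (algebraMap A B) →ₐ[A] BH ⧸ J :=
    Ideal.Quotient.liftₐ _ ((Ideal.Quotient.mkₐ A J).comp Algebra.TensorProduct.includeRight) (by
      intro b hb
      rw [AlgHom.comp_apply, Ideal.Quotient.mkₐ_eq_mk, Ideal.Quotient.eq_zero_iff_mem, hJ']
      have hle : I.map (algebraMap A B) ≤
          (I.map (algebraMap A BH)).comap
            (Algebra.TensorProduct.includeRight : B →ₐ[A] BH).toRingHom := by
        rw [Ideal.map_le_iff_le_comap]
        intro i hi
        rw [Ideal.mem_comap, Ideal.mem_comap]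
        change (Algebra.TensorProduct.includeRight : B →ₐ[A] BH) (algebraMap A B i) ∈ _
        rw [AlgHom.commutes]
        exact Ideal.mem_map_of_mem _ hi
      exact hle hb)
  have hγ : ∀ b : B, γ (Ideal.Quotient.mk _ b) = Ideal.Quotient.mk J ((1 : H) ⊗ₜ[A] b) :=
    fun b => rfl
  have hint : Algebra.IsIntegral H (BH ⧸ J) := by
    constructor
    intro x
    obtain ⟨y, rfl⟩ := Ideal.Quotient.mk_surjective x
    induction y using TensorProduct.induction_on with
    | zero => rw [map_zero]; exact isIntegral_zero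
    | tmul h b =>
      have h1 : IsIntegral A (γ (Ideal.Quotient.mk _ b)) :=
        (Algebra.IsIntegral.isIntegral (R := A) (Ideal.Quotient.mk (I.map (algebraMap A B)) b)).map γ
      have h2 : IsIntegral H (γ (Ideal.Quotient.mk _ b)) := h1.tower_top
      rw [hγ] at h2
      have h3 : Ideal.Quotient.mk J (h ⊗ₜ[A] b) = h • Ideal.Quotient.mk J ((1 : H) ⊗ₜ[A] b) := by
        have h4 : h ⊗ₜ[A] b = h • ((1 : H) ⊗ₜ[A] b) := by
          rw [TensorProduct.smul_tmul', smul_eq_mul, mul_one]
        rw [h4]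
        rfl
      rw [h3]
      exact h2.smul h
    | add x y hx hy => rw [map_add]; exact hx.add hy
  have hfinq : Module.Finite H (BH ⧸ J) := Algebra.IsIntegral.finite
  have hqf : Algebra.QuasiFinite H (BH ⧸ J) := inferInstance
  obtain ⟨e, he, hfinH, htop⟩ := exists_idempotent_split_of_pair IH BH
    (fun p hp hle => by
      have := quasiFiniteAt_of_quasiFinite_quotient IH p hle
      exact Algebra.ZariskisMainProperty.of_finiteType p) hint
  -- `1 - e ∈ J`
  have h1e : 1 - e ∈ J := by
    have h1 : (1 : BH ⧸ Ideal.span ({e} : Set BH)) ∈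
        IH.map (algebraMap H (BH ⧸ Ideal.span ({e} : Set BH))) := htop ▸ Submodule.mem_top
    have h2 : IH.map (algebraMap H (BH ⧸ Ideal.span ({e} : Set BH))) =
        J.map (Ideal.Quotient.mk _) := by
      rw [hJ]
      exact (Ideal.map_map (algebraMap H BH) (Ideal.Quotient.mk (Ideal.span ({e} : Set BH)))).symm
    rw [h2, Ideal.mem_map_iff_of_surjective _ Ideal.Quotient.mk_surjective] at h1
    obtain ⟨i, hi, hi1⟩ := h1
    rw [← map_one (Ideal.Quotient.mk _), Ideal.Quotient.eq, Ideal.mem_span_singleton'] at hi1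
    obtain ⟨c, hc⟩ := hi1
    have h3 : 1 - e = (1 - e) * i := by
      have h4 : (1 - e) * (c * e) = 0 := by
        have : (1 - e) * e = 0 := by rw [sub_mul, one_mul, he.eq, sub_self]
        rw [mul_left_comm, this, mul_zero]
      rw [hc, mul_sub, mul_one] at h4
      exact (sub_eq_zero.mp h4).symm
    rw [h3]
    exact J.mul_mem_left _ hi
  refine ⟨e, he, hJ' ▸ h1e, fun b => ?_⟩
  haveI : Algebra.IsIntegral H (BH ⧸ Ideal.span ({1 - e} : Set BH)) := inferInstance
  obtain ⟨m, hm, hroot⟩ := Algebra.IsIntegral.isIntegral (R := H)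
    (Ideal.Quotient.mk (Ideal.span ({1 - e} : Set BH)) ((1 : H) ⊗ₜ[A] b))
  refine ⟨m, hm, ?_⟩
  have h5 : Ideal.Quotient.mk (Ideal.span ({1 - e} : Set BH)) (aeval ((1 : H) ⊗ₜ[A] b) m) = 0 := by
    rw [← hroot, aeval_def, Polynomial.hom_eval₂]
    rfl
  rw [Ideal.Quotient.eq_zero_iff_mem, Ideal.mem_span_singleton'] at h5
  obtain ⟨c, hc⟩ := h5
  rw [← hc]
  have : e * (1 - e) = 0 := by rw [mul_sub, mul_one, he.eq, sub_self]
  rw [mul_left_comm, this, mul_zero]

end HLevel

section Stage

variable {A : Type u} [CommRing A] (I : Ideal A) (B : Type u) [CommRing B] [Algebra A B]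
  [Algebra.FiniteType A B]

/-- The data descends to an étale neighbourhood, with the relations holding after multiplying by
elements congruent to `1`. -/
theorem exists_stage_of_quotient_finite
    (hfin : Module.Finite A (B ⧸ Ideal.map (algebraMap A B) I)) (s : Finset B) :
    ∃ (N : Type u) (_ : CommRing N) (_ : Algebra A N) (_ : Algebra.Etale A N),
      Function.Bijective
        (Ideal.quotientMap (I.map (algebraMap A N)) (algebraMap A N) Ideal.le_comap_map) ∧
      ∃ (e : N ⊗[A] B) (m : B → N[X]) (a : N), a - 1 ∈ I.map (algebraMap A N) ∧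
        a • (e * e - e) = 0 ∧
        a • (Algebra.TensorProduct.map (AlgHom.id A N)
          (Ideal.Quotient.mkₐ A (I.map (algebraMap A B))) (1 - e)) = 0 ∧
        ∀ b ∈ s, (m b).Monic ∧ a • (e * aeval ((1 : N) ⊗ₜ[A] b) (m b)) = 0 := by
  classical
  let H := PairHens A I
  have hH : Hens2.IsPairHenselization A I H := PairHens.isPairHenselization A I
  haveI : HenselianRing H (I.map (algebraMap A H)) := hH.1
  obtain ⟨e, he, h1e, hmon⟩ := exists_idempotent_tensor_of_quotient_finite I B hfin H
  choose mH hmH hmH0 using hmon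
  obtain ⟨S, hS⟩ := TensorProduct.exists_finset e
  let F : Finset H := S.image Prod.fst ∪ s.biUnion (fun b => (mH b).coeffs)
  obtain ⟨N, _, _, _, hqN, φ, t, ht⟩ :=
    exists_etale_bijective_algHom_apply_eq_fin hH (fun x : F => (x : H))
  let t' : H → N := fun h => if hh : h ∈ F then t ⟨h, hh⟩ else 0
  have ht' : ∀ h ∈ F, φ (t' h) = h := by
    intro h hh
    simp only [t', dif_pos hh]
    exact ht ⟨h, hh⟩
  let e₁ : N ⊗[A] B := S.sum fun p => t' p.1 ⊗ₜ[A] p.2
  let Φ : N ⊗[A] B →ₐ[A] H ⊗[A] B := Algebra.TensorProduct.map φ (AlgHom.id A B)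
  have hΦe : Φ e₁ = e := by
    rw [hS, map_sum]
    refine Finset.sum_congr rfl fun p hp => ?_
    simp only [Φ, Algebra.TensorProduct.map_tmul, AlgHom.id_apply]
    rw [ht' p.1 (Finset.mem_union_left _ (Finset.mem_image_of_mem _ hp))]
  have hlift : ∀ b ∈ s, ∃ q : N[X], q.Monic ∧ q.map (φ : N →+* H) = mH b := by
    intro b hb
    have hl : mH b ∈ Polynomial.lifts (φ : N →+* H) := by
      rw [Polynomial.lifts_iff_coeff_lifts]
      intro n
      by_cases h0 : (mH b).coeff n = 0
      · exact ⟨0, by rw [h0, map_zero]⟩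
      · refine ⟨t' ((mH b).coeff n), ?_⟩
        exact ht' _ (Finset.mem_union_right _
          (Finset.mem_biUnion.mpr ⟨b, hb, Polynomial.coeff_mem_coeffs h0⟩))
    obtain ⟨q, hq, -, hqm⟩ := Polynomial.lifts_and_natDegree_eq_and_monic hl (hmH b)
    exact ⟨q, hqm, hq⟩
  -- `H` as an `N`-algebra
  letI algNH : Algebra N H := (φ : N →+* H).toAlgebra
  haveI towNH : IsScalarTower A N H := IsScalarTower.of_algebraMap_eq (fun a => (φ.commutes a).symm)
  have hφeq : IsScalarTower.toAlgHom A N H = φ := by ext; rfl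
  set IN := I.map (algebraMap A N) with hIN
  have hNH : Hens2.IsPairHenselization N IN H := isPairHenselization_of_etale_nbhd hH hqN
  haveI : Module.Flat N H := flat_of_isPairHenselization hNH
  have hqNH := quotientMap_bijective_of_isPairHenselization hNH
  -- the descent principle
  have hV : ∀ {M' : Type u} [AddCommGroup M'] [Module A M'] (z : N ⊗[A] M'),
      (LinearMap.rTensor M' φ.toLinearMap) z = 0 → ∃ a : N, a - 1 ∈ IN ∧ a • z = 0 := by
    intro M' _ _ z hz
    apply exists_smul_eq_zero_of_tmul_eq_zero IN hqNH z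
    apply tmul_eq_zero_of_rTensor_eq_zero
    rw [hφeq]
    exact hz
  -- relation 1
  obtain ⟨a₁, ha₁, ha₁z⟩ := hV (e₁ * e₁ - e₁) (by
    rw [rTensor_eq_map]
    change Φ (e₁ * e₁ - e₁) = 0
    rw [map_sub, map_mul, hΦe, he.eq, sub_self])
  -- relation 2
  set IB := I.map (algebraMap A B) with hIB
  let ΘN : N ⊗[A] B →ₐ[A] N ⊗[A] (B ⧸ IB) :=
    Algebra.TensorProduct.map (AlgHom.id A N) (Ideal.Quotient.mkₐ A IB)
  let ΘH : H ⊗[A] B →ₐ[A] H ⊗[A] (B ⧸ IB) :=
    Algebra.TensorProduct.map (AlgHom.id A H) (Ideal.Quotient.mkₐ A IB)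
  have hΘ : ∀ x : N ⊗[A] B, (LinearMap.rTensor (B ⧸ IB) φ.toLinearMap) (ΘN x) = ΘH (Φ x) := by
    intro x
    induction x using TensorProduct.induction_on with
    | zero => simp
    | tmul n b => simp [ΘN, ΘH, Φ]
    | add x y hx hy => rw [map_add, map_add, map_add, map_add, hx, hy]
  have hΘH : ∀ x ∈ I.map (algebraMap A (H ⊗[A] B)), ΘH x = 0 := by
    intro x hx
    have hle : I.map (algebraMap A (H ⊗[A] B)) ≤ RingHom.ker ΘH.toRingHom := by
      rw [Ideal.map_le_iff_le_comap]
      intro i hi
      rw [Ideal.mem_comap, RingHom.mem_ker]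
      change ΘH (algebraMap A _ i) = 0
      rw [AlgHom.commutes, Algebra.TensorProduct.algebraMap_apply, Algebra.algebraMap_eq_smul_one,
        TensorProduct.smul_tmul, ← Algebra.algebraMap_eq_smul_one]
      have : algebraMap A (B ⧸ IB) i = 0 := by
        change Ideal.Quotient.mk IB (algebraMap A B i) = 0
        rw [Ideal.Quotient.eq_zero_iff_mem]
        exact Ideal.mem_map_of_mem _ hi
      rw [this, TensorProduct.tmul_zero]
    exact hle hx
  obtain ⟨a₂, ha₂, ha₂z⟩ := hV (ΘN (1 - e₁)) (by
    rw [hΘ, map_sub, map_one, hΦe]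
    exact hΘH _ h1e)
  -- relation 3
  have h3 : ∀ b : B, ∃ (q : N[X]) (a : N), a - 1 ∈ IN ∧
      (b ∈ s → q.Monic ∧ a • (e₁ * aeval ((1 : N) ⊗ₜ[A] b) q) = 0) := by
    intro b
    by_cases hb : b ∈ s
    · obtain ⟨q, hqm, hq⟩ := hlift b hb
      obtain ⟨a, ha, haz⟩ := hV (e₁ * aeval ((1 : N) ⊗ₜ[A] b) q) (by
        rw [rTensor_eq_map]
        change Φ (e₁ * aeval ((1 : N) ⊗ₜ[A] b) q) = 0
        rw [map_mul, hΦe]
        have := map_aeval_tmul φ b q
        change Φ _ = _ at this
        rw [this, hq]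
        exact hmH0 b)
      exact ⟨q, a, ha, fun _ => ⟨hqm, haz⟩⟩
    · exact ⟨1, 1, by simp, fun h => absurd h hb⟩
  choose q ab hab habz using h3
  -- combine
  have hone : ∀ x : N, x - 1 ∈ IN ↔ Ideal.Quotient.mk IN x = 1 := by
    intro x
    rw [← Ideal.Quotient.eq, map_one]
  let a : N := a₁ * a₂ * ∏ b ∈ s, ab b
  have ha : a - 1 ∈ IN := by
    rw [hone, map_mul, map_mul, map_prod, (hone a₁).mp ha₁, (hone a₂).mp ha₂, one_mul, one_mul]
    exact Finset.prod_eq_one fun b _ => (hone _).mp (hab b)
  have hkill : ∀ {M : Type u} [AddCommGroup M] [Module N M] (c : N) (z : M), c ∣ a → c • z = 0 →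
      a • z = 0 := by
    intro M _ _ c z hc hz
    obtain ⟨d, hd⟩ := hc
    rw [hd, mul_comm, mul_smul, hz, smul_zero]
  refine ⟨N, inferInstance, inferInstance, inferInstance, hqN, e₁, q, a, ha, ?_, ?_, ?_⟩
  · exact hkill a₁ _ ⟨a₂ * ∏ b ∈ s, ab b, by simp only [a]; ring⟩ ha₁z
  · exact hkill a₂ _ ⟨a₁ * ∏ b ∈ s, ab b, by simp only [a]; ring⟩ ha₂z
  · intro b hb
    refine ⟨(habz b hb).1, ?_⟩
    refine hkill (ab b) _ ?_ (habz b hb).2
    exact Dvd.dvd.mul_left (Finset.dvd_prod_of_mem _ hb) _

/-- The exact version, after inverting `a`. -/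
theorem exists_etale_nbhd_idempotent_of_quotient_finite
    (hfin : Module.Finite A (B ⧸ Ideal.map (algebraMap A B) I)) (s : Finset B) :
    ∃ (N : Type u) (_ : CommRing N) (_ : Algebra A N) (_ : Algebra.Etale A N),
      Function.Bijective
        (Ideal.quotientMap (I.map (algebraMap A N)) (algebraMap A N) Ideal.le_comap_map) ∧
      ∃ e : N ⊗[A] B, IsIdempotentElem e ∧ 1 - e ∈ I.map (algebraMap A (N ⊗[A] B)) ∧
        ∀ b ∈ s, ∃ m : N[X], m.Monic ∧ e * aeval ((1 : N) ⊗ₜ[A] b) m = 0 := by
  obtain ⟨N, _, _, _, hqN, e₁, m, a, ha, hr1, hr2, hr3⟩ := exists_stage_of_quotient_finite I B hfin s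
  set IN := I.map (algebraMap A N) with hIN
  let N' := Localization.Away a
  haveI : Algebra.Etale N N' := Algebra.Etale.of_isLocalizationAway a
  haveI : Algebra.Etale A N' := Algebra.Etale.comp A N N'
  -- residue condition
  have hqNN' : Function.Bijective (Ideal.quotientMap (IN.map (algebraMap N N')) (algebraMap N N')
      Ideal.le_comap_map) :=
    quotientMap_away_bijective_of_one_sub_mem IN a (by
      have := IN.neg_mem ha
      rwa [neg_sub] at this) N'
  obtain ⟨hs1, hi1⟩ := (quotientMap_bijective_iff (I := I) (S := N)).mp hqN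
  obtain ⟨hs2, hi2⟩ := (quotientMap_bijective_iff (I := IN) (S := N')).mp hqNN'
  have hmapmap : IN.map (algebraMap N N') = I.map (algebraMap A N') := by
    rw [hIN, Ideal.map_map, ← IsScalarTower.algebraMap_eq]
  have hqN' : Function.Bijective (Ideal.quotientMap (I.map (algebraMap A N')) (algebraMap A N')
      Ideal.le_comap_map) := by
    rw [quotientMap_bijective_iff]
    refine ⟨fun x => ?_, fun r hr => ?_⟩
    · obtain ⟨n, hn⟩ := hs2 x
      obtain ⟨r, hr⟩ := hs1 n
      refine ⟨r, ?_⟩
      have : x - algebraMap A N' r = (x - algebraMap N N' n) + algebraMap N N' (n - algebraMap A N r) := by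
        rw [map_sub, ← IsScalarTower.algebraMap_apply]; ring
      rw [this, ← hmapmap]
      exact Ideal.add_mem _ hn (Ideal.mem_map_of_mem _ hr)
    · apply hi1
      apply hi2
      rw [hmapmap, ← IsScalarTower.algebraMap_apply]
      exact hr
  -- push forward
  let ι : N →ₐ[A] N' := IsScalarTower.toAlgHom A N N'
  let Ψ : N ⊗[A] B →ₐ[A] N' ⊗[A] B := Algebra.TensorProduct.map ι (AlgHom.id A B)
  have hιa : IsUnit (ι a) := IsLocalization.Away.algebraMap_isUnit a
  have hΨkill : ∀ z : N ⊗[A] B, a • z = 0 → Ψ z = 0 := by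
    intro z hz
    have h1 := map_smul_eq_mul ι a z
    rw [hz, map_zero] at h1
    exact ((hιa.map (algebraMap N' (N' ⊗[A] B))).mul_right_eq_zero).mp h1.symm
  set IB := I.map (algebraMap A B) with hIB
  let Ψb : N ⊗[A] (B ⧸ IB) →ₐ[A] N' ⊗[A] (B ⧸ IB) :=
    Algebra.TensorProduct.map ι (AlgHom.id A (B ⧸ IB))
  have hΨbkill : ∀ z : N ⊗[A] (B ⧸ IB), a • z = 0 → Ψb z = 0 := by
    intro z hz
    have h1 := map_smul_eq_mul ι a z
    rw [hz, map_zero] at h1
    exact ((hιa.map (algebraMap N' (N' ⊗[A] (B ⧸ IB)))).mul_right_eq_zero).mp h1.symm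
  let ΘN : N ⊗[A] B →ₐ[A] N ⊗[A] (B ⧸ IB) :=
    Algebra.TensorProduct.map (AlgHom.id A N) (Ideal.Quotient.mkₐ A IB)
  let ΘN' : N' ⊗[A] B →ₐ[A] N' ⊗[A] (B ⧸ IB) :=
    Algebra.TensorProduct.map (AlgHom.id A N') (Ideal.Quotient.mkₐ A IB)
  have hnat : ∀ x : N ⊗[A] B, ΘN' (Ψ x) = Ψb (ΘN x) := by
    intro x
    induction x using TensorProduct.induction_on with
    | zero => simp
    | tmul n b => simp [ΘN, ΘN', Ψ, Ψb]
    | add x y hx hy => rw [map_add, map_add, map_add, map_add, hx, hy]
  refine ⟨N', inferInstance, inferInstance, inferInstance, hqN', Ψ e₁, ?_, ?_, ?_⟩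
  · have := hΨkill _ hr1
    rw [map_sub, map_mul, sub_eq_zero] at this
    exact this
  · have h1 : ΘN' (1 - Ψ e₁) = 0 := by
      have := hΨbkill _ hr2
      rw [← hnat, map_sub, map_one] at this
      exact this
    have h2 : 1 - Ψ e₁ ∈ RingHom.ker ΘN' := h1
    rw [Algebra.TensorProduct.lTensor_ker _ (Ideal.Quotient.mkₐ_surjective A IB)] at h2
    have h3 : RingHom.ker (Ideal.Quotient.mkₐ A IB) = IB := Ideal.Quotient.mkₐ_ker A IB
    rw [h3, hIB] at h2
    have h4 : (I.map (algebraMap A B)).map
        (Algebra.TensorProduct.includeRight : B →ₐ[A] N' ⊗[A] B) =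
        I.map (algebraMap A (N' ⊗[A] B)) := by
      have : (I.map (algebraMap A B)).map
          (Algebra.TensorProduct.includeRight : B →ₐ[A] N' ⊗[A] B) =
          (I.map (algebraMap A B)).map
          ((Algebra.TensorProduct.includeRight : B →ₐ[A] N' ⊗[A] B) : B →+* N' ⊗[A] B) := rfl
      rw [this, Ideal.map_map]
      congr 1
      ext x
      simp
    rw [h4] at h2
    exact h2
  · intro b hb
    obtain ⟨hm, hz⟩ := hr3 b hb
    refine ⟨(m b).map (ι : N →+* N'), hm.map _, ?_⟩
    have := hΨkill _ hz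
    rw [map_mul] at this
    have h5 := map_aeval_tmul ι b (m b)
    change Ψ _ = _ at h5
    rw [h5] at this
    exact this

end Stage

section Final

attribute [local instance] Algebra.TensorProduct.rightAlgebra

/-- **S17976.** -/
theorem exists_etale_nbhd_finite_of_quotient_finite
    (A : Type u) [CommRing A] (I : Ideal A) (B : Type u) [CommRing B] [Algebra A B]
    [Algebra.FiniteType A B]
    (hfin : Module.Finite A (B ⧸ Ideal.map (algebraMap A B) I)) :
    ∃ (A' : Type u) (_ : CommRing A') (_ : Algebra A A') (_ : Algebra.Etale A A')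
      (C : Type u) (_ : CommRing C) (_ : Algebra A C) (_ : Algebra A' C) (_ : Algebra B C)
      (_ : IsScalarTower A A' C) (_ : IsScalarTower A B C),
      Function.Surjective ((Ideal.Quotient.mk (Ideal.map (algebraMap A A') I)).comp (algebraMap A A')) ∧
      RingHom.ker ((Ideal.Quotient.mk (Ideal.map (algebraMap A A') I)).comp (algebraMap A A')) = I ∧
      Algebra.Etale B C ∧ Module.Finite A' C ∧
      Function.Surjective ((Ideal.Quotient.mk (Ideal.map (algebraMap A C) I)).comp (algebraMap B C)) ∧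
      RingHom.ker ((Ideal.Quotient.mk (Ideal.map (algebraMap A C) I)).comp (algebraMap B C)) =
        Ideal.map (algebraMap A B) I := by
  obtain ⟨s, hs⟩ := (Algebra.FiniteType.out : (⊤ : Subalgebra A B).FG)
  obtain ⟨N, _, _, _, hqN, e, he, h1e, hmon⟩ :=
    exists_etale_nbhd_idempotent_of_quotient_finite I B hfin s
  obtain ⟨hs1, hi1⟩ := (quotientMap_bijective_iff (I := I) (S := N)).mp hqN
  let T := N ⊗[A] B
  set L : Ideal T := Ideal.span ({1 - e} : Set T) with hL
  let C := T ⧸ L
  -- étale over `B`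
  haveI : Algebra.Etale B T := Algebra.Etale.of_equiv (Algebra.TensorProduct.commRight A B N)
  have hloc : IsLocalization.Away e (T ⧸ L) :=
    IsLocalization.away_of_isIdempotentElem he
      (by rw [Ideal.Quotient.algebraMap_eq, Ideal.mk_ker]) Ideal.Quotient.mk_surjective
  haveI : Algebra.Etale T C := Algebra.Etale.of_isLocalizationAway e
  haveI : Algebra.Etale B C := Algebra.Etale.comp B T C
  refine ⟨N, inferInstance, inferInstance, inferInstance, C, inferInstance, inferInstance,
    inferInstance, inferInstance, inferInstance, inferInstance, ?_, ?_, inferInstance, ?_, ?_, ?_⟩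
  · intro x
    obtain ⟨n, rfl⟩ := Ideal.Quotient.mk_surjective x
    obtain ⟨r, hr⟩ := hs1 n
    refine ⟨r, ?_⟩
    rw [RingHom.comp_apply]
    exact (Ideal.Quotient.eq.mpr hr).symm
  · ext r
    rw [RingHom.mem_ker, RingHom.comp_apply, Ideal.Quotient.eq_zero_iff_mem]
    exact ⟨hi1 r, fun h => Ideal.mem_map_of_mem _ h⟩
  · -- finiteness
    have hmke : Ideal.Quotient.mk L e = 1 := by
      rw [← map_one (Ideal.Quotient.mk L)]
      apply Ideal.Quotient.eq.mpr
      have : e - 1 = -(1 - e) := by ring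
      rw [this]
      exact L.neg_mem (Ideal.subset_span (Set.mem_singleton _))
    have hintb : ∀ b : B, IsIntegral N (Ideal.Quotient.mk L ((1 : N) ⊗ₜ[A] b)) := by
      intro b
      have hb : b ∈ Algebra.adjoin A (s : Set B) := hs ▸ Algebra.mem_top
      induction hb using Algebra.adjoin_induction with
      | mem x hx =>
        obtain ⟨m, hm, hz⟩ := hmon x hx
        refine ⟨m, hm, ?_⟩
        have h1 : Ideal.Quotient.mk L (aeval ((1 : N) ⊗ₜ[A] x) m) = 0 := by
          have := congrArg (Ideal.Quotient.mk L) hz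
          rwa [map_mul, hmke, one_mul, map_zero] at this
        rw [← h1, aeval_def, Polynomial.hom_eval₂]
        rfl
      | algebraMap r =>
        have : Ideal.Quotient.mk L ((1 : N) ⊗ₜ[A] algebraMap A B r) =
            algebraMap N C (algebraMap A N r) := by
          rw [Algebra.algebraMap_eq_smul_one, Algebra.algebraMap_eq_smul_one (A := N),
            ← TensorProduct.smul_tmul]
          rfl
        rw [this]
        exact isIntegral_algebraMap
      | add x y _ _ hx hy =>
        rw [TensorProduct.tmul_add, map_add]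
        exact hx.add hy
      | mul x y _ _ hx hy =>
        have : (1 : N) ⊗ₜ[A] (x * y) = ((1 : N) ⊗ₜ[A] x) * ((1 : N) ⊗ₜ[A] y) := by
          rw [Algebra.TensorProduct.tmul_mul_tmul, one_mul]
        rw [this, map_mul]
        exact hx.mul hy
    haveI : Algebra.IsIntegral N C := by
      constructor
      intro c
      obtain ⟨t, rfl⟩ := Ideal.Quotient.mk_surjective c
      induction t using TensorProduct.induction_on with
      | zero => rw [map_zero]; exact isIntegral_zero
      | tmul n b =>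
        have h4 : n ⊗ₜ[A] b = n • ((1 : N) ⊗ₜ[A] b) := by
          rw [TensorProduct.smul_tmul', smul_eq_mul, mul_one]
        rw [h4]
        exact (hintb b).smul n
      | add x y hx hy => rw [map_add]; exact hx.add hy
    haveI : Algebra.FiniteType N T := inferInstance
    haveI : Algebra.FiniteType N C :=
      Algebra.FiniteType.of_surjective (Ideal.Quotient.mkₐ N L) (Ideal.Quotient.mkₐ_surjective N L)
    exact Algebra.IsIntegral.finite
  · set IC := I.map (algebraMap A C) with hIC
    have hbC : ∀ b : B, algebraMap B C b = Ideal.Quotient.mk L ((1 : N) ⊗ₜ[A] b) := fun b => rfl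
    have hIT : ∀ x ∈ I.map (algebraMap A T), Ideal.Quotient.mk L x ∈ IC := by
      intro x hx
      have : (I.map (algebraMap A T)).map (Ideal.Quotient.mk L) = IC := by
        rw [Ideal.map_map]; rfl
      rw [← this]; exact Ideal.mem_map_of_mem _ hx
    have hjb : ∀ j ∈ I.map (algebraMap A N), ∀ b : B, j ⊗ₜ[A] b ∈ I.map (algebraMap A T) := by
      intro j hj b
      have h1 : j ⊗ₜ[A] b = algebraMap N T j * ((1 : N) ⊗ₜ[A] b) := by
        rw [Algebra.TensorProduct.algebraMap_apply, Algebra.TensorProduct.tmul_mul_tmul, one_mul]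
        simp
      rw [h1]
      apply Ideal.mul_mem_right
      have : (I.map (algebraMap A N)).map (algebraMap N T) = I.map (algebraMap A T) := by
        rw [Ideal.map_map, ← IsScalarTower.algebraMap_eq]
      rw [← this]; exact Ideal.mem_map_of_mem _ hj
    have hsurjT : ∀ t : T, ∃ b : B, t - (1 : N) ⊗ₜ[A] b ∈ I.map (algebraMap A T) := by
      intro t
      induction t using TensorProduct.induction_on with
      | zero => exact ⟨0, by simp⟩
      | tmul n b =>
        obtain ⟨r, hr⟩ := hs1 n
        refine ⟨r • b, ?_⟩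
        have : n ⊗ₜ[A] b - (1 : N) ⊗ₜ[A] (r • b) = (n - algebraMap A N r) ⊗ₜ[A] b := by
          rw [TensorProduct.sub_tmul, TensorProduct.tmul_smul, TensorProduct.smul_tmul',
            Algebra.algebraMap_eq_smul_one]
        rw [this]; exact hjb _ hr b
      | add x y hx hy =>
        obtain ⟨b₁, h₁⟩ := hx
        obtain ⟨b₂, h₂⟩ := hy
        refine ⟨b₁ + b₂, ?_⟩
        have : x + y - (1 : N) ⊗ₜ[A] (b₁ + b₂) =
            (x - (1 : N) ⊗ₜ[A] b₁) + (y - (1 : N) ⊗ₜ[A] b₂) := by
          rw [TensorProduct.tmul_add]; ring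
        rw [this]; exact Ideal.add_mem _ h₁ h₂
    intro x
    obtain ⟨c, rfl⟩ := Ideal.Quotient.mk_surjective x
    obtain ⟨t, rfl⟩ := Ideal.Quotient.mk_surjective c
    obtain ⟨b, hb⟩ := hsurjT t
    refine ⟨b, ?_⟩
    rw [RingHom.comp_apply, hbC]
    symm
    apply Ideal.Quotient.eq.mpr
    rw [← map_sub]
    exact hIT _ hb
  · set IB := I.map (algebraMap A B) with hIB
    let eq : (A ⧸ I) ≃+* (N ⧸ I.map (algebraMap A N)) := RingEquiv.ofBijective _ hqN
    let lam0 : N →+* A ⧸ I := (eq.symm.toRingHom).comp (Ideal.Quotient.mk _)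
    have hlam0 : ∀ r : A, lam0 (algebraMap A N r) = Ideal.Quotient.mk I r := by
      intro r
      change eq.symm (Ideal.Quotient.mk _ (algebraMap A N r)) = _
      rw [RingEquiv.symm_apply_eq]
      rfl
    let toBbar : A ⧸ I →+* B ⧸ IB := Ideal.quotientMap IB (algebraMap A B) Ideal.le_comap_map
    let lam : N →ₐ[A] B ⧸ IB :=
      { toBbar.comp lam0 with
        commutes' := fun r => by
          change toBbar (lam0 (algebraMap A N r)) = _
          rw [hlam0]; rfl }
    let ν : T →ₐ[A] B ⧸ IB :=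
      Algebra.TensorProduct.lift lam (Ideal.Quotient.mkₐ A IB) (fun _ _ => Commute.all _ _)
    have hν1 : ∀ b : B, ν ((1 : N) ⊗ₜ[A] b) = Ideal.Quotient.mk IB b := by
      intro b
      change (Algebra.TensorProduct.lift lam (Ideal.Quotient.mkₐ A IB)
        (fun _ _ => Commute.all _ _)) ((1 : N) ⊗ₜ[A] b) = _
      rw [Algebra.TensorProduct.lift_tmul, map_one, one_mul]
      rfl
    have hνI : ∀ x ∈ I.map (algebraMap A T), ν x = 0 := by
      intro x hx
      have hle : I.map (algebraMap A T) ≤ RingHom.ker ν.toRingHom := by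
        rw [Ideal.map_le_iff_le_comap]
        intro i hi
        rw [Ideal.mem_comap, RingHom.mem_ker]
        change ν (algebraMap A T i) = 0
        rw [AlgHom.commutes]
        change Ideal.Quotient.mk IB (algebraMap A B i) = 0
        rw [Ideal.Quotient.eq_zero_iff_mem]; exact Ideal.mem_map_of_mem _ hi
      exact hle hx
    ext b
    rw [RingHom.mem_ker, RingHom.comp_apply, Ideal.Quotient.eq_zero_iff_mem]
    constructor
    · intro hb
      have : (I.map (algebraMap A T)).map (Ideal.Quotient.mk L) = I.map (algebraMap A C) := by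
        rw [Ideal.map_map]; rfl
      rw [← this, Ideal.mem_map_iff_of_surjective _ Ideal.Quotient.mk_surjective] at hb
      obtain ⟨x, hx, hxb⟩ := hb
      have h2 : x - (1 : N) ⊗ₜ[A] b ∈ L := Ideal.Quotient.eq.mp hxb
      rw [hL, Ideal.mem_span_singleton'] at h2
      obtain ⟨c, hc⟩ := h2
      have h3 : ν (x - (1 : N) ⊗ₜ[A] b) = 0 := by rw [← hc, map_mul, hνI _ h1e, mul_zero]
      rw [map_sub, hνI _ hx, zero_sub, neg_eq_zero, hν1, Ideal.Quotient.eq_zero_iff_mem] at h3
      exact h3
    · intro hb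
      have : algebraMap B C b ∈ IB.map (algebraMap B C) := Ideal.mem_map_of_mem _ hb
      rwa [hIB, Ideal.map_map, ← IsScalarTower.algebraMap_eq] at this

end Final

end Groth.Agent.Lib.Helper3
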