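import Groth.Agent.Lib.Helper9.HensK.Residue
import Groth.Agent.Lib.Helper9.Hens.Local
import Groth.Prelude.Def_Hensel
import Mathlib.RingTheory.Unramified.LocalRing

/-!
# `PtColim R K` over a non-local base

For a ring `R`, a prime `p`, a localization `L` of `R` at `p` and a field `K` over the residue field
of `L` (as `R`-algebra), the colimit `PtColim R K` of pointed étale `R`-algebras is a henselian local
`L`-algebra; when `K` is a separable closure of the residue field of `L` it is a strict henselization
of `L`, and when `K` is the residue field it is a henselization.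
-/

set_option linter.style.haveILetI false
set_option linter.unusedSectionVars false
set_option autoImplicit false

namespace Groth.Agent.Lib.Helper3.PtColimLocal

open Groth.Agent.Lib.Helper9.HensK IsLocalRing Polynomial

universe u

section Stage

variable {R : Type u} [CommRing R] {K : Type u} [Field K] [Algebra R K]

/-- In a pointed étale `R`-algebra, the kernel of the point is generated, locally at the point,
by the kernel of `R → K`. -/
theorem exists_mul_mem_map (N : PtEt R K) (y : N.S) (hy : N.σ y = 0) :
    ∃ d : N.S, N.σ d ≠ 0 ∧
      y * d ∈ (RingHom.ker (algebraMap R K)).map (algebraMap R N.S) := by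
  let p : Ideal R := RingHom.ker (algebraMap R K)
  haveI hp : p.IsPrime := RingHom.ker_isPrime _
  let q : Ideal N.S := RingHom.ker N.σ.toRingHom
  haveI hq : q.IsPrime := RingHom.ker_isPrime _
  haveI : q.LiesOver p := ⟨by
    ext a
    change algebraMap R K a = 0 ↔ N.σ (algebraMap R N.S a) = 0
    rw [AlgHom.commutes]⟩
  let Sq := Localization.AtPrime q
  letI := Localization.AtPrime.algebraOfLiesOver p q
  haveI : Algebra.FormallyUnramified N.S Sq :=
    Algebra.FormallyUnramified.of_isLocalization q.primeCompl
  haveI : Algebra.FormallyUnramified R Sq := Algebra.FormallyUnramified.comp R N.S Sq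
  have hmax : p.map (algebraMap R Sq) = maximalIdeal Sq :=
    ((Algebra.isUnramifiedAt_iff_map_eq R p q).mp ‹_›).2
  have h1 : algebraMap N.S Sq y ∈ maximalIdeal Sq := by
    rw [IsLocalization.AtPrime.to_map_mem_maximal_iff Sq q]
    exact hy
  rw [← hmax, IsScalarTower.algebraMap_eq R N.S Sq, ← Ideal.map_map,
    IsLocalization.mem_map_algebraMap_iff q.primeCompl Sq] at h1
  obtain ⟨⟨⟨j, hj⟩, ⟨d, hd⟩⟩, hjd⟩ := h1
  rw [← map_mul, IsLocalization.eq_iff_exists q.primeCompl Sq] at hjd
  obtain ⟨⟨c, hc⟩, hc'⟩ := hjd
  refine ⟨d * c, ?_, ?_⟩
  · have : d * c ∈ q.primeCompl := Submonoid.mul_mem _ hd hc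
    exact this
  · have h2 : y * (d * c) = c * j := by
      simp only at hc'
      rw [← hc']
      ring
    rw [h2]
    exact Ideal.mul_mem_left _ _ hj

end Stage

section Local

variable {R : Type u} [CommRing R] (p : Ideal R) [p.IsPrime]
  (L : Type u) [CommRing L] [IsLocalRing L] [Algebra R L] [IsLocalization.AtPrime L p]
  (K : Type u) [Field K] [Algebra R K] [Algebra L K] [IsScalarTower R L K]
  [IsLocalHom (algebraMap L K)]

include p L

omit p [IsLocalization.AtPrime L p] in
theorem algebraMap_eq_zero_iff (y : L) : algebraMap L K y = 0 ↔ y ∈ maximalIdeal L := by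
  rw [mem_maximalIdeal, mem_nonunits_iff]
  constructor
  · intro h hu
    have := hu.map (algebraMap L K)
    rw [h] at this
    exact not_isUnit_zero this
  · intro h
    by_contra hne
    exact h (isUnit_of_map_unit (algebraMap L K) y (isUnit_iff_ne_zero.mpr hne))

theorem ker_algebraMap : RingHom.ker (algebraMap R K) = p := by
  ext a
  rw [RingHom.mem_ker, IsScalarTower.algebraMap_apply R L K, algebraMap_eq_zero_iff,
    IsLocalization.AtPrime.to_map_mem_maximal_iff L p]

theorem isUnit_algebraMap_of_notMem (a : R) (ha : a ∉ p) :
    IsUnit (algebraMap R (PtColim R K) a) := by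
  rw [PtColim.isUnit_iff, AlgHom.commutes]
  intro h
  apply ha
  rw [← ker_algebraMap p L K]
  exact h

/-- The `L`-algebra structure on `PtColim R K`. -/
@[reducible] noncomputable def algebraL : Algebra L (PtColim R K) :=
  (IsLocalization.lift (M := p.primeCompl) (S := L) (g := algebraMap R (PtColim R K))
    (fun y => isUnit_algebraMap_of_notMem p L K y.1 y.2)).toAlgebra

theorem isScalarTower_algebraL :
    letI := algebraL p L K
    IsScalarTower R L (PtColim R K) := by
  letI := algebraL p L K
  refine IsScalarTower.of_algebraMap_eq fun r => ?_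
  exact (IsLocalization.lift_eq (M := p.primeCompl) (S := L) _ r).symm

variable [Algebra L (PtColim R K)] [IsScalarTower R L (PtColim R K)]

theorem residue_algebraMap (y : L) :
    PtColim.residue (algebraMap L (PtColim R K) y) = algebraMap L K y := by
  have h : ((PtColim.residue : PtColim R K →ₐ[R] K).toRingHom).comp
      (algebraMap L (PtColim R K)) = algebraMap L K := by
    apply IsLocalization.ringHom_ext p.primeCompl
    ext r
    change PtColim.residue (algebraMap L (PtColim R K) (algebraMap R L r)) =
      algebraMap L K (algebraMap R L r)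
    rw [← IsScalarTower.algebraMap_apply, AlgHom.commutes, ← IsScalarTower.algebraMap_apply]
  exact DFunLike.congr_fun h y

theorem isLocalHom_algebraMap : IsLocalHom (algebraMap L (PtColim R K)) := by
  constructor
  intro y hy
  rw [PtColim.isUnit_iff, residue_algebraMap p L K] at hy
  exact isUnit_of_map_unit (algebraMap L K) y (isUnit_iff_ne_zero.mpr hy)

theorem map_maximalIdeal :
    (maximalIdeal L).map (algebraMap L (PtColim R K)) = maximalIdeal (PtColim R K) := by
  apply le_antisymm
  · rw [Ideal.map_le_iff_le_comap]
    intro y hy
    rw [Ideal.mem_comap, PtColim.mem_maximalIdeal_iff, residue_algebraMap p L K,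
      algebraMap_eq_zero_iff]
    exact hy
  · intro x hx
    rw [PtColim.mem_maximalIdeal_iff] at hx
    obtain ⟨N, y, rfl⟩ := PtColim.exists_rep x
    rw [PtColim.residue_ι] at hx
    obtain ⟨d, hd1, hd2⟩ := exists_mul_mem_map N y hx
    rw [ker_algebraMap p L K] at hd2
    have h1 : PtColim.ι N (y * d) ∈ (maximalIdeal L).map (algebraMap L (PtColim R K)) := by
      have h2 := Ideal.mem_map_of_mem (PtColim.ι N) hd2
      rw [Ideal.map_map] at h2
      have h3 : (PtColim.ι N).comp (algebraMap R N.S) = algebraMap R (PtColim R K) :=
        RingHom.ext (PtColim.ι_algebraMap N)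
      rw [h3, IsScalarTower.algebraMap_eq R L (PtColim R K), ← Ideal.map_map,
        IsLocalization.AtPrime.map_eq_maximalIdeal p L] at h2
      exact h2
    rw [map_mul] at h1
    have hu : IsUnit (PtColim.ι N d) :=
      PtColim.isUnit_ι_of_isUnit_σ N d (isUnit_iff_ne_zero.mpr hd1)
    exact (Ideal.mul_unit_mem_iff_mem _ hu).mp h1

section Residue

variable [Algebra (ResidueField L) K] [IsScalarTower L (ResidueField L) K]

/-- Every element of `K` separable over the residue field of `L` is in the image of `residue`. -/
theorem mem_range_residue_of_isSeparable (α : K) (hα : IsSeparable (ResidueField L) α) :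
    ∃ x : PtColim R K, PtColim.residue x = α := by
  have hint : IsIntegral (ResidueField L) α := hα.isIntegral
  have hmon : (minpoly (ResidueField L) α).Monic := minpoly.monic hint
  have hl : minpoly (ResidueField L) α ∈ Polynomial.lifts (algebraMap L (ResidueField L)) := by
    rw [Polynomial.lifts_iff_coeffs_subset_range]
    intro c _
    exact residue_surjective c
  obtain ⟨q, hq, -, hqm⟩ := Polynomial.lifts_and_natDegree_eq_and_monic hl hmon
  let f : (PtColim R K)[X] := q.map (algebraMap L (PtColim R K))
  have hres : (PtColim.residue : PtColim R K →ₐ[R] K).toRingHom.comp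
      (algebraMap L (PtColim R K)) =
      (algebraMap (ResidueField L) K).comp (algebraMap L (ResidueField L)) := by
    ext a
    change PtColim.residue (algebraMap L (PtColim R K) a) = _
    rw [residue_algebraMap p L K, IsScalarTower.algebraMap_apply L (ResidueField L) K]
    rfl
  have e1 : f.map (PtColim.residue : PtColim R K →ₐ[R] K).toRingHom =
      (minpoly (ResidueField L) α).map (algebraMap (ResidueField L) K) := by
    rw [Polynomial.map_map, hres, ← Polynomial.map_map, hq]
  have e2 : f.derivative.map (PtColim.residue : PtColim R K →ₐ[R] K).toRingHom =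
      (minpoly (ResidueField L) α).derivative.map (algebraMap (ResidueField L) K) := by
    rw [← Polynomial.derivative_map, e1, Polynomial.derivative_map]
  have h1 : (f.map (PtColim.residue : PtColim R K →ₐ[R] K).toRingHom).eval α = 0 := by
    rw [e1, Polynomial.eval_map_algebraMap, minpoly.aeval]
  have h2 : IsUnit ((f.derivative.map
      (PtColim.residue : PtColim R K →ₐ[R] K).toRingHom).eval α) := by
    rw [e2, Polynomial.eval_map_algebraMap, isUnit_iff_ne_zero]
    exact hα.aeval_derivative_ne_zero (minpoly.aeval _ _)
  obtain ⟨a, -, ha⟩ := PtColim.exists_root f (hqm.map _) α h1 h2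
  exact ⟨a, ha⟩

theorem residue_surjective_of_isSeparable [Algebra.IsSeparable (ResidueField L) K] :
    Function.Surjective (PtColim.residue : PtColim R K →ₐ[R] K) := fun α =>
  mem_range_residue_of_isSeparable p L K α (Algebra.IsSeparable.isSeparable _ α)

omit p L [IsLocalRing L] [Algebra R L] [IsLocalization.AtPrime L p] [Algebra L K]
  [IsScalarTower R L K] [IsLocalHom (algebraMap L K)] [Algebra L (PtColim R K)]
  [IsScalarTower R L (PtColim R K)] [Algebra (ResidueField L) K]
  [IsScalarTower L (ResidueField L) K] in
theorem residueFieldToK_residue (x : PtColim R K) :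
    PtColim.residueFieldToK (IsLocalRing.residue (PtColim R K) x) = PtColim.residue x := rfl

variable [IsLocalHom (algebraMap L (PtColim R K))]

theorem residueFieldToK_algebraMap (c : ResidueField L) :
    PtColim.residueFieldToK (K := K)
      (algebraMap (ResidueField L) (ResidueField (PtColim R K)) c) =
      algebraMap (ResidueField L) K c := by
  obtain ⟨a, rfl⟩ := residue_surjective c
  change PtColim.residueFieldToK
    (IsLocalRing.residue (PtColim R K) (algebraMap L (PtColim R K) a)) = _
  rw [residueFieldToK_residue, residue_algebraMap p L K,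
    IsScalarTower.algebraMap_apply L (ResidueField L) K]
  rfl

/-- When `K` is separable over the residue field of `L`, the residue field of `PtColim R K` is
`K`. -/
noncomputable def residueFieldEquiv [Algebra.IsSeparable (ResidueField L) K] :
    ResidueField (PtColim R K) ≃ₐ[ResidueField L] K :=
  AlgEquiv.ofBijective
    { PtColim.residueFieldToK (R := R) (K := K) with
      commutes' := residueFieldToK_algebraMap p L K }
    ⟨(PtColim.residueFieldToK (R := R) (K := K)).injective, fun α => by
      obtain ⟨x, hx⟩ := residue_surjective_of_isSeparable p L K α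
      exact ⟨IsLocalRing.residue _ x, hx⟩⟩

theorem residueFieldEquiv_residue [Algebra.IsSeparable (ResidueField L) K] (x : PtColim R K) :
    residueFieldEquiv p L K (IsLocalRing.residue (PtColim R K) x) = PtColim.residue x := rfl

theorem isSepClosure_residueField [IsSepClosure (ResidueField L) K] :
    IsSepClosure (ResidueField L) (ResidueField (PtColim R K)) := by
  haveI : Algebra.IsSeparable (ResidueField L) K := IsSepClosure.separable
  haveI : IsSepClosed K := IsSepClosure.sep_closed (ResidueField L)
  exact ⟨isSepClosed_of_ringEquiv (residueFieldEquiv p L K).symm.toRingEquiv,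
    (AlgEquiv.Algebra.isSeparable_iff (residueFieldEquiv p L K)).mpr inferInstance⟩

/-- The universal property of `PtColim R K` among henselian local `L`-algebras. -/
theorem universal [Algebra.IsSeparable (ResidueField L) K]
    (T : Type u) [CommRing T] [HenselianLocalRing T] (f : L →+* T) [IsLocalHom f]
    (τ : ResidueField (PtColim R K) →+* ResidueField T)
    (hτ : τ.comp (ResidueField.map (algebraMap L (PtColim R K))) = ResidueField.map f) :
    ∃! g : PtColim R K →+* T, g.comp (algebraMap L (PtColim R K)) = f ∧
      ∀ x : PtColim R K, IsLocalRing.residue T (g x) =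
        τ (IsLocalRing.residue (PtColim R K) x) := by
  letI : Algebra R T := (f.comp (algebraMap R L)).toAlgebra
  let e : ResidueField (PtColim R K) ≃ₐ[ResidueField L] K := residueFieldEquiv p L K
  let θ : K →ₐ[R] T ⧸ maximalIdeal T :=
    { τ.comp e.symm.toAlgHom.toRingHom with
      commutes' := fun a => by
        change τ (e.symm (algebraMap R K a)) = _
        rw [IsScalarTower.algebraMap_apply R L K,
          IsScalarTower.algebraMap_apply L (ResidueField L) K, e.symm.commutes]
        have h1 := DFunLike.congr_fun hτ (algebraMap L (ResidueField L) (algebraMap R L a))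
        exact h1 }
  have hθ : ∀ x : PtColim R K, θ (PtColim.residue x) =
      τ (IsLocalRing.residue (PtColim R K) x) := by
    intro x
    change τ (e.symm (PtColim.residue x)) = _
    rw [← residueFieldEquiv_residue p L K, e.symm_apply_apply]
  obtain ⟨g, hg1, hg2⟩ := PtColim.existsUnique_algHom (maximalIdeal T) θ
    (fun N τ' => Groth.Agent.Lib.Helper9.Hens.existsUnique_lift_of_henselianLocalRing T N.S τ')
  refine ⟨g.toRingHom, ⟨?_, ?_⟩, ?_⟩
  · apply IsLocalization.ringHom_ext p.primeCompl
    ext a
    change g (algebraMap L (PtColim R K) (algebraMap R L a)) = f (algebraMap R L a)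
    rw [← IsScalarTower.algebraMap_apply, g.commutes]
    rfl
  · intro x
    have h1 := DFunLike.congr_fun hg1 x
    rw [AlgHom.comp_apply, AlgHom.comp_apply, hθ] at h1
    exact h1
  · rintro g' ⟨hg'1, hg'2⟩
    let g'' : PtColim R K →ₐ[R] T :=
      { g' with
        commutes' := fun a => by
          change g' (algebraMap R (PtColim R K) a) = f (algebraMap R L a)
          rw [IsScalarTower.algebraMap_apply R L (PtColim R K)]
          exact DFunLike.congr_fun hg'1 (algebraMap R L a) }
    have h1 : g'' = g := by
      apply hg2
      apply AlgHom.ext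
      intro x
      rw [AlgHom.comp_apply, AlgHom.comp_apply, hθ]
      exact hg'2 x
    rw [← h1]

theorem isStrictHenselization [IsSepClosure (ResidueField L) K] :
    Hensel.IsStrictHenselization L (PtColim R K) where
  henselian := inferInstance
  isSepClosure := isSepClosure_residueField p L K
  universal := by
    intro T _ _ f hf τ hτ
    haveI : Algebra.IsSeparable (ResidueField L) K := IsSepClosure.separable
    exact universal p L K T f τ hτ

theorem isHenselization (hbij : Function.Bijective (algebraMap (ResidueField L) K)) :
    Hensel.IsHenselization L (PtColim R K) where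
  henselian := inferInstance
  universal := by
    intro T _ _ f hf
    haveI : Algebra.IsSeparable (ResidueField L) K :=
      ⟨fun α => by
        obtain ⟨c, rfl⟩ := hbij.2 α
        exact isSeparable_algebraMap c⟩
    let eLK : ResidueField L ≃+* K := RingEquiv.ofBijective (algebraMap (ResidueField L) K) hbij
    have heLK : ∀ c, eLK c = algebraMap (ResidueField L) K c := fun _ => rfl
    let e : ResidueField (PtColim R K) ≃ₐ[ResidueField L] K := residueFieldEquiv p L K
    let τ : ResidueField (PtColim R K) →+* ResidueField T :=
      (ResidueField.map f).comp (eLK.symm.toRingHom.comp e.toAlgHom.toRingHom)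
    have hmap : ∀ y : L, ResidueField.map (algebraMap L (PtColim R K)) (IsLocalRing.residue L y) =
        IsLocalRing.residue _ (algebraMap L (PtColim R K) y) := fun y => rfl
    have hτ' : ∀ y : L, τ (IsLocalRing.residue _ (algebraMap L (PtColim R K) y)) =
        IsLocalRing.residue T (f y) := by
      intro y
      change ResidueField.map f (eLK.symm (e (IsLocalRing.residue _
        (algebraMap L (PtColim R K) y)))) = _
      have h1 : e (IsLocalRing.residue _ (algebraMap L (PtColim R K) y)) =
          eLK (IsLocalRing.residue L y) := by
        rw [heLK]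
        exact e.commutes (IsLocalRing.residue L y)
      rw [h1, eLK.symm_apply_apply]
      rfl
    have hτ : τ.comp (ResidueField.map (algebraMap L (PtColim R K))) = ResidueField.map f := by
      ext c
      obtain ⟨y, rfl⟩ := residue_surjective c
      rw [RingHom.comp_apply, hmap, hτ' y]
      rfl
    obtain ⟨g, ⟨hg1, hg2⟩, hg3⟩ := universal p L K T f τ hτ
    refine ⟨g, hg1, ?_⟩
    intro g' hg'
    apply hg3
    refine ⟨hg', ?_⟩
    intro x
    -- find `y : L` with the same residue as `x`
    obtain ⟨y, hy⟩ : ∃ y : L, IsLocalRing.residue _ x =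
        IsLocalRing.residue _ (algebraMap L (PtColim R K) y) := by
      obtain ⟨y, hy⟩ := residue_surjective (eLK.symm (e (IsLocalRing.residue _ x)))
      refine ⟨y, ?_⟩
      apply e.injective
      have h1 : e (IsLocalRing.residue _ (algebraMap L (PtColim R K) y)) =
          eLK (IsLocalRing.residue L y) := by
        rw [heLK]
        exact e.commutes (IsLocalRing.residue L y)
      rw [h1, hy, eLK.apply_symm_apply]
    rw [hy, hτ' y]
    have hz : x - algebraMap L (PtColim R K) y ∈ maximalIdeal (PtColim R K) := by
      rw [← residue_eq_zero_iff, map_sub, hy, sub_self]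
    rw [← map_maximalIdeal p L K] at hz
    have h2 := Ideal.mem_map_of_mem g' hz
    rw [Ideal.map_map, hg'] at h2
    have h3 : (maximalIdeal L).map f ≤ maximalIdeal T :=
      ((local_hom_TFAE f).out 0 2 rfl rfl).mp ‹_›
    have h4 := h3 h2
    rw [map_sub, ← residue_eq_zero_iff, map_sub, sub_eq_zero] at h4
    rw [h4]
    exact congrArg _ (DFunLike.congr_fun hg' y)

end Residue

end Local

end Groth.Agent.Lib.Helper3.PtColimLocal
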