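import Groth.Agent.Lib.Helper3.NbhdLocus
import Groth.Agent.Lib.Helper3.QFSplit

/-!
# The quasi-finite locus

* `isOpen_setOf_quasiFiniteAt` : the quasi-finite locus of a finite type algebra is open.
* `quasiFinite_away_of_forall_quasiFiniteAt` : if every prime of `D(g)` is quasi-finite then
  `R_g` is quasi-finite.
-/

namespace Groth.Agent.Lib.Helper3

open PrimeSpectrum

theorem isOpen_setOf_quasiFiniteAt {A R : Type*} [CommRing A] [CommRing R] [Algebra A R]
    [Algebra.FiniteType A R] :
    IsOpen {q : PrimeSpectrum R | Algebra.QuasiFiniteAt A q.asIdeal} := by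
  rw [isOpen_iff_forall_mem_open]
  intro q hq
  have hq' : Algebra.QuasiFiniteAt A q.asIdeal := hq
  have hz := Algebra.ZariskisMainProperty.of_finiteType (R := A) q.asIdeal
  obtain ⟨r, hrq, hr, hx⟩ := Algebra.zariskisMainProperty_iff.mp hz
  refine ⟨basicOpen r, ?_, (basicOpen r).isOpen, hrq⟩
  intro q' hq'
  exact Algebra.ZariskisMainProperty.quasiFiniteAt _
    (Algebra.zariskisMainProperty_iff.mpr ⟨r, hq', hr, hx⟩)

theorem quasiFinite_away_of_forall_quasiFiniteAt {A R : Type*} [CommRing A] [CommRing R]
    [Algebra A R] [Algebra.FiniteType A R] (g : R)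
    (h : ∀ q : PrimeSpectrum R, g ∉ q.asIdeal → Algebra.QuasiFiniteAt A q.asIdeal) :
    Algebra.QuasiFinite A (Localization.Away g) := by
  have h0 : Algebra.FinitePresentation R (Localization.Away g) :=
    IsLocalization.Away.finitePresentation g
  have h1 : Algebra.FiniteType R (Localization.Away g) := inferInstance
  have : Algebra.FiniteType A (Localization.Away g) := .trans (S := R) inferInstance h1
  rw [Algebra.QuasiFinite.iff_finite_comap_preimage_singleton]
  intro x
  have hfin := finite_setOf_quasiFiniteAt_liesOver (R := A) (S := Localization.Away g) x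
  refine (hfin.preimage (f := PrimeSpectrum.asIdeal)
    (fun a _ b _ hab => PrimeSpectrum.ext hab)).subset ?_
  intro q hq
  simp only [Set.mem_preimage, Set.mem_singleton_iff] at hq
  refine ⟨q.isPrime, ⟨?_⟩, ?_⟩
  · rw [← hq]; rfl
  · let q0 : PrimeSpectrum R := PrimeSpectrum.comap (algebraMap R (Localization.Away g)) q
    have hg : g ∉ q0.asIdeal := by
      intro hmem
      have hu : IsUnit (algebraMap R (Localization.Away g) g) :=
        IsLocalization.Away.algebraMap_isUnit g
      exact q.isPrime.ne_top (Ideal.eq_top_of_isUnit_mem _ hmem hu)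
    have hqf : Algebra.QuasiFiniteAt A q0.asIdeal := h q0 hg
    have : q.asIdeal.LiesOver q0.asIdeal := ⟨rfl⟩
    exact Algebra.QuasiFiniteAt.of_surjectiveOnStalks_of_liesOver q0.asIdeal
      (RingHom.surjectiveOnStalks_of_isLocalization (Submonoid.powers g) _) q.asIdeal

end Groth.Agent.Lib.Helper3
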