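import Groth.Agent.Lib.Helper3.IntPropA
import Mathlib.AlgebraicGeometry.ZariskisMainTheorem

/-!
# Separated locally quasi-finite morphisms satisfy condition (A) (helper3)
-/

set_option linter.style.haveILetI false
set_option linter.unusedSectionVars false
set_option autoImplicit false

universe u

open CategoryTheory CategoryTheory.Limits AlgebraicGeometry Opposite TopologicalSpace

namespace Groth.Agent.Lib.Helper3.QFPropA

open Groth.Agent.Lib.Helper3

set_option maxHeartbeats 800000 in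
theorem propA {X Y : Scheme.{u}} (f : X ⟶ Y) [IsSeparated f]
    [LocallyQuasiFinite f] [LocallyOfFiniteType f] : BigSite.PropA f := by
  intro U g _ u
  let x : X := g u
  obtain ⟨T, t, htEt, -, V₁, W₁, v₁, hcompl, hfin, hv₁⟩ :=
    exists_etale_isCompl_of_quasiFiniteAt f (x := x) rfl (f.quasiFiniteAt x)
  haveI : Etale t := htEt
  let XT : Scheme.{u} := pullback f t
  -- `V₁` is closed
  have hV₁closed : IsClosed (V₁ : Set XT) := by
    have h1 : (V₁ : Set XT)ᶜ = (W₁ : Set XT) := by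
      ext z
      constructor
      · intro hz
        have h2 : z ∈ V₁ ⊔ W₁ := by rw [hcompl.sup_eq_top]; trivial
        rcases h2 with h2 | h2
        · exact absurd h2 hz
        · exact h2
      · intro hz hz'
        have h2 : z ∈ V₁ ⊓ W₁ := ⟨hz', hz⟩
        rw [hcompl.inf_eq_bot] at h2
        exact h2
    rw [← isOpen_compl_iff, h1]
    exact W₁.2
  let φ : V₁.toScheme ⟶ T := V₁.ι ≫ pullback.snd f t
  haveI : IsFinite φ := hfin
  haveI : IsIntegralHom φ := inferInstance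
  let a₁ : V₁.toScheme ⟶ X := V₁.ι ≫ pullback.fst f t
  let U₁ : Scheme.{u} := pullback g a₁
  let g₁ : U₁ ⟶ V₁.toScheme := pullback.snd g a₁
  haveI : Etale g₁ := inferInstance
  obtain ⟨u₁, hu₁1, hu₁2⟩ := Scheme.Pullback.exists_preimage_pullback (f := g) (g := a₁) u v₁
    (by
      change g u = (pullback.fst f t) (V₁.ι v₁)
      exact hv₁.symm)
  obtain ⟨T', t', ht'Et, W, hWclosed, h, hh, hu₁⟩ := IntPropA.propA φ U₁ g₁ u₁
  haveI : Etale t' := ht'Et
  let P : Scheme.{u} := pullback f (t' ≫ t)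
  let r : P ⟶ XT := pullback.map f (t' ≫ t) f t (𝟙 X) t' (𝟙 Y) (by simp) (by simp)
  have hr1 : r ≫ pullback.fst f t = pullback.fst f (t' ≫ t) := by
    change pullback.map f (t' ≫ t) f t (𝟙 X) t' (𝟙 Y) (by simp) (by simp) ≫ _ = _
    rw [pullback.lift_fst, Category.comp_id]
  have hr2 : r ≫ pullback.snd f t = pullback.snd f (t' ≫ t) ≫ t' := by
    change pullback.map f (t' ≫ t) f t (𝟙 X) t' (𝟙 Y) (by simp) (by simp) ≫ _ = _
    rw [pullback.lift_snd]
  have hright : IsPullback (pullback.fst f t) (pullback.snd f t) f t := IsPullback.of_hasPullback f t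
  have houter : IsPullback (r ≫ pullback.fst f t) (pullback.snd f (t' ≫ t)) f (t' ≫ t) := by
    rw [hr1]
    exact IsPullback.of_hasPullback f (t' ≫ t)
  have hleft : IsPullback r (pullback.snd f (t' ≫ t)) (pullback.snd f t) t' :=
    IsPullback.of_right houter hr2 hright
  let V₁' : P.Opens := r ⁻¹ᵁ V₁
  have hres : IsPullback (r ∣_ V₁) V₁'.ι V₁.ι r := isPullback_morphismRestrict r V₁
  have hbig : IsPullback (r ∣_ V₁) (V₁'.ι ≫ pullback.snd f (t' ≫ t)) φ t' := hres.paste_vert hleft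
  let c : V₁'.toScheme ≅ pullback φ t' := hbig.isoPullback
  have hc1 : c.hom ≫ pullback.fst φ t' = r ∣_ V₁ := hbig.isoPullback_hom_fst
  have hc2 : c.hom ≫ pullback.snd φ t' = V₁'.ι ≫ pullback.snd f (t' ≫ t) := hbig.isoPullback_hom_snd
  let W₀ : V₁'.toScheme.Opens := c.hom ⁻¹ᵁ W
  let W' : P.Opens := V₁'.ι ''ᵁ W₀
  have hV₁'closed : IsClosed (V₁' : Set P) := hV₁closed.preimage r.continuous
  have hW₀closed : IsClosed (W₀ : Set V₁'.toScheme) := hWclosed.preimage c.hom.continuous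
  have hW'closed : IsClosed (W' : Set P) := by
    have hemb : Topology.IsClosedEmbedding V₁'.ι :=
      ⟨V₁'.ι.isOpenEmbedding.isEmbedding, by rw [Scheme.Opens.range_ι]; exact hV₁'closed⟩
    exact hemb.isClosedMap _ hW₀closed
  let e : W₀.toScheme ≅ W'.toScheme := V₁'.ι.isoImage W₀
  have he : e.hom ≫ W'.ι = W₀.ι ≫ V₁'.ι := V₁'.ι.isoImage_hom_ι W₀
  let h' : W'.toScheme ⟶ U := e.inv ≫ (c.hom ∣_ W) ≫ h ≫ pullback.fst g a₁
  refine ⟨T', t' ≫ t, inferInstance, W', hW'closed, h', ?_, ?_⟩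
  · rw [← cancel_epi e.hom]
    calc e.hom ≫ h' ≫ g = (c.hom ∣_ W) ≫ h ≫ (pullback.fst g a₁ ≫ g) := by
          simp only [h', Category.assoc, Iso.hom_inv_id_assoc]
      _ = (c.hom ∣_ W) ≫ h ≫ (g₁ ≫ a₁) := by rw [pullback.condition]
      _ = (c.hom ∣_ W) ≫ (h ≫ g₁) ≫ a₁ := by simp only [Category.assoc]
      _ = (c.hom ∣_ W) ≫ (W.ι ≫ pullback.fst φ t') ≫ a₁ := by rw [hh]
      _ = ((c.hom ∣_ W) ≫ W.ι) ≫ pullback.fst φ t' ≫ a₁ := by simp only [Category.assoc]
      _ = (W₀.ι ≫ c.hom) ≫ pullback.fst φ t' ≫ a₁ := by rw [morphismRestrict_ι]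
      _ = W₀.ι ≫ (c.hom ≫ pullback.fst φ t') ≫ a₁ := by simp only [Category.assoc]
      _ = W₀.ι ≫ (r ∣_ V₁) ≫ V₁.ι ≫ pullback.fst f t := by rw [hc1]
      _ = W₀.ι ≫ ((r ∣_ V₁) ≫ V₁.ι) ≫ pullback.fst f t := by simp only [Category.assoc]
      _ = W₀.ι ≫ (V₁'.ι ≫ r) ≫ pullback.fst f t := by rw [morphismRestrict_ι]
      _ = (W₀.ι ≫ V₁'.ι) ≫ (r ≫ pullback.fst f t) := by simp only [Category.assoc]
      _ = (e.hom ≫ W'.ι) ≫ pullback.fst f (t' ≫ t) := by rw [he, hr1]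
      _ = e.hom ≫ W'.ι ≫ pullback.fst f (t' ≫ t) := Category.assoc _ _ _
  · obtain ⟨w, hw⟩ := hu₁
    let w₀ : V₁'.toScheme := c.inv w.1
    have hw₀ : c.hom w₀ = w.1 := by
      change c.hom (c.inv w.1) = w.1
      rw [← Scheme.Hom.comp_apply, Iso.inv_hom_id]
      rfl
    have hw₀mem : w₀ ∈ W₀ := by
      change c.hom w₀ ∈ W
      rw [hw₀]
      exact w.2
    let w₁ : W₀.toScheme := ⟨w₀, hw₀mem⟩
    have hw₁ : (c.hom ∣_ W) w₁ = w := by
      apply Subtype.ext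
      change W.ι ((c.hom ∣_ W) w₁) = w.1
      rw [← Scheme.Hom.comp_apply, morphismRestrict_ι, Scheme.Hom.comp_apply]
      exact hw₀
    refine ⟨e.hom w₁, ?_⟩
    change h' (e.hom w₁) = u
    change (e.inv ≫ (c.hom ∣_ W) ≫ h ≫ pullback.fst g a₁) (e.hom w₁) = u
    rw [← Scheme.Hom.comp_apply, Iso.hom_inv_id_assoc, Scheme.Hom.comp_apply,
      Scheme.Hom.comp_apply, hw₁]
    have : h w = u₁ := hw
    rw [this]
    exact hu₁1

end Groth.Agent.Lib.Helper3.QFPropA
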