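import Groth.Agent.Lib.Helper3.UnramLocal2

set_option autoImplicit false
set_option linter.style.haveILetI false
set_option linter.unusedSectionVars false
universe u

open TensorProduct

namespace Groth.Agent.Lib.Helper3

section MinFib

variable {R S : Type*} [CommRing R] [CommRing S] [Algebra R S]

/-- The number of minimal elements among the primes of `S` lying over `p`. -/
noncomputable def minFib (R : Type*) [CommRing R] (S : Type*) [CommRing S] [Algebra R S]
    (p : Ideal R) : ℕ := Nat.card {x : p.primesOver S // IsMin x}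

theorem finite_isMin_primesOver [Algebra.FiniteType R S] (p : Ideal R) [p.IsPrime] :
    Finite {x : p.primesOver S // IsMin x} := by
  have hnoeth : IsNoetherianRing (p.Fiber S) :=
    Algebra.FiniteType.isNoetherianRing p.ResidueField _
  let F := PrimeSpectrum.primesOverOrderIsoFiber R S p
  have hfin : Finite {y : PrimeSpectrum (p.Fiber S) // IsMin y} :=
    (PrimeSpectrum.finite_setOfPred_isMin (p.Fiber S)).to_subtype
  refine Finite.of_injective
    (fun x => (⟨F x.1, (F.isMin_apply).mpr x.2⟩ : {y : PrimeSpectrum (p.Fiber S) // IsMin y})) ?_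
  intro x y hxy
  have := congrArg Subtype.val hxy
  exact Subtype.ext (F.injective this)

theorem minFib_eq_of_orderIso {R₁ S₁ : Type*} [CommRing R₁] [CommRing S₁] [Algebra R₁ S₁]
    (p : Ideal R) (p₁ : Ideal R₁) (F : p₁.primesOver S₁ ≃o p.primesOver S) :
    minFib R₁ S₁ p₁ = minFib R S p :=
  Nat.card_congr (F.toEquiv.subtypeEquiv (fun _ => (F.isMin_apply).symm))

theorem isMin_of_quasiFiniteAt (p : Ideal R) (q : Ideal S) [hq : q.IsPrime] [ho : q.LiesOver p]
    [Algebra.QuasiFiniteAt R q] : IsMin (⟨q, hq, ho⟩ : p.primesOver S) := by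
  intro y hy
  have hle : y.1 ≤ q := hy
  haveI := y.2.1
  have hunder : y.1.under R = q.under R := by
    rw [← y.2.2.over, ← ho.over]
  have := Algebra.QuasiFiniteAt.eq_of_le_of_under_eq (R := R) hle hunder
  exact this.ge

theorem minFib_quotient_lt {T : Type*} [CommRing T] [Algebra R T] (p : Ideal R) [p.IsPrime]
    {e : T} (he : IsIdempotentElem e) (P' : Ideal T) [hP' : P'.IsPrime] [hP'o : P'.LiesOver p]
    (heP' : e ∉ P') (hmin : IsMin (⟨P', hP', hP'o⟩ : p.primesOver T))
    [Finite {x : p.primesOver T // IsMin x}] :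
    minFib R (T ⧸ Ideal.span ({e} : Set T)) p < minFib R T p := by
  set L : Ideal T := Ideal.span ({e} : Set T) with hL
  have hmke : Ideal.Quotient.mk L e = 0 :=
    Ideal.Quotient.eq_zero_iff_mem.mpr (Ideal.subset_span rfl)
  have he' : e * (1 - e) = 0 := by rw [mul_sub, mul_one, he.eq, sub_self]
  -- the comap of a prime over `p`
  have hcomap_mem : ∀ r : p.primesOver (T ⧸ L),
      r.1.comap (Ideal.Quotient.mk L) ∈ p.primesOver T := by
    intro r
    haveI := r.2.1
    refine ⟨Ideal.comap_isPrime _ _, ⟨?_⟩⟩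
    exact r.2.2.over
  have he_mem : ∀ r : p.primesOver (T ⧸ L), e ∈ r.1.comap (Ideal.Quotient.mk L) := by
    intro r
    rw [Ideal.mem_comap, hmke]
    exact zero_mem _
  have hisMin : ∀ r : p.primesOver (T ⧸ L), IsMin r →
      IsMin (⟨r.1.comap (Ideal.Quotient.mk L), hcomap_mem r⟩ : p.primesOver T) := by
    intro r hr y hy
    have hle : y.1 ≤ r.1.comap (Ideal.Quotient.mk L) := hy
    haveI := y.2.1
    haveI := r.2.1
    have h1e : 1 - e ∉ y.1 := by
      intro h
      have h1 : 1 - e ∈ r.1.comap (Ideal.Quotient.mk L) := hle h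
      have h2 : (1 : T) ∈ r.1.comap (Ideal.Quotient.mk L) := by
        have := Ideal.add_mem _ (he_mem r) h1
        simpa using this
      exact (Ideal.comap_isPrime (Ideal.Quotient.mk L) r.1).ne_top
        ((Ideal.eq_top_iff_one _).mpr h2)
    have hey : e ∈ y.1 := by
      have : e * (1 - e) ∈ y.1 := by rw [he']; exact zero_mem _
      exact (‹y.1.IsPrime›.mem_or_mem this).resolve_right h1e
    have hker : RingHom.ker (Ideal.Quotient.mk L) ≤ y.1 := by
      rw [Ideal.mk_ker, hL, Ideal.span_le, Set.singleton_subset_iff]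
      exact hey
    have hyc : (y.1.map (Ideal.Quotient.mk L)).comap (Ideal.Quotient.mk L) = y.1 := by
      rw [Ideal.comap_map_of_surjective' _ Ideal.Quotient.mk_surjective, sup_eq_left]
      exact hker
    have hy' : y.1.map (Ideal.Quotient.mk L) ∈ p.primesOver (T ⧸ L) := by
      refine ⟨Ideal.map_isPrime_of_surjective Ideal.Quotient.mk_surjective hker, ⟨?_⟩⟩
      have : (y.1.map (Ideal.Quotient.mk L)).under R =
          ((y.1.map (Ideal.Quotient.mk L)).comap (Ideal.Quotient.mk L)).under R := rfl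
      rw [this, hyc]
      exact y.2.2.over
    have hle' : (⟨y.1.map (Ideal.Quotient.mk L), hy'⟩ : p.primesOver (T ⧸ L)) ≤ r :=
      Ideal.map_le_iff_le_comap.mpr hle
    have hge : r.1 ≤ y.1.map (Ideal.Quotient.mk L) := hr hle'
    change r.1.comap (Ideal.Quotient.mk L) ≤ y.1
    rw [← hyc]
    exact Ideal.comap_mono hge
  let f : {x : p.primesOver (T ⧸ L) // IsMin x} → {x : p.primesOver T // IsMin x} :=
    fun r => ⟨⟨r.1.1.comap (Ideal.Quotient.mk L), hcomap_mem r.1⟩, hisMin r.1 r.2⟩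
  have hf : Function.Injective f := by
    intro r r' h
    have h1 : r.1.1.comap (Ideal.Quotient.mk L) = r'.1.1.comap (Ideal.Quotient.mk L) :=
      congrArg (fun x => x.1.1) h
    exact Subtype.ext (Subtype.ext
      (Ideal.comap_injective_of_surjective _ Ideal.Quotient.mk_surjective h1))
  have hnot : (⟨⟨P', hP', hP'o⟩, hmin⟩ : {x : p.primesOver T // IsMin x}) ∉ Set.range f := by
    rintro ⟨r, hr⟩
    have h1 : r.1.1.comap (Ideal.Quotient.mk L) = P' := congrArg (fun x => x.1.1) hr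
    exact heP' (h1 ▸ he_mem r.1)
  haveI : Finite {x : p.primesOver (T ⧸ L) // IsMin x} := Finite.of_injective f hf
  letI := Fintype.ofFinite {x : p.primesOver (T ⧸ L) // IsMin x}
  letI := Fintype.ofFinite {x : p.primesOver T // IsMin x}
  unfold minFib
  rw [Nat.card_eq_fintype_card, Nat.card_eq_fintype_card]
  exact Fintype.card_lt_of_injective_of_notMem f hf hnot

end MinFib

section Over

/-- Normal form of the conclusion of Stacks 00UL for finite type algebras (S9457). -/
def QFSplitOver (R : Type u) [CommRing R] (S : Type u) [CommRing S] [Algebra R S]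
    (p : Ideal R) [p.IsPrime] : Prop :=
  ∃ (R' : Type u) (_ : CommRing R') (_ : Algebra R R') (_ : Algebra.Etale R R') (p' : Ideal R')
    (_ : p'.IsPrime) (_ : p'.LiesOver p) (ι : Type) (_ : Fintype ι) (A : ι → Type u)
    (_ : ∀ i, CommRing (A i)) (_ : ∀ i, Algebra R' (A i)) (B : Type u) (_ : CommRing B)
    (_ : Algebra R' B),
    Function.Bijective (Ideal.ResidueField.mapₐ p p' (Algebra.ofId _ _) (p'.over_def p)) ∧
    Nonempty ((R' ⊗[R] S) ≃ₐ[R'] ((∀ i, A i) × B)) ∧
      (∀ i, Module.Finite R' (A i) ∧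
        ∃! r : Ideal (A i), r.IsPrime ∧ r.comap (algebraMap R' (A i)) = p') ∧
      ∀ (q : Ideal B) [q.IsPrime], q.comap (algebraMap R' B) = p' →
        ¬ Algebra.QuasiFiniteAt R' q

theorem QFSplitOver.of_forall_not (R : Type u) [CommRing R] (S : Type u) [CommRing S]
    [Algebra R S] (p : Ideal R) [p.IsPrime]
    (h : ∀ (q : Ideal S) [q.IsPrime], q.comap (algebraMap R S) = p →
      ¬ Algebra.QuasiFiniteAt R q) : QFSplitOver R S p := by
  refine ⟨R, inferInstance, inferInstance, inferInstance, p, inferInstance,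
    ⟨(Ideal.comap_id p).symm⟩, Empty, inferInstance, fun _ => PUnit, fun _ => inferInstance,
    fun _ => inferInstance, S, inferInstance,
    inferInstance, ?_, ⟨?_⟩, fun i => i.elim, h⟩
  · rw! [Algebra.ofId_self, Ideal.ResidueField.mapₐ_id]
    exact Function.bijective_id
  · let f : S →ₐ[R] ((∀ _ : Empty, PUnit.{u+1}) × S) :=
      AlgHom.prod (AlgHom.pi (fun i => i.elim)) (AlgHom.id R S)
    have hf : Function.Bijective f := by
      constructor
      · intro x y hxy
        exact congrArg Prod.snd hxy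
      · rintro ⟨g, s⟩
        exact ⟨s, Prod.ext (Subsingleton.elim _ _) rfl⟩
    exact (Algebra.TensorProduct.lid R S).trans (AlgEquiv.ofBijective f hf)

theorem QFSplitOver.of_split (R : Type u) [CommRing R] (S : Type u) [CommRing S]
    [Algebra R S] (p : Ideal R) [p.IsPrime] (R₁ : Type u) [CommRing R₁] [Algebra R R₁]
    [Algebra.Etale R R₁] (p₁ : Ideal R₁) [p₁.IsPrime] [p₁.LiesOver p]
    (hres : Function.Bijective
      (Ideal.ResidueField.mapₐ p p₁ (Algebra.ofId _ _) (p₁.over_def p)))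
    (A₀ : Type u) [CommRing A₀] [Algebra R₁ A₀] [Module.Finite R₁ A₀]
    (hA₀ : ∃! r : Ideal A₀, r.IsPrime ∧ r.comap (algebraMap R₁ A₀) = p₁)
    (B₁ : Type u) [CommRing B₁] [Algebra R₁ B₁]
    (e₁ : (R₁ ⊗[R] S) ≃ₐ[R₁] (A₀ × B₁)) (h : QFSplitOver R₁ B₁ p₁) :
    QFSplitOver R S p := by
  obtain ⟨R₂, _, _, _, p₂, _, hp₂, ι, _, A, _, _, B, _, _, hres₂, ⟨e₂⟩, hA, hB⟩ := h
  letI : Algebra R R₂ := ((algebraMap R₁ R₂).comp (algebraMap R R₁)).toAlgebra
  haveI : IsScalarTower R R₁ R₂ := IsScalarTower.of_algebraMap_eq' rfl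
  haveI : Algebra.Etale R R₂ := Algebra.Etale.comp R R₁ R₂
  haveI : p₂.LiesOver p := Ideal.LiesOver.trans p₂ p₁ p
  have hres' : Function.Bijective
      (Ideal.ResidueField.mapₐ p p₂ (Algebra.ofId _ _) (p₂.over_def p)) := by
    convert hres₂.comp hres
    rw [← @AlgHom.coe_restrictScalars' R R₁, ← AlgHom.coe_comp]; congr 1; ext
  let X : Option ι → Type u := fun o => Option.rec (motive := fun _ => Type u) (R₂ ⊗[R₁] A₀) A o
  letI iX : ∀ o, CommRing (X o) := fun o =>
    Option.rec (motive := fun o => CommRing (X o))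
      (inferInstanceAs (CommRing (R₂ ⊗[R₁] A₀))) (fun i => inferInstanceAs (CommRing (A i))) o
  letI aX : ∀ o, Algebra R₂ (X o) := fun o =>
    Option.rec (motive := fun o => @Algebra R₂ (X o) _ (iX o).toCommSemiring.toSemiring)
      (inferInstance : Algebra R₂ (R₂ ⊗[R₁] A₀)) (fun i => (inferInstance : Algebra R₂ (A i))) o
  let c1 : R₂ ⊗[R] S ≃ₐ[R₂] R₂ ⊗[R₁] (R₁ ⊗[R] S) :=
    (Algebra.TensorProduct.cancelBaseChange R R₁ R₂ R₂ S).symm
  let c2 : R₂ ⊗[R₁] (R₁ ⊗[R] S) ≃ₐ[R₂] R₂ ⊗[R₁] (A₀ × B₁) :=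
    Algebra.TensorProduct.congr AlgEquiv.refl e₁
  let c3 : R₂ ⊗[R₁] (A₀ × B₁) ≃ₐ[R₂] (R₂ ⊗[R₁] A₀) × (R₂ ⊗[R₁] B₁) :=
    Algebra.TensorProduct.prodRight R₁ R₂ R₂ A₀ B₁
  let c4 : ((R₂ ⊗[R₁] A₀) × (R₂ ⊗[R₁] B₁)) ≃ₐ[R₂]
      (X none × ((∀ i, X (some i)) × B)) :=
    AlgEquiv.prodCongr AlgEquiv.refl e₂
  let c5 := optionProdAlgEquiv R₂ X B
  refine ⟨R₂, inferInstance, inferInstance, inferInstance, p₂, inferInstance, inferInstance,
    Option ι, inferInstance, X, iX, aX, B, inferInstance, inferInstance, hres',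
    ⟨(((c1.trans c2).trans c3).trans c4).trans c5⟩, ?_, hB⟩
  rintro (_ | i)
  · refine ⟨inferInstanceAs (Module.Finite R₂ (R₂ ⊗[R₁] A₀)), ?_⟩
    change ∃! r : Ideal (R₂ ⊗[R₁] A₀), r.IsPrime ∧
      r.comap (algebraMap R₂ (R₂ ⊗[R₁] A₀)) = p₂
    let F := Ideal.fiberIsoOfBijectiveResidueField hres₂ (S := A₀)
    obtain ⟨r₀, ⟨hr₀p, hr₀c⟩, huniq⟩ := hA₀
    let r₀' : p₁.primesOver A₀ := ⟨r₀, hr₀p, ⟨hr₀c.symm⟩⟩
    refine ⟨(F.symm r₀').1, ⟨(F.symm r₀').2.1, ((F.symm r₀').2.2.over).symm⟩, ?_⟩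
    rintro r ⟨hrp, hrc⟩
    let x : p₂.primesOver (R₂ ⊗[R₁] A₀) := ⟨r, hrp, ⟨hrc.symm⟩⟩
    have hFx : F x = r₀' := by
      apply Subtype.ext
      exact huniq _ ⟨(F x).2.1, ((F x).2.2.over).symm⟩
    have : x = F.symm r₀' := by rw [← hFx, OrderIso.symm_apply_apply]
    exact congrArg Subtype.val this
  · exact hA i

theorem existsUnique_prime_quotient_idempotent {R₁ T : Type*} [CommRing R₁] [CommRing T]
    [Algebra R₁ T] (P : Ideal R₁) {e : T} (he : IsIdempotentElem e) (P' : Ideal T)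
    [hP' : P'.IsPrime] [hP'o : P'.LiesOver P] (heP' : e ∉ P')
    (H : ∀ P'' : Ideal T, P''.IsPrime → P''.LiesOver P → e ∉ P'' → P'' = P') :
    ∃! r : Ideal (T ⧸ Ideal.span ({1 - e} : Set T)), r.IsPrime ∧
      r.comap (algebraMap R₁ (T ⧸ Ideal.span ({1 - e} : Set T))) = P := by
  set L : Ideal T := Ideal.span ({1 - e} : Set T) with hL
  have h1e : 1 - e ∈ P' := by
    have : e * (1 - e) ∈ P' := by
      rw [mul_sub, mul_one, he.eq, sub_self]; exact zero_mem _
    exact (hP'.mem_or_mem this).resolve_left heP'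
  have hLq : L ≤ P' := by
    rw [hL, Ideal.span_le, Set.singleton_subset_iff]; exact h1e
  have hker : RingHom.ker (Ideal.Quotient.mk L) ≤ P' := by rwa [Ideal.mk_ker]
  have hQc : (P'.map (Ideal.Quotient.mk L)).comap (Ideal.Quotient.mk L) = P' := by
    rw [Ideal.comap_map_of_surjective' _ Ideal.Quotient.mk_surjective, sup_eq_left]
    exact hker
  refine ⟨P'.map (Ideal.Quotient.mk L),
    ⟨Ideal.map_isPrime_of_surjective Ideal.Quotient.mk_surjective hker, ?_⟩, ?_⟩
  · have : (P'.map (Ideal.Quotient.mk L)).comap (algebraMap R₁ (T ⧸ L)) =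
        ((P'.map (Ideal.Quotient.mk L)).comap (Ideal.Quotient.mk L)).comap (algebraMap R₁ T) :=
      rfl
    rw [this, hQc]
    exact hP'o.over.symm
  · rintro r ⟨hrp, hrc⟩
    have h1 : (r.comap (Ideal.Quotient.mk L)).IsPrime := Ideal.comap_isPrime _ _
    have h2 : (r.comap (Ideal.Quotient.mk L)).LiesOver P := by
      constructor
      rw [← hrc]
      rfl
    have h3 : e ∉ r.comap (Ideal.Quotient.mk L) := by
      intro hmem
      rw [Ideal.mem_comap] at hmem
      have hmke : Ideal.Quotient.mk L e = 1 := by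
        rw [← map_one (Ideal.Quotient.mk L), eq_comm, Ideal.Quotient.eq]
        exact Ideal.subset_span rfl
      rw [hmke] at hmem
      exact hrp.ne_top ((Ideal.eq_top_iff_one _).mpr hmem)
    have h4 := H _ h1 h2 h3
    rw [← Ideal.map_comap_of_surjective _ Ideal.Quotient.mk_surjective r, h4]

theorem qfSplitOver_of_finiteType : ∀ (d : ℕ) (R : Type u) [CommRing R] (S : Type u)
    [CommRing S] [Algebra R S] [Algebra.FiniteType R S] (p : Ideal R) [p.IsPrime],
    minFib R S p = d → QFSplitOver R S p := by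
  intro d
  induction d using Nat.strong_induction_on with
  | _ d IH =>
  intro R _ S _ _ _ p _ hd
  by_cases hne : ∃ (q : Ideal S) (_ : q.IsPrime), q.comap (algebraMap R S) = p ∧
      Algebra.QuasiFiniteAt R q
  · obtain ⟨q, hq, hqp, hqf⟩ := hne
    haveI : q.LiesOver p := ⟨hqp.symm⟩
    obtain ⟨R₁, _, _, _, P, _, _, e, he, P', _, _, hP'q, heP', hpP, hfin, H⟩ :=
      Algebra.exists_etale_isIdempotentElem_forall_liesOver_eq p q
    obtain ⟨e₁, -⟩ := exists_algEquiv_prod_of_isIdempotentElem (R := R₁) he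
    haveI : IsLocalization.Away e ((R₁ ⊗[R] S) ⧸ Ideal.span ({1 - e} : Set (R₁ ⊗[R] S))) :=
      IsLocalization.Away.quotient_of_isIdempotentElem he
    haveI : Module.Finite R₁ ((R₁ ⊗[R] S) ⧸ Ideal.span ({1 - e} : Set (R₁ ⊗[R] S))) :=
      Module.Finite.equiv ((IsLocalization.algEquiv (Submonoid.powers e) (Localization.Away e)
        ((R₁ ⊗[R] S) ⧸ Ideal.span ({1 - e} : Set (R₁ ⊗[R] S)))).restrictScalars R₁).toLinearEquiv
    have hA₀ := existsUnique_prime_quotient_idempotent P he P' heP' H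
    haveI : Algebra.QuasiFiniteAt R₁ P' := Algebra.QuasiFiniteAt.baseChange q P' hP'q.symm
    have hmin := isMin_of_quasiFiniteAt P P'
    haveI := finite_isMin_primesOver (R := R₁) (S := R₁ ⊗[R] S) P
    have hlt : minFib R₁ ((R₁ ⊗[R] S) ⧸ Ideal.span ({e} : Set (R₁ ⊗[R] S))) P < d := by
      rw [← hd, ← minFib_eq_of_orderIso p P (Ideal.fiberIsoOfBijectiveResidueField hpP)]
      exact minFib_quotient_lt P he P' heP' hmin
    exact QFSplitOver.of_split R S p R₁ P hpP _ hA₀ _ e₁ (IH _ hlt R₁ _ P rfl)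
  · refine QFSplitOver.of_forall_not R S p ?_
    intro q hq hcomap hqf
    exact hne ⟨q, hq, hcomap, hqf⟩

theorem closure_range_algebraMap_residueField_eq_top {R R' : Type*} [CommRing R] [CommRing R']
    [Algebra R R'] (p : Ideal R) [p.IsPrime] (p' : Ideal R') [p'.IsPrime] [p'.LiesOver p]
    (hres : Function.Bijective
      (Ideal.ResidueField.mapₐ p p' (Algebra.ofId _ _) (p'.over_def p))) :
    Subfield.closure (Set.range (algebraMap R p'.ResidueField)) = ⊤ := by
  rw [eq_top_iff]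
  rintro x -
  obtain ⟨y, rfl⟩ := hres.2 x
  obtain ⟨a, b, -, rfl⟩ := IsFractionRing.div_surjective (A := R ⧸ p) y
  obtain ⟨a, rfl⟩ := Ideal.Quotient.mk_surjective a
  obtain ⟨b, rfl⟩ := Ideal.Quotient.mk_surjective b
  rw [map_div₀]
  refine Subfield.div_mem _ (Subfield.subset_closure ⟨a, ?_⟩) (Subfield.subset_closure ⟨b, ?_⟩)
  · rw [← Ideal.Quotient.algebraMap_eq, ← IsScalarTower.algebraMap_apply, AlgHom.commutes]
  · rw [← Ideal.Quotient.algebraMap_eq, ← IsScalarTower.algebraMap_apply, AlgHom.commutes]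

/-- **Stacks 00UL** for finite type algebras. -/
theorem exists_etale_prod_finite_parts_of_finiteType (R : Type u) [CommRing R]
    (S : Type u) [CommRing S] [Algebra R S] [Algebra.FiniteType R S] (p : Ideal R) [p.IsPrime] :
    ∃ (R' : Type u) (_ : CommRing R') (_ : Algebra R R') (_ : Algebra.Etale R R') (p' : Ideal R')
      (_ : p'.IsPrime) (_ : p'.LiesOver p) (n : ℕ) (A : Fin n → Type u) (_ : ∀ i, CommRing (A i))
      (_ : ∀ i, Algebra R' (A i)) (B : Type u) (_ : CommRing B) (_ : Algebra R' B),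
      Subfield.closure (Set.range (algebraMap R p'.ResidueField)) = ⊤ ∧
      Nonempty ((R' ⊗[R] S) ≃ₐ[R'] ((∀ i, A i) × B)) ∧
        (∀ i, Module.Finite R' (A i) ∧
          ∃! r : Ideal (A i), r.IsPrime ∧ r.comap (algebraMap R' (A i)) = p') ∧
        ∀ (q : Ideal B) [q.IsPrime], q.comap (algebraMap R' B) = p' →
          ¬ Algebra.QuasiFiniteAt R' q := by
  obtain ⟨R', _, _, _, p', _, _, ι, _, A, _, _, B, _, _, hres, ⟨e⟩, hA, hB⟩ :=
    qfSplitOver_of_finiteType _ R S p rfl
  let σ := Fintype.equivFin ι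
  refine ⟨R', inferInstance, inferInstance, inferInstance, p', inferInstance, inferInstance,
    Fintype.card ι, fun j => A (σ.symm j), inferInstance, inferInstance, B, inferInstance,
    inferInstance, closure_range_algebraMap_residueField_eq_top p p' hres,
    ⟨e.trans (AlgEquiv.prodCongr (AlgEquiv.piCongrLeft' R' A σ) AlgEquiv.refl)⟩,
    fun j => hA (σ.symm j), hB⟩

end Over

end Groth.Agent.Lib.Helper3
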