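import Groth.Agent.S0654
import Groth.Agent.Lib.Helper43.ExtZeroSplit
import Groth.Agent.Lib.Helper4.EtRestr

/-!
# Recollement short exact sequence for a general open immersion, and its image under `j_!`
(helper3)
-/

set_option autoImplicit false
set_option backward.isDefEq.respectTransparency false
set_option linter.unusedSectionVars false
set_option linter.style.haveILetI false

universe u

open CategoryTheory CategoryTheory.Limits AlgebraicGeometry Opposite

namespace Groth.Agent.Lib.Helper3.Recoll2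

open Groth.Agent.Lib.Helper43 Groth.Agent.Lib.Helper43.EtStalk

section General

variable {Z U X : Scheme.{u}} (i : Z ⟶ X) [IsClosedImmersion i]
  (j : U ⟶ X) [IsOpenImmersion j]
  (hU : Set.range j.base = (Set.range i.base)ᶜ)

include hU in
omit [IsClosedImmersion i] in
/-- sections of `j^{-1} i_* G` vanish -/
lemma subsingleton_restr_push (G : EtCoh.Ab Z) (V : U.Etale) :
    Subsingleton (((EtShriek.restrAlong j).obj ((EtCoh.push i).obj G)).obj.obj (op V)) := by
  apply Groth.Agent.S0069.subsingleton_of_isEmpty G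
  constructor
  intro p
  let W : X.Etale := (EtShriek.compEtale j).obj V
  let p' : ↥(pullback W.hom i) := p
  have h1 : W.hom.base ((pullback.fst W.hom i).base p') = i.base ((pullback.snd W.hom i).base p') := by
    change ((pullback.fst W.hom i) ≫ W.hom).base p' = _
    rw [pullback.condition]
    rfl
  have h2 : W.hom.base ((pullback.fst W.hom i).base p') ∈ Set.range j.base := by
    change j.base (V.hom.base ((pullback.fst W.hom i).base p')) ∈ Set.range j.base
    exact ⟨_, rfl⟩
  rw [hU] at h2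
  exact h2 ⟨_, h1.symm⟩

include hU in
/-- the recollement sequence `0 ⟶ j_! j^* F ⟶ F ⟶ i_* i^* F ⟶ 0` -/
theorem recoll (F : EtCoh.Ab X) :
    ∃ w : (EtShriek.extZeroAdj j).counit.app F ≫ (EtCoh.pullPushAdj i).unit.app F = 0,
      (ShortComplex.mk _ _ w).ShortExact := by
  have w : (EtShriek.extZeroAdj j).counit.app F ≫ (EtCoh.pullPushAdj i).unit.app F = 0 := by
    apply ((EtShriek.extZeroAdj j).homEquiv _ _).injective
    ext V : 3
    induction V using Opposite.rec with | op V => ?_
    apply AddCommGrpCat.hom_ext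
    ext x
    have := subsingleton_restr_push i j hU ((EtCoh.pull i).obj F) V
    exact @Subsingleton.elim _ this _ _
  refine ⟨w, ?_⟩
  have key : ∀ (Ω : Type u) [Field Ω] [IsSepClosed Ω] (ξ : Spec (CommRingCat.of Ω) ⟶ X),
      (IsIso (((Scheme.pointSmallEtale ξ).sheafFiber (A := AddCommGrpCat.{u + 1})).map
          ((EtShriek.extZeroAdj j).counit.app F)) ∧
        IsZero (((Scheme.pointSmallEtale ξ).sheafFiber (A := AddCommGrpCat.{u + 1})).obj
          ((EtCoh.push i).obj ((EtCoh.pull i).obj F)))) ∨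
      (IsZero (((Scheme.pointSmallEtale ξ).sheafFiber (A := AddCommGrpCat.{u + 1})).obj
          ((EtShriek.extZero j).obj ((EtShriek.restrAlong j).obj F))) ∧
        IsIso (((Scheme.pointSmallEtale ξ).sheafFiber (A := AddCommGrpCat.{u + 1})).map
          ((EtCoh.pullPushAdj i).unit.app F))) := by
    intro Ω _ _ ξ
    rcases ShriekStalk.lifts_nonempty_or j ξ with ⟨⟨u⟩⟩ | hξ
    · left
      have : Unique (ShriekStalk.Lifts j ξ) := @Unique.mk' _ ⟨u⟩ ShriekStalk.subsingleton_lifts
      refine ⟨ShriekStalk.isIso_stalk_counit_of_unique F, ?_⟩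
      apply Groth.Agent.S0069.result i
      rw [Set.disjoint_left]
      rintro _ ⟨q, rfl⟩ hq
      have h1 : ξ.base q ∈ Set.range j.base := by
        rw [← u.2]
        exact ⟨u.1.base q, rfl⟩
      rw [hU] at h1
      exact h1 hq
    · right
      have hmem : ξ.base default ∈ Set.range i.base := by
        have := hξ ⟨default, rfl⟩
        rw [hU] at this
        simpa using this
      obtain ⟨ζ, rfl⟩ := ClosedStalk.exists_lift_closed i ξ hmem
      refine ⟨ShriekStalk.isZero_shriekFiber_of_isEmpty _ ⟨fun u => ?_⟩,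
        ClosedStalk.isIso_stalk_unit i F ζ⟩
      have h1 : (ζ ≫ i).base default ∈ Set.range j.base := by
        rw [← u.2]
        exact ⟨u.1.base default, rfl⟩
      exact hξ ⟨default, rfl⟩ h1
  have hex : (ShortComplex.mk _ _ w).Exact := by
    rw [exact_iff_stalks_ab]
    intro Ω _ _ ξ
    rw [ShortComplex.ab_exact_iff]
    intro x₂ hx₂
    rcases key Ω ξ with ⟨h1, -⟩ | ⟨-, h2⟩
    · obtain ⟨x₁, hx₁⟩ := (Groth.Agent.S0654.bij_of_iso _ h1).2 x₂
      exact ⟨x₁, hx₁⟩
    · have hinj := (Groth.Agent.S0654.bij_of_iso _ h2).1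
      have hx0 : x₂ = 0 := hinj (hx₂.trans (map_zero _).symm)
      exact ⟨0, (map_zero _).trans hx0.symm⟩
  have hm : Mono ((EtShriek.extZeroAdj j).counit.app F) := mono_of_stalks_ab _ (fun Ω _ _ ξ => by
    rcases key Ω ξ with ⟨h1, -⟩ | ⟨h2, -⟩
    · exact (Groth.Agent.S0654.bij_of_iso _ h1).1
    · intro a b _
      have := AddCommGrpCat.subsingleton_of_isZero h2
      exact @Subsingleton.elim _ this _ _)
  have he : Epi ((EtCoh.pullPushAdj i).unit.app F) := epi_of_stalks_ab _ (fun Ω _ _ ξ => by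
    rcases key Ω ξ with ⟨-, h1⟩ | ⟨-, h2⟩
    · intro b
      have := AddCommGrpCat.subsingleton_of_isZero h1
      exact ⟨0, @Subsingleton.elim _ this _ _⟩
    · exact (Groth.Agent.S0654.bij_of_iso _ h2).2)
  exact { exact := hex, mono_f := hm, epi_g := he }

end General


section Step

open Groth.Agent.Lib.Helper43.ExtZeroSplit

variable {X : Scheme.{u}} (F : EtCoh.Ab X)

/-- `j_! j^* F` -/
noncomputable abbrev E {U : Scheme.{u}} (j : U ⟶ X) [IsOpenImmersion j] : EtCoh.Ab X :=
  (EtShriek.extZero j).obj ((EtShriek.restrAlong j).obj F)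

/-- transport of `E` along an equality of morphisms -/
noncomputable def ECongr {U : Scheme.{u}} {j j' : U ⟶ X} (h : j = j') [IsOpenImmersion j]
    [IsOpenImmersion j'] : E F j ≅ E F j' := by
  subst h
  exact Iso.refl _

variable {B₀ C₀ W : Scheme.{u}} (k : B₀ ⟶ C₀) [IsOpenImmersion k] (c₀ : C₀ ⟶ X)
  [IsOpenImmersion c₀] (c : W ⟶ C₀) [IsClosedImmersion c]
  (hU : Set.range k.base = (Set.range c.base)ᶜ)

instance preservesFiniteLimits_extZero {U : Scheme.{u}} (j : U ⟶ X) [IsOpenImmersion j] :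
    PreservesFiniteLimits (EtShriek.extZero j) := Groth.Agent.S0648.result j

instance preservesFiniteColimits_extZero {U : Scheme.{u}} (j : U ⟶ X) [IsOpenImmersion j] :
    PreservesFiniteColimits (EtShriek.extZero j) := by
  have : (EtShriek.extZero j).IsLeftAdjoint := (EtShriek.extZeroAdj j).isLeftAdjoint
  infer_instance

include hU in
theorem step :
    ∃ (ι : E F (k ≫ c₀) ⟶ E F c₀)
      (π : E F c₀ ⟶ (EtShriek.extZero c₀).obj ((EtCoh.push c).obj
        ((EtCoh.pull c).obj ((EtShriek.restrAlong c₀).obj F)))) (hz : ι ≫ π = 0),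
      (ShortComplex.mk ι π hz).ShortExact := by
  obtain ⟨w, hS⟩ := recoll c k hU ((EtShriek.restrAlong c₀).obj F)
  have hS₁ := hS.map_of_exact (EtShriek.extZero c₀)
  let φ : E F (k ≫ c₀) ≅ (EtShriek.extZero c₀).obj ((EtShriek.extZero k).obj
      ((EtShriek.restrAlong k).obj ((EtShriek.restrAlong c₀).obj F))) :=
    (extZeroComp k c₀).symm.app _ ≪≫
      (EtShriek.extZero c₀).mapIso ((EtShriek.extZero k).mapIso ((restrAlongComp k c₀).symm.app F))
  let S₁ := (ShortComplex.mk _ _ w).map (EtShriek.extZero c₀)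
  have hz : (φ.hom ≫ S₁.f) ≫ S₁.g = 0 := by rw [Category.assoc, S₁.zero, comp_zero]
  refine ⟨φ.hom ≫ S₁.f, S₁.g, hz, ?_⟩
  have e : S₁ ≅ ShortComplex.mk (φ.hom ≫ S₁.f) S₁.g hz :=
    ShortComplex.isoMk φ.symm (Iso.refl _) (Iso.refl _)
      (by
        change φ.inv ≫ φ.hom ≫ S₁.f = S₁.f ≫ 𝟙 _
        rw [Category.comp_id, Iso.inv_hom_id_assoc])
      (by
        change 𝟙 _ ≫ S₁.g = S₁.g ≫ 𝟙 _
        rw [Category.comp_id, Category.id_comp])
  exact ShortComplex.shortExact_of_iso e hS₁

include hU in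
theorem step' (b : B₀ ⟶ X) [IsOpenImmersion b] (hb : k ≫ c₀ = b) :
    ∃ (ι : E F b ⟶ E F c₀)
      (π : E F c₀ ⟶ (EtShriek.extZero c₀).obj ((EtCoh.push c).obj
        ((EtCoh.pull c).obj ((EtShriek.restrAlong c₀).obj F)))) (hz : ι ≫ π = 0),
      (ShortComplex.mk ι π hz).ShortExact := by
  subst hb
  exact step F k c₀ c hU

/-- `j_! j^* F` vanishes when the source of `j` is empty -/
theorem isZero_E_of_isEmpty {U : Scheme.{u}} (j : U ⟶ X) [IsOpenImmersion j] (h : IsEmpty U) :
    IsZero (E F j) := by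
  apply isZero_of_stalks_ab
  intro Ω _ _ ξ
  exact ShriekStalk.isZero_shriekFiber_of_isEmpty _ ⟨fun u => h.false (u.1.base default)⟩

/-- `j_! j^* F ≅ F` when `j` is surjective -/
theorem nonempty_E_iso_of_range_eq_univ {U : Scheme.{u}} (j : U ⟶ X) [IsOpenImmersion j]
    (h : Set.range j.base = Set.univ) : Nonempty (E F j ≅ F) := by
  haveI : IsIso ((EtShriek.extZeroAdj j).counit.app F) := by
    apply ShriekStalk.isIso_counit_of_stalks_zero
    intro Ω _ _ ξ hξ
    exfalso
    have := hξ ⟨default, rfl⟩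
    rw [h] at this
    exact this trivial
  exact ⟨asIso ((EtShriek.extZeroAdj j).counit.app F)⟩

end Step

end Groth.Agent.Lib.Helper3.Recoll2
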