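import Groth.Agent.Lib.Helper3.SHensTensorAt
import Groth.Agent.Lib.Helper3.LocalTensorPI
import Groth.Agent.Lib.Helper9.HensK.FiniteLocal

set_option autoImplicit false
set_option linter.style.haveILetI false
set_option linter.unusedSectionVars false
universe u

open TensorProduct IsLocalRing

namespace Groth.Agent.Lib.Helper3

/-- A field map out of a separably closed field into a field separable over a subfield is
surjective. -/
theorem surjective_of_isSepClosed_of_comp {k₀ k K : Type*} [Field k₀] [Field k] [Field K]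
    [Algebra k₀ K] [Algebra.IsSeparable k₀ K] [IsSepClosed k] (j : k₀ →+* k) (φ : k →+* K)
    (h : φ.comp j = algebraMap k₀ K) : Function.Surjective φ := by
  letI : Algebra k₀ k := j.toAlgebra
  letI : Algebra k K := φ.toAlgebra
  haveI : IsScalarTower k₀ k K := .of_algebraMap_eq (fun x => (DFunLike.congr_fun h x).symm)
  haveI : Algebra.IsSeparable k K := Algebra.isSeparable_tower_top_of_isSeparable k₀ k K
  exact IsSepClosed.algebraMap_surjective k K

/-- Residue fields of an integral local extension form an algebraic extension. -/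
theorem isAlgebraic_residueField_of_isIntegral (R S : Type*) [CommRing R] [CommRing S]
    [IsLocalRing R] [IsLocalRing S] [Algebra R S] [IsLocalHom (algebraMap R S)]
    [Algebra.IsIntegral R S] : Algebra.IsAlgebraic (ResidueField R) (ResidueField S) := by
  constructor
  intro x
  obtain ⟨s, rfl⟩ := residue_surjective x
  obtain ⟨P, hP, hPs⟩ := Algebra.IsIntegral.isIntegral (R := R) s
  apply IsIntegral.isAlgebraic
  refine ⟨P.map (residue R), hP.map _, ?_⟩
  rw [Polynomial.eval₂_map]
  have : (algebraMap (ResidueField R) (ResidueField S)).comp (residue R) =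
      (residue S).comp (algebraMap R S) := by
    ext r
    rfl
  rw [this, ← Polynomial.hom_eval₂, hPs, map_zero]

/-- A ring map into a local ring under which the maximal ideal pulls back to `q` extends to a local
map out of the localization at `q`. -/
theorem exists_localization_lift_of_comap_eq {A T : Type*} [CommRing A] [CommRing T]
    [IsLocalRing T] (q : Ideal A) [q.IsPrime] (g : A →+* T)
    (hg : (maximalIdeal T).comap g = q) :
    ∃ g' : Localization.AtPrime q →+* T,
      g'.comp (algebraMap A (Localization.AtPrime q)) = g ∧ IsLocalHom g' := by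
  have hunits : ∀ y : q.primeCompl, IsUnit (g y) := by
    intro y
    by_contra hy
    have : y.1 ∈ (maximalIdeal T).comap g := (mem_maximalIdeal _).mpr hy
    rw [hg] at this
    exact y.2 this
  refine ⟨IsLocalization.lift hunits, IsLocalization.lift_comp _, ?_⟩
  exact isLocalHom_of_comap_maximalIdeal_eq q _ (by rw [IsLocalization.lift_comp, hg])

section Key

variable (A B C : Type u) [CommRing A] [CommRing B] [CommRing C] [Algebra A B] [Algebra A C]
    (pB : Ideal B) [pB.IsPrime] (pC : Ideal C) [pC.IsPrime]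
    (pD : Ideal (B ⊗[A] C)) [pD.IsPrime]
    (Bsh : Type u) [CommRing Bsh] [IsLocalRing Bsh] [Algebra (Localization.AtPrime pB) Bsh]
    [IsLocalHom (algebraMap (Localization.AtPrime pB) Bsh)]
    [Hensel.IsStrictHenselization (Localization.AtPrime pB) Bsh] [Algebra B Bsh]
    [IsScalarTower B (Localization.AtPrime pB) Bsh]
    (Csh : Type u) [CommRing Csh] [IsLocalRing Csh] [Algebra (Localization.AtPrime pC) Csh]
    [IsLocalHom (algebraMap (Localization.AtPrime pC) Csh)]
    [Hensel.IsStrictHenselization (Localization.AtPrime pC) Csh] [Algebra C Csh]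
    [IsScalarTower C (Localization.AtPrime pC) Csh]
    (Dsh : Type u) [CommRing Dsh] [IsLocalRing Dsh] [Algebra (Localization.AtPrime pD) Dsh]
    [IsLocalHom (algebraMap (Localization.AtPrime pD) Dsh)]
    [Hensel.IsStrictHenselization (Localization.AtPrime pD) Dsh] [Algebra (B ⊗[A] C) Dsh]
    [IsScalarTower (B ⊗[A] C) (Localization.AtPrime pD) Dsh]
    [Algebra Bsh Dsh] [Algebra B Dsh] [IsScalarTower B Bsh Dsh]
    [IsScalarTower B (B ⊗[A] C) Dsh]
    [Algebra Csh Dsh]
    (hC : ∀ c : C, algebraMap Csh Dsh (algebraMap C Csh c) =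
      algebraMap (B ⊗[A] C) Dsh (1 ⊗ₜ[A] c))

include pB pC pD hC in
/-- If `E` is a strictly henselian local ring receiving local maps from `Bsh` and `Csh` (agreeing
on `A`), generated by their images, and with a local map `Φ : E → Dsh` compatible with the given
ones, then `Φ` is bijective. -/
theorem bijective_of_strictlyHenselian
    (E : Type u) [CommRing E] [HenselianLocalRing E] [IsSepClosed (ResidueField E)]
    (β : Bsh →+* E) (γ : Csh →+* E) (Φ : E →+* Dsh)
    [IsLocalHom β] [IsLocalHom γ] [IsLocalHom Φ]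
    (hΦβ : Φ.comp β = algebraMap Bsh Dsh) (hΦγ : Φ.comp γ = algebraMap Csh Dsh)
    (hA : ∀ a : A, β (algebraMap B Bsh (algebraMap A B a)) =
      γ (algebraMap C Csh (algebraMap A C a)))
    (hgen : ∀ g : E →+* E, g.comp β = β → g.comp γ = γ → g = RingHom.id E) :
    Function.Bijective Φ := by
  haveI : HenselianLocalRing Dsh :=
    Hensel.IsStrictHenselization.henselian (Localization.AtPrime pD)
  have hD : SHensAt (B ⊗[A] C) pD Dsh (algebraMap (B ⊗[A] C) Dsh) := by
    have := SHensAt.of_isStrictHenselization (B ⊗[A] C) pD Dsh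
    rwa [← IsScalarTower.algebraMap_eq] at this
  have hB : SHensAt B pB Bsh (algebraMap B Bsh) := by
    have := SHensAt.of_isStrictHenselization B pB Bsh
    rwa [← IsScalarTower.algebraMap_eq] at this
  have hCs : SHensAt C pC Csh (algebraMap C Csh) := by
    have := SHensAt.of_isStrictHenselization C pC Csh
    rwa [← IsScalarTower.algebraMap_eq] at this
  -- the map `δ : B ⊗ C → E`
  letI : Algebra A E := ((β.comp (algebraMap B Bsh)).comp (algebraMap A B)).toAlgebra
  let fB : B →ₐ[A] E := { β.comp (algebraMap B Bsh) with commutes' := fun a => rfl }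
  let fC : C →ₐ[A] E := { γ.comp (algebraMap C Csh) with commutes' := fun a => (hA a).symm }
  let δ : B ⊗[A] C →+* E :=
    (Algebra.TensorProduct.lift fB fC (fun _ _ => Commute.all _ _)).toRingHom
  have hδ : ∀ b c, δ (b ⊗ₜ c) = β (algebraMap B Bsh b) * γ (algebraMap C Csh c) := fun b c =>
    Algebra.TensorProduct.lift_tmul fB fC (fun _ _ => Commute.all _ _) b c
  have hδB : ∀ b, δ (b ⊗ₜ 1) = β (algebraMap B Bsh b) := fun b => by
    rw [hδ, map_one, map_one, mul_one]
  have hδC : ∀ c, δ (1 ⊗ₜ c) = γ (algebraMap C Csh c) := fun c => by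
    rw [hδ, map_one, map_one, one_mul]
  have hBD : ∀ b : B, algebraMap Bsh Dsh (algebraMap B Bsh b) =
      algebraMap (B ⊗[A] C) Dsh (b ⊗ₜ 1) := by
    intro b
    rw [← IsScalarTower.algebraMap_apply B Bsh Dsh,
      IsScalarTower.algebraMap_apply B (B ⊗[A] C) Dsh]
    rfl
  have hΦδ : Φ.comp δ = algebraMap (B ⊗[A] C) Dsh := by
    apply ringHom_ext_tensorProduct
    · intro b
      rw [RingHom.comp_apply, hδB, ← RingHom.comp_apply Φ β, hΦβ, hBD]
    · intro c
      rw [RingHom.comp_apply, hδC, ← RingHom.comp_apply Φ γ, hΦγ, hC]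
  have hΦloc : (maximalIdeal Dsh).comap Φ = maximalIdeal E :=
    ((local_hom_TFAE Φ).out 0 4 rfl rfl).mp inferInstance
  have hδcomap : (maximalIdeal E).comap δ = pD := by
    rw [← hΦloc, Ideal.comap_comap, hΦδ]
    exact hD.comap_eq
  -- residue fields
  let κΦ : ResidueField E →+* ResidueField Dsh := ResidueField.map Φ
  have hκΦ : ∀ e, κΦ (residue E e) = residue Dsh (Φ e) := fun e => rfl
  have hbij : Function.Bijective κΦ := by
    refine ⟨κΦ.injective, ?_⟩
    obtain ⟨δ', hδ', hδ'loc⟩ := exists_localization_lift_of_comap_eq pD δ hδcomap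
    haveI := hδ'loc
    have hcomp : Φ.comp δ' = algebraMap (Localization.AtPrime pD) Dsh := by
      apply IsLocalization.ringHom_ext pD.primeCompl
      rw [RingHom.comp_assoc, hδ', hΦδ, ← IsScalarTower.algebraMap_eq]
    haveI : IsSepClosure (ResidueField (Localization.AtPrime pD)) (ResidueField Dsh) :=
      Hensel.IsStrictHenselization.isSepClosure
    haveI : Algebra.IsSeparable (ResidueField (Localization.AtPrime pD)) (ResidueField Dsh) :=
      IsSepClosure.separable
    apply surjective_of_isSepClosed_of_comp (ResidueField.map δ') κΦ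
    refine RingHom.ext fun x => ?_
    obtain ⟨y, rfl⟩ := residue_surjective x
    rw [RingHom.comp_apply, ResidueField.map_residue, hκΦ, ← RingHom.comp_apply Φ δ', hcomp]
    rfl
  let e : ResidueField E ≃+* ResidueField Dsh := RingEquiv.ofBijective κΦ hbij
  let τ : ResidueField Dsh →+* ResidueField E := (e.symm : ResidueField Dsh →+* ResidueField E)
  have hτκ : ∀ x, τ (κΦ x) = x := e.symm_apply_apply
  have hκτ : ∀ y, κΦ (τ y) = y := e.apply_symm_apply
  obtain ⟨Ψ, ⟨hΨ1, hΨ2⟩, -⟩ := hD.universal E δ τ hδcomap (by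
    intro d
    have : algebraMap (B ⊗[A] C) Dsh d = Φ (δ d) := (DFunLike.congr_fun hΦδ d).symm
    rw [this, ← hκΦ, hτκ])
  have hΨδ : ∀ d, Ψ (algebraMap (B ⊗[A] C) Dsh d) = δ d := fun d => DFunLike.congr_fun hΨ1 d
  -- `Φ ∘ Ψ = id`
  have h1 : Φ.comp Ψ = RingHom.id Dsh := by
    obtain ⟨i, -, hi⟩ := hD.universal Dsh (algebraMap _ Dsh) (RingHom.id _) hD.comap_eq
      (fun d => rfl)
    have a1 : Φ.comp Ψ = i := hi _ ⟨by rw [RingHom.comp_assoc, hΨ1, hΦδ], fun x => by
      rw [RingHom.comp_apply, ← hκΦ, hΨ2, hκτ]; rfl⟩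
    have a2 : RingHom.id Dsh = i := hi _ ⟨RingHom.id_comp _, fun x => rfl⟩
    rw [a1, a2]
  -- `Ψ ∘ Φ = id`
  have h2 : Ψ.comp Φ = RingHom.id E := by
    apply hgen
    · have hβloc : (maximalIdeal E).comap β = maximalIdeal Bsh :=
        ((local_hom_TFAE β).out 0 4 rfl rfl).mp inferInstance
      obtain ⟨i, -, hi⟩ := hB.universal E (β.comp (algebraMap B Bsh)) (ResidueField.map β)
        (by rw [← Ideal.comap_comap, hβloc, hB.comap_eq]) (fun b => rfl)
      have a1 : (Ψ.comp Φ).comp β = i := by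
        apply hi
        refine ⟨?_, ?_⟩
        · ext b
          simp only [RingHom.comp_apply]
          rw [← RingHom.comp_apply Φ β, hΦβ, hBD, hΨδ, hδB]
        · intro x
          rw [RingHom.comp_apply, RingHom.comp_apply, hΨ2, ← hκΦ, hτκ]
          rfl
      have a2 : β = i := hi _ ⟨rfl, fun x => rfl⟩
      rw [a1, ← a2]
    · have hγloc : (maximalIdeal E).comap γ = maximalIdeal Csh :=
        ((local_hom_TFAE γ).out 0 4 rfl rfl).mp inferInstance
      obtain ⟨i, -, hi⟩ := hCs.universal E (γ.comp (algebraMap C Csh)) (ResidueField.map γ)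
        (by rw [← Ideal.comap_comap, hγloc, hCs.comap_eq]) (fun b => rfl)
      have a1 : (Ψ.comp Φ).comp γ = i := by
        apply hi
        refine ⟨?_, ?_⟩
        · ext c
          simp only [RingHom.comp_apply]
          rw [← RingHom.comp_apply Φ γ, hΦγ, hC, hΨδ, hδC]
        · intro x
          rw [RingHom.comp_apply, RingHom.comp_apply, hΨ2, ← hκΦ, hτκ]
          rfl
      have a2 : γ = i := hi _ ⟨rfl, fun x => rfl⟩
      rw [a1, ← a2]
  refine ⟨?_, ?_⟩
  · intro x y hxy
    have := congrArg Ψ hxy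
    rwa [← RingHom.comp_apply, ← RingHom.comp_apply, h2] at this
  · intro y
    exact ⟨Ψ y, DFunLike.congr_fun h1 y⟩

end Key

theorem natCast_eq_zero_of_expChar_prime (K : Type*) [Field K] (q : ℕ) [hq : ExpChar K q]
    (hp : q.Prime) : (q : K) = 0 := by
  cases hq with
  | zero => exact absurd hp Nat.not_prime_one
  | prime _ => exact CharP.cast_eq_zero K q

/-- Strictly henselian-ness of `Csh ⊗[Ash] Bsh` for an integral local extension `Bsh` of the
strictly henselian local ring `Ash`. -/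
theorem strictlyHenselian_tensor_of_isIntegral (Ash Bsh Csh : Type u) [CommRing Ash]
    [HenselianLocalRing Ash] [IsSepClosed (ResidueField Ash)]
    [CommRing Bsh] [IsLocalRing Bsh] [CommRing Csh] [HenselianLocalRing Csh]
    [IsSepClosed (ResidueField Csh)]
    [Algebra Ash Bsh] [Algebra Ash Csh] [IsLocalHom (algebraMap Ash Bsh)]
    [IsLocalHom (algebraMap Ash Csh)] [Algebra.IsIntegral Ash Bsh]
    [Nontrivial (Csh ⊗[Ash] Bsh)] :
    ∃ _ : HenselianLocalRing (Csh ⊗[Ash] Bsh), IsSepClosed (ResidueField (Csh ⊗[Ash] Bsh)) ∧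
      (maximalIdeal (Csh ⊗[Ash] Bsh)).comap (algebraMap Csh (Csh ⊗[Ash] Bsh)) =
        maximalIdeal Csh ∧
      (maximalIdeal (Csh ⊗[Ash] Bsh)).comap
        (Algebra.TensorProduct.includeRight : Bsh →ₐ[Ash] Csh ⊗[Ash] Bsh).toRingHom =
        maximalIdeal Bsh ∧
      ∀ P : Ideal (Csh ⊗[Ash] Bsh), P.IsPrime →
        P.comap (algebraMap Csh (Csh ⊗[Ash] Bsh)) = maximalIdeal Csh →
        P = maximalIdeal (Csh ⊗[Ash] Bsh) := by
  haveI : Algebra.IsAlgebraic (ResidueField Ash) (ResidueField Bsh) :=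
    isAlgebraic_residueField_of_isIntegral Ash Bsh
  haveI : IsPurelyInseparable (ResidueField Ash) (ResidueField Bsh) := inferInstance
  let q := ringExpChar (ResidueField Ash)
  have hq : q.Prime ∨ q = 1 := expChar_is_prime_or_one (ResidueField Ash) q
  have hqR : q.Prime → (q : Ash) ∈ maximalIdeal Ash := by
    intro hp
    rw [← residue_eq_zero_iff, map_natCast]
    exact natCast_eq_zero_of_expChar_prime _ q hp
  have hpi : ∀ b : Bsh, ∃ (n : ℕ) (a : Ash), b ^ q ^ n - algebraMap Ash Bsh a ∈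
      maximalIdeal Bsh := by
    intro b
    obtain ⟨n, y, hy⟩ := IsPurelyInseparable.pow_mem (ResidueField Ash) q (residue Bsh b)
    obtain ⟨a, rfl⟩ := residue_surjective y
    refine ⟨n, a, ?_⟩
    rw [← residue_eq_zero_iff, map_sub, map_pow, ← hy, sub_eq_zero]
    rfl
  haveI hloc : IsLocalRing (Csh ⊗[Ash] Bsh) :=
    isLocalRing_tensor_of_purelyInseparable Ash Bsh Csh q hq hqR hpi
  have hcomapC := comap_left_of_isMaximal Ash Bsh Csh (maximalIdeal (Csh ⊗[Ash] Bsh))
  have hcomapB := comap_right_of_isMaximal Ash Bsh Csh (maximalIdeal (Csh ⊗[Ash] Bsh))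
  haveI : IsLocalHom (algebraMap Csh (Csh ⊗[Ash] Bsh)) :=
    ((local_hom_TFAE _).out 0 4 rfl rfl).mpr hcomapC
  have hH : HenselianLocalRing (Csh ⊗[Ash] Bsh) :=
    Groth.Agent.Lib.Helper9.HensK.henselianLocalRing_of_isIntegral Csh (Csh ⊗[Ash] Bsh)
  haveI : Algebra.IsAlgebraic (ResidueField Csh) (ResidueField (Csh ⊗[Ash] Bsh)) :=
    isAlgebraic_residueField_of_isIntegral Csh (Csh ⊗[Ash] Bsh)
  have hsc : IsSepClosed (ResidueField (Csh ⊗[Ash] Bsh)) :=
    Algebra.IsAlgebraic.isSepClosed (F := ResidueField Csh)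
  refine ⟨hH, hsc, hcomapC, hcomapB, ?_⟩
  intro P hP hPC
  have h1 : (P.comap (algebraMap Csh (Csh ⊗[Ash] Bsh))).IsMaximal := by
    rw [hPC]; exact maximalIdeal.isMaximal Csh
  have h2 : P.IsMaximal := Ideal.isMaximal_of_isIntegral_of_isMaximal_comap P h1
  exact IsLocalRing.eq_maximalIdeal h2

/-- The comparison map `Bsh ⊗[Ash] Csh → Dsh` of strict henselizations is bijective whenever `Bsh`
is integral over `Ash`. -/
theorem bijective_lift_of_isIntegral (A B C : Type u) [CommRing A] [CommRing B]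
    [CommRing C] [Algebra A B] [Algebra A C]
    (pA : Ideal A) [pA.IsPrime] (pB : Ideal B) [pB.IsPrime]
    (pC : Ideal C) [pC.IsPrime]
    (pD : Ideal (B ⊗[A] C)) [pD.IsPrime]
    (Ash : Type u) [CommRing Ash] [IsLocalRing Ash] [Algebra (Localization.AtPrime pA) Ash]
    [IsLocalHom (algebraMap (Localization.AtPrime pA) Ash)]
    [Hensel.IsStrictHenselization (Localization.AtPrime pA) Ash] [Algebra A Ash]
    (Bsh : Type u) [CommRing Bsh] [IsLocalRing Bsh] [Algebra (Localization.AtPrime pB) Bsh]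
    [IsLocalHom (algebraMap (Localization.AtPrime pB) Bsh)]
    [Hensel.IsStrictHenselization (Localization.AtPrime pB) Bsh] [Algebra B Bsh]
    [IsScalarTower B (Localization.AtPrime pB) Bsh] [Algebra A Bsh] [IsScalarTower A B Bsh]
    [Algebra Ash Bsh] [IsScalarTower A Ash Bsh] [IsLocalHom (algebraMap Ash Bsh)]
    (Csh : Type u) [CommRing Csh] [IsLocalRing Csh] [Algebra (Localization.AtPrime pC) Csh]
    [IsLocalHom (algebraMap (Localization.AtPrime pC) Csh)]
    [Hensel.IsStrictHenselization (Localization.AtPrime pC) Csh] [Algebra C Csh]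
    [IsScalarTower C (Localization.AtPrime pC) Csh] [Algebra A Csh] [IsScalarTower A C Csh]
    [Algebra Ash Csh] [IsScalarTower A Ash Csh] [IsLocalHom (algebraMap Ash Csh)]
    (Dsh : Type u) [CommRing Dsh] [IsLocalRing Dsh] [Algebra (Localization.AtPrime pD) Dsh]
    [IsLocalHom (algebraMap (Localization.AtPrime pD) Dsh)]
    [Hensel.IsStrictHenselization (Localization.AtPrime pD) Dsh] [Algebra (B ⊗[A] C) Dsh]
    [IsScalarTower (B ⊗[A] C) (Localization.AtPrime pD) Dsh]
    [Algebra Bsh Dsh] [IsLocalHom (algebraMap Bsh Dsh)] [Algebra B Dsh] [IsScalarTower B Bsh Dsh]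
    [IsScalarTower B (B ⊗[A] C) Dsh]
    [Algebra Csh Dsh] [IsLocalHom (algebraMap Csh Dsh)]
    (hC : ∀ c : C, algebraMap Csh Dsh (algebraMap C Csh c) =
      algebraMap (B ⊗[A] C) Dsh (1 ⊗ₜ[A] c))
    [Algebra Ash Dsh] [IsScalarTower Ash Bsh Dsh] [IsScalarTower Ash Csh Dsh]
    [Algebra.IsIntegral Ash Bsh] :
    Function.Bijective (Algebra.TensorProduct.lift (IsScalarTower.toAlgHom Ash Bsh Dsh)
      (IsScalarTower.toAlgHom Ash Csh Dsh) (fun _ _ => Commute.all _ _)) := by
  haveI : HenselianLocalRing Ash :=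
    Hensel.IsStrictHenselization.henselian (Localization.AtPrime pA)
  haveI : IsSepClosed (ResidueField Ash) :=
    (Hensel.IsStrictHenselization.isSepClosure (R := Localization.AtPrime pA) (S := Ash)).sep_closed
  haveI : HenselianLocalRing Csh :=
    Hensel.IsStrictHenselization.henselian (Localization.AtPrime pC)
  haveI : IsSepClosed (ResidueField Csh) :=
    (Hensel.IsStrictHenselization.isSepClosure (R := Localization.AtPrime pC) (S := Csh)).sep_closed
  set Φ₀ : Bsh ⊗[Ash] Csh →ₐ[Ash] Dsh :=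
    Algebra.TensorProduct.lift (IsScalarTower.toAlgHom Ash Bsh Dsh)
      (IsScalarTower.toAlgHom Ash Csh Dsh) (fun _ _ => Commute.all _ _) with hΦ₀
  have hΦ₀t : ∀ b c, Φ₀ (b ⊗ₜ c) = algebraMap Bsh Dsh b * algebraMap Csh Dsh c := fun b c =>
    Algebra.TensorProduct.lift_tmul _ _ _ b c
  let cm : Csh ⊗[Ash] Bsh ≃ₐ[Ash] Bsh ⊗[Ash] Csh := Algebra.TensorProduct.comm Ash Csh Bsh
  let Φ : Csh ⊗[Ash] Bsh →+* Dsh := (Φ₀ : Bsh ⊗[Ash] Csh →+* Dsh).comp (cm : _ →+* _)
  have hΦt : ∀ c b, Φ (c ⊗ₜ b) = algebraMap Bsh Dsh b * algebraMap Csh Dsh c := fun c b => by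
    change Φ₀ (cm (c ⊗ₜ b)) = _
    rw [Algebra.TensorProduct.comm_tmul, hΦ₀t]
  haveI : Nontrivial (Csh ⊗[Ash] Bsh) := Φ.domain_nontrivial
  obtain ⟨hH, hsc, hcomapC, hcomapB, hprime⟩ :=
    strictlyHenselian_tensor_of_isIntegral Ash Bsh Csh
  let β : Bsh →+* Csh ⊗[Ash] Bsh :=
    (Algebra.TensorProduct.includeRight : Bsh →ₐ[Ash] Csh ⊗[Ash] Bsh).toRingHom
  let γ : Csh →+* Csh ⊗[Ash] Bsh := algebraMap Csh (Csh ⊗[Ash] Bsh)
  have hβ : ∀ b, β b = 1 ⊗ₜ b := fun b => rfl
  have hγ : ∀ c, γ c = c ⊗ₜ 1 := fun c => rfl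
  haveI : IsLocalHom β := ((local_hom_TFAE β).out 0 4 rfl rfl).mpr hcomapB
  haveI : IsLocalHom γ := ((local_hom_TFAE γ).out 0 4 rfl rfl).mpr hcomapC
  have hΦβ : Φ.comp β = algebraMap Bsh Dsh := by
    ext b
    rw [RingHom.comp_apply, hβ, hΦt, map_one, mul_one]
  have hΦγ : Φ.comp γ = algebraMap Csh Dsh := by
    ext c
    rw [RingHom.comp_apply, hγ, hΦt, map_one, one_mul]
  haveI : IsLocalHom Φ := by
    refine ((local_hom_TFAE Φ).out 0 4 rfl rfl).mpr ?_
    apply hprime _ (Ideal.comap_isPrime _ _)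
    rw [Ideal.comap_comap]
    change (maximalIdeal Dsh).comap (Φ.comp γ) = _
    rw [hΦγ]
    exact ((local_hom_TFAE (algebraMap Csh Dsh)).out 0 4 rfl rfl).mp inferInstance
  have hA : ∀ a : A, β (algebraMap B Bsh (algebraMap A B a)) =
      γ (algebraMap C Csh (algebraMap A C a)) := by
    intro a
    rw [hβ, hγ, ← IsScalarTower.algebraMap_apply A B Bsh, ← IsScalarTower.algebraMap_apply A C Csh,
      IsScalarTower.algebraMap_apply A Ash Bsh, IsScalarTower.algebraMap_apply A Ash Csh,
      Algebra.algebraMap_eq_smul_one (algebraMap A Ash a),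
      Algebra.algebraMap_eq_smul_one (A := Csh) (algebraMap A Ash a), TensorProduct.smul_tmul]
  have hgen : ∀ g : Csh ⊗[Ash] Bsh →+* Csh ⊗[Ash] Bsh, g.comp β = β → g.comp γ = γ →
      g = RingHom.id _ := by
    intro g h1 h2
    apply ringHom_ext_tensorProduct
    · intro c
      exact DFunLike.congr_fun h2 c
    · intro b
      exact DFunLike.congr_fun h1 b
  have hbij : Function.Bijective Φ :=
    bijective_of_strictlyHenselian A B C pB pC pD Bsh Csh Dsh hC (Csh ⊗[Ash] Bsh) β γ Φ hΦβ hΦγ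
      hA hgen
  have hcomp : (Φ₀ : Bsh ⊗[Ash] Csh → Dsh) = Φ ∘ cm.symm := by
    funext x
    change Φ₀ x = Φ₀ (cm (cm.symm x))
    rw [cm.apply_symm_apply]
  rw [hcomp]
  exact hbij.comp cm.symm.bijective

end Groth.Agent.Lib.Helper3
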