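import Groth.Agent.Lib.Helper3.SHensQF
import Groth.Agent.Lib.Helper3.SHensTensorBij
import Groth.Agent.Lib.Helper3.IndQFIntegral

set_option autoImplicit false
set_option linter.style.haveILetI false
set_option linter.unusedSectionVars false
universe u

open TensorProduct IsLocalRing

namespace Groth.Agent.Lib.Helper3

/-- For a local ring, the universal property of the strict henselization in `SHensAt` form at the
maximal ideal. -/
theorem SHensAt.of_isStrictHenselization_local (A : Type u) [CommRing A] [IsLocalRing A]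
    (Ah : Type u) [CommRing Ah] [IsLocalRing Ah] [Algebra A Ah] [IsLocalHom (algebraMap A Ah)]
    [h : Hensel.IsStrictHenselization A Ah] :
    SHensAt A (maximalIdeal A) Ah (algebraMap A Ah) := by
  refine ⟨h.henselian, ?_, ?_⟩
  · exact ((local_hom_TFAE (algebraMap A Ah)).out 0 4 rfl rfl).mp inferInstance
  · intro T _ _ f τ hf hτ
    haveI hloc : IsLocalHom f := ((local_hom_TFAE f).out 0 4 rfl rfl).mpr hf
    have hcompat : τ.comp (ResidueField.map (algebraMap A Ah)) = ResidueField.map f := by
      refine RingHom.ext fun x => ?_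
      obtain ⟨a, rfl⟩ := residue_surjective x
      rw [RingHom.comp_apply, ResidueField.map_residue, ResidueField.map_residue]
      exact hτ a
    exact h.universal T f τ hcompat

theorem liesOver_of_eq_comap_lift (R S : Type u) [CommRing R] [CommRing S] [Algebra R S]
    (Rh : Type u) [CommRing Rh] [IsLocalRing Rh] [Algebra R Rh]
    (Sh : Type u) [CommRing Sh] [IsLocalRing Sh] [Algebra S Sh]
    [Algebra R Sh] [IsScalarTower R S Sh] [Algebra Rh Sh] [IsScalarTower R Rh Sh]
    [hloc : IsLocalHom (algebraMap Rh Sh)]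
    (Q : Ideal (Rh ⊗[R] S))
    (hQ : Q = (maximalIdeal Sh).comap ((Algebra.TensorProduct.lift (Algebra.ofId Rh Sh)
      (IsScalarTower.toAlgHom R S Sh) (fun _ _ => Commute.all _ _) :
        Rh ⊗[R] S →ₐ[Rh] Sh) : Rh ⊗[R] S →+* Sh)) :
    Q.LiesOver (maximalIdeal Rh) := by
  constructor
  have h1 : Q.under Rh = (maximalIdeal Sh).comap (algebraMap Rh Sh) := by
    rw [hQ, Ideal.under, Ideal.comap_comap]
    congr 1
    ext a
    simp
  rw [h1]
  exact (((local_hom_TFAE (algebraMap Rh Sh)).out 0 4 rfl rfl).mp hloc).symm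

/-- If the local ring of `Rh ⊗[R] S` at the prime induced by `Sh` is integral over the strictly
henselian ring `Rh`, then it is isomorphic to `Sh`, so `Sh` is integral over `Rh`. -/
theorem isIntegral_of_isIntegral_localization_tensor
    (R S : Type u) [CommRing R] [CommRing S] [Algebra R S] (p : Ideal R) (q : Ideal S) [q.IsPrime]
    (hqp : q.comap (algebraMap R S) = p)
    (Rh : Type u) [CommRing Rh] [HenselianLocalRing Rh] [IsSepClosed (ResidueField Rh)]
    [Algebra R Rh] (hR : SHensAt R p Rh (algebraMap R Rh))
    (Sh : Type u) [CommRing Sh] [IsLocalRing Sh] [Algebra S Sh]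
    (hS : SHensAt S q Sh (algebraMap S Sh))
    [Algebra R Sh] [IsScalarTower R S Sh] [Algebra Rh Sh] [IsScalarTower R Rh Sh]
    [hloc : IsLocalHom (algebraMap Rh Sh)]
    (S' : Type u) [CommRing S'] [IsLocalRing S'] [Algebra S S'] [IsLocalization.AtPrime S' q]
    [Algebra S' Sh] [IsScalarTower S S' Sh] [IsLocalHom (algebraMap S' Sh)]
    [hsepS : IsSepClosure (ResidueField S') (ResidueField Sh)]
    (Q : Ideal (Rh ⊗[R] S)) [Q.IsPrime]
    (hQ : Q = (maximalIdeal Sh).comap ((Algebra.TensorProduct.lift (Algebra.ofId Rh Sh)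
      (IsScalarTower.toAlgHom R S Sh) (fun _ _ => Commute.all _ _) :
        Rh ⊗[R] S →ₐ[Rh] Sh) : Rh ⊗[R] S →+* Sh))
    [Algebra.IsIntegral Rh (Localization.AtPrime Q)] :
    Algebra.IsIntegral Rh Sh := by
  let φ₀ : Rh ⊗[R] S →ₐ[Rh] Sh :=
    Algebra.TensorProduct.lift (Algebra.ofId Rh Sh) (IsScalarTower.toAlgHom R S Sh)
      (fun _ _ => Commute.all _ _)
  have hφS : ∀ s, (φ₀ : Rh ⊗[R] S →+* Sh) (1 ⊗ₜ s) = algebraMap S Sh s := fun s => by
    simp [φ₀]
  have hφR : ∀ y, (φ₀ : Rh ⊗[R] S →+* Sh) (y ⊗ₜ 1) = algebraMap Rh Sh y := fun y => by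
    simp [φ₀]
  have h : SHensAt (Rh ⊗[R] S) Q Sh (φ₀ : Rh ⊗[R] S →+* Sh) := by
    rw [hQ]
    exact SHensAt.tensor R S p q hqp Rh hR Sh (algebraMap S Sh) hS _ hφS (algebraMap Rh Sh) hφR
  have hover : Q.LiesOver (maximalIdeal Rh) := liesOver_of_eq_comap_lift R S Rh Sh Q hQ
  haveI : IsLocalHom (algebraMap Rh (Localization.AtPrime Q)) := by
    rw [IsScalarTower.algebraMap_eq Rh (Rh ⊗[R] S) (Localization.AtPrime Q)]
    refine ((local_hom_TFAE _).out 0 4 rfl rfl).mpr ?_
    rw [← Ideal.comap_comap]
    have : (maximalIdeal (Localization.AtPrime Q)).comap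
        (algebraMap (Rh ⊗[R] S) (Localization.AtPrime Q)) = Q :=
      IsLocalization.AtPrime.under_maximalIdeal (Localization.AtPrime Q) Q
    rw [this]
    exact (hover.over).symm
  haveI : HenselianLocalRing (Localization.AtPrime Q) :=
    Groth.Agent.Lib.Helper9.HensK.henselianLocalRing_of_isIntegral Rh (Localization.AtPrime Q)
  haveI : Algebra.IsAlgebraic (ResidueField Rh) (ResidueField (Localization.AtPrime Q)) :=
    isAlgebraic_residueField_of_isIntegral Rh (Localization.AtPrime Q)
  haveI : IsSepClosed (ResidueField (Localization.AtPrime Q)) :=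
    Algebra.IsAlgebraic.isSepClosed (F := ResidueField Rh)
      (E := ResidueField (Localization.AtPrime Q))
  obtain ⟨ψ, hψ, hψloc⟩ := h.exists_lift
  have hψa : ∀ x, ψ (algebraMap (Rh ⊗[R] S) (Localization.AtPrime Q) x) = φ₀ x := fun x =>
    DFunLike.congr_fun hψ x
  -- the map `S' → L`
  let σ₀ : S →+* Localization.AtPrime Q :=
    (algebraMap (Rh ⊗[R] S) (Localization.AtPrime Q)).comp
      (Algebra.TensorProduct.includeRight : S →ₐ[R] Rh ⊗[R] S).toRingHom
  have hσ₀ : ∀ s, σ₀ s = algebraMap (Rh ⊗[R] S) (Localization.AtPrime Q) (1 ⊗ₜ s) := fun s => rfl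
  have hQS : Q.comap (Algebra.TensorProduct.includeRight : S →ₐ[R] Rh ⊗[R] S).toRingHom = q := by
    rw [← hS.comap_eq, hQ, Ideal.comap_comap]
    congr 1
    ext s
    exact hφS s
  have hσ₀comap : (maximalIdeal (Localization.AtPrime Q)).comap σ₀ = q := by
    rw [← Ideal.comap_comap]
    have : (maximalIdeal (Localization.AtPrime Q)).comap
        (algebraMap (Rh ⊗[R] S) (Localization.AtPrime Q)) = Q :=
      IsLocalization.AtPrime.under_maximalIdeal (Localization.AtPrime Q) Q
    rw [this, hQS]
  have hunits : ∀ y : q.primeCompl, IsUnit (σ₀ y) := by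
    intro y
    by_contra hy
    have : y.1 ∈ (maximalIdeal (Localization.AtPrime Q)).comap σ₀ := (mem_maximalIdeal _).mpr hy
    rw [hσ₀comap] at this
    exact y.2 this
  let σ : S' →+* Localization.AtPrime Q := IsLocalization.lift hunits
  have hσ : σ.comp (algebraMap S S') = σ₀ := IsLocalization.lift_comp _
  letI : Algebra S' (Localization.AtPrime Q) := σ.toAlgebra
  haveI : IsLocalHom (algebraMap S' (Localization.AtPrime Q)) :=
    isLocalHom_of_comap_maximalIdeal_eq q σ (by rw [hσ, hσ₀comap])
  letI : Algebra (Localization.AtPrime Q) Sh := ψ.toAlgebra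
  haveI : IsLocalHom (algebraMap (Localization.AtPrime Q) Sh) := hψloc
  haveI : IsScalarTower S' (Localization.AtPrime Q) Sh := by
    apply IsScalarTower.of_algebraMap_eq'
    apply IsLocalization.ringHom_ext q.primeCompl
    rw [RingHom.comp_assoc]
    change _ = ψ.comp (σ.comp (algebraMap S S'))
    rw [hσ, ← IsScalarTower.algebraMap_eq S S' Sh]
    ext s
    rw [RingHom.comp_apply, hσ₀, hψa]
    exact (hφS s).symm
  have hsep : IsSepClosure (ResidueField (Localization.AtPrime Q)) (ResidueField Sh) :=
    isSepClosure_residueField_of_tower S' (Localization.AtPrime Q) Sh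
  haveI := h.isStrictHenselization hψ hsep
  haveI := isStrictHenselization_self (Localization.AtPrime Q)
  obtain ⟨e⟩ := Groth.Agent.Lib.Helper9.HensK.nonempty_algEquiv_of_isStrictHenselization
    (Localization.AtPrime Q) (Localization.AtPrime Q) Sh
  have hψe : ∀ x, ψ x = e x := fun x => (e.commutes x).symm
  constructor
  intro y
  obtain ⟨x, rfl⟩ := e.surjective y
  rw [← hψe]
  have hint : IsIntegral Rh x := Algebra.IsIntegral.isIntegral x
  refine hint.map_of_comp_eq (RingHom.id Rh) ψ ?_
  ext a
  rw [RingHom.comp_apply, RingHom.comp_apply, RingHom.id_apply,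
    IsScalarTower.algebraMap_apply Rh (Rh ⊗[R] S) (Localization.AtPrime Q), hψa]
  simp [φ₀]

/-- If `B` is a directed union of quasi-finite `A`-algebras of finite type, then the strict
henselization of `B` at a prime is integral over that of `A`. -/
theorem isIntegral_strictHenselization_of_indQuasiFinite (A B : Type u) [CommRing A] [CommRing B]
    [Algebra A B] (pA : Ideal A) [pA.IsPrime] (pB : Ideal B) [pB.IsPrime]
    (hqp : pB.comap (algebraMap A B) = pA)
    (Ash : Type u) [CommRing Ash] [IsLocalRing Ash] [Algebra (Localization.AtPrime pA) Ash]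
    [IsLocalHom (algebraMap (Localization.AtPrime pA) Ash)]
    [Hensel.IsStrictHenselization (Localization.AtPrime pA) Ash] [Algebra A Ash]
    [IsScalarTower A (Localization.AtPrime pA) Ash]
    (Bsh : Type u) [CommRing Bsh] [IsLocalRing Bsh] [Algebra (Localization.AtPrime pB) Bsh]
    [IsLocalHom (algebraMap (Localization.AtPrime pB) Bsh)]
    [Hensel.IsStrictHenselization (Localization.AtPrime pB) Bsh] [Algebra B Bsh]
    [IsScalarTower B (Localization.AtPrime pB) Bsh] [Algebra A Bsh] [IsScalarTower A B Bsh]
    [Algebra Ash Bsh] [IsScalarTower A Ash Bsh] [IsLocalHom (algebraMap Ash Bsh)]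
    (hB : ∀ s : Finset B, ∃ B₀ : Subalgebra A B, (↑s : Set B) ⊆ ↑B₀ ∧
      Algebra.FiniteType A ↥B₀ ∧ Algebra.QuasiFinite A ↥B₀) :
    Algebra.IsIntegral Ash Bsh := by
  haveI : HenselianLocalRing Ash :=
    Hensel.IsStrictHenselization.henselian (Localization.AtPrime pA)
  haveI : IsSepClosed (ResidueField Ash) :=
    (Hensel.IsStrictHenselization.isSepClosure (R := Localization.AtPrime pA) (S := Ash)).sep_closed
  have hR : SHensAt A pA Ash (algebraMap A Ash) := by
    have := SHensAt.of_isStrictHenselization A pA Ash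
    rwa [← IsScalarTower.algebraMap_eq] at this
  have hS : SHensAt B pB Bsh (algebraMap B Bsh) := by
    have := SHensAt.of_isStrictHenselization B pB Bsh
    rwa [← IsScalarTower.algebraMap_eq] at this
  haveI : IsSepClosure (ResidueField (Localization.AtPrime pB)) (ResidueField Bsh) :=
    Hensel.IsStrictHenselization.isSepClosure
  let Q : Ideal (Ash ⊗[A] B) :=
    (maximalIdeal Bsh).comap ((Algebra.TensorProduct.lift (Algebra.ofId Ash Bsh)
      (IsScalarTower.toAlgHom A B Bsh) (fun _ _ => Commute.all _ _) :
        Ash ⊗[A] B →ₐ[Ash] Bsh) : Ash ⊗[A] B →+* Bsh)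
  haveI : Q.IsPrime := Ideal.comap_isPrime _ _
  haveI := liesOver_of_eq_comap_lift A B Ash Bsh Q rfl
  haveI := isIntegral_localization_tensor_of_indQuasiFinite (Rh := Ash) hB Q
  exact isIntegral_of_isIntegral_localization_tensor A B pA pB hqp Ash hR Bsh hS
    (Localization.AtPrime pB) Q rfl

/-- Variant where the ind-quasi-finiteness is assumed for the local rings. -/
theorem isIntegral_strictHenselization_of_indQuasiFinite_local (A B : Type u) [CommRing A]
    [CommRing B] [Algebra A B] (pA : Ideal A) [pA.IsPrime] (pB : Ideal B) [pB.IsPrime]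
    (hqp : pB.comap (algebraMap A B) = pA)
    (Ash : Type u) [CommRing Ash] [IsLocalRing Ash] [Algebra (Localization.AtPrime pA) Ash]
    [IsLocalHom (algebraMap (Localization.AtPrime pA) Ash)]
    [Hensel.IsStrictHenselization (Localization.AtPrime pA) Ash] [Algebra A Ash]
    [IsScalarTower A (Localization.AtPrime pA) Ash]
    (Bsh : Type u) [CommRing Bsh] [IsLocalRing Bsh] [Algebra (Localization.AtPrime pB) Bsh]
    [IsLocalHom (algebraMap (Localization.AtPrime pB) Bsh)]
    [Hensel.IsStrictHenselization (Localization.AtPrime pB) Bsh] [Algebra B Bsh]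
    [IsScalarTower B (Localization.AtPrime pB) Bsh] [Algebra A Bsh] [IsScalarTower A B Bsh]
    [Algebra Ash Bsh] [IsScalarTower A Ash Bsh] [IsLocalHom (algebraMap Ash Bsh)]
    [Algebra (Localization.AtPrime pA) (Localization.AtPrime pB)]
    [IsScalarTower A (Localization.AtPrime pA) (Localization.AtPrime pB)]
    (hB : ∀ s : Finset (Localization.AtPrime pB),
      ∃ B₀ : Subalgebra (Localization.AtPrime pA) (Localization.AtPrime pB),
        (↑s : Set (Localization.AtPrime pB)) ⊆ ↑B₀ ∧
          Algebra.FiniteType (Localization.AtPrime pA) ↥B₀ ∧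
            Algebra.QuasiFinite (Localization.AtPrime pA) ↥B₀) :
    Algebra.IsIntegral Ash Bsh := by
  haveI : HenselianLocalRing Ash :=
    Hensel.IsStrictHenselization.henselian (Localization.AtPrime pA)
  haveI : IsSepClosed (ResidueField Ash) :=
    (Hensel.IsStrictHenselization.isSepClosure (R := Localization.AtPrime pA) (S := Ash)).sep_closed
  have hR := SHensAt.of_isStrictHenselization_local (Localization.AtPrime pA) Ash
  have hS := SHensAt.of_isStrictHenselization_local (Localization.AtPrime pB) Bsh
  haveI : IsSepClosure (ResidueField (Localization.AtPrime pB)) (ResidueField Bsh) :=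
    Hensel.IsStrictHenselization.isSepClosure
  -- the map `A_pA → B_pB` is local
  have hAB : ∀ a : A, algebraMap (Localization.AtPrime pA) (Localization.AtPrime pB)
      (algebraMap A (Localization.AtPrime pA) a) =
      algebraMap B (Localization.AtPrime pB) (algebraMap A B a) := by
    intro a
    rw [← IsScalarTower.algebraMap_apply A (Localization.AtPrime pA) (Localization.AtPrime pB),
      IsScalarTower.algebraMap_apply A B (Localization.AtPrime pB)]
  have hqp' : (maximalIdeal (Localization.AtPrime pB)).comap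
      (algebraMap (Localization.AtPrime pA) (Localization.AtPrime pB)) =
      maximalIdeal (Localization.AtPrime pA) := by
    set P := (maximalIdeal (Localization.AtPrime pB)).comap
      (algebraMap (Localization.AtPrime pA) (Localization.AtPrime pB)) with hP
    have h0 : (maximalIdeal (Localization.AtPrime pB)).comap
        (algebraMap B (Localization.AtPrime pB)) = pB :=
      IsLocalization.AtPrime.under_maximalIdeal (Localization.AtPrime pB) pB
    have h1 : P.under A = pA := by
      rw [hP, Ideal.under, Ideal.comap_comap, ← IsScalarTower.algebraMap_eq,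
        IsScalarTower.algebraMap_eq A B (Localization.AtPrime pB), ← Ideal.comap_comap, h0, hqp]
    rw [← IsLocalization.map_under pA.primeCompl (Localization.AtPrime pA) P, h1,
      IsLocalization.AtPrime.map_eq_maximalIdeal]
  letI : Algebra (Localization.AtPrime pA) Bsh :=
    ((algebraMap (Localization.AtPrime pB) Bsh).comp
      (algebraMap (Localization.AtPrime pA) (Localization.AtPrime pB))).toAlgebra
  haveI : IsScalarTower (Localization.AtPrime pA) (Localization.AtPrime pB) Bsh :=
    .of_algebraMap_eq (fun _ => rfl)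
  haveI : IsScalarTower (Localization.AtPrime pA) Ash Bsh := by
    apply IsScalarTower.of_algebraMap_eq'
    apply IsLocalization.ringHom_ext pA.primeCompl
    ext a
    change algebraMap (Localization.AtPrime pB) Bsh
      (algebraMap (Localization.AtPrime pA) (Localization.AtPrime pB)
        (algebraMap A (Localization.AtPrime pA) a)) =
      algebraMap Ash Bsh (algebraMap (Localization.AtPrime pA) Ash
        (algebraMap A (Localization.AtPrime pA) a))
    rw [hAB, ← IsScalarTower.algebraMap_apply B (Localization.AtPrime pB) Bsh,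
      ← IsScalarTower.algebraMap_apply A B Bsh,
      ← IsScalarTower.algebraMap_apply A (Localization.AtPrime pA) Ash,
      ← IsScalarTower.algebraMap_apply A Ash Bsh]
  haveI : IsLocalization.AtPrime (Localization.AtPrime pB)
      (maximalIdeal (Localization.AtPrime pB)) := by
    apply IsLocalization.of_le_isUnit
    intro x hx
    have : x ∉ maximalIdeal (Localization.AtPrime pB) := hx
    rw [mem_maximalIdeal, mem_nonunits_iff, not_not] at this
    exact this
  let Q : Ideal (Ash ⊗[Localization.AtPrime pA] (Localization.AtPrime pB)) :=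
    (maximalIdeal Bsh).comap ((Algebra.TensorProduct.lift (Algebra.ofId Ash Bsh)
      (IsScalarTower.toAlgHom (Localization.AtPrime pA) (Localization.AtPrime pB) Bsh)
      (fun _ _ => Commute.all _ _) :
        Ash ⊗[Localization.AtPrime pA] (Localization.AtPrime pB) →ₐ[Ash] Bsh) :
        Ash ⊗[Localization.AtPrime pA] (Localization.AtPrime pB) →+* Bsh)
  haveI : Q.IsPrime := Ideal.comap_isPrime _ _
  haveI := liesOver_of_eq_comap_lift (Localization.AtPrime pA) (Localization.AtPrime pB)
    Ash Bsh Q rfl
  haveI := isIntegral_localization_tensor_of_indQuasiFinite (Rh := Ash) hB Q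
  exact isIntegral_of_isIntegral_localization_tensor (Localization.AtPrime pA)
    (Localization.AtPrime pB) (maximalIdeal _) (maximalIdeal _) hqp' Ash hR Bsh hS
    (Localization.AtPrime pB) Q rfl

end Groth.Agent.Lib.Helper3
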