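import Groth.Agent.Lib.Helper3.SHensTensorAt
import Groth.Agent.Lib.Helper3.HensQF

set_option autoImplicit false
set_option linter.style.haveILetI false
set_option linter.unusedSectionVars false
universe u

open TensorProduct IsLocalRing

namespace Groth.Agent.Lib.Helper3

theorem isSepClosure_residueField_of_surjective (R S : Type*) [CommRing R] [CommRing S]
    [IsLocalRing R] [IsLocalRing S] [Algebra R S] [IsLocalHom (algebraMap R S)]
    (hsurj : Function.Surjective (algebraMap (ResidueField R) (ResidueField S)))
    [hsc : IsSepClosed (ResidueField S)] : IsSepClosure (ResidueField R) (ResidueField S) := by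
  refine ⟨hsc, ⟨fun x => ?_⟩⟩
  obtain ⟨y, rfl⟩ := hsurj x
  exact isSeparable_algebraMap _

/-- A strictly henselian local ring is its own strict henselization. -/
theorem isStrictHenselization_self (D : Type u) [CommRing D] [HenselianLocalRing D]
    [hsc : IsSepClosed (ResidueField D)] :
    Hensel.IsStrictHenselization D D := by
  refine ⟨inferInstance, ?_, ?_⟩
  · apply isSepClosure_residueField_of_surjective D D
    intro x
    obtain ⟨r, rfl⟩ := residue_surjective x
    exact ⟨residue D r, rfl⟩
  · intro T _ _ f _ τ hτ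
    refine ⟨f, ⟨?_, ?_⟩, ?_⟩
    · ext x; rfl
    · intro x
      have := DFunLike.congr_fun hτ (residue D x)
      rw [RingHom.comp_apply, ResidueField.map_residue, ResidueField.map_residue] at this
      exact this.symm
    · rintro g ⟨hg, -⟩
      ext x
      exact DFunLike.congr_fun hg x

theorem finite_of_isStrictHenselization_of_quasiFiniteAt (R : Type u) [CommRing R] (S : Type u)
    [CommRing S] [Algebra R S] [Algebra.FiniteType R S] (p : Ideal R) [p.IsPrime] (q : Ideal S)
    [q.IsPrime] (hqp : q.comap (algebraMap R S) = p) [Algebra.QuasiFiniteAt R q]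
    (Rh : Type u) [CommRing Rh] [IsLocalRing Rh] [Algebra (Localization.AtPrime p) Rh]
    [IsLocalHom (algebraMap (Localization.AtPrime p) Rh)]
    [hRh : Hensel.IsStrictHenselization (Localization.AtPrime p) Rh] [Algebra R Rh]
    [IsScalarTower R (Localization.AtPrime p) Rh]
    (Sh : Type u) [CommRing Sh] [IsLocalRing Sh] [Algebra (Localization.AtPrime q) Sh]
    [IsLocalHom (algebraMap (Localization.AtPrime q) Sh)]
    [Hensel.IsStrictHenselization (Localization.AtPrime q) Sh] [Algebra S Sh]
    [IsScalarTower S (Localization.AtPrime q) Sh] [Algebra R Sh] [IsScalarTower R S Sh]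
    [Algebra Rh Sh] [IsScalarTower R Rh Sh] [hloc : IsLocalHom (algebraMap Rh Sh)] :
    Module.Finite Rh Sh := by
  haveI : HenselianLocalRing Rh := hRh.henselian
  haveI hscRh : IsSepClosed (ResidueField Rh) := hRh.isSepClosure.sep_closed
  let φ₀ : Rh ⊗[R] S →ₐ[Rh] Sh :=
    Algebra.TensorProduct.lift (Algebra.ofId Rh Sh) (IsScalarTower.toAlgHom R S Sh)
      (fun _ _ => Commute.all _ _)
  have hφS : ∀ s, (φ₀ : Rh ⊗[R] S →+* Sh) (1 ⊗ₜ s) = algebraMap S Sh s := fun s => by
    simp [φ₀]
  have hφR : ∀ y, (φ₀ : Rh ⊗[R] S →+* Sh) (y ⊗ₜ 1) = algebraMap Rh Sh y := fun y => by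
    simp [φ₀]
  set Q : Ideal (Rh ⊗[R] S) := (maximalIdeal Sh).comap (φ₀ : Rh ⊗[R] S →+* Sh) with hQ
  haveI hQp : Q.IsPrime := Ideal.comap_isPrime _ _
  obtain ⟨h, H⟩ := isStrictHenselization_tensor R S p q hqp Rh Sh (φ₀ : Rh ⊗[R] S →+* Sh) hφS
    (algebraMap Rh Sh) hφR Q hQ
  have hS := SHensAt.of_isStrictHenselization S q Sh
  rw [← IsScalarTower.algebraMap_eq S (Localization.AtPrime q) Sh] at hS
  -- `Q` lies over the maximal ideal
  have hover : Q.LiesOver (maximalIdeal Rh) := by
    constructor
    have h1 : Q.under Rh = (maximalIdeal Sh).comap (algebraMap Rh Sh) := by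
      rw [hQ, Ideal.under, Ideal.comap_comap]
      congr 1
      ext a
      simp [φ₀]
    rw [h1]
    exact (((local_hom_TFAE (algebraMap Rh Sh)).out 0 4 rfl rfl).mp hloc).symm
  have hqQ : q = Q.comap (Algebra.TensorProduct.includeRight : S →ₐ[R] Rh ⊗[R] S).toRingHom := by
    rw [← hS.comap_eq, hQ, Ideal.comap_comap]
    congr 1
    ext s
    exact (hφS s).symm
  have hqf : Algebra.QuasiFiniteAt Rh Q := Algebra.QuasiFiniteAt.baseChange q Q hqQ
  haveI hfin : Module.Finite Rh (Localization.AtPrime Q) :=
    finite_localization_of_quasiFiniteAt Rh (Rh ⊗[R] S) Q hover hqf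
  haveI : HenselianLocalRing (Localization.AtPrime Q) :=
    Groth.Agent.S0505.result Rh (Localization.AtPrime Q)
  -- the residue field of `D` is separably closed
  haveI : IsLocalHom (algebraMap Rh (Localization.AtPrime Q)) := by
    rw [IsScalarTower.algebraMap_eq Rh (Rh ⊗[R] S) (Localization.AtPrime Q)]
    refine ((local_hom_TFAE _).out 0 4 rfl rfl).mpr ?_
    rw [← Ideal.comap_comap]
    have : (maximalIdeal (Localization.AtPrime Q)).comap
        (algebraMap (Rh ⊗[R] S) (Localization.AtPrime Q)) = Q :=
      IsLocalization.AtPrime.under_maximalIdeal (Localization.AtPrime Q) Q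
    rw [this]
    exact (hover.over).symm
  haveI : IsSepClosed (ResidueField (Localization.AtPrime Q)) :=
    Algebra.IsAlgebraic.isSepClosed (F := ResidueField Rh)
      (E := ResidueField (Localization.AtPrime Q))
  obtain ⟨ψ, hψ, hψloc⟩ := h.exists_lift
  have hbij : Function.Bijective ψ := by
    letI : Algebra (Localization.AtPrime Q) Sh := ψ.toAlgebra
    haveI : IsLocalHom (algebraMap (Localization.AtPrime Q) Sh) := hψloc
    haveI := H hψ
    haveI := isStrictHenselization_self (Localization.AtPrime Q)
    obtain ⟨e⟩ := Groth.Agent.Lib.Helper9.HensK.nonempty_algEquiv_of_isStrictHenselization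
      (Localization.AtPrime Q) (Localization.AtPrime Q) Sh
    have : (ψ : Localization.AtPrime Q → Sh) = e := by
      funext x
      exact (e.commutes x).symm
    rw [this]
    exact e.bijective
  let ψl : Localization.AtPrime Q →ₗ[Rh] Sh :=
    { toFun := ψ
      map_add' := map_add ψ
      map_smul' := fun a x => by
        simp only [RingHom.id_apply]
        rw [Algebra.smul_def, Algebra.smul_def, map_mul]
        congr 1
        rw [IsScalarTower.algebraMap_apply Rh (Rh ⊗[R] S) (Localization.AtPrime Q)]
        have := DFunLike.congr_fun hψ (algebraMap Rh (Rh ⊗[R] S) a)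
        rw [RingHom.comp_apply] at this
        rw [this]
        simp [φ₀] }
  exact Module.Finite.of_surjective ψl hbij.2

end Groth.Agent.Lib.Helper3
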