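import Groth.Prelude.Def_EtShriek2
import Groth.Agent.Lib.Helper3.FinPushCore
import Groth.Agent.Lib.Helper49.ProperSupport2

/-!
# Supports of sections of abelian étale sheaves; sections with proper support (helper3)
-/

set_option autoImplicit false
set_option backward.isDefEq.respectTransparency false
set_option linter.unusedSectionVars false
set_option linter.style.haveILetI false

universe u

open CategoryTheory CategoryTheory.Limits AlgebraicGeometry Opposite IsLocalRing

namespace Groth.Agent.Lib.Helper3.ShriekBasic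

open Groth.Agent.Lib.Helper3.EtLocalRingScheme Groth.Agent.Lib.Helper3.FinPushPts
  Groth.Agent.Lib.Helper3.FinPushSep Groth.Agent.Lib.Helper3.FinPushSplit Groth.Agent.S0100
  Groth.Agent.Lib.Helper3.FinPushCore Groth.Agent.Lib.Helper43 EtShriek

section Supp

variable {X : Scheme.{u}} (F : EtCoh.Ab X)

theorem sectSupp_zero (U : X.Etale) : sectSupp F U 0 = ∅ := by
  ext x
  simp only [Set.mem_empty_iff_false, iff_false]
  intro hx
  exact hx U (𝟙 U) ⟨x, rfl⟩ (map_zero _)

theorem sectSupp_neg (U : X.Etale) (s : EtCoh.sect F U) : sectSupp F U (-s) = sectSupp F U s := by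
  ext x
  constructor
  · intro hx W g hw hs
    exact hx W g hw (by rw [map_neg, hs, neg_zero])
  · intro hx W g hw hs
    apply hx W g hw
    rw [map_neg, neg_eq_zero] at hs
    exact hs

/-- A point outside the support has an étale neighbourhood killing the section. -/
theorem exists_of_notMem_sectSupp {U : X.Etale} {s : EtCoh.sect F U} {x : U.left}
    (hx : x ∉ sectSupp F U s) :
    ∃ (W : X.Etale) (g : W ⟶ U) (w : W.left), g.left w = x ∧ F.obj.map g.op s = 0 := by
  unfold sectSupp at hx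
  simp only [Set.mem_ofPred_eq, not_forall, not_not] at hx
  obtain ⟨W, g, ⟨w, hw⟩, hs⟩ := hx
  exact ⟨W, g, w, hw, hs⟩

theorem notMem_sectSupp {U : X.Etale} {s : EtCoh.sect F U} {x : U.left}
    (W : X.Etale) (g : W ⟶ U) (w : W.left) (hw : g.left w = x) (hs : F.obj.map g.op s = 0) :
    x ∉ sectSupp F U s := fun hx => hx W g ⟨w, hw⟩ hs

theorem isClosed_sectSupp (U : X.Etale) (s : EtCoh.sect F U) : IsClosed (sectSupp F U s) := by
  rw [← isOpen_compl_iff, isOpen_iff_forall_mem_open]
  intro x hx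
  obtain ⟨W, g, w, hw, hs⟩ := exists_of_notMem_sectSupp F hx
  haveI : Etale g.left := inferInstanceAs (Etale g.left)
  refine ⟨Set.range g.left, ?_, g.left.isOpenMap.isOpen_range, ⟨w, hw⟩⟩
  rintro _ ⟨w', rfl⟩
  exact notMem_sectSupp F W g w' rfl hs

section Germs

variable {Ω : Type u} [Field Ω] [IsSepClosed Ω] {ξ : Spec (CommRingCat.of Ω) ⟶ X}

/-- If the germ of `s` at a geometric point vanishes, the image point is not in the support. -/
theorem notMem_sectSupp_of_germ_eq_zero {U : X.Etale} (u : Fib ξ U) (s : EtCoh.sect F U)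
    (h : (Scheme.pointSmallEtale ξ).toPresheafFiber U u F.obj s = 0) :
    nbhdPt u ∉ sectSupp F U s := by
  have h' : (Scheme.pointSmallEtale ξ).toPresheafFiber U u F.obj s =
      (Scheme.pointSmallEtale ξ).toPresheafFiber U u F.obj 0 := by rw [h, map_zero]
  obtain ⟨W, g, w, hw, hs⟩ := ((Scheme.pointSmallEtale ξ).toPresheafFiber_eq_iff' _ _ _ _).1 h'
  rw [map_zero] at hs
  refine notMem_sectSupp F W g (nbhdPt w) ?_ hs
  rw [← hw]
  rfl

/-- Outside the support all germs vanish. -/
theorem germ_eq_zero_of_notMem_sectSupp {U : X.Etale} (u : Fib ξ U) (s : EtCoh.sect F U)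
    (h : nbhdPt u ∉ sectSupp F U s) :
    (Scheme.pointSmallEtale ξ).toPresheafFiber U u F.obj s = 0 := by
  obtain ⟨W, g, w, hw, hs⟩ := exists_of_notMem_sectSupp F h
  obtain ⟨u', hu', -⟩ := exists_fib_lift g u w hw
  rw [← hu', ← (Scheme.pointSmallEtale ξ).toPresheafFiber_w_apply g u' F.obj, hs, map_zero]

theorem germ_eq_zero_iff {U : X.Etale} (u : Fib ξ U) (s : EtCoh.sect F U) :
    (Scheme.pointSmallEtale ξ).toPresheafFiber U u F.obj s = 0 ↔ nbhdPt u ∉ sectSupp F U s :=
  ⟨notMem_sectSupp_of_germ_eq_zero F u s, germ_eq_zero_of_notMem_sectSupp F u s⟩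

end Germs

/-- Every point of an étale `X`-scheme is the image of a geometric point. -/
theorem exists_geomPt (U : X.Etale) (x : U.left) :
    ∃ (Ω : Type u) (_ : Field Ω) (_ : IsSepClosed Ω) (ξ : Spec (CommRingCat.of Ω) ⟶ X)
      (u : Fib ξ U), nbhdPt u = x := by
  let Ω := SeparableClosure (U.left.residueField x)
  let ul : Spec (CommRingCat.of Ω) ⟶ U.left :=
    Spec.map (CommRingCat.ofHom (algebraMap (U.left.residueField x) Ω)) ≫
      U.left.fromSpecResidueField x
  refine ⟨Ω, inferInstance, inferInstance, ul ≫ U.hom, Over.homMk ul rfl, ?_⟩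
  change ul (closedPoint Ω) = x
  rw [Scheme.Hom.comp_apply]
  exact U.left.fromSpecResidueField_apply x _

theorem sectSupp_add_subset (U : X.Etale) (s t : EtCoh.sect F U) :
    sectSupp F U (s + t) ⊆ sectSupp F U s ∪ sectSupp F U t := by
  intro x hx
  by_contra hcon
  rw [Set.mem_union, not_or] at hcon
  obtain ⟨Ω, _, _, ξ, u, rfl⟩ := exists_geomPt U x
  have h1 := germ_eq_zero_of_notMem_sectSupp F u s hcon.1
  have h2 := germ_eq_zero_of_notMem_sectSupp F u t hcon.2
  have h3 : (Scheme.pointSmallEtale ξ).toPresheafFiber U u F.obj (s + t) = 0 := by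
    rw [map_add, h1, h2, add_zero]
  exact notMem_sectSupp_of_germ_eq_zero F u _ h3 hx

/-- The support of a restriction is the preimage of the support. -/
theorem sectSupp_map {U W : X.Etale} (g : W ⟶ U) (s : EtCoh.sect F U) :
    sectSupp F W (F.obj.map g.op s) = g.left ⁻¹' sectSupp F U s := by
  ext w
  obtain ⟨Ω, _, _, ξ, u, rfl⟩ := exists_geomPt W w
  have hpt : g.left (nbhdPt u) = nbhdPt ((Scheme.pointSmallEtale ξ).fiber.map g u) := rfl
  rw [Set.mem_preimage, hpt, ← not_iff_not, ← germ_eq_zero_iff, ← germ_eq_zero_iff,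
    (Scheme.pointSmallEtale ξ).toPresheafFiber_w_apply g u F.obj]

/-- A section with empty support vanishes. -/
theorem eq_zero_of_sectSupp_eq_empty (U : X.Etale) (s : EtCoh.sect F U)
    (h : sectSupp F U s = ∅) : s = 0 := by
  have hsh := (isSheaf_iff_isSheaf_of_type _ _).1
    ((Presheaf.isSheaf_iff_isSheaf_forget _ F.obj (forget AddCommGrpCat)).1 F.property)
  let R : Sieve U :=
    { arrows := fun T k => F.obj.map k.op s = 0
      downward_closed := by
        intro T T' k hk l
        rw [op_comp, F.obj.map_comp]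
        change F.obj.map l.op (F.obj.map k.op s) = 0
        rw [hk, map_zero] }
  have hR : R ∈ X.smallEtaleTopology U := by
    rw [EtOpenSub.mem_smallEtaleTopology_iff']
    intro x
    have hx : x ∉ sectSupp F U s := by rw [h]; exact Set.notMem_empty x
    obtain ⟨W, g, w, hw, hs⟩ := exists_of_notMem_sectSupp F hx
    exact ⟨W, g, w, hs, hw⟩
  refine (hsh _ hR).isSeparatedFor.ext (fun T k hk => ?_)
  change F.obj.map k.op s = F.obj.map k.op 0
  rw [map_zero]
  exact hk

end Supp

section ExtZero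

variable {X : Scheme.{u}} (F : EtCoh.Ab X)

/-- The sheaf of sets underlying an abelian sheaf. -/
noncomputable def underlyingSh : Sheaf X.smallEtaleTopology (Type (u + 1)) :=
  ⟨F.obj ⋙ forget AddCommGrpCat,
    (Presheaf.isSheaf_iff_isSheaf_forget _ F.obj (forget AddCommGrpCat)).1 F.property⟩

/-- **Extension by zero** of a section along an open and closed immersion of étale
`X`-schemes. -/
theorem exists_extZero {T 𝒵 : X.Etale} (m : T ⟶ 𝒵) [IsOpenImmersion m.left]
    (hcl : IsClosed (Set.range m.left)) (s' : EtCoh.sect F T) :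
    ∃ s : EtCoh.sect F 𝒵, F.obj.map m.op s = s' ∧ sectSupp F 𝒵 s ⊆ Set.range m.left := by
  classical
  let ml : T.left ⟶ 𝒵.left := m.left
  let W₁ : 𝒵.left.Opens := ml.opensRange
  let W₂ : 𝒵.left.Opens := ⟨(Set.range ml)ᶜ, hcl.isOpen_compl⟩
  have hml : ml ≫ 𝒵.hom = T.hom := MorphismProperty.Over.w m
  let r : T ⟶ openObj 𝒵 W₁ := MorphismProperty.Over.homMk ml.isoOpensRange.hom (by
    change ml.isoOpensRange.hom ≫ W₁.ι ≫ 𝒵.hom = T.hom
    rw [← Category.assoc, Scheme.Hom.isoOpensRange_hom_ι]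
    exact hml) trivial
  let rinv : openObj 𝒵 W₁ ⟶ T := MorphismProperty.Over.homMk ml.isoOpensRange.inv (by
    change ml.isoOpensRange.inv ≫ T.hom = W₁.ι ≫ 𝒵.hom
    rw [← hml, ← Category.assoc, Scheme.Hom.isoOpensRange_inv_comp]) trivial
  have hr : r ≫ openHom 𝒵 W₁ = m := by
    apply MorphismProperty.Over.Hom.ext
    exact Scheme.Hom.isoOpensRange_hom_ι ml
  have hrr : r ≫ rinv = 𝟙 T := by
    apply MorphismProperty.Over.Hom.ext
    exact ml.isoOpensRange.hom_inv_id
  let W : Bool → 𝒵.left.Opens := fun b => if b then W₁ else W₂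
  have hdisj : ∀ a b, a ≠ b → Disjoint (W a) (W b) := by
    have h12 : Disjoint W₁ W₂ := by
      rw [← TopologicalSpace.Opens.coe_disjoint, Set.disjoint_left]
      intro x hx hx'
      exact hx' hx
    intro a b hab
    cases a <;> cases b
    · exact (hab rfl).elim
    · exact h12.symm
    · exact h12
    · exact (hab rfl).elim
  have hcov : (⨆ a, W a) = ⊤ := by
    apply top_unique
    intro x _
    by_cases hx : x ∈ Set.range ml
    · exact TopologicalSpace.Opens.mem_iSup.2 ⟨true, hx⟩
    · exact TopologicalSpace.Opens.mem_iSup.2 ⟨false, hx⟩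
  let th : 𝒵.left ⟶ X := 𝒵.hom
  haveI : Etale th := inferInstanceAs (Etale 𝒵.hom)
  let t : ∀ a : Bool, (underlyingSh F).obj.obj (op (openObj 𝒵 (W a))) := fun a =>
    match a with
    | true => F.obj.map rinv.op s'
    | false => (0 : F.obj.obj (op (openObj 𝒵 W₂)))
  obtain ⟨s, hs⟩ := DisjGlue.glue_disjoint th (underlyingSh F) W hdisj hcov t
  let s₀ : EtCoh.sect F 𝒵 := s
  have h1 : F.obj.map (openHom 𝒵 W₁).op s₀ = F.obj.map rinv.op s' := hs true
  have h2 : F.obj.map (openHom 𝒵 W₂).op s₀ = 0 := hs false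
  refine ⟨s₀, ?_, ?_⟩
  · rw [← hr, op_comp, F.obj.map_comp]
    change F.obj.map r.op (F.obj.map (openHom 𝒵 W₁).op s₀) = s'
    rw [h1]
    change (F.obj.map rinv.op ≫ F.obj.map r.op) s' = s'
    rw [← F.obj.map_comp, ← op_comp, hrr, op_id, F.obj.map_id]
    rfl
  · intro x hx
    by_contra hcon
    exact notMem_sectSupp F (openObj 𝒵 W₂) (openHom 𝒵 W₂) ⟨x, hcon⟩ rfl h2 hx

end ExtZero

section Pred

variable {X Y : Scheme.{u}} (f : X ⟶ Y) (F : EtCoh.Ab X)

theorem isProperOver_empty {U S : Scheme.{u}} (g : U ⟶ S) : ClSub.IsProperOver g (∅ : Set U) := by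
  refine ⟨isClosed_empty, ?_⟩
  haveI : IsEmpty ↥(Scheme.IdealSheafData.vanishingIdeal
      (⟨∅, isClosed_empty⟩ : TopologicalSpace.Closeds U)).subscheme := by
    constructor
    intro t
    have ht : (Scheme.IdealSheafData.vanishingIdeal
        (⟨∅, isClosed_empty⟩ : TopologicalSpace.Closeds U)).subschemeι t ∈
        Set.range (Scheme.IdealSheafData.vanishingIdeal
          (⟨∅, isClosed_empty⟩ : TopologicalSpace.Closeds U)).subschemeι := ⟨t, rfl⟩
    rw [Scheme.IdealSheafData.range_subschemeι,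
      Scheme.IdealSheafData.coe_support_vanishingIdeal] at ht
    exact ht
  infer_instance

theorem hasProperSupport_zero (U : X.Etale) {S : Scheme.{u}} (g : U.left ⟶ S) :
    HasProperSupport F U 0 g :=
  ⟨∅, by rw [sectSupp_zero], isProperOver_empty g⟩

theorem hasProperSupport_neg (U : X.Etale) (s : EtCoh.sect F U) {S : Scheme.{u}} (g : U.left ⟶ S)
    (h : HasProperSupport F U s g) : HasProperSupport F U (-s) g := by
  obtain ⟨Z, hZ, hp⟩ := h
  exact ⟨Z, by rwa [sectSupp_neg], hp⟩

theorem hasProperSupport_add (U : X.Etale) (s t : EtCoh.sect F U) {S : Scheme.{u}}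
    (g : U.left ⟶ S) [LocallyOfFiniteType g]
    (hs : HasProperSupport F U s g) (ht : HasProperSupport F U t g) :
    HasProperSupport F U (s + t) g := by
  obtain ⟨Z, hZ, hp⟩ := hs
  obtain ⟨Z', hZ', hp'⟩ := ht
  refine ⟨Z ∪ Z', (sectSupp_add_subset F U s t).trans (Set.union_subset_union hZ hZ'), ?_⟩
  exact Groth.Agent.Lib.Helper49.ProperSupport.isProperOver_union g hp hp'

variable [LocallyOfFiniteType f]

theorem shriekPred_of_mem {V : Y.Etale} {s : EtCoh.sect F ((EtCoh.bc f).obj V)}
    (hs : s ∈ shriekSubgroup f F V) : ShriekPred f F V s := by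
  refine AddSubgroup.closure_induction (p := fun s _ => ShriekPred f F V s) ?_ ?_ ?_ ?_ hs
  · intro s hs
    exact hs
  · intro V' φ
    rw [map_zero]
    exact hasProperSupport_zero F _ _
  · intro s t _ _ hs ht V' φ
    rw [map_add]
    haveI : LocallyOfFiniteType (prV f V') :=
      inferInstanceAs (LocallyOfFiniteType (pullback.fst V'.hom f))
    exact hasProperSupport_add F _ _ _ _ (hs V' φ) (ht V' φ)
  · intro s _ hs V' φ
    rw [map_neg]
    exact hasProperSupport_neg F _ _ _ (hs V' φ)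

theorem mem_shriekSubgroup_iff {V : Y.Etale} {s : EtCoh.sect F ((EtCoh.bc f).obj V)} :
    s ∈ shriekSubgroup f F V ↔ ShriekPred f F V s :=
  ⟨shriekPred_of_mem f F, fun h => AddSubgroup.subset_closure h⟩

end Pred

end Groth.Agent.Lib.Helper3.ShriekBasic
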