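import Groth.Agent.Lib.Helper3.ShriekBasic
import Groth.Agent.Lib.Helper3.FinPushStalk
import Groth.Agent.Lib.Helper3.IntUnivInj
import Mathlib.AlgebraicGeometry.ZariskisMainTheorem
import Groth.Agent.Lib.Helper4.EtRestr
import Groth.Agent.Lib.Helper43.RestrStalk
import Groth.Agent.Lib.Helper88.ProperOver
import Groth.Agent.S0793

/-!
# Sections with proper support for locally quasi-finite separated morphisms (helper3)
-/

set_option autoImplicit false
set_option backward.isDefEq.respectTransparency false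
set_option linter.unusedSectionVars false
set_option linter.style.haveILetI false

universe u

open CategoryTheory CategoryTheory.Limits AlgebraicGeometry Opposite IsLocalRing

namespace Groth.Agent.Lib.Helper3.ShriekLqf

open Groth.Agent.Lib.Helper3.EtLocalRingScheme Groth.Agent.Lib.Helper3.FinPushPts
  Groth.Agent.Lib.Helper3.FinPushSep Groth.Agent.Lib.Helper3.FinPushSplit Groth.Agent.S0100
  Groth.Agent.Lib.Helper3.FinPushCore Groth.Agent.Lib.Helper43 EtShriek
  Groth.Agent.Lib.Helper3.ShriekBasic Groth.Agent.Lib.Helper3.FinPushStalk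

section Points

variable {Ω : Type u} [Field Ω] [IsAlgClosed Ω]

/-- A locally quasi-finite scheme over an algebraically closed field has a rational point through
every point. -/
theorem exists_section_lqf {P : Scheme.{u}} (π : P ⟶ Spec (CommRingCat.of Ω))
    [LocallyQuasiFinite π] (p₀ : P) :
    ∃ σ : Spec (CommRingCat.of Ω) ⟶ P, σ ≫ π = 𝟙 _ ∧ σ (closedPoint Ω) = p₀ := by
  haveI : IsLocallyArtinian P := IsLocallyArtinian.of_locallyQuasiFinite π
  haveI : DiscreteTopology P := inferInstance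
  let U₀ : P.Opens := ⟨{p₀}, isOpen_discrete _⟩
  let π₀ : (U₀ : Scheme.{u}) ⟶ Spec (CommRingCat.of Ω) := U₀.ι ≫ π
  haveI : Finite ↥(U₀ : Scheme.{u}) := by
    have : Finite ({p₀} : Set P) := Set.finite_singleton p₀
    exact this
  haveI : CompactSpace ↥(U₀ : Scheme.{u}) := Finite.compactSpace
  haveI : QuasiCompact π₀ := (HasAffineProperty.iff_of_isAffine (P := @QuasiCompact)).2 ‹_›
  haveI : IsFinite π₀ := IsFinite.of_locallyQuasiFinite π₀
  obtain ⟨ζ, hζ⟩ := IntUnivInj.exists_lift_of_isAlgClosed π₀ (𝟙 _)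
    ⟨⟨p₀, rfl⟩, Subsingleton.elim _ _⟩
  refine ⟨ζ ≫ U₀.ι, by rw [Category.assoc]; exact hζ, ?_⟩
  have h := (ζ (closedPoint Ω)).2
  exact h

variable {X Y : Scheme.{u}} (f : X ⟶ Y) {η : Spec (CommRingCat.of Ω) ⟶ Y}

/-- Every point of `X ×_Y V` over the image of `v` comes from a lift of `η` (for `f` locally
quasi-finite and `Ω` algebraically closed). -/
theorem exists_lift_at_lqf [LocallyQuasiFinite f] {V : Y.Etale} (v : Fib η V)
    (z : ↥(pullback (V.hom : V.left ⟶ Y) f))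
    (hz : (pullback.fst (V.hom : V.left ⟶ Y) f) z = nbhdPt v) :
    ∃ ξ : Lifts f η, nbhdPt (zbar ξ v) = z := by
  let vh : V.left ⟶ Y := V.hom
  let XV : Scheme.{u} := pullback vh f
  let pV : XV ⟶ V.left := pullback.fst vh f
  haveI : LocallyQuasiFinite pV := inferInstanceAs (LocallyQuasiFinite (pullback.fst vh f))
  let vl : Spec (CommRingCat.of Ω) ⟶ V.left := ptHom η v
  obtain ⟨p₀, -, hp₀⟩ := Scheme.Pullback.exists_preimage_pullback (f := vl) (g := pV)
    (closedPoint Ω) z hz.symm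
  let P : Scheme.{u} := pullback vl pV
  let p' : P ⟶ Spec (CommRingCat.of Ω) := pullback.fst vl pV
  haveI : LocallyQuasiFinite p' := inferInstanceAs (LocallyQuasiFinite (pullback.fst vl pV))
  obtain ⟨σ, hσ1, hσpt⟩ := exists_section_lqf p' p₀
  let zl : Spec (CommRingCat.of Ω) ⟶ XV := σ ≫ pullback.snd vl pV
  have hzl1 : zl ≫ pV = vl := by
    change (σ ≫ pullback.snd vl pV) ≫ pV = vl
    rw [Category.assoc, ← pullback.condition, ← Category.assoc, hσ1, Category.id_comp]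
  let ξ₀ : Spec (CommRingCat.of Ω) ⟶ X := zl ≫ pullback.snd vh f
  have hξ₀ : ξ₀ ≫ f = η := by
    change (zl ≫ pullback.snd vh f) ≫ f = η
    rw [Category.assoc, ← pullback.condition, ← Category.assoc, hzl1]
    exact ptHom_w η v
  refine ⟨⟨ξ₀, hξ₀⟩, ?_⟩
  have hz2 : ptHom ξ₀ (zbar (⟨ξ₀, hξ₀⟩ : Lifts f η) v) = zl := by
    apply pullback.hom_ext
    · exact (ptHom_zbar_fst (⟨ξ₀, hξ₀⟩ : Lifts f η) v).trans hzl1.symm
    · exact ptHom_zbar_snd (⟨ξ₀, hξ₀⟩ : Lifts f η) v
  change ptHom ξ₀ (zbar (⟨ξ₀, hξ₀⟩ : Lifts f η) v) (closedPoint Ω) = z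
  rw [hz2]
  change (σ ≫ pullback.snd vl pV) (closedPoint Ω) = z
  rw [Scheme.Hom.comp_apply, hσpt]
  exact hp₀

end Points

section Factor

/-- A morphism from a reduced scheme whose image lies in (the image of) a closed subscheme factors
through it. -/
theorem exists_factor_closedImmersion {W T Z : Scheme.{u}} [IsReduced W] (i : T ⟶ Z)
    [IsClosedImmersion i] (g : W ⟶ Z) (h : Set.range g ⊆ Set.range i) :
    ∃ g' : W ⟶ T, g' ≫ i = g := by
  have hcl : IsClosed (Set.range i) := i.isClosedEmbedding.isClosed_range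
  have H : i.ker ≤ g.ker := by
    have h1 : g.ker = Scheme.IdealSheafData.vanishingIdeal
        (.closure (g '' ((⊤ : TopologicalSpace.Closeds W) : Set W))) := by
      rw [← Scheme.IdealSheafData.map_vanishingIdeal, Scheme.IdealSheafData.vanishingIdeal_top,
        Scheme.nilradical_eq_bot, Scheme.IdealSheafData.map_bot]
    rw [h1, ← Scheme.IdealSheafData.le_support_iff_le_vanishingIdeal]
    intro x hx
    change x ∈ (i.ker.support : Set Z)
    rw [Scheme.Hom.support_ker, hcl.closure_eq]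
    have hx' : x ∈ closure (g '' Set.univ) := hx
    rw [Set.image_univ] at hx'
    exact (closure_minimal h hcl) hx'
  exact ⟨IsClosedImmersion.lift i g H, IsClosedImmersion.lift_fac i g H⟩

end Factor

section Support

variable {X Y : Scheme.{u}} (f : X ⟶ Y) [LocallyOfFiniteType f] [LocallyQuasiFinite f]
  (F : EtCoh.Ab X)

/-- A section with proper support, for `f` locally quasi-finite, has support contained in a closed
subscheme finite over the base. -/
theorem exists_finite_support {V : Y.Etale} {s : EtCoh.sect F ((EtCoh.bc f).obj V)}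
    (hs : ShriekPred f F V s) :
    ∃ (T : Scheme.{u}) (i : T ⟶ ((EtCoh.bc f).obj V).left), IsClosedImmersion i ∧
      IsFinite (i ≫ prV f V) ∧ sectSupp F _ s ⊆ Set.range i := by
  have h1 := hs V (𝟙 V)
  rw [CategoryTheory.Functor.map_id, op_id, CategoryTheory.Functor.map_id] at h1
  obtain ⟨Z, hZ, hcl, hp⟩ := h1
  let I := Scheme.IdealSheafData.vanishingIdeal
    (⟨Z, hcl⟩ : TopologicalSpace.Closeds ((EtCoh.bc f).obj V).left)
  haveI : IsProper (I.subschemeι ≫ prV f V) := hp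
  haveI : LocallyQuasiFinite (prV f V) :=
    inferInstanceAs (LocallyQuasiFinite (pullback.fst V.hom f))
  haveI : LocallyQuasiFinite (I.subschemeι ≫ prV f V) := inferInstance
  refine ⟨I.subscheme, I.subschemeι, inferInstance,
    IsFinite.of_isProper_of_locallyQuasiFinite _, ?_⟩
  rw [Scheme.IdealSheafData.range_subschemeι, Scheme.IdealSheafData.coe_support_vanishingIdeal]
  exact hZ

variable {Ω : Type u} [Field Ω] [IsAlgClosed Ω] {η : Spec (CommRingCat.of Ω) ⟶ Y}

/-- **Joint injectivity.** A section with proper support all of whose germs at the lifts of `η`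
vanish is zero on a smaller neighbourhood. -/
theorem shrink_to_zero {V : Y.Etale} (v : Fib η V) (s : EtCoh.sect F ((EtCoh.bc f).obj V))
    (hs : ShriekPred f F V s)
    (hgerm : ∀ ξ : Lifts f η,
      (Scheme.pointSmallEtale ξ.1).toPresheafFiber ((EtCoh.bc f).obj V) (zbar ξ v) F.obj s = 0) :
    ∃ (V' : Y.Etale) (g : V' ⟶ V) (v' : Fib η V'),
      (Scheme.pointSmallEtale η).fiber.map g v' = v ∧
        F.obj.map ((EtCoh.bc f).map g).op s = 0 := by
  obtain ⟨T, i, hi, hfin, hsub⟩ := exists_finite_support f F hs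
  let 𝒵 : X.Etale := (EtCoh.bc f).obj V
  let C : Set 𝒵.left := sectSupp F 𝒵 s
  have hCc : IsClosed C := isClosed_sectSupp F 𝒵 s
  let p : 𝒵.left ⟶ V.left := prV f V
  have hpC : IsClosed (p '' C) := by
    have h1 : p '' C = (i ≫ p) '' (i ⁻¹' C) := by
      ext y
      constructor
      · rintro ⟨x, hx, rfl⟩
        obtain ⟨t, rfl⟩ := hsub hx
        exact ⟨t, hx, by rw [Scheme.Hom.comp_apply]⟩
      · rintro ⟨t, ht, rfl⟩
        exact ⟨i t, ht, by rw [Scheme.Hom.comp_apply]⟩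
    rw [h1]
    exact (i ≫ p).isClosedMap _ (hCc.preimage i.continuous)
  have hvC : nbhdPt v ∈ (p '' C)ᶜ := by
    rintro ⟨x, hxC, hx⟩
    obtain ⟨ξ, hξ⟩ := exists_lift_at_lqf f v x hx
    have := notMem_sectSupp_of_germ_eq_zero F (zbar ξ v) s (hgerm ξ)
    rw [hξ] at this
    exact this hxC
  let O₂ : V.left.Opens := ⟨(p '' C)ᶜ, hpC.isOpen_compl⟩
  let V₂ : Y.Etale := openObj V O₂
  let j : V₂ ⟶ V := openHom V O₂
  refine ⟨V₂, j, openPt v O₂ hvC, map_openPt _ _ _, ?_⟩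
  apply eq_zero_of_sectSupp_eq_empty
  rw [sectSupp_map]
  ext x
  simp only [Set.mem_preimage, Set.mem_empty_iff_false, iff_false]
  intro hx
  have h1 : p (((EtCoh.bc f).map j).left x) =
      j.left ((pullback.fst (V₂.hom : V₂.left ⟶ Y) f) x) := by
    have e : ((EtCoh.bc f).map j).left ≫ p = pullback.fst (V₂.hom : V₂.left ⟶ Y) f ≫ j.left :=
      bc_map_left_fst f j
    exact (Scheme.Hom.comp_apply _ _ _).symm.trans
      ((congrArg (fun t : ((EtCoh.bc f).obj V₂).left ⟶ V.left => t x) e).trans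
        (Scheme.Hom.comp_apply _ _ _))
  have h2 : j.left ((pullback.fst (V₂.hom : V₂.left ⟶ Y) f) x) ∈ O₂ := by
    change O₂.ι ((pullback.fst (V₂.hom : V₂.left ⟶ Y) f) x) ∈ O₂
    exact ((pullback.fst (V₂.hom : V₂.left ⟶ Y) f) x).2
  exact h2 (h1 ▸ ⟨_, hx, rfl⟩)

/-- **Finiteness.** A section with proper support has only finitely many nonzero germs at the
lifts of `η`. -/
theorem finite_nonzero_germs {V : Y.Etale} (v : Fib η V)
    (s : EtCoh.sect F ((EtCoh.bc f).obj V)) (hs : ShriekPred f F V s) :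
    {ξ : Lifts f η | (Scheme.pointSmallEtale ξ.1).toPresheafFiber ((EtCoh.bc f).obj V)
      (zbar ξ v) F.obj s ≠ 0}.Finite := by
  obtain ⟨T, i, hi, hfin, hsub⟩ := exists_finite_support f F hs
  let S : Set (Lifts f η) := {ξ : Lifts f η | (Scheme.pointSmallEtale ξ.1).toPresheafFiber
    ((EtCoh.bc f).obj V) (zbar ξ v) F.obj s ≠ 0}
  have hfac : ∀ ξ : S, ∃ g' : Spec (CommRingCat.of Ω) ⟶ T, g' ≫ i = ptHom ξ.1.1 (zbar ξ.1 v) := by
    intro ξ
    apply exists_factor_closedImmersion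
    rintro _ ⟨t, rfl⟩
    apply hsub
    have ht : t = closedPoint Ω :=
      @Subsingleton.elim _ (inferInstanceAs (Subsingleton (PrimeSpectrum Ω))) _ _
    rw [ht]
    by_contra hcon
    exact ξ.2 (germ_eq_zero_of_notMem_sectSupp F (zbar ξ.1 v) s hcon)
  choose G hG using hfac
  haveI : Finite (Lifts (i ≫ prV f V) (ptHom η v)) := finite_lifts (i ≫ prV f V) (ptHom η v)
  let Φ : S → Lifts (i ≫ prV f V) (ptHom η v) := fun ξ => ⟨G ξ, by
    rw [← Category.assoc, hG ξ]
    exact ptHom_zbar_fst ξ.1 v⟩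
  have hΦ : Function.Injective Φ := by
    intro ξ₁ ξ₂ h
    apply Subtype.ext
    apply Subtype.ext
    have h1 : G ξ₁ = G ξ₂ := congrArg Subtype.val h
    have h2 : ptHom ξ₁.1.1 (zbar ξ₁.1 v) = ptHom ξ₂.1.1 (zbar ξ₂.1 v) := by
      rw [← hG ξ₁, ← hG ξ₂, h1]
    rw [← ptHom_zbar_snd ξ₁.1 v, ← ptHom_zbar_snd ξ₂.1 v, h2]
  exact Set.finite_coe_iff.1 (Finite.of_injective Φ hΦ)

end Support

section Transfer

variable {X Y : Scheme.{u}} (f : X ⟶ Y) (F : EtCoh.Ab X)
  {V₀s A : Scheme.{u}} (g₀ : V₀s ⟶ Y) [Etale g₀] (e : A ⟶ X) [Etale e] (h : A ⟶ V₀s)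
  (w : e ≫ f = h ≫ g₀)

/-- `A ×_{V₀} V'` as an étale `X`-scheme. -/
noncomputable abbrev srcObj (V' : V₀s.Etale) : X.Etale :=
  (compEtale e).obj ((EtCoh.bc h).obj V')

/-- `V'` as an étale `Y`-scheme. -/
noncomputable abbrev baseObj (V' : V₀s.Etale) : Y.Etale := (compEtale g₀).obj V'

/-- `X ×_Y V'` as an étale `X`-scheme. -/
noncomputable abbrev tgtObj (V' : V₀s.Etale) : X.Etale :=
  (EtCoh.bc f).obj (baseObj g₀ V')

include w in
theorem mHom_aux (V' : V₀s.Etale) :
    pullback.fst V'.hom h ≫ (baseObj g₀ V').hom = (pullback.snd V'.hom h ≫ e) ≫ f := by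
  change pullback.fst V'.hom h ≫ V'.hom ≫ g₀ = (pullback.snd V'.hom h ≫ e) ≫ f
  rw [Category.assoc, w, ← Category.assoc, ← Category.assoc, pullback.condition]

/-- The comparison `A ×_{V₀} V' ⟶ X ×_Y V'`. -/
noncomputable def mHom (V' : V₀s.Etale) : srcObj e h V' ⟶ tgtObj f g₀ V' :=
  MorphismProperty.Over.homMk
    (pullback.lift (pullback.fst V'.hom h) (pullback.snd V'.hom h ≫ e) (mHom_aux f g₀ e h w V') :
      pullback V'.hom h ⟶ pullback (baseObj g₀ V').hom f)
    (pullback.lift_snd _ _ _) trivial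

theorem mHom_left_fst (V' : V₀s.Etale) :
    (mHom f g₀ e h w V').left ≫ pullback.fst (baseObj g₀ V').hom f = pullback.fst V'.hom h :=
  pullback.lift_fst _ _ _

theorem mHom_left_snd (V' : V₀s.Etale) :
    (mHom f g₀ e h w V').left ≫ pullback.snd (baseObj g₀ V').hom f = pullback.snd V'.hom h ≫ e :=
  pullback.lift_snd _ _ _

/-- The comparison `A ⟶ X ×_Y V₀`. -/
noncomputable def cHom : A ⟶ pullback g₀ f := pullback.lift h e w.symm

/-- The structure morphism `V' ⟶ V₀` in the small étale site of `Y`. -/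
noncomputable def phiHom (V' : V₀s.Etale) : baseObj g₀ V' ⟶ Scheme.Etale.mk g₀ :=
  MorphismProperty.Over.homMk V'.hom rfl trivial

theorem isPullback_mHom (V' : V₀s.Etale) :
    IsPullback (mHom f g₀ e h w V').left (pullback.snd V'.hom h)
      ((EtCoh.bc f).map (phiHom g₀ V')).left (cHom f g₀ e h w) := by
  have hR := (EtCoh.isPullback_bc_map f (phiHom g₀ V')).flip
  have hbig : IsPullback ((mHom f g₀ e h w V').left ≫
      pullback.fst (baseObj g₀ V').hom f) (pullback.snd V'.hom h) V'.hom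
      (cHom f g₀ e h w ≫ pullback.fst g₀ f) := by
    rw [mHom_left_fst]
    have : cHom f g₀ e h w ≫ pullback.fst g₀ f = h := pullback.lift_fst _ _ _
    rw [this]
    exact IsPullback.of_hasPullback V'.hom h
  refine IsPullback.of_right hbig ?_ hR
  apply pullback.hom_ext
  · rw [Category.assoc, Category.assoc]
    have h1 : ((EtCoh.bc f).map (phiHom g₀ V')).left ≫ pullback.fst g₀ f =
        pullback.fst (baseObj g₀ V').hom f ≫ V'.hom := bc_map_left_fst f (phiHom g₀ V')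
    have h2 : cHom f g₀ e h w ≫ pullback.fst g₀ f = h := pullback.lift_fst _ _ _
    change (mHom f g₀ e h w V').left ≫ ((EtCoh.bc f).map (phiHom g₀ V')).left ≫
      pullback.fst g₀ f = pullback.snd V'.hom h ≫ cHom f g₀ e h w ≫ pullback.fst g₀ f
    rw [h1, h2, ← Category.assoc, mHom_left_fst, pullback.condition]
  · rw [Category.assoc, Category.assoc]
    have h1 : ((EtCoh.bc f).map (phiHom g₀ V')).left ≫ pullback.snd g₀ f =
        pullback.snd (baseObj g₀ V').hom f := bc_map_left_snd f (phiHom g₀ V')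
    have h2 : cHom f g₀ e h w ≫ pullback.snd g₀ f = e := pullback.lift_snd _ _ _
    change (mHom f g₀ e h w V').left ≫ ((EtCoh.bc f).map (phiHom g₀ V')).left ≫
      pullback.snd g₀ f = pullback.snd V'.hom h ≫ cHom f g₀ e h w ≫ pullback.snd g₀ f
    rw [h1, h2, mHom_left_snd]

theorem isOpenImmersion_mHom [IsOpenImmersion (cHom f g₀ e h w)] (V' : V₀s.Etale) :
    IsOpenImmersion (mHom f g₀ e h w V').left :=
  MorphismProperty.of_isPullback (P := @IsOpenImmersion) (isPullback_mHom f g₀ e h w V').flip ‹_›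

theorem range_mHom (V' : V₀s.Etale) :
    Set.range (mHom f g₀ e h w V').left =
      ((EtCoh.bc f).map (phiHom g₀ V')).left ⁻¹' Set.range (cHom f g₀ e h w) := by
  have := Scheme.image_preimage_eq_of_isPullback (isPullback_mHom f g₀ e h w V').flip Set.univ
  rw [Set.preimage_univ, Set.image_univ, Set.image_univ] at this
  exact this

theorem isClosed_range_mHom (hc : IsClosed (Set.range (cHom f g₀ e h w))) (V' : V₀s.Etale) :
    IsClosed (Set.range (mHom f g₀ e h w V').left) := by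
  rw [range_mHom]
  exact hc.preimage ((EtCoh.bc f).map (phiHom g₀ V')).left.continuous

/-- A section whose support lies in a closed set proper over the base has proper support in the
hereditary sense. -/
theorem shriekPred_of_supp_subset [LocallyOfFiniteType f] {V₁ : Y.Etale}
    (s : EtCoh.sect F ((EtCoh.bc f).obj V₁)) (Z : Set ((EtCoh.bc f).obj V₁).left)
    (hZ : sectSupp F _ s ⊆ Z) (hp : ClSub.IsProperOver (prV f V₁) Z) : ShriekPred f F V₁ s := by
  intro V'' φ
  refine ⟨((EtCoh.bc f).map φ).left ⁻¹' Z, ?_, ?_⟩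
  · rw [sectSupp_map]
    exact Set.preimage_mono hZ
  · haveI : LocallyOfFiniteType (prV f V₁) :=
      inferInstanceAs (LocallyOfFiniteType (pullback.fst V₁.hom f))
    exact Groth.Agent.S0793.result (prV f V₁) φ.left ((EtCoh.bc f).map φ).left (prV f V'')
      (EtCoh.isPullback_bc_map f φ) Z hp

section Pts

variable {Ω : Type u} [Field Ω] [IsSepClosed Ω] {η : Spec (CommRingCat.of Ω) ⟶ Y}
  (ζ₀ : Spec (CommRingCat.of Ω) ⟶ V₀s) (hη : ζ₀ ≫ g₀ = η)

include w hη in
theorem liftX_aux (ξt : Lifts h ζ₀) : (ξt.1 ≫ e) ≫ f = η := by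
  rw [Category.assoc, w, ← Category.assoc, ξt.2, hη]

/-- A lift of `ζ₀` to `A` gives a lift of `η` to `X`. -/
noncomputable def liftX (ξt : Lifts h ζ₀) : Lifts f η :=
  ⟨ξt.1 ≫ e, liftX_aux f g₀ e h w ζ₀ hη ξt⟩

/-- A point of `V'` over `ζ₀` as a point of `V'` (viewed over `Y`) over `η`. -/
noncomputable def trV {V' : V₀s.Etale} (v' : Fib ζ₀ V') : Fib η (baseObj g₀ V') :=
  Over.homMk (ptHom ζ₀ v') (by
    change ptHom ζ₀ v' ≫ V'.hom ≫ g₀ = η
    rw [← Category.assoc, ptHom_w, hη])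

/-- The point of `A ×_{V₀} V'` (viewed over `X`) given by a lift and a point of `V'`. -/
noncomputable def trT (ξt : Lifts h ζ₀) {V' : V₀s.Etale} (v' : Fib ζ₀ V') :
    Fib (ξt.1 ≫ e) (srcObj e h V') :=
  ShriekStalk.tr (j := e) (ξ := ξt.1 ≫ e) ⟨ξt.1, rfl⟩ ((EtCoh.bc h).obj V') (zbar ξt v')

theorem map_mHom_trT (ξt : Lifts h ζ₀) {V' : V₀s.Etale} (v' : Fib ζ₀ V') :
    (Scheme.pointSmallEtale (ξt.1 ≫ e)).fiber.map (mHom f g₀ e h w V') (trT e h ζ₀ ξt v') =
      zbar (liftX f g₀ e h w ζ₀ hη ξt) (trV g₀ ζ₀ hη v') := by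
  apply Over.OverMorphism.ext
  change ptHom ξt.1 (zbar ξt v') ≫ (mHom f g₀ e h w V').left =
    ptHom (ξt.1 ≫ e) (zbar (liftX f g₀ e h w ζ₀ hη ξt) (trV g₀ ζ₀ hη v'))
  apply pullback.hom_ext
  · rw [Category.assoc, mHom_left_fst, ptHom_zbar_fst]
    exact (ptHom_zbar_fst (liftX f g₀ e h w ζ₀ hη ξt) (trV g₀ ζ₀ hη v')).symm
  · rw [Category.assoc, mHom_left_snd, ← Category.assoc, ptHom_zbar_snd]
    exact (ptHom_zbar_snd (liftX f g₀ e h w ζ₀ hη ξt) (trV g₀ ζ₀ hη v')).symm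

theorem exists_liftX_eq [IsOpenImmersion (cHom f g₀ e h w)] {V' : V₀s.Etale} (v' : Fib ζ₀ V')
    (ξ'' : Lifts f η)
    (hmem : nbhdPt (zbar ξ'' (trV g₀ ζ₀ hη v')) ∈ Set.range (mHom f g₀ e h w V').left) :
    ∃ ξt : Lifts h ζ₀, liftX f g₀ e h w ζ₀ hη ξt = ξ'' := by
  haveI := isOpenImmersion_mHom f g₀ e h w V'
  let ml := (mHom f g₀ e h w V').left
  let zp : Spec (CommRingCat.of Ω) ⟶ pullback (baseObj g₀ V').hom f :=
    ptHom ξ''.1 (zbar ξ'' (trV g₀ ζ₀ hη v'))
  have hr : Set.range zp ⊆ Set.range ml := by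
    rintro _ ⟨t, rfl⟩
    have ht : t = closedPoint Ω :=
      @Subsingleton.elim _ (inferInstanceAs (Subsingleton (PrimeSpectrum Ω))) _ _
    rw [ht]
    exact hmem
  let zt : Spec (CommRingCat.of Ω) ⟶ pullback V'.hom h := IsOpenImmersion.lift ml zp hr
  have hzt : zt ≫ ml = zp := IsOpenImmersion.lift_fac _ _ _
  have h1 : zp ≫ pullback.fst (baseObj g₀ V').hom f = ptHom ζ₀ v' :=
    ptHom_zbar_fst ξ'' (trV g₀ ζ₀ hη v')
  have h2 : zp ≫ pullback.snd (baseObj g₀ V').hom f = ξ''.1 :=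
    ptHom_zbar_snd ξ'' (trV g₀ ζ₀ hη v')
  refine ⟨⟨zt ≫ pullback.snd V'.hom h, ?_⟩, ?_⟩
  · rw [Category.assoc, ← pullback.condition, ← mHom_left_fst f g₀ e h w V', ← Category.assoc,
      ← Category.assoc, hzt, h1]
    exact ptHom_w ζ₀ v'
  · apply Subtype.ext
    change (zt ≫ pullback.snd V'.hom h) ≫ e = ξ''.1
    rw [Category.assoc, ← mHom_left_snd f g₀ e h w V', ← Category.assoc, hzt, h2]

end Pts

section Single

variable {Ω : Type u} [Field Ω] [IsAlgClosed Ω] {η : Spec (CommRingCat.of Ω) ⟶ Y}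
  (ζ₀ : Spec (CommRingCat.of Ω) ⟶ V₀s) (hη : ζ₀ ≫ g₀ = η)

/-- The germ of an extension by zero at the transferred point. -/
theorem germ_extZero [EtShriek.JCont e] (ξt : Lifts h ζ₀) {V' : V₀s.Etale} (v' : Fib ζ₀ V')
    (s' : ((EtCoh.push h).obj ((EtShriek.restrAlong e).obj F)).obj.obj (op V'))
    (s : EtCoh.sect F (tgtObj f g₀ V'))
    (hs : F.obj.map (mHom f g₀ e h w V').op s = s') :
    (Scheme.pointSmallEtale (ξt.1 ≫ e)).toPresheafFiber (tgtObj f g₀ V')
        (zbar (liftX f g₀ e h w ζ₀ hη ξt) (trV g₀ ζ₀ hη v')) F.obj s =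
      ShriekStalk.restrStalkMap F (j := e) (ξ := ξt.1 ≫ e) ⟨ξt.1, rfl⟩
        (pushStalkMapL h ((EtShriek.restrAlong e).obj F) ξt
          ((Scheme.pointSmallEtale ζ₀).toPresheafFiber V' v'
            ((EtCoh.push h).obj ((EtShriek.restrAlong e).obj F)).obj s')) := by
  rw [toFiber_pushStalkMapL_apply, ShriekStalk.toFiber_restrStalkMap_apply,
    ← map_mHom_trT f g₀ e h w ζ₀ hη ξt v',
    ← (Scheme.pointSmallEtale (ξt.1 ≫ e)).toPresheafFiber_w_apply (mHom f g₀ e h w V'), hs]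
  rfl

theorem exists_single_of_finite_piece [LocallyOfFiniteType f] [IsFinite h]
    [IsOpenImmersion (cHom f g₀ e h w)] (hc : IsClosed (Set.range (cHom f g₀ e h w)))
    (ξt : Lifts h ζ₀)
    (b : ToType ((Scheme.pointSmallEtale (ξt.1 ≫ e)).presheafFiber.obj F.obj)) :
    ∃ (V₁ : Y.Etale) (v₁ : Fib η V₁) (s : EtCoh.sect F ((EtCoh.bc f).obj V₁)),
      ShriekPred f F V₁ s ∧
      (Scheme.pointSmallEtale (ξt.1 ≫ e)).toPresheafFiber ((EtCoh.bc f).obj V₁)
        (zbar (liftX f g₀ e h w ζ₀ hη ξt) v₁) F.obj s = b ∧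
      ∀ ξ'' : Lifts f η, ξ'' ≠ liftX f g₀ e h w ζ₀ hη ξt →
        (Scheme.pointSmallEtale ξ''.1).toPresheafFiber ((EtCoh.bc f).obj V₁)
          (zbar ξ'' v₁) F.obj s = 0 := by
  classical
  haveI : EtShriek.JCont e := Groth.Agent.Lib.Helper4.EtRestr.jCont e
  let G : EtCoh.Ab A := (EtShriek.restrAlong e).obj F
  obtain ⟨bt, hbt⟩ := ShriekStalk.restrStalkMap_surjective F (j := e) (ξ := ξt.1 ≫ e) ⟨ξt.1, rfl⟩ b
  let σ : ∀ ξ' : Lifts h ζ₀, ToType ((Scheme.pointSmallEtale ξ'.1).presheafFiber.obj G.obj) :=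
    fun ξ' => if hh : ξ' = ξt then hh ▸ bt else 0
  obtain ⟨a, ha⟩ := pushStalkMapL_jointly_surjective h G σ
  obtain ⟨V', v', s', rfl⟩ := (Scheme.pointSmallEtale ζ₀).toPresheafFiber_jointly_surjective
    (P := ((EtCoh.push h).obj G).obj) a
  haveI := isOpenImmersion_mHom f g₀ e h w V'
  have hcl := isClosed_range_mHom f g₀ e h w hc V'
  let s'' : EtCoh.sect F (srcObj e h V') := s'
  obtain ⟨s, hs1, hs2⟩ := exists_extZero F (mHom f g₀ e h w V') hcl s''
  refine ⟨baseObj g₀ V', trV g₀ ζ₀ hη v', s, ?_, ?_, ?_⟩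
  · apply shriekPred_of_supp_subset f F s _ hs2
    haveI : IsClosedImmersion (mHom f g₀ e h w V').left :=
      IsClosedImmersion.of_isPreimmersion _ hcl
    haveI : LocallyOfFiniteType (prV f (baseObj g₀ V')) :=
      inferInstanceAs (LocallyOfFiniteType (pullback.fst (baseObj g₀ V').hom f))
    haveI : IsProper ((mHom f g₀ e h w V').left ≫ prV f (baseObj g₀ V')) := by
      have : (mHom f g₀ e h w V').left ≫ prV f (baseObj g₀ V') = pullback.fst V'.hom h :=
        mHom_left_fst f g₀ e h w V'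
      rw [this]
      infer_instance
    exact Groth.Agent.Lib.Helper88.isProperOver_of_isClosedImmersion (prV f (baseObj g₀ V'))
      (mHom f g₀ e h w V').left
  · rw [germ_extZero f F g₀ e h w ζ₀ hη ξt v' s' s hs1, ha ξt]
    have hσ : σ ξt = bt := by simp only [σ, dif_pos]
    rw [hσ]
    exact hbt
  · intro ξ'' hne
    by_cases hmem : nbhdPt (zbar ξ'' (trV g₀ ζ₀ hη v')) ∈ Set.range (mHom f g₀ e h w V').left
    · obtain ⟨ξt', rfl⟩ := exists_liftX_eq f g₀ e h w ζ₀ hη v' ξ'' hmem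
      have hne' : ξt' ≠ ξt := fun hh => hne (by rw [hh])
      have h1 := germ_extZero f F g₀ e h w ζ₀ hη ξt' v' s' s hs1
      refine h1.trans ?_
      rw [ha ξt']
      have hσ : σ ξt' = 0 := by simp only [σ, dif_neg hne']
      rw [hσ, map_zero]
    · exact germ_eq_zero_of_notMem_sectSupp F _ s (fun hx => hmem (hs2 hx))

end Single

end Transfer

section Main

variable {X Y : Scheme.{u}} (f : X ⟶ Y) [IsSeparated f] [LocallyOfFiniteType f]
  [LocallyQuasiFinite f] (F : EtCoh.Ab X)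
  {Ω : Type u} [Field Ω] [IsAlgClosed Ω] {η : Spec (CommRingCat.of Ω) ⟶ Y}

/-- **Singles.** Every germ at a lift of `η` extends (by zero) to a section with proper support
whose germs at the other lifts vanish. -/
theorem exists_single (ξ : Lifts f η)
    (b : ToType ((Scheme.pointSmallEtale ξ.1).presheafFiber.obj F.obj)) :
    ∃ (V₁ : Y.Etale) (v₁ : Fib η V₁) (s : EtCoh.sect F ((EtCoh.bc f).obj V₁)),
      ShriekPred f F V₁ s ∧
      (Scheme.pointSmallEtale ξ.1).toPresheafFiber ((EtCoh.bc f).obj V₁)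
        (zbar ξ v₁) F.obj s = b ∧
      ∀ ξ'' : Lifts f η, ξ'' ≠ ξ →
        (Scheme.pointSmallEtale ξ''.1).toPresheafFiber ((EtCoh.bc f).obj V₁)
          (zbar ξ'' v₁) F.obj s = 0 := by
  let x : X := ξ.1 (closedPoint Ω)
  obtain ⟨V₀s, g₀, hg₀, -, A, B, a, hAB, hfin, ha⟩ :=
    exists_etale_isCompl_of_quasiFiniteAt f (x := x) rfl (f.quasiFiniteAt x)
  let q : pullback f g₀ ⟶ X := pullback.fst f g₀
  have hdef : (default : ↥(Spec (CommRingCat.of Ω))) = closedPoint Ω :=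
    @Subsingleton.elim _ (inferInstanceAs (Subsingleton (PrimeSpectrum Ω))) _ _
  obtain ⟨l, hl₁, hl₂⟩ := Scheme.exists_fac_of_etale_of_isSepClosed q ξ.1 a.1 (by
    rw [hdef]
    exact ha)
  let e : (A : Scheme.{u}) ⟶ X := A.ι ≫ q
  let h : (A : Scheme.{u}) ⟶ V₀s := A.ι ≫ pullback.snd f g₀
  haveI : IsFinite h := hfin
  have w : e ≫ f = h ≫ g₀ := by
    change (A.ι ≫ q) ≫ f = (A.ι ≫ pullback.snd f g₀) ≫ g₀
    rw [Category.assoc, Category.assoc, pullback.condition]
  have hce : cHom f g₀ e h w = A.ι ≫ (pullbackSymmetry f g₀).hom := by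
    apply pullback.hom_ext
    · rw [Category.assoc, pullbackSymmetry_hom_comp_fst]
      exact pullback.lift_fst _ _ _
    · rw [Category.assoc, pullbackSymmetry_hom_comp_snd]
      exact pullback.lift_snd _ _ _
  haveI : IsOpenImmersion (cHom f g₀ e h w) := by
    rw [hce]
    infer_instance
  have hAcl : IsClosed (A : Set ↥(pullback f g₀)) := by
    have hVW' : (B : Set ↥(pullback f g₀)) = (↑A)ᶜ :=
      eq_compl_iff_isCompl.mpr (hAB.map TopologicalSpace.Opens.frameHom).symm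
    have : (A : Set ↥(pullback f g₀)) = (↑B)ᶜ := by rw [hVW', compl_compl]
    rw [this]
    exact B.2.isClosed_compl
  have hc : IsClosed (Set.range (cHom f g₀ e h w)) := by
    rw [hce, Scheme.Hom.comp_base, TopCat.coe_comp, Set.range_comp, Scheme.Opens.range_ι]
    exact (pullbackSymmetry f g₀).hom.homeomorph.isClosedMap _ hAcl
  have hlr : Set.range l ⊆ Set.range A.ι := by
    rintro _ ⟨t, rfl⟩
    rw [Scheme.Opens.range_ι]
    have ht : t = default := Subsingleton.elim _ _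
    rw [ht, hl₂]
    exact a.2
  let ξt₀ : Spec (CommRingCat.of Ω) ⟶ (A : Scheme.{u}) := IsOpenImmersion.lift A.ι l hlr
  have hξt₀ : ξt₀ ≫ A.ι = l := IsOpenImmersion.lift_fac _ _ _
  let ζ₀ : Spec (CommRingCat.of Ω) ⟶ V₀s := ξt₀ ≫ h
  have hη : ζ₀ ≫ g₀ = η := by
    change (ξt₀ ≫ A.ι ≫ pullback.snd f g₀) ≫ g₀ = η
    rw [← Category.assoc, hξt₀, Category.assoc, ← pullback.condition, ← Category.assoc, hl₁]
    exact ξ.2
  let ξt : Lifts h ζ₀ := ⟨ξt₀, rfl⟩
  have hξ : liftX f g₀ e h w ζ₀ hη ξt = ξ := by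
    apply Subtype.ext
    change ξt₀ ≫ A.ι ≫ q = ξ.1
    rw [← Category.assoc, hξt₀, hl₁]
  have key : ∀ (ξ' : Lifts f η) (_ : liftX f g₀ e h w ζ₀ hη ξt = ξ')
      (b' : ToType ((Scheme.pointSmallEtale ξ'.1).presheafFiber.obj F.obj)),
      ∃ (V₁ : Y.Etale) (v₁ : Fib η V₁) (s : EtCoh.sect F ((EtCoh.bc f).obj V₁)),
      ShriekPred f F V₁ s ∧
      (Scheme.pointSmallEtale ξ'.1).toPresheafFiber ((EtCoh.bc f).obj V₁)
        (zbar ξ' v₁) F.obj s = b' ∧
      ∀ ξ'' : Lifts f η, ξ'' ≠ ξ' →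
        (Scheme.pointSmallEtale ξ''.1).toPresheafFiber ((EtCoh.bc f).obj V₁)
          (zbar ξ'' v₁) F.obj s = 0 := by
    rintro _ rfl b'
    exact exists_single_of_finite_piece f F g₀ e h w ζ₀ hη hc ξt b'
  exact key ξ hξ b

end Main

end Groth.Agent.Lib.Helper3.ShriekLqf
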