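import Groth.Agent.Lib.Helper3.ShriekComp

/-!
# The composition isomorphism for `f_!` is the unique one compatible with `f_*` (helper3)
-/

set_option autoImplicit false
set_option backward.isDefEq.respectTransparency false
set_option linter.unusedSectionVars false
set_option linter.style.haveILetI false

universe u

open CategoryTheory CategoryTheory.Limits AlgebraicGeometry Opposite

namespace Groth.Agent.Lib.Helper3.ShriekCompUniq

open EtShriek Groth.Agent.Lib.Helper3.ShriekBasic Groth.Agent.Lib.Helper3.ShriekSheaf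
  Groth.Agent.Lib.Helper3.ShriekComp

section Mono

variable {Y Z : Scheme.{u}} (g : Y ⟶ Z)

lemma mono_lowerShriek_map {G G' : EtCoh.Ab Y} (α : G ⟶ G')
    (hα : ∀ V, Function.Injective (α.hom.app V)) : Mono ((EtShriek.lowerShriek g).map α) := by
  haveI : ∀ W, Mono (((lowerShriekPreFunctor g).map α).app W) := by
    intro W
    rw [AddCommGrpCat.mono_iff_injective]
    intro a b hab
    apply Subtype.ext
    apply hα
    exact congrArg Subtype.val hab
  haveI : Mono ((lowerShriekPreFunctor g).map α) := NatTrans.mono_of_mono_app _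
  exact inferInstanceAs (Mono ((presheafToSheaf Z.smallEtaleTopology AddCommGrpCat.{u + 1}).map
    ((lowerShriekPreFunctor g).map α)))

end Mono

section Chain

lemma chain {C : Type*} [Category C] {A₁ A₂ A₃ B₁ B₂ B₃ D E : C} (t₁ : A₁ ⟶ B₁) (a : B₁ ⟶ B₂)
    (b : B₂ ⟶ B₃) (c : B₃ ⟶ D) (d : B₁ ⟶ E) (e : E ⟶ D) (ψ : A₁ ⟶ A₂) (t₂ : A₂ ⟶ B₂)
    (β : A₂ ⟶ A₃) (t₃ : A₃ ⟶ B₃) (ι₃ : A₃ ⟶ D) (ι₁ : A₁ ⟶ E)
    (e1 : t₁ ≫ a = ψ ≫ t₂) (e2 : t₂ ≫ b = β ≫ t₃) (e3 : t₃ ≫ c = ι₃) (e4 : t₁ ≫ d = ι₁)
    (fin : ψ ≫ β ≫ ι₃ = ι₁ ≫ e) : t₁ ≫ (a ≫ b ≫ c) = t₁ ≫ (d ≫ e) := by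
  rw [← Category.assoc, e1, Category.assoc, ← Category.assoc t₂, e2, Category.assoc, e3,
    ← Category.assoc t₁, e4]
  exact fin

end Chain

section Compat

variable {X Y Z : Scheme.{u}} (h : X ⟶ Y) (g : Y ⟶ Z) [IsSeparated h] [LocallyOfFiniteType h]
  [IsSeparated g] [LocallyOfFiniteType g]

lemma compIso_hom_app (F : EtCoh.Ab X) :
    (compIso h g).hom.app F =
      (presheafToSheaf Z.smallEtaleTopology AddCommGrpCat.{u + 1}).map (psi h g F) := by
  unfold compIso
  rw [Iso.trans_hom, NatTrans.comp_app, Functor.associator_hom_app, Category.comp_id]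
  rfl

lemma pushComp_inv_app (F : EtCoh.Ab X) (W : Z.Etale)
    (s₀ : EtCoh.sect F ((EtCoh.bc (h ≫ g)).obj W)) :
    ((EtCoh.pushComp g h).inv.app F).hom.app (op W) s₀ =
      F.obj.map ((kap h g).inv.app W).op s₀ := by
  rfl

/-- presheaf-level compatibility -/
lemma psi_compat (F : EtCoh.Ab X) :
    psi h g F ≫ (lowerShriekPreFunctor g).map (EtShriek.lowerShriekToPush h F) ≫
        lowerShriekPreι g ((EtCoh.push h).obj F) =
      lowerShriekPreι (h ≫ g) F ≫ ((EtCoh.pushComp g h).inv.app F).hom := by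
  ext W : 2
  induction W using Opposite.rec with | op W => ?_
  refine AddCommGrpCat.hom_ext (AddMonoidHom.ext fun s₀ => ?_)
  change (EtShriek.lowerShriekToPush h F).hom.app (op ((EtCoh.bc g).obj W))
      (secIso h F _ (alpha h g F W s₀)) =
    ((EtCoh.pushComp g h).inv.app F).hom.app (op W) s₀.1
  rw [toPush_secIso, pushComp_inv_app]
  rfl

theorem compIso_compat (F : EtCoh.Ab X) :
    (compIso h g).hom.app F ≫ (EtShriek.lowerShriek g).map (EtShriek.lowerShriekToPush h F) ≫
        EtShriek.lowerShriekToPush g ((EtCoh.push h).obj F) =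
      EtShriek.lowerShriekToPush (h ≫ g) F ≫ (EtCoh.pushComp g h).inv.app F := by
  rw [compIso_hom_app]
  apply Sheaf.hom_ext
  apply sheafify_hom_ext Z.smallEtaleTopology _ _
    ((EtCoh.push g).obj ((EtCoh.push h).obj F)).property
  have e1 : toSheafify Z.smallEtaleTopology (lowerShriekPre (h ≫ g) F) ≫
      ((presheafToSheaf Z.smallEtaleTopology AddCommGrpCat.{u + 1}).map (psi h g F)).hom =
      psi h g F ≫ toSheafify Z.smallEtaleTopology _ :=
    (toSheafify_naturality Z.smallEtaleTopology (psi h g F)).symm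
  have e2 : toSheafify Z.smallEtaleTopology
        (lowerShriekPre g ((EtShriek.lowerShriek h).obj F)) ≫
      ((EtShriek.lowerShriek g).map (EtShriek.lowerShriekToPush h F)).hom =
      (lowerShriekPreFunctor g).map (EtShriek.lowerShriekToPush h F) ≫
        toSheafify Z.smallEtaleTopology _ :=
    (toSheafify_naturality Z.smallEtaleTopology
      ((lowerShriekPreFunctor g).map (EtShriek.lowerShriekToPush h F))).symm
  have e3 := toSheafify_toPush g ((EtCoh.push h).obj F)
  have e4 := toSheafify_toPush (h ≫ g) F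
  exact chain _ _ _ _ _ _ _ _ _ _ _ _ e1 e2 e3 e4 (psi_compat h g F)

theorem existsUnique_compIso :
    ∃! φ : EtShriek.lowerShriek (h ≫ g) ≅ EtShriek.lowerShriek h ⋙ EtShriek.lowerShriek g,
      ∀ F : EtCoh.Ab X,
        φ.hom.app F ≫ (EtShriek.lowerShriek g).map (EtShriek.lowerShriekToPush h F) ≫
            EtShriek.lowerShriekToPush g ((EtCoh.push h).obj F) =
          EtShriek.lowerShriekToPush (h ≫ g) F ≫ (EtCoh.pushComp g h).inv.app F := by
  refine ⟨compIso h g, compIso_compat h g, ?_⟩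
  intro φ hφ
  apply Iso.ext
  apply NatTrans.ext
  funext F
  haveI : Mono ((EtShriek.lowerShriek g).map (EtShriek.lowerShriekToPush h F)) :=
    mono_lowerShriek_map g (EtShriek.lowerShriekToPush h F)
      (fun V => toPush_app_injective h F V.unop)
  haveI : Mono ((EtShriek.lowerShriek g).map (EtShriek.lowerShriekToPush h F) ≫
      EtShriek.lowerShriekToPush g ((EtCoh.push h).obj F)) := mono_comp _ _
  rw [← cancel_mono ((EtShriek.lowerShriek g).map (EtShriek.lowerShriekToPush h F) ≫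
      EtShriek.lowerShriekToPush g ((EtCoh.push h).obj F))]
  exact (hφ F).trans (compIso_compat h g F).symm

end Compat

end Groth.Agent.Lib.Helper3.ShriekCompUniq
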