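import Groth.Agent.Lib.Helper3.ShriekComp
import Groth.Agent.Lib.Helper74.CechColim.Main
import Mathlib.CategoryTheory.Preadditive.LiftToFinset

/-!
# `f_!` commutes with direct sums (helper3)
-/

set_option autoImplicit false
set_option backward.isDefEq.respectTransparency false
set_option linter.unusedSectionVars false
set_option linter.style.haveILetI false

universe u

open CategoryTheory CategoryTheory.Limits AlgebraicGeometry Opposite

namespace Groth.Agent.Lib.Helper3.ShriekCoprod

open EtShriek Groth.Agent.Lib.Helper3.ShriekBasic Groth.Agent.Lib.Helper3.ShriekSheaf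
  Groth.Agent.Lib.Helper3.ShriekComp

section FiniteSum

variable {X : Scheme.{u}} {ι : Type u} (Fam : ι → EtCoh.Ab X)

/-- the sections functor -/
noncomputable abbrev Γ (W : X.Etale) : EtCoh.Ab X ⥤ AddCommGrpCat.{u + 1} :=
  sheafToPresheaf X.smallEtaleTopology AddCommGrpCat.{u + 1} ⋙
    (evaluation X.Etaleᵒᵖ AddCommGrpCat.{u + 1}).obj (op W)

/-- Over a quasi-compact quasi-separated étale `X`-scheme every section of a direct sum of abelian
sheaves is a finite sum of sections of the summands. -/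
theorem exists_finite_sum (W : X.Etale) [CompactSpace W.left] [QuasiSeparatedSpace W.left]
    (x : EtCoh.sect (∐ Fam) W) :
    ∃ (S : Finset (Discrete ι)) (y : ∀ a : S, EtCoh.sect (Fam a.1.as) W),
      x = ∑ a ∈ S.attach, (Sigma.ι Fam a.1.as).hom.app (op W) (y a) := by
  classical
  let J := Finset (Discrete ι)
  let e : J ≌ AsSmall.{u + 1} J := AsSmall.equiv
  haveI : IsFiltered (AsSmall.{u + 1} J) := IsFiltered.of_equivalence e
  haveI : PreservesColimitsOfShape (AsSmall.{u + 1} J) (Γ W) :=
    Groth.Agent.Lib.Helper74.CechColim.preservesColimitsOfShape_sections_ab W inferInstance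
      inferInstance (AsSmall.{u + 1} J)
  haveI : PreservesColimitsOfShape J (Γ W) := preservesColimitsOfShape_of_equiv e.symm (Γ W)
  have hc := isColimitOfPreserves (Γ W)
    (CoproductsFromFiniteFiltered.isColimitFiniteSubproductsCocone Fam)
  obtain ⟨S, y, hy⟩ := Concrete.isColimit_exists_rep _ hc x
  refine ⟨S, fun a => (Sigma.π (fun b : S => Fam b.1.as) a).hom.app (op W) y, ?_⟩
  rw [← hy]
  change ((CoproductsFromFiniteFiltered.finiteSubcoproductsCocone Fam).ι.app S).hom.app (op W) y = _
  rw [CoproductsFromFiniteFiltered.finiteSubcoproductsCocone_ι_app_eq_sum]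
  have hsum : ∀ (T : Finset S) (φ : S → ((∐ fun b : S => Fam b.1.as) ⟶ ∐ Fam)),
      (∑ a ∈ T, φ a).hom.app (op W) y = ∑ a ∈ T, (φ a).hom.app (op W) y := by
    intro T φ
    induction T using Finset.induction_on with
    | empty => simp
    | insert a T ha ih =>
      rw [Finset.sum_insert ha, Finset.sum_insert ha, ← ih]
      rfl
  exact (hsum S.attach (fun a => Sigma.π (fun b : S => Fam b.1.as) a ≫ Sigma.ι Fam a.1.as)).trans rfl

end FiniteSum



section Proj

variable {X : Scheme.{u}} {ι : Type u} [DecidableEq ι] (Fam : ι → EtCoh.Ab X)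

lemma sum_hom_app {F G : EtCoh.Ab X} {κ : Type*} (T : Finset κ) (φ : κ → (F ⟶ G)) (W : X.Etale)
    (x : EtCoh.sect F W) :
    (∑ a ∈ T, φ a).hom.app (op W) x = ∑ a ∈ T, (φ a).hom.app (op W) x := by
  classical
  induction T using Finset.induction_on with
  | empty =>
    rw [Finset.sum_empty, Finset.sum_empty]
    rfl
  | insert a T ha ih =>
    rw [Finset.sum_insert ha, Finset.sum_insert ha, ← ih]
    rfl

/-- the idempotent `∑_{j ∈ S} π_j ≫ ι_j` -/
noncomputable def projS (S : Finset ι) : (∐ Fam) ⟶ ∐ Fam :=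
  ∑ j ∈ S, Sigma.π Fam j ≫ Sigma.ι Fam j

lemma ι_projS (S : Finset ι) {i : ι} (hi : i ∈ S) : Sigma.ι Fam i ≫ projS Fam S = Sigma.ι Fam i := by
  unfold projS
  rw [Preadditive.comp_sum, Finset.sum_eq_single i]
  · rw [Sigma.ι_π_eq_id_assoc]
  · intro j _ hj
    rw [Sigma.ι_π_of_ne_assoc _ (Ne.symm hj), zero_comp]
  · intro h
    exact absurd hi h

lemma projS_apply (S : Finset ι) (W : X.Etale) (x : EtCoh.sect (∐ Fam) W) :
    (projS Fam S).hom.app (op W) x =
      ∑ j ∈ S, (Sigma.ι Fam j).hom.app (op W) ((Sigma.π Fam j).hom.app (op W) x) := by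
  unfold projS
  rw [sum_hom_app]
  rfl

/-- Over a quasi-compact quasi-separated étale `X`-scheme every section of a direct sum is the sum
of finitely many of its components. -/
theorem exists_finset_sum (W : X.Etale) [CompactSpace W.left] [QuasiSeparatedSpace W.left]
    (x : EtCoh.sect (∐ Fam) W) :
    ∃ S : Finset ι, x =
      ∑ j ∈ S, (Sigma.ι Fam j).hom.app (op W) ((Sigma.π Fam j).hom.app (op W) x) := by
  obtain ⟨S', y, hy⟩ := exists_finite_sum Fam W x
  refine ⟨S'.image Discrete.as, ?_⟩
  rw [← projS_apply]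
  have h1 : ∀ a : S', (projS Fam (S'.image Discrete.as)).hom.app (op W)
      ((Sigma.ι Fam a.1.as).hom.app (op W) (y a)) = (Sigma.ι Fam a.1.as).hom.app (op W) (y a) := by
    intro a
    have hmem : a.1.as ∈ S'.image Discrete.as := Finset.mem_image_of_mem _ a.2
    have := ι_projS Fam (S'.image Discrete.as) hmem
    exact congrArg (fun m : Fam a.1.as ⟶ ∐ Fam => m.hom.app (op W) (y a)) this
  conv_lhs => rw [hy]
  conv_rhs => rw [hy]
  rw [map_sum]
  exact (Finset.sum_congr rfl (fun a _ => h1 a)).symm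

/-- components of a finite sum -/
lemma π_sum_ι (S : Finset ι) (W : X.Etale) (w : ∀ i, EtCoh.sect (Fam i) W) {k : ι} (hk : k ∈ S) :
    (Sigma.π Fam k).hom.app (op W) (∑ i ∈ S, (Sigma.ι Fam i).hom.app (op W) (w i)) = w k := by
  rw [map_sum, Finset.sum_eq_single k]
  · have := Sigma.ι_π_eq_id Fam k
    exact congrArg (fun m : Fam k ⟶ Fam k => m.hom.app (op W) (w k)) this
  · intro i _ hik
    have := Sigma.ι_π_of_ne Fam hik
    exact congrArg (fun m : Fam i ⟶ Fam k => m.hom.app (op W) (w i)) this
  · intro h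
    exact absurd hk h

end Proj

section Supp

variable {X : Scheme.{u}} (F : EtCoh.Ab X)

theorem sectSupp_sum_subset {κ : Type*} (T : Finset κ) (U : X.Etale) (s : κ → EtCoh.sect F U)
    (Z : Set U.left) (h : ∀ a ∈ T, sectSupp F U (s a) ⊆ Z) :
    sectSupp F U (∑ a ∈ T, s a) ⊆ Z := by
  classical
  induction T using Finset.induction_on with
  | empty =>
    rw [Finset.sum_empty, sectSupp_zero]
    exact Set.empty_subset _
  | insert a T ha ih =>
    rw [Finset.sum_insert ha]
    refine (sectSupp_add_subset F U _ _).trans (Set.union_subset ?_ ?_)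
    · exact h a (Finset.mem_insert_self a T)
    · exact ih (fun b hb => h b (Finset.mem_insert_of_mem hb))

theorem sectSupp_sub_subset (U : X.Etale) (s t : EtCoh.sect F U) :
    sectSupp F U (s - t) ⊆ sectSupp F U s ∪ sectSupp F U t := by
  rw [sub_eq_add_neg]
  refine (sectSupp_add_subset F U _ _).trans ?_
  rw [sectSupp_neg]

/-- a section whose support lies in an open on which it vanishes is zero -/
theorem eq_zero_of_supp_subset_of_restrict_eq_zero {U W : X.Etale} (m : W ⟶ U) (d : EtCoh.sect F U)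
    (hsub : sectSupp F U d ⊆ Set.range m.left.base) (hres : F.obj.map m.op d = 0) : d = 0 := by
  apply eq_zero_of_sectSupp_eq_empty
  rw [Set.eq_empty_iff_forall_notMem]
  intro x hx
  obtain ⟨w, rfl⟩ := hsub hx
  have h1 : w ∈ m.left.base ⁻¹' sectSupp F U d := hx
  rw [← sectSupp_map, hres, sectSupp_zero] at h1
  exact h1

end Supp

section Nat

variable {X Y : Scheme.{u}} (f : X ⟶ Y) [LocallyOfFiniteType f]

lemma map_secIso {F G : EtCoh.Ab X} (α : F ⟶ G) (V : Y.Etale) (t : shriekSubgroup f F V) :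
    ((EtShriek.lowerShriek f).map α).hom.app (op V) (secIso f F V t) =
      secIso f G V (((lowerShriekPreFunctor f).map α).app (op V) t) := by
  have h2 := congrArg (fun t => t.app (op V))
    (toSheafify_naturality Y.smallEtaleTopology ((lowerShriekPreFunctor f).map α))
  exact (congrArg (fun m => m.hom t) h2).symm

/-- `f_! F → f_* F` is natural in `F`, on sections -/
lemma toPush_map_apply {F G : EtCoh.Ab X} (α : F ⟶ G) (V : Y.Etale)
    (a : EtCoh.sect ((EtShriek.lowerShriek f).obj F) V) :
    (EtShriek.lowerShriekToPush f G).hom.app (op V)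
      (((EtShriek.lowerShriek f).map α).hom.app (op V) a) =
    α.hom.app (op ((EtCoh.bc f).obj V)) ((EtShriek.lowerShriekToPush f F).hom.app (op V) a) := by
  obtain ⟨t, rfl⟩ := (secIso f F V).surjective a
  rw [map_secIso, toPush_secIso, toPush_secIso]
  rfl

end Nat

section Geom

/-- a closed subset proper over a quasi-compact base lies in a quasi-compact open -/
theorem exists_compact_open {T V : Scheme.{u}} (g : T ⟶ V) [CompactSpace V] (Z : Set T)
    (hZ : ClSub.IsProperOver g Z) :
    ∃ U : T.Opens, IsCompact (U : Set T) ∧ Z ⊆ U := by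
  obtain ⟨hcl, hpr⟩ := hZ
  let I := Scheme.IdealSheafData.vanishingIdeal (⟨Z, hcl⟩ : TopologicalSpace.Closeds T)
  haveI : IsProper (I.subschemeι ≫ g) := hpr
  haveI : CompactSpace I.subscheme :=
    QuasiCompact.compactSpace_of_compactSpace (I.subschemeι ≫ g)
  have hr : Set.range I.subschemeι.base = Z := by
    rw [Scheme.IdealSheafData.range_subschemeι, Scheme.IdealSheafData.coe_support_vanishingIdeal]
    rfl
  have hZc : IsCompact Z := by
    rw [← hr]
    exact isCompact_range I.subschemeι.continuous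
  have hb : ∀ t : T, ∃ O : T.Opens, IsAffineOpen O ∧ t ∈ O := by
    intro t
    obtain ⟨_, ⟨O, hO, rfl⟩, ht, -⟩ :=
      (T.isBasis_affineOpens).exists_subset_of_mem_open (Set.mem_univ t) isOpen_univ
    exact ⟨O, hO, ht⟩
  choose O hO hmem using hb
  obtain ⟨s, -, hs⟩ := hZc.elim_nhds_subcover (fun t => (O t : Set T))
    (fun t _ => (O t).isOpen.mem_nhds (hmem t))
  refine ⟨⨆ t ∈ s, O t, ?_, ?_⟩
  · have : ((⨆ t ∈ s, O t : T.Opens) : Set T) = ⋃ t ∈ s, (O t : Set T) := by
      simp
    rw [this]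
    exact s.isCompact_biUnion (fun t _ => (hO t).isCompact)
  · intro z hz
    have := hs hz
    simpa using this

end Geom


section Main

variable {X Y : Scheme.{u}} (f : X ⟶ Y) [IsSeparated f] [LocallyOfFiniteType f]
  {ι : Type u} [DecidableEq ι] (Fam : ι → EtCoh.Ab X)

/-- the comparison morphism `⨁ f_! F_i ⟶ f_! (⨁ F_i)` -/
noncomputable abbrev cmp : (∐ fun i => (EtShriek.lowerShriek f).obj (Fam i)) ⟶
    (EtShriek.lowerShriek f).obj (∐ Fam) :=
  sigmaComparison (EtShriek.lowerShriek f) Fam

lemma cmp_ι_apply (V : Y.Etale) (i : ι) (a : EtCoh.sect ((EtShriek.lowerShriek f).obj (Fam i)) V) :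
    (cmp f Fam).hom.app (op V)
      ((Sigma.ι (fun i => (EtShriek.lowerShriek f).obj (Fam i)) i).hom.app (op V) a) =
    ((EtShriek.lowerShriek f).map (Sigma.ι Fam i)).hom.app (op V) a := by
  have := ι_comp_sigmaComparison (EtShriek.lowerShriek f) Fam i
  exact congrArg (fun m : (EtShriek.lowerShriek f).obj (Fam i) ⟶ _ => m.hom.app (op V) a) this

/-- `toPush ∘ cmp ∘ ι_i = ι_i ∘ toPush` on sections -/
lemma toPush_cmp_ι (V : Y.Etale) (i : ι) (a : EtCoh.sect ((EtShriek.lowerShriek f).obj (Fam i)) V) :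
    (EtShriek.lowerShriekToPush f (∐ Fam)).hom.app (op V) ((cmp f Fam).hom.app (op V)
      ((Sigma.ι (fun i => (EtShriek.lowerShriek f).obj (Fam i)) i).hom.app (op V) a)) =
    (Sigma.ι Fam i).hom.app (op ((EtCoh.bc f).obj V))
      ((EtShriek.lowerShriekToPush f (Fam i)).hom.app (op V) a) := by
  rw [cmp_ι_apply, toPush_map_apply]

theorem cmp_surjective_of_qcqs (V : Y.Etale) [CompactSpace V.left] [QuasiSeparatedSpace V.left]
    (s : EtCoh.sect ((EtShriek.lowerShriek f).obj (∐ Fam)) V) :
    ∃ x : EtCoh.sect (∐ fun i => (EtShriek.lowerShriek f).obj (Fam i)) V,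
      (cmp f Fam).hom.app (op V) x = s := by
  obtain ⟨t0, rfl⟩ := (secIso f (∐ Fam) V).surjective s
  let XV : X.Etale := (EtCoh.bc f).obj V
  let t : EtCoh.sect (∐ Fam) XV := t0.1
  have hprop : ClSub.IsProperOver (prV f V) (sectSupp (∐ Fam) XV t) :=
    (mem_shriekSubgroup_iff' f (∐ Fam) t).1 t0.2
  obtain ⟨U, hUc, hZU⟩ := exists_compact_open (prV f V) _ hprop
  let U' : X.Etale := Scheme.Etale.mk (U.ι ≫ XV.hom)
  let m : U' ⟶ XV := MorphismProperty.Over.homMk U.ι rfl
  haveI : CompactSpace U'.left := isCompact_iff_compactSpace.1 hUc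
  haveI : IsSeparated (prV f V) := inferInstanceAs (IsSeparated (pullback.fst V.hom f))
  haveI : QuasiSeparatedSpace XV.left := quasiSeparatedSpace_of_quasiSeparated (prV f V)
  haveI : QuasiSeparatedSpace U'.left := U.ι.isOpenEmbedding.quasiSeparatedSpace
  obtain ⟨S, hS⟩ := exists_finset_sum Fam U' ((∐ Fam).obj.map m.op t)
  let ta : ∀ i, EtCoh.sect (Fam i) XV := fun i => (Sigma.π Fam i).hom.app (op XV) t
  have hd : t = ∑ i ∈ S, (Sigma.ι Fam i).hom.app (op XV) (ta i) := by
    rw [← sub_eq_zero]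
    apply eq_zero_of_supp_subset_of_restrict_eq_zero (∐ Fam) m
    · refine (sectSupp_sub_subset (∐ Fam) XV _ _).trans ?_
      have hrange : Set.range m.left.base = (U : Set XV.left) := Scheme.Opens.range_ι U
      rw [hrange]
      refine Set.union_subset hZU ?_
      refine (sectSupp_sum_subset (∐ Fam) S XV _ _ (fun i _ => ?_)).trans hZU
      exact (sectSupp_map_subset (Sigma.ι Fam i) XV _).trans
        (sectSupp_map_subset (Sigma.π Fam i) XV t)
    · rw [map_sub, sub_eq_zero, map_sum]
      conv_lhs => rw [hS]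
      refine Finset.sum_congr rfl (fun i _ => ?_)
      have n1 := NatTrans.naturality_apply (Sigma.ι Fam i).hom m.op (ta i)
      have n2 := NatTrans.naturality_apply (Sigma.π Fam i).hom m.op t
      rw [← n1, n2]
  have hta : ∀ i, ta i ∈ shriekSubgroup f (Fam i) V := by
    intro i
    rw [mem_shriekSubgroup_iff']
    exact Groth.Agent.Lib.Helper49.ProperSupport.isProperOver_of_subset _ hprop
      (isClosed_sectSupp (Fam i) _ (ta i)) (sectSupp_map_subset (Sigma.π Fam i) XV t)
  let sa : ∀ i, EtCoh.sect ((EtShriek.lowerShriek f).obj (Fam i)) V :=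
    fun i => secIso f (Fam i) V ⟨ta i, hta i⟩
  refine ⟨∑ i ∈ S, (Sigma.ι (fun i => (EtShriek.lowerShriek f).obj (Fam i)) i).hom.app (op V) (sa i),
    ?_⟩
  apply toPush_app_injective f (∐ Fam) V
  rw [map_sum, map_sum, toPush_secIso]
  change _ = t
  rw [hd]
  refine Finset.sum_congr rfl (fun i _ => ?_)
  rw [toPush_cmp_ι, toPush_secIso]

end Main


section Affines

variable {Y : Scheme.{u}}

lemma exists_affine_nbhd (U : Y.Etale) (z : U.left) :
    ∃ (V : Y.Etale) (g : V ⟶ U) (y : V.left), IsAffine V.left ∧ g.left.base y = z := by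
  obtain ⟨V, g, y, ⟨-, hA⟩, hy⟩ :=
    Groth.Agent.Lib.Helper3.EtFilteredSections.exists_affine_mem U ⊤
      (GrothendieckTopology.top_mem _ _) z
  exact ⟨V, g, y, hA, hy⟩

theorem mono_of_injective_on_affines {A B : EtCoh.Ab Y} (φ : A ⟶ B)
    (h : ∀ V : Y.Etale, IsAffine V.left → Function.Injective (φ.hom.app (op V))) : Mono φ := by
  haveI : ∀ V, Mono (φ.hom.app V) := by
    intro V
    rw [AddCommGrpCat.mono_iff_injective]
    rw [injective_iff_map_eq_zero]
    intro a ha
    apply eq_zero_of_sectSupp_eq_empty A V.unop a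
    rw [Set.eq_empty_iff_forall_notMem]
    intro x hx
    obtain ⟨W, g, y, hA, hy⟩ := exists_affine_nbhd V.unop x
    apply hx W g ⟨y, hy⟩
    apply h W hA
    rw [map_zero]
    have n := NatTrans.naturality_apply φ.hom g.op a
    refine n.trans ?_
    change B.obj.map g.op (φ.hom.app V a) = 0
    rw [ha, map_zero]
  haveI : Mono φ.hom := NatTrans.mono_of_mono_app _
  exact (sheafToPresheaf _ _).mono_of_mono_map (inferInstanceAs (Mono φ.hom))

theorem epi_of_surjective_on_affines {A B : EtCoh.Ab Y} (φ : A ⟶ B)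
    (h : ∀ V : Y.Etale, IsAffine V.left → Function.Surjective (φ.hom.app (op V))) : Epi φ := by
  haveI : Sheaf.IsLocallySurjective φ := by
    constructor
    intro U s
    rw [Groth.Agent.Lib.Helper43.EtOpenSub.mem_smallEtaleTopology_iff']
    intro x
    obtain ⟨W, g, y, hA, hy⟩ := exists_affine_nbhd U x
    obtain ⟨t, ht⟩ := h W hA (B.obj.map g.op s)
    exact ⟨W, g, y, ⟨t, ht⟩, hy⟩
  exact Sheaf.epi_of_isLocallySurjective φ

end Affines

section Final

variable {X Y : Scheme.{u}} (f : X ⟶ Y) [IsSeparated f] [LocallyOfFiniteType f]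
  {ι : Type u} [DecidableEq ι] (Fam : ι → EtCoh.Ab X)

theorem cmp_injective_of_qcqs (V : Y.Etale) [CompactSpace V.left] [QuasiSeparatedSpace V.left] :
    Function.Injective ((cmp f Fam).hom.app (op V)) := by
  rw [injective_iff_map_eq_zero]
  intro x hx
  obtain ⟨S, hS⟩ := exists_finset_sum (fun i => (EtShriek.lowerShriek f).obj (Fam i)) V x
  rw [hS]
  refine Finset.sum_eq_zero (fun k hk => ?_)
  have hz : (Sigma.π (fun i => (EtShriek.lowerShriek f).obj (Fam i)) k).hom.app (op V) x = 0 := by
    apply toPush_app_injective f (Fam k) V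
    rw [map_zero]
    have h1 := congrArg ((EtShriek.lowerShriekToPush f (∐ Fam)).hom.app (op V)) hx
    rw [map_zero] at h1
    conv_lhs at h1 => rw [hS]
    rw [map_sum, map_sum] at h1
    have h2 : ∀ i ∈ S, (EtShriek.lowerShriekToPush f (∐ Fam)).hom.app (op V)
        ((cmp f Fam).hom.app (op V)
          ((Sigma.ι (fun i => (EtShriek.lowerShriek f).obj (Fam i)) i).hom.app (op V)
            ((Sigma.π (fun i => (EtShriek.lowerShriek f).obj (Fam i)) i).hom.app (op V) x))) =
        (Sigma.ι Fam i).hom.app (op ((EtCoh.bc f).obj V))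
          ((EtShriek.lowerShriekToPush f (Fam i)).hom.app (op V)
            ((Sigma.π (fun i => (EtShriek.lowerShriek f).obj (Fam i)) i).hom.app (op V) x)) :=
      fun i _ => toPush_cmp_ι f Fam V i _
    rw [Finset.sum_congr rfl h2] at h1
    have h3 := congrArg ((Sigma.π Fam k).hom.app (op ((EtCoh.bc f).obj V))) h1
    rw [π_sum_ι Fam S ((EtCoh.bc f).obj V)
      (fun i => (EtShriek.lowerShriekToPush f (Fam i)).hom.app (op V)
        ((Sigma.π (fun i => (EtShriek.lowerShriek f).obj (Fam i)) i).hom.app (op V) x)) hk,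
      map_zero] at h3
    exact h3
  rw [hz, map_zero]

instance isIso_cmp : IsIso (cmp f Fam) := by
  haveI : Mono (cmp f Fam) := mono_of_injective_on_affines _ (fun V hV => by
    haveI : IsAffine V.left := hV
    exact cmp_injective_of_qcqs f Fam V)
  haveI : Epi (cmp f Fam) := epi_of_surjective_on_affines _ (fun V hV s => by
    haveI : IsAffine V.left := hV
    exact cmp_surjective_of_qcqs f Fam V s)
  exact isIso_of_mono_of_epi _

end Final

/-- **`f_!` commutes with direct sums**, for `f` separated and locally of finite type. -/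
theorem preservesCoproducts_lowerShriek {X Y : Scheme.{u}} (f : X ⟶ Y) [IsSeparated f]
    [LocallyOfFiniteType f] (ι : Type u) :
    PreservesColimitsOfShape (Discrete ι) (EtShriek.lowerShriek f) := by
  classical
  constructor
  intro K
  haveI : PreservesColimit (Discrete.functor (K.obj ∘ Discrete.mk)) (EtShriek.lowerShriek f) :=
    haveI : IsIso (sigmaComparison (EtShriek.lowerShriek f) (K.obj ∘ Discrete.mk)) :=
      isIso_cmp f (K.obj ∘ Discrete.mk)
    PreservesCoproduct.of_iso_comparison _ _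
  exact preservesColimit_of_iso_diagram _ (Discrete.natIsoFunctor (F := K)).symm

end Groth.Agent.Lib.Helper3.ShriekCoprod
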