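import Groth.Agent.Lib.Helper3.ShriekEtale
import Groth.Agent.Lib.Helper3.ShriekSheaf

/-!
# Sections with compact support and extension by zero to a compactification (helper3)
-/

set_option autoImplicit false
set_option backward.isDefEq.respectTransparency false
set_option linter.unusedSectionVars false
set_option linter.style.haveILetI false

universe u

open CategoryTheory CategoryTheory.Limits AlgebraicGeometry Opposite IsLocalRing

namespace Groth.Agent.Lib.Helper3.ShriekH0c

open EtShriek Groth.Agent.Lib.Helper3.ShriekBasic Groth.Agent.Lib.Helper3.ShriekLqf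
  Groth.Agent.Lib.Helper3.ShriekEtale Groth.Agent.Lib.Helper3.ShriekSheaf

section Transfer

variable {X S : Scheme.{u}}

/-- Transport of `IsProperOver` along an isomorphism of the source. -/
theorem isProperOver_preimage_of_isIso {X' : Scheme.{u}} (e : X' ⟶ X) [IsIso e] (f : X ⟶ S)
    [LocallyOfFiniteType f] (f' : X' ⟶ S) (w : e ≫ f = f') (Z : Set X)
    (hZ : ClSub.IsProperOver f Z) : ClSub.IsProperOver f' (e ⁻¹' Z) := by
  have sq : IsPullback e f' f (𝟙 S) :=
    IsPullback.of_horiz_isIso ⟨by rw [w, Category.comp_id]⟩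
  exact Groth.Agent.S0793.result f (𝟙 S) e f' sq Z hZ

end Transfer

section Main

variable {k : Type u} [Field k] {X Xb : Scheme.{u}} (j : X ⟶ Xb) [IsOpenImmersion j]
  (pb : Xb ⟶ Spec (CommRingCat.of k)) [IsProper pb] (p : X ⟶ Spec (CommRingCat.of k))
  (hp : p = j ≫ pb) [IsSeparated p] [LocallyOfFiniteType p] (F : EtCoh.Ab X)

/-- the underlying morphism of `top X ≅ X ×_{Xb} Xb` -/
noncomputable def eL : X ⟶ pullback (𝟙 Xb) j :=
  pullback.lift j (𝟙 X) (by rw [Category.comp_id, Category.id_comp])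

lemma eL_fst : eL j ≫ pullback.fst (𝟙 Xb) j = j := pullback.lift_fst _ _ _

lemma eL_snd : eL j ≫ pullback.snd (𝟙 Xb) j = 𝟙 X := pullback.lift_snd _ _ _

instance : IsIso (eL j) := by
  haveI : IsIso (eL j ≫ pullback.snd (𝟙 Xb) j) := by rw [eL_snd]; infer_instance
  exact IsIso.of_isIso_comp_right (eL j) (pullback.snd (𝟙 Xb) j)

/-- `top X ⟶ X ×_{Xb} Xb` in the small étale site of `X` -/
noncomputable def eHom : EtCoh.top X ⟶ (EtCoh.bc j).obj (EtCoh.top Xb) :=
  MorphismProperty.Over.homMk (eL j) (eL_snd j) trivial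

lemma eHom_left : (eHom j).left = eL j := rfl

include hp in
theorem shriekPred_iff (s' : EtCoh.sect F ((EtCoh.bc j).obj (EtCoh.top Xb))) :
    ShriekPred j F (EtCoh.top Xb) s' ↔
      HasProperSupport F (EtCoh.top X) (F.obj.map (eHom j).op s') p := by
  haveI : LocallyOfFiniteType (prV j (EtCoh.top Xb)) :=
    inferInstanceAs (LocallyOfFiniteType (pullback.fst (EtCoh.top Xb).hom j))
  have hsupp : sectSupp F (EtCoh.top X) (F.obj.map (eHom j).op s') =
      (eL j) ⁻¹' sectSupp F _ s' := sectSupp_map F (eHom j) s'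
  have hw : eL j ≫ prV j (EtCoh.top Xb) = j := eL_fst j
  constructor
  · intro h
    have h1 := h (EtCoh.top Xb) (𝟙 _)
    rw [CategoryTheory.Functor.map_id, op_id, CategoryTheory.Functor.map_id] at h1
    obtain ⟨Z', hZ', hp'⟩ := h1
    refine ⟨(eL j) ⁻¹' Z', ?_, ?_⟩
    · rw [hsupp]
      exact Set.preimage_mono hZ'
    · have h2 : ClSub.IsProperOver j ((eL j) ⁻¹' Z') :=
        isProperOver_preimage_of_isIso (eL j) (prV j (EtCoh.top Xb)) j hw Z' hp'
      obtain ⟨hcl, hpr⟩ := h2
      refine ⟨hcl, ?_⟩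
      rw [hp, ← Category.assoc]
      infer_instance
  · rintro ⟨Z, hZ, hcl, hpr⟩
    let Z' : Set ↥(pullback (𝟙 Xb) j) := (inv (eL j)) ⁻¹' Z
    have hZ' : sectSupp F _ s' ⊆ Z' := by
      intro x hx
      apply hZ
      rw [hsupp]
      change eL j ((inv (eL j)) x) ∈ sectSupp F _ s'
      rw [← Scheme.Hom.comp_apply, IsIso.inv_hom_id]
      exact hx
    have h2 : ClSub.IsProperOver j Z := by
      refine ⟨hcl, ?_⟩
      haveI : IsProper ((Scheme.IdealSheafData.vanishingIdeal ⟨Z, hcl⟩).subschemeι ≫ j ≫ pb) := by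
        rw [← hp]
        exact hpr
      haveI : IsProper (((Scheme.IdealSheafData.vanishingIdeal ⟨Z, hcl⟩).subschemeι ≫ j) ≫ pb) := by
        rw [Category.assoc]
        infer_instance
      exact IsProper.of_comp _ pb
    have h3 : ClSub.IsProperOver (prV j (EtCoh.top Xb)) Z' :=
      isProperOver_preimage_of_isIso (inv (eL j)) j (prV j (EtCoh.top Xb))
        (by rw [IsIso.inv_comp_eq, hw]) Z h2
    exact shriekPred_of_supp_subset j F s' Z' hZ' h3

/-- the inverse of `eHom` -/
noncomputable def eInv : (EtCoh.bc j).obj (EtCoh.top Xb) ⟶ EtCoh.top X :=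
  MorphismProperty.Over.homMk (pullback.snd (𝟙 Xb) j) (Category.comp_id _) trivial

lemma eHom_eInv : eHom j ≫ eInv j = 𝟙 _ := by
  apply MorphismProperty.Over.Hom.ext
  exact eL_snd j

lemma eInv_eHom : eInv j ≫ eHom j = 𝟙 _ := by
  apply MorphismProperty.Over.Hom.ext
  change pullback.snd (𝟙 Xb) j ≫ eL j = 𝟙 _
  rw [← cancel_epi (eL j), ← Category.assoc, eL_snd, Category.id_comp, Category.comp_id]

/-- restriction along `eHom` as an additive equivalence -/
noncomputable def secEquiv :
    EtCoh.sect F ((EtCoh.bc j).obj (EtCoh.top Xb)) ≃+ EtCoh.sect F (EtCoh.top X) where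
  toFun := F.obj.map (eHom j).op
  invFun := F.obj.map (eInv j).op
  left_inv s := by
    change (F.obj.map (eHom j).op ≫ F.obj.map (eInv j).op) s = s
    rw [← F.obj.map_comp, ← op_comp, eInv_eHom, op_id, F.obj.map_id]
    rfl
  right_inv s := by
    change (F.obj.map (eInv j).op ≫ F.obj.map (eHom j).op) s = s
    rw [← F.obj.map_comp, ← op_comp, eHom_eInv, op_id, F.obj.map_id]
    rfl
  map_add' a b := map_add _ a b

include hp in
theorem map_shriekSubgroup :
    (shriekSubgroup j F (EtCoh.top Xb)).map (secEquiv j F).toAddMonoidHom = H0c p F := by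
  unfold shriekSubgroup H0c
  rw [AddMonoidHom.map_closure]
  congr 1
  ext s
  constructor
  · rintro ⟨s', hs', rfl⟩
    exact (shriekPred_iff j pb p hp F s').1 hs'
  · intro hs
    refine ⟨(secEquiv j F).symm s, ?_, (secEquiv j F).apply_symm_apply s⟩
    rw [Set.mem_ofPred_eq, shriekPred_iff j pb p hp F]
    have h1 : F.obj.map (eHom j).op ((secEquiv j F).symm s) = s :=
      (secEquiv j F).apply_symm_apply s
    rw [h1]
    exact hs

include hp in
/-- sections with proper support over `Xb` are the sections with compact support -/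
noncomputable def equivH0c : ↥(shriekSubgroup j F (EtCoh.top Xb)) ≃+ ↥(H0c p F) :=
  ((secEquiv j F).addSubgroupMap (shriekSubgroup j F (EtCoh.top Xb))).trans
    (AddEquiv.addSubgroupCongr (map_shriekSubgroup j pb p hp F))

/-- sections of the sheaf of sections with proper support -/
noncomputable def equivSheafify :
    ↥(shriekSubgroup j F (EtCoh.top Xb)) ≃+
      EtCoh.sect ((EtShriek.lowerShriek j).obj F) (EtCoh.top Xb) := by
  haveI : IsIso (toSheafify Xb.smallEtaleTopology (lowerShriekPre j F)) :=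
    isIso_toSheafify _ (isSheaf_lowerShriekPre j F)
  exact ((asIso (toSheafify Xb.smallEtaleTopology (lowerShriekPre j F))).app
    (op (EtCoh.top Xb))).addCommGroupIsoToAddEquiv

/-- sections of `j_! F` are sections of `lowerShriek j F` -/
noncomputable def equivTheta [EtShriek.JCont j] :
    EtCoh.sect ((EtShriek.extZero j).obj F) (EtCoh.top Xb) ≃+
      EtCoh.sect ((EtShriek.lowerShriek j).obj F) (EtCoh.top Xb) :=
  (((sheafToPresheaf _ _).mapIso (asIso ((theta j).app F))).app
    (op (EtCoh.top Xb))).addCommGroupIsoToAddEquiv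

include hp in
theorem nonempty_equiv [EtShriek.JCont j] :
    Nonempty ((EtShriek.H0c p F) ≃+
      EtCoh.sect ((EtShriek.extZero j).obj F) (EtCoh.top Xb)) :=
  ⟨(equivH0c j pb p hp F).symm.trans ((equivSheafify j F).trans (equivTheta j F).symm)⟩

end Main

end Groth.Agent.Lib.Helper3.ShriekH0c
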