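import Groth.Agent.Lib.Helper3.SplitAlg

set_option autoImplicit false
set_option linter.style.haveILetI false
set_option linter.unusedSectionVars false
universe u

namespace Groth.Agent.Lib.Helper3

open Polynomial TensorProduct

theorem exists_splitting_algebra_list (R : Type u) [CommRing R] (l : List R[X])
    (hl : ∀ f ∈ l, f.Monic) :
    ∃ (S' : Type u) (_ : CommRing S') (_ : Algebra R S'), Module.Finite R S' ∧
      Algebra.FinitePresentation R S' ∧ Module.FaithfullyFlat R S' ∧
      ∀ f ∈ l, ∃ (n : ℕ) (α : Fin n → S'), f.map (algebraMap R S') = ∏ i, (X - C (α i)) := by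
  induction l with
  | nil =>
    exact ⟨R, inferInstance, inferInstance, inferInstance, inferInstance, inferInstance,
      by simp⟩
  | cons f l ih =>
    obtain ⟨S₁, _, _, hfin, hfp, hff, hS₁⟩ := ih (fun g hg => hl g (List.mem_cons_of_mem _ hg))
    obtain ⟨S', _, _, hfin', hfp', hff', α, hα⟩ :=
      exists_splitting_algebra _ S₁ (f.map (algebraMap R S₁))
        ((hl f List.mem_cons_self).map _) rfl
    letI : Algebra R S' := ((algebraMap S₁ S').comp (algebraMap R S₁)).toAlgebra
    haveI : IsScalarTower R S₁ S' := IsScalarTower.of_algebraMap_eq fun _ => rfl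
    refine ⟨S', inferInstance, inferInstance, Module.Finite.trans S₁ S',
      Algebra.FinitePresentation.trans R S₁ S', Module.FaithfullyFlat.trans R S₁ S', ?_⟩
    intro g hg
    rcases List.mem_cons.mp hg with rfl | hg
    · refine ⟨_, α, ?_⟩
      rw [IsScalarTower.algebraMap_eq R S₁ S', ← Polynomial.map_map, hα]
    · obtain ⟨n, β, hβ⟩ := hS₁ g hg
      refine ⟨n, fun i => algebraMap S₁ S' (β i), ?_⟩
      rw [IsScalarTower.algebraMap_eq R S₁ S', ← Polynomial.map_map, hβ, Polynomial.map_prod]
      simp

theorem exists_finite_flat_cover_dominating_of_etale (R : Type u) [CommRing R]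
    (S : Type u) [CommRing S] [Algebra R S] [Algebra.Etale R S] :
    ∃ (S' : Type u) (_ : CommRing S') (_ : Algebra R S'),
      Module.Finite R S' ∧ Algebra.FinitePresentation R S' ∧ Module.FaithfullyFlat R S' ∧
        ∀ (q : Ideal S) [q.IsPrime] (q' : Ideal S') [q'.IsPrime], q'.under R = q.under R →
          ∃ (g' : S') (_ : g' ∉ q') (φ : S →ₐ[R] Localization.Away g'),
            (q'.map (algebraMap S' (Localization.Away g'))).comap φ = q := by
  -- the set of `s` with `S_s` standard étale generates the unit ideal
  have hspan : Ideal.span {s : S | Algebra.IsStandardEtale R (Localization.Away s)} = ⊤ := by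
    by_contra hne
    obtain ⟨m, hm, hle⟩ := Ideal.exists_le_maximal _ hne
    obtain ⟨s, hs, hstd⟩ := Algebra.IsEtaleAt.exists_isStandardEtale (R := R) m
    exact hs (hle (Ideal.subset_span hstd))
  obtain ⟨t, ht, ht1⟩ := (Ideal.span_eq_top_iff_finite _).mp hspan
  classical
  have hP : ∀ s : S, s ∈ t → Nonempty (StandardEtalePresentation R (Localization.Away s)) :=
    fun s hs => (ht hs).nonempty_standardEtalePresentation
  let F : S → R[X] := fun s => if h : s ∈ t then (hP s h).some.f else 1
  obtain ⟨S', _, _, hfin, hfp, hff, hS'⟩ := exists_splitting_algebra_list R (t.toList.map F)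
    (by
      intro f hf
      obtain ⟨s, hs, rfl⟩ := List.mem_map.mp hf
      simp only [F]
      split_ifs with h
      · exact (hP s h).some.monic_f
      · exact monic_one)
  refine ⟨S', inferInstance, inferInstance, hfin, hfp, hff, ?_⟩
  intro q _ q' _ h
  obtain ⟨s, hst, hsq⟩ : ∃ s ∈ t, s ∉ q := by
    by_contra hcon
    push Not at hcon
    have : Ideal.span (t : Set S) ≤ q := Ideal.span_le.mpr fun s hs => hcon s hs
    rw [ht1] at this
    exact (Ideal.IsPrime.ne_top ‹_›) (top_le_iff.mp this)
  obtain ⟨n, α, hα⟩ := hS' (F s) (List.mem_map.mpr ⟨s, Finset.mem_toList.mpr hst, rfl⟩)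
  have hFs : F s = (hP s hst).some.f := by simp [F, hst]
  rw [hFs] at hα
  have hdisj : Disjoint (Submonoid.powers s : Set S) (q : Set S) := by
    rw [Set.disjoint_left]
    rintro _ ⟨k, rfl⟩ hk
    exact hsq (Ideal.IsPrime.mem_of_pow_mem ‹_› _ hk)
  haveI : (q.map (algebraMap S (Localization.Away s))).IsPrime :=
    IsLocalization.isPrime_of_isPrime_disjoint (Submonoid.powers s) _ q ‹_› hdisj
  have hcomap : (q.map (algebraMap S (Localization.Away s))).comap
      (algebraMap S (Localization.Away s)) = q :=
    IsLocalization.under_map_of_isPrime_disjoint (Submonoid.powers s) _ ‹_› hdisj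
  have hunder : q'.under R = (q.map (algebraMap S (Localization.Away s))).under R := by
    rw [h]
    conv_lhs => rw [← hcomap]
    rw [Ideal.under, Ideal.under, Ideal.comap_comap,
      ← IsScalarTower.algebraMap_eq R S (Localization.Away s)]
  obtain ⟨g', hg', φ, hφ⟩ := exists_algHom_away_of_standardEtale_of_split (hP s hst).some α hα
    (q.map (algebraMap S (Localization.Away s))) q' hunder
  refine ⟨g', hg', φ.comp (IsScalarTower.toAlgHom R S (Localization.Away s)), ?_⟩
  rw [← hcomap]
  conv_rhs => rw [← hφ]
  rfl

end Groth.Agent.Lib.Helper3
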