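import Groth.Agent.Lib.Helper3.EtaleSection2
import Mathlib.AlgebraicGeometry.Sites.EtalePoint
import Mathlib.AlgebraicGeometry.Morphisms.Etale

/-!
# Sections of étale schemes over the spectrum of a henselian local ring (helper3)
-/

set_option autoImplicit false
set_option linter.unusedSectionVars false
set_option linter.style.haveILetI false

universe u

open CategoryTheory CategoryTheory.Limits AlgebraicGeometry Opposite IsLocalRing

namespace Groth.Agent.Lib.Helper3.StrictHensSection

/-- An étale scheme over the spectrum of a henselian local ring has a section through every rational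
point of its closed fibre. -/
theorem exists_section_of_etale_of_henselian (R : Type u) [CommRing R] [HenselianLocalRing R]
    {Y : Scheme.{u}} (g : Y ⟶ Spec (CommRingCat.of R)) [Etale g]
    (y : Spec (CommRingCat.of (IsLocalRing.ResidueField R)) ⟶ Y)
    (hy : y ≫ g = Spec.map (CommRingCat.ofHom (IsLocalRing.residue R))) :
    ∃ σ : Spec (CommRingCat.of R) ⟶ Y, σ ≫ g = 𝟙 _ ∧
      Spec.map (CommRingCat.ofHom (IsLocalRing.residue R)) ≫ σ = y := by
  obtain ⟨B, j, hj, hmem, -⟩ := Scheme.exists_affine_mem_range_and_range_subset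
    (x := y.base default) (U := ⊤) trivial
  have hfac : Set.range y ⊆ Set.range j := by
    rintro _ ⟨a, rfl⟩
    rwa [Subsingleton.elim a default]
  let y' := IsOpenImmersion.lift j y hfac
  have hy' : y' ≫ j = y := IsOpenImmersion.lift_fac _ _ _
  obtain ⟨φ, hφ⟩ := Spec.map_surjective (j ≫ g)
  obtain ⟨β, hβ⟩ := Spec.map_surjective y'
  have hEt : Etale (Spec.map φ) := by rw [hφ]; infer_instance
  letI : Algebra R B := φ.hom.toAlgebra
  have hEtB : Algebra.Etale R B := by
    rw [HasRingHomProperty.Spec_iff (P := @Etale)] at hEt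
    exact RingHom.etale_algebraMap.1 hEt
  have hcomp : φ ≫ β = CommRingCat.ofHom (IsLocalRing.residue R) := by
    apply Spec.map_injective
    rw [Spec.map_comp, hφ, hβ, ← Category.assoc, hy', hy]
  let βa : B →ₐ[R] R ⧸ maximalIdeal R :=
    { β.hom with
      commutes' := fun r => congrArg (fun f => f.hom r) hcomp }
  obtain ⟨τ, hτ⟩ := exists_algHom_lift_of_etale (maximalIdeal R) B βa
  refine ⟨Spec.map (CommRingCat.ofHom τ.toRingHom) ≫ j, ?_, ?_⟩
  · rw [Category.assoc, ← hφ, ← Spec.map_comp]
    have : φ ≫ CommRingCat.ofHom τ.toRingHom = 𝟙 _ := by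
      apply CommRingCat.hom_ext
      apply RingHom.ext
      intro r
      exact τ.commutes r
    rw [this, Spec.map_id]
  · rw [← Category.assoc, ← Spec.map_comp, ← hy', ← hβ]
    congr 2
    apply CommRingCat.hom_ext
    apply RingHom.ext
    intro b
    exact congrArg (fun f => f b) hτ

end Groth.Agent.Lib.Helper3.StrictHensSection
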