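import Groth.Agent.Lib.Helper9.HensK.StrictUnique
import Groth.Agent.Lib.Helper3.EtaleSection2
import Mathlib.RingTheory.Etale.Field
import Mathlib.RingTheory.Unramified.Finite

/-!
# Maps out of a strict henselization into henselian local algebras (not necessarily local maps)
(helper3)

Let `R` be a strict henselization of the local ring `A` and `T` a henselian local ring which is an
`A`-algebra (the structure map need not be local).

* `algHom_ext_of_residue`: two `A`-algebra maps `R → T` which agree modulo the maximal ideal of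
  `T` are equal.
* `exists_algHom_lift`: every `A`-algebra map `R → T/𝔪_T` lifts to an `A`-algebra map `R → T`.
* `exists_algHom_of_isSepClosed`: for every separably closed field `K'` which is an `A`-algebra
  there is an `A`-algebra map `R → K'`.
-/

set_option autoImplicit false
set_option linter.unusedSectionVars false
set_option linter.style.haveILetI false

universe u v

open IsLocalRing TensorProduct

namespace Groth.Agent.Lib.Helper3.StrictSpecialize

open Groth.Agent.Lib.Helper9.HensK

section Unramified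

/-- Two ring homs from a finite type unramified `A`-algebra to a local ring which agree on `A`
and modulo the maximal ideal are equal. -/
theorem ringHom_ext_of_unramified {A B : Type u} {T : Type v} [CommRing A] [CommRing B]
    [CommRing T] [IsLocalRing T] [Algebra A B] [Algebra.FormallyUnramified A B]
    [Algebra.FiniteType A B] (h₁ h₂ : B →+* T)
    (hA : ∀ a, h₁ (algebraMap A B a) = h₂ (algebraMap A B a))
    (hres : ∀ b, h₁ b - h₂ b ∈ maximalIdeal T) : h₁ = h₂ := by
  letI : Algebra A T := (h₁.comp (algebraMap A B)).toAlgebra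
  let h₁' : B →ₐ[A] T := { h₁ with commutes' := fun _ => rfl }
  let h₂' : B →ₐ[A] T := { h₂ with commutes' := fun a => (hA a).symm }
  let Θ : B ⊗[A] B →ₐ[A] T := Algebra.TensorProduct.lift h₁' h₂' (fun _ _ => Commute.all _ _)
  let Θ' : B ⊗[A] B →ₐ[A] T := Algebra.TensorProduct.lift h₁' h₁' (fun _ _ => Commute.all _ _)
  have hΘ : ∀ b b' : B, Θ (b ⊗ₜ b') = h₁ b * h₂ b' := fun b b' =>
    Algebra.TensorProduct.lift_tmul _ _ _ _ _
  have hΘ' : ∀ b b' : B, Θ' (b ⊗ₜ b') = h₁ b * h₁ b' := fun b b' =>
    Algebra.TensorProduct.lift_tmul _ _ _ _ _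
  have hΘ'mul : ∀ x : B ⊗[A] B, Θ' x = h₁ (Algebra.TensorProduct.lmul' A x) := by
    intro x
    induction x using TensorProduct.induction_on with
    | zero => simp
    | tmul b b' => rw [hΘ', Algebra.TensorProduct.lmul'_apply_tmul, map_mul]
    | add x y hx hy => rw [map_add, map_add, map_add, hx, hy]
  have hdiff : ∀ x : B ⊗[A] B, Θ x - Θ' x ∈ maximalIdeal T := by
    intro x
    induction x using TensorProduct.induction_on with
    | zero => simp
    | tmul b b' =>
      rw [hΘ, hΘ', ← mul_sub]
      apply Ideal.mul_mem_left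
      have := hres b'
      rw [← neg_sub]
      exact neg_mem this
    | add x y hx hy =>
      rw [map_add, map_add, add_sub_add_comm]
      exact add_mem hx hy
  set t := Algebra.FormallyUnramified.elem A B with ht
  have hτ1 : Θ' t = 1 := by
    rw [hΘ'mul, Algebra.FormallyUnramified.lmul_elem, map_one]
  have hτu : IsUnit (Θ t) := by
    by_contra hnu
    have h1 : Θ t ∈ maximalIdeal T := (mem_maximalIdeal _).mpr hnu
    have h2 := sub_mem h1 (hdiff t)
    rw [sub_sub_cancel, hτ1] at h2
    exact (maximalIdeal.isMaximal T).ne_top ((Ideal.eq_top_iff_one _).mpr h2)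
  ext s
  have h3 := congrArg Θ (Algebra.FormallyUnramified.one_tmul_mul_elem (R := A) (S := B) s)
  rw [map_mul, map_mul, hΘ, hΘ, map_one, map_one, one_mul, mul_one] at h3
  exact (hτu.mul_left_inj.mp h3).symm

end Unramified

section EtaleLift

variable {A : Type u} [CommRing A] (B : Type u) [CommRing B] [Algebra A B] [Algebra.Etale A B]
  (T : Type u) [CommRing T] [HenselianLocalRing T] [Algebra A T]

/-- Unique lifting of points of étale `A`-algebras along `T → T/𝔪_T` for a henselian local
`A`-algebra `T`. -/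
theorem existsUnique_algHom_lift_of_etale (τ : B →ₐ[A] T ⧸ maximalIdeal T) :
    ∃! g : B →ₐ[A] T, (Ideal.Quotient.mkₐ A (maximalIdeal T)).comp g = τ := by
  -- existence by base change to `T`
  let τ' : T ⊗[A] B →ₐ[T] T ⧸ maximalIdeal T :=
    Algebra.TensorProduct.lift (Algebra.ofId T (T ⧸ maximalIdeal T)) τ (fun _ _ => Commute.all _ _)
  obtain ⟨σ, hσ⟩ := exists_algHom_lift_of_etale (maximalIdeal T) (T ⊗[A] B) τ'
  let g : B →ₐ[A] T := (σ.restrictScalars A).comp Algebra.TensorProduct.includeRight
  have hg : (Ideal.Quotient.mkₐ A (maximalIdeal T)).comp g = τ := by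
    ext b
    have h1 := DFunLike.congr_fun hσ ((1 : T) ⊗ₜ[A] b)
    change Ideal.Quotient.mk _ (σ ((1 : T) ⊗ₜ[A] b)) = τ b
    change Ideal.Quotient.mk _ (σ ((1 : T) ⊗ₜ[A] b)) = τ' ((1 : T) ⊗ₜ[A] b) at h1
    rw [h1, Algebra.TensorProduct.lift_tmul, map_one, one_mul]
  refine ⟨g, hg, ?_⟩
  intro g' hg'
  apply AlgHom.coe_ringHom_injective
  apply ringHom_ext_of_unramified (A := A)
  · intro a
    change g' (algebraMap A B a) = g (algebraMap A B a)
    rw [g'.commutes, g.commutes]
  · intro b
    have h1 := DFunLike.congr_fun (hg'.trans hg.symm) b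
    change Ideal.Quotient.mk _ (g' b) = Ideal.Quotient.mk _ (g b) at h1
    exact Ideal.Quotient.eq.mp h1

end EtaleLift

section PtColim

variable {A : Type u} [CommRing A] {K : Type u} [Field K] [Algebra A K]

/-- Variant of `PtColim.existsUnique_algHom` with an arbitrary point of the colimit. -/
theorem existsUnique_algHom_of_point {C : Type u} [CommRing C] [Algebra A C] (J : Ideal C)
    (ρ : PtColim A K →ₐ[A] C ⧸ J)
    (hlift : ∀ (N : PtEt A K) (τ : N.S →ₐ[A] C ⧸ J),
      ∃! g : N.S →ₐ[A] C, (Ideal.Quotient.mkₐ A J).comp g = τ) :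
    ∃! g : PtColim A K →ₐ[A] C, (Ideal.Quotient.mkₐ A J).comp g = ρ := by
  let g : ∀ N : PtEt A K, N.S →ₐ[A] C := fun N => (hlift N (ρ.comp (PtColim.ιₐ N))).choose
  have hg1 : ∀ N, (Ideal.Quotient.mkₐ A J).comp (g N) = ρ.comp (PtColim.ιₐ N) :=
    fun N => (hlift N (ρ.comp (PtColim.ιₐ N))).choose_spec.1
  have hg2 : ∀ N (g' : N.S →ₐ[A] C),
      (Ideal.Quotient.mkₐ A J).comp g' = ρ.comp (PtColim.ιₐ N) → g' = g N :=
    fun N g' h => (hlift N (ρ.comp (PtColim.ιₐ N))).choose_spec.2 g' h
  have hcompat : ∀ (N₁ N₂ : PtEt A K) (f : N₁ ⟶ N₂), (g N₂).comp f.1 = g N₁ := by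
    intro N₁ N₂ f
    apply hg2
    rw [← AlgHom.comp_assoc, hg1, AlgHom.comp_assoc, PtColim.ιₐ_comp]
  refine ⟨PtColim.descₐ g hcompat, ?_, ?_⟩
  · apply PtColim.algHom_ext
    intro N
    have h1 : (PtColim.descₐ g hcompat).comp (PtColim.ιₐ N) = g N :=
      AlgHom.ext fun x => PtColim.descₐ_ι g hcompat N x
    rw [AlgHom.comp_assoc, h1, hg1]
  · intro g' hg'
    apply PtColim.algHom_ext
    intro N
    have h1 : g'.comp (PtColim.ιₐ N) = g N := by
      apply hg2
      rw [← AlgHom.comp_assoc, hg']
    rw [h1]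
    exact (AlgHom.ext fun x => PtColim.descₐ_ι g hcompat N x).symm

end PtColim

section Strict

variable (A : Type u) [CommRing A] [IsLocalRing A]
  (R : Type u) [CommRing R] [IsLocalRing R] [Algebra A R] [IsLocalHom (algebraMap A R)]
  [Hensel.IsStrictHenselization A R]
  (T : Type u) [CommRing T] [HenselianLocalRing T] [Algebra A T]

/-- Maps out of a strict henselization into a henselian local `A`-algebra correspond bijectively
to maps into its residue field. -/
theorem existsUnique_algHom_lift (ρ : R →ₐ[A] T ⧸ maximalIdeal T) :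
    ∃! g : R →ₐ[A] T, (Ideal.Quotient.mkₐ A (maximalIdeal T)).comp g = ρ := by
  let e : R ≃ₐ[A] StrictHenselization A := algEquivStrictHenselization A R
  obtain ⟨g₀, hg₀, huniq⟩ := existsUnique_algHom_of_point (A := A)
    (K := SeparableClosure (ResidueField A)) (C := T) (maximalIdeal T)
    (ρ.comp e.symm.toAlgHom)
    (fun N τ => existsUnique_algHom_lift_of_etale N.S T τ)
  refine ⟨g₀.comp e.toAlgHom, ?_, ?_⟩
  · change (Ideal.Quotient.mkₐ A (maximalIdeal T)).comp (g₀.comp e.toAlgHom) = ρ
    rw [← AlgHom.comp_assoc, hg₀, AlgHom.comp_assoc]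
    ext r
    simp
  · intro g' hg'
    change (Ideal.Quotient.mkₐ A (maximalIdeal T)).comp g' = ρ at hg'
    have h1 : g'.comp e.symm.toAlgHom = g₀ := by
      apply huniq
      change (Ideal.Quotient.mkₐ A (maximalIdeal T)).comp (g'.comp e.symm.toAlgHom) = _
      rw [← AlgHom.comp_assoc, hg']
    rw [← h1, AlgHom.comp_assoc]
    ext r
    simp

theorem algHom_ext_of_residue (g₁ g₂ : R →ₐ[A] T)
    (h : ∀ r, g₁ r - g₂ r ∈ maximalIdeal T) : g₁ = g₂ := by
  obtain ⟨g₀, -, huniq⟩ := existsUnique_algHom_lift A R T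
    ((Ideal.Quotient.mkₐ A (maximalIdeal T)).comp g₂)
  rw [huniq g₂ rfl]
  apply huniq
  ext r
  exact Ideal.Quotient.eq.mpr (h r)

end Strict

section SepClosedPoint

/-- A `K`-algebra map from an étale algebra over a separably closed field `K` to a domain has
image contained in `K`. -/
theorem map_mem_range_of_etale_of_isSepClosed (K : Type u) [Field K] [IsSepClosed K]
    (E : Type u) [CommRing E] [Algebra K E] [Algebra.Etale K E]
    (F : Type u) [CommRing F] [IsDomain F] [Algebra K F] (φ : E →ₐ[K] F) (e : E) :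
    φ e ∈ Set.range (algebraMap K F) := by
  classical
  haveI := Algebra.FormallyUnramified.finite_of_free K E
  haveI : IsArtinianRing E := isArtinian_of_tower K inferInstance
  haveI : Fintype (PrimeSpectrum E) := Fintype.ofFinite _
  let eq := Algebra.FormallyEtale.equivPiOfIsSepClosed K E
  let φ' : (PrimeSpectrum E → K) →ₐ[K] F := φ.comp eq.symm.toAlgHom
  have h1 : φ e = φ' (eq e) := by simp [φ']
  rw [h1]
  have h2 : eq e = ∑ i, (eq e i) • (Pi.single i (1 : K) : PrimeSpectrum E → K) := by
    ext j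
    simp [Finset.sum_apply, Pi.single_apply]
  rw [h2, map_sum]
  refine Subring.sum_mem (algebraMap K F).range (fun i _ => ?_)
  rw [map_smul, Algebra.smul_def]
  refine Subring.mul_mem _ ⟨_, rfl⟩ ?_
  have hidem : IsIdempotentElem (φ' (Pi.single i (1 : K))) := by
    change _ * _ = _
    rw [← map_mul, ← Pi.single_mul, one_mul]
  rcases IsIdempotentElem.iff_eq_zero_or_one.mp hidem with h | h
  · rw [h]; exact Subring.zero_mem _
  · rw [h]; exact Subring.one_mem _

variable (A : Type u) [CommRing A] [IsLocalRing A]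
  (R : Type u) [CommRing R] [IsLocalRing R] [Algebra A R] [IsLocalHom (algebraMap A R)]
  [Hensel.IsStrictHenselization A R]
  (K' : Type u) [Field K'] [IsSepClosed K'] [Algebra A K']

/-- A strict henselization of `A` maps to every separably closed field over `A`. -/
theorem exists_algHom_of_isSepClosed : Nonempty (R →ₐ[A] K') := by
  haveI : Module.FaithfullyFlat A R := faithfullyFlat_of_isStrictHenselization A R
  haveI : Nontrivial (K' ⊗[A] R) :=
    (Module.FaithfullyFlat.nontrivial_tensorProduct_iff_left A K').mpr inferInstance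
  obtain ⟨M, hM⟩ := Ideal.exists_maximal (K' ⊗[A] R)
  letI : Field ((K' ⊗[A] R) ⧸ M) := Ideal.Quotient.field M
  let e : R ≃ₐ[A] StrictHenselization A := algEquivStrictHenselization A R
  have hrange : ∀ t : K' ⊗[A] R,
      Ideal.Quotient.mk M t ∈ Set.range (algebraMap K' ((K' ⊗[A] R) ⧸ M)) := by
    intro t
    induction t using TensorProduct.induction_on with
    | zero => exact ⟨0, by simp⟩
    | add x y hx hy =>
      rw [map_add]
      exact Subring.add_mem (algebraMap K' ((K' ⊗[A] R) ⧸ M)).range hx hy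
    | tmul k r =>
      obtain ⟨N, y, hy⟩ := PtColim.exists_rep (e r)
      let φN : N.S →ₐ[A] R := e.symm.toAlgHom.comp (PtColim.ιₐ N)
      have hφN : φN y = r := by
        change e.symm (PtColim.ι N y) = r
        rw [hy]
        exact e.symm_apply_apply r
      let ψ : K' ⊗[A] N.S →ₐ[K'] K' ⊗[A] R :=
        Algebra.TensorProduct.map (AlgHom.id K' K') φN
      have := map_mem_range_of_etale_of_isSepClosed K' (K' ⊗[A] N.S) ((K' ⊗[A] R) ⧸ M)
        ((Ideal.Quotient.mkₐ K' M).comp ψ) (k ⊗ₜ y)
      have h2 : ((Ideal.Quotient.mkₐ K' M).comp ψ) (k ⊗ₜ y) = Ideal.Quotient.mk M (k ⊗ₜ r) := by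
        change Ideal.Quotient.mk M (ψ (k ⊗ₜ y)) = _
        rw [Algebra.TensorProduct.map_tmul, hφN]
        rfl
      rwa [h2] at this
  have hbij : Function.Bijective (algebraMap K' ((K' ⊗[A] R) ⧸ M)) := by
    refine ⟨(algebraMap K' ((K' ⊗[A] R) ⧸ M)).injective, ?_⟩
    intro z
    obtain ⟨t, rfl⟩ := Ideal.Quotient.mk_surjective z
    exact hrange t
  let eF : K' ≃ₐ[K'] ((K' ⊗[A] R) ⧸ M) := AlgEquiv.ofBijective (Algebra.ofId K' _) hbij
  let ρ₀ : R →ₐ[A] ((K' ⊗[A] R) ⧸ M) :=
    ((Ideal.Quotient.mkₐ K' M).restrictScalars A).comp Algebra.TensorProduct.includeRight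
  exact ⟨(eF.symm.toAlgHom.restrictScalars A).comp ρ₀⟩

end SepClosedPoint

end Groth.Agent.Lib.Helper3.StrictSpecialize
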