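import Groth.Agent.Lib.Helper3.StrictSpecialize
import Groth.Prelude.Def_Hens2

/-!
# Specialization maps between strict localizations of a scheme (helper3)
-/

set_option autoImplicit false
set_option linter.unusedSectionVars false
set_option linter.style.haveILetI false

universe u

open CategoryTheory CategoryTheory.Limits AlgebraicGeometry Opposite IsLocalRing

namespace Groth.Agent.Lib.Helper3.StrictSpecializeScheme

open Groth.Agent.Lib.Helper3.StrictSpecialize

section Basic

variable (X : Scheme.{u}) (x : X) (R : Type u) [CommRing R] [Algebra (X.presheaf.stalk x) R]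

/-- Every point in the image of `Spec R ⟶ X` is a generization of `x`. -/
theorem specOf_specializes {Z : Scheme.{u}} (g : Z ⟶ Spec (CommRingCat.of R)) (z : Z) :
    (g ≫ Hens2.specOf X x R) z ⤳ x := by
  have : (g ≫ Hens2.specOf X x R) z ∈ Set.range (X.fromSpecStalk x) := by
    refine ⟨(g ≫ Spec.map (CommRingCat.ofHom (algebraMap (X.presheaf.stalk x) R))) z, ?_⟩
    simp [Hens2.specOf]
  rw [Scheme.range_fromSpecStalk] at this
  exact this

theorem specOf_closedPoint [IsLocalRing R] [IsLocalHom (algebraMap (X.presheaf.stalk x) R)] :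
    Hens2.specOf X x R (closedPoint R) = x := by
  have h1 : Spec.map (CommRingCat.ofHom (algebraMap (X.presheaf.stalk x) R)) (closedPoint R) =
      closedPoint (X.presheaf.stalk x) :=
    IsLocalRing.comap_closedPoint (algebraMap (X.presheaf.stalk x) R)
  change X.fromSpecStalk x
    (Spec.map (CommRingCat.ofHom (algebraMap (X.presheaf.stalk x) R)) (closedPoint R)) = x
  rw [h1]
  exact Scheme.fromSpecStalk_closedPoint

theorem comp_specOf_eq_iff {T : Type u} [CommRing T] (γ : R →+* T)
    (τ : X.presheaf.stalk x →+* T) :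
    Spec.map (CommRingCat.ofHom γ) ≫ Hens2.specOf X x R =
        Spec.map (CommRingCat.ofHom τ) ≫ X.fromSpecStalk x ↔
      γ.comp (algebraMap (X.presheaf.stalk x) R) = τ := by
  constructor
  · intro h
    have h1 : Spec.map (CommRingCat.ofHom γ) ≫
        Spec.map (CommRingCat.ofHom (algebraMap (X.presheaf.stalk x) R)) =
        Spec.map (CommRingCat.ofHom τ) := by
      rw [← cancel_mono (X.fromSpecStalk x), Category.assoc]
      exact h
    rw [← Spec.map_comp] at h1
    have h2 := Spec.map_injective h1
    exact congrArg CommRingCat.Hom.hom h2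
  · intro h
    subst h
    change _ ≫ _ ≫ _ = _
    rw [← Category.assoc, ← Spec.map_comp]
    rfl

end Basic

section Main

variable (X : Scheme.{u}) (x x' : X)
  (R : Type u) [CommRing R] [IsLocalRing R] [Algebra (X.presheaf.stalk x) R]
  [IsLocalHom (algebraMap (X.presheaf.stalk x) R)]
  [Hensel.IsStrictHenselization (X.presheaf.stalk x) R]
  (R' : Type u) [CommRing R'] [IsLocalRing R'] [Algebra (X.presheaf.stalk x') R']
  [IsLocalHom (algebraMap (X.presheaf.stalk x') R')]
  [Hensel.IsStrictHenselization (X.presheaf.stalk x') R']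

/-- The structure map `𝒪_{X,x} → R'` for a generization `x'` of `x`. -/
noncomputable def tau (h : x' ⤳ x) : X.presheaf.stalk x →+* R' :=
  (algebraMap (X.presheaf.stalk x') R').comp (X.presheaf.stalkSpecializes h).hom

set_option backward.isDefEq.respectTransparency false in
theorem specMap_tau (h : x' ⤳ x) :
    Spec.map (CommRingCat.ofHom (tau X x x' R' h)) ≫ X.fromSpecStalk x = Hens2.specOf X x' R' := by
  have : CommRingCat.ofHom (tau X x x' R' h) = X.presheaf.stalkSpecializes h ≫
      CommRingCat.ofHom (algebraMap (X.presheaf.stalk x') R') := rfl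
  rw [this, Spec.map_comp, Category.assoc, Scheme.SpecMap_stalkSpecializes_fromSpecStalk]

theorem specializes_of_hom (g : Spec (CommRingCat.of R') ⟶ Spec (CommRingCat.of R))
    (hg : g ≫ Hens2.specOf X x R = Hens2.specOf X x' R') : x' ⤳ x := by
  have h1 := specOf_specializes X x R g (closedPoint R')
  rw [hg, specOf_closedPoint] at h1
  exact h1

theorem specializes_of_geomHom
    (h : Spec (CommRingCat.of (ResidueField R')) ⟶ Spec (CommRingCat.of R))
    (hh : h ≫ Hens2.specOf X x R = Hens2.geomPt X x' R') : x' ⤳ x := by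
  have h1 := specOf_specializes X x R h (closedPoint (ResidueField R'))
  rw [hh] at h1
  have h2 : Hens2.geomPt X x' R' (closedPoint (ResidueField R')) = x' := by
    change Hens2.specOf X x' R'
      (Spec.map (CommRingCat.ofHom (residue R')) (closedPoint (ResidueField R'))) = x'
    have : Spec.map (CommRingCat.ofHom (residue R')) (closedPoint (ResidueField R')) =
        closedPoint R' := IsLocalRing.comap_closedPoint (residue R')
    rw [this, specOf_closedPoint]
  rw [h2] at h1
  exact h1

/-- Existence of a specialization map (S5593, `⇐`). -/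
theorem exists_hom_of_specializes (h : x' ⤳ x) :
    ∃ g : Spec (CommRingCat.of R') ⟶ Spec (CommRingCat.of R),
      g ≫ Hens2.specOf X x R = Hens2.specOf X x' R' := by
  haveI : HenselianLocalRing R' := Hensel.IsStrictHenselization.henselian (X.presheaf.stalk x')
  haveI : IsSepClosure (ResidueField (X.presheaf.stalk x')) (ResidueField R') :=
    Hensel.IsStrictHenselization.isSepClosure
  haveI : IsSepClosed (ResidueField R') :=
    IsSepClosure.sep_closed (ResidueField (X.presheaf.stalk x'))
  letI : Algebra (X.presheaf.stalk x) R' := (tau X x x' R' h).toAlgebra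
  obtain ⟨ρ⟩ := exists_algHom_of_isSepClosed (X.presheaf.stalk x) R (ResidueField R')
  obtain ⟨g₀, -, -⟩ := existsUnique_algHom_lift (X.presheaf.stalk x) R R' ρ
  refine ⟨Spec.map (CommRingCat.ofHom g₀.toRingHom), ?_⟩
  rw [← specMap_tau X x x' R' h, comp_specOf_eq_iff]
  ext a
  exact g₀.commutes a

/-- Uniqueness of specialization maps with given restriction to the closed geometric point
(S5594, part 1). -/
theorem hom_ext (g₁ g₂ : Spec (CommRingCat.of R') ⟶ Spec (CommRingCat.of R))
    (h₁ : g₁ ≫ Hens2.specOf X x R = Hens2.specOf X x' R')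
    (h₂ : g₂ ≫ Hens2.specOf X x R = Hens2.specOf X x' R')
    (h : Spec.map (CommRingCat.ofHom (residue R')) ≫ g₁ =
      Spec.map (CommRingCat.ofHom (residue R')) ≫ g₂) : g₁ = g₂ := by
  have hs : x' ⤳ x := specializes_of_hom X x x' R R' g₁ h₁
  haveI : HenselianLocalRing R' := Hensel.IsStrictHenselization.henselian (X.presheaf.stalk x')
  letI : Algebra (X.presheaf.stalk x) R' := (tau X x x' R' hs).toAlgebra
  obtain ⟨γ₁, rfl⟩ := Spec.map_surjective g₁
  obtain ⟨γ₂, rfl⟩ := Spec.map_surjective g₂
  rw [← specMap_tau X x x' R' hs] at h₁ h₂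
  have e₁ := (comp_specOf_eq_iff X x R γ₁.hom (tau X x x' R' hs)).mp h₁
  have e₂ := (comp_specOf_eq_iff X x R γ₂.hom (tau X x x' R' hs)).mp h₂
  let a₁ : R →ₐ[X.presheaf.stalk x] R' :=
    { γ₁.hom with commutes' := fun a => DFunLike.congr_fun e₁ a }
  let a₂ : R →ₐ[X.presheaf.stalk x] R' :=
    { γ₂.hom with commutes' := fun a => DFunLike.congr_fun e₂ a }
  rw [← Spec.map_comp, ← Spec.map_comp] at h
  have h3 := Spec.map_injective h
  have h4 : a₁ = a₂ := by
    apply algHom_ext_of_residue (X.presheaf.stalk x) R R'
    intro r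
    have h5 := congrArg (fun f => f.hom r) h3
    change residue R' (γ₁.hom r) = residue R' (γ₂.hom r) at h5
    change γ₁.hom r - γ₂.hom r ∈ maximalIdeal R'
    rw [← Ideal.Quotient.eq]
    exact h5
  congr 1
  apply CommRingCat.hom_ext
  exact congrArg (fun f : R →ₐ[X.presheaf.stalk x] R' => f.toRingHom) h4

/-- Existence of a specialization map with given restriction to the closed geometric point
(S5594, part 2). -/
theorem exists_hom_of_geomHom
    (h : Spec (CommRingCat.of (ResidueField R')) ⟶ Spec (CommRingCat.of R))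
    (hh : h ≫ Hens2.specOf X x R = Hens2.geomPt X x' R') :
    ∃ g : Spec (CommRingCat.of R') ⟶ Spec (CommRingCat.of R),
      g ≫ Hens2.specOf X x R = Hens2.specOf X x' R' ∧
        Spec.map (CommRingCat.ofHom (residue R')) ≫ g = h := by
  have hs : x' ⤳ x := specializes_of_geomHom X x x' R R' h hh
  haveI : HenselianLocalRing R' := Hensel.IsStrictHenselization.henselian (X.presheaf.stalk x')
  letI : Algebra (X.presheaf.stalk x) R' := (tau X x x' R' hs).toAlgebra
  obtain ⟨ρc, rfl⟩ := Spec.map_surjective h
  have hh' : Spec.map ρc ≫ Hens2.specOf X x R =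
      Spec.map (CommRingCat.ofHom ((residue R').comp (tau X x x' R' hs))) ≫
        X.fromSpecStalk x := by
    rw [hh]
    change Spec.map (CommRingCat.ofHom (residue R')) ≫ Hens2.specOf X x' R' = _
    rw [← specMap_tau X x x' R' hs, ← Category.assoc, ← Spec.map_comp]
    rfl
  have e := (comp_specOf_eq_iff X x R ρc.hom _).mp hh'
  let ρ : R →ₐ[X.presheaf.stalk x] R' ⧸ maximalIdeal R' :=
    { ρc.hom with commutes' := fun a => DFunLike.congr_fun e a }
  obtain ⟨g₀, hg₀, -⟩ := existsUnique_algHom_lift (X.presheaf.stalk x) R R' ρ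
  refine ⟨Spec.map (CommRingCat.ofHom g₀.toRingHom), ?_, ?_⟩
  · rw [← specMap_tau X x x' R' hs, comp_specOf_eq_iff]
    ext a
    exact g₀.commutes a
  · rw [← Spec.map_comp]
    congr 1
    apply CommRingCat.hom_ext
    apply RingHom.ext
    intro r
    exact DFunLike.congr_fun hg₀ r

end Main

end Groth.Agent.Lib.Helper3.StrictSpecializeScheme
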