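import Groth.Prelude.Def_CohTop
import Mathlib.Topology.Maps.Proper.Basic
import Mathlib.Topology.Sheaves.Skyscraper
import Mathlib.CategoryTheory.Filtered.Final
import Mathlib.CategoryTheory.Adjunction.Unique

/-!
# Topological proper base change, stalk formula: assembly (helper3)

`stalk (R^p f_* F) y ≅ H^p(f⁻¹ y, F|)` for a proper map with separated fibres, assembled from
* `R^p f_* F ≅ sheafify (V ↦ H^p(f⁻¹ V, F))` (S0461),
* `H^p(Z, F|Z) ≅ colim_{U ⊇ Z} H^p(U, F)` for compact relatively Hausdorff `Z` (S0946),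
both taken as hypotheses here.
-/

set_option autoImplicit false
set_option backward.isDefEq.respectTransparency false
set_option linter.unusedSectionVars false
set_option linter.style.haveILetI false

universe u

open CategoryTheory TopologicalSpace Opposite CategoryTheory.Limits

namespace Groth.Agent.Lib.Helper3.TopPBCStalk

section Sheafify

variable {Y : TopCat.{u}}

open Classical in
/-- The stalk of the sheafification of a presheaf is the stalk of the presheaf
(uniqueness of left adjoints of the skyscraper functor). -/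
noncomputable def stalkSheafifyIso (y : Y) :
    presheafToSheaf (Opens.grothendieckTopology Y) AddCommGrpCat.{u} ⋙
      (TopCat.Sheaf.forget AddCommGrpCat.{u} Y ⋙ TopCat.Presheaf.stalkFunctor AddCommGrpCat.{u} y) ≅
    TopCat.Presheaf.stalkFunctor AddCommGrpCat.{u} y :=
  Adjunction.leftAdjointUniq
    ((sheafificationAdjunction (Opens.grothendieckTopology Y) AddCommGrpCat.{u}).comp
      (stalkSkyscraperSheafAdjunction (C := AddCommGrpCat.{u}) y))
    (skyscraperPresheafStalkAdjunction (C := AddCommGrpCat.{u}) y)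

lemma nonempty_stalk_sheafify_iso (P : (Opens Y)ᵒᵖ ⥤ AddCommGrpCat.{u}) (y : Y) :
    Nonempty (CohTop.stalk ((presheafToSheaf (Opens.grothendieckTopology Y) AddCommGrpCat.{u}).obj P) y ≅
      TopCat.Presheaf.stalk (C := AddCommGrpCat.{u}) (X := Y) P y) :=
  ⟨(stalkSheafifyIso y).app P⟩

end Sheafify

section Final

variable {X Y : TopCat.{u}} (f : X ⟶ Y) (y : Y)

/-- The property "contains the fibre over `y`". -/
abbrev PZ : ObjectProperty (Opens X)ᵒᵖ := fun U => f ⁻¹' {y} ⊆ (U.unop : Set X)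

/-- `V ↦ f⁻¹ V` from open neighbourhoods of `y` to opens containing the fibre. -/
noncomputable abbrev G : (OpenNhds y)ᵒᵖ ⥤ (PZ f y).FullSubcategory :=
  (PZ f y).lift ((OpenNhds.inclusion y).op ⋙ (Opens.map f).op) (by
    intro V x hx
    have : f x = y := hx
    show f x ∈ (V.unop.1 : Set Y)
    rw [this]
    exact V.unop.2)

lemma final_G (hf : IsClosedMap f) : (G f y).Final := by
  apply Functor.final_of_exists_of_isFiltered
  · rintro ⟨⟨U⟩, hU⟩
    have hU' : f ⁻¹' {y} ⊆ (U : Set X) := hU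
    have hopen : IsOpen ((f '' (U : Set X)ᶜ)ᶜ) := (hf _ U.isOpen.isClosed_compl).isOpen_compl
    have hy : y ∈ (f '' (U : Set X)ᶜ)ᶜ := by
      rintro ⟨x, hx, hxy⟩
      exact hx (hU' hxy)
    refine ⟨op ⟨⟨_, hopen⟩, hy⟩, ⟨ObjectProperty.homMk (homOfLE ?_).op⟩⟩
    intro x hx
    by_contra hxU
    exact hx ⟨x, hxU, rfl⟩
  · intro d c s s'
    exact ⟨c, 𝟙 _, by
      have : s = s' := by
        apply ObjectProperty.hom_ext
        exact Subsingleton.elim _ _
      rw [this]⟩

end Final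

section Main

variable {X Y : TopCat.{u}} (f : X ⟶ Y)

theorem main (hf : IsProperMap f)
    (hs : ∀ x x' : X, f x = f x' → x ≠ x' →
      ∃ U V : Set X, IsOpen U ∧ IsOpen V ∧ x ∈ U ∧ x' ∈ V ∧ Disjoint U V)
    (y : Y) (F : CohTop.Ab X) (p : ℕ)
    (h461 : Nonempty ((CohTop.Rpush f p).obj F ≅
      (presheafToSheaf (Opens.grothendieckTopology Y) AddCommGrpCat.{u}).obj
        ((Opens.map f).op ⋙ Sheaf.cohomologyPresheaf.{u} F p)))
    (h946 : ∀ (Z : Set X) (_ : IsCompact Z)
      (_ : ∀ x ∈ Z, ∀ y ∈ Z, x ≠ y → ∃ U V : Opens X, x ∈ U ∧ y ∈ V ∧ Disjoint U V),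
      Nonempty ((colimit (ObjectProperty.ι (fun U : (Opens X)ᵒᵖ => Z ⊆ (U.unop : Set X)) ⋙
        (Sheaf.cohomologyPresheafFunctor (Opens.grothendieckTopology X) p).obj F) :
          AddCommGrpCat.{u}) ≃+
        CohTop.H ((CohTop.pull (TopCat.ofHom ⟨Subtype.val, continuous_subtype_val⟩ :
          TopCat.of Z ⟶ X)).obj F) p)) :
    Nonempty (CohTop.stalk ((CohTop.Rpush f p).obj F) y ≅
      AddCommGrpCat.of (CohTop.H ((CohTop.pull (TopCat.ofHom ⟨((↑) : f ⁻¹' {y} → X),
        continuous_subtype_val⟩)).obj F) p)) := by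
  obtain ⟨e1⟩ := h461
  set P : (Opens Y)ᵒᵖ ⥤ AddCommGrpCat.{u} :=
    (Opens.map f).op ⋙ Sheaf.cohomologyPresheaf.{u} F p with hP
  obtain ⟨e2⟩ := nonempty_stalk_sheafify_iso P y
  have hZ : IsCompact (f ⁻¹' {y}) := hf.isCompact_preimage isCompact_singleton
  have hsep : ∀ x ∈ f ⁻¹' {y}, ∀ x' ∈ f ⁻¹' {y}, x ≠ x' →
      ∃ U V : Opens X, x ∈ U ∧ x' ∈ V ∧ Disjoint U V := by
    intro x hx x' hx' hne
    have hx1 : f x = y := hx
    have hx2 : f x' = y := hx'
    obtain ⟨U, V, hU, hV, hxU, hxV, hd⟩ := hs x x' (hx1.trans hx2.symm) hne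
    refine ⟨⟨U, hU⟩, ⟨V, hV⟩, hxU, hxV, ?_⟩
    rw [disjoint_iff] at hd ⊢
    ext z
    simp only [Opens.coe_inf, Opens.coe_mk, Opens.coe_bot]
    exact Set.ext_iff.mp hd z
  obtain ⟨e3⟩ := h946 (f ⁻¹' {y}) hZ hsep
  haveI : (G f y).Final := final_G f y hf.isClosedMap
  -- stalk of `P` at `y` as a colimit over opens containing the fibre
  let e4 : TopCat.Presheaf.stalk (C := AddCommGrpCat.{u}) (X := Y) P y ≅
      colimit ((PZ f y).ι ⋙
        (Sheaf.cohomologyPresheafFunctor (Opens.grothendieckTopology X) p).obj F) :=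
    Functor.Final.colimitIso (G f y) ((PZ f y).ι ⋙
        (Sheaf.cohomologyPresheafFunctor (Opens.grothendieckTopology X) p).obj F)
  exact ⟨(TopCat.Presheaf.stalkFunctor AddCommGrpCat.{u} y).mapIso
      ((sheafToPresheaf _ _).mapIso e1) ≪≫ e2 ≪≫ e4 ≪≫ (AddEquiv.toAddCommGrpIso (X := colimit ((PZ f y).ι ⋙ (Sheaf.cohomologyPresheafFunctor (Opens.grothendieckTopology X) p).obj F)) (Y := AddCommGrpCat.of _) e3)⟩

end Main

end Groth.Agent.Lib.Helper3.TopPBCStalk
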