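import Mathlib

/-!
# The total ring of fractions of a reduced ring with finitely many minimal primes is Artinian
-/

set_option autoImplicit false
set_option linter.style.haveILetI false
set_option linter.unusedSectionVars false

universe u

namespace Groth.Agent.Lib.Helper3.TotalFrac

section

variable {A : Type*} [CommRing A] [IsReduced A]

/-- In a reduced ring, a zero divisor lies in some minimal prime. -/
theorem exists_mem_minimalPrimes_of_notMem_nonZeroDivisors {x : A}
    (hx : x ∉ nonZeroDivisors A) : ∃ p ∈ minimalPrimes A, x ∈ p := by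
  rw [mem_nonZeroDivisors_iff_right] at hx
  push_neg at hx
  obtain ⟨y, hxy, hy⟩ := hx
  by_contra hcon
  push_neg at hcon
  apply hy
  have h1 : y ∈ sInf (minimalPrimes A) := by
    rw [Submodule.mem_sInf]
    intro p hp
    have hp' : Ideal.IsPrime p := hp.1.1
    have : y * x ∈ p := by rw [hxy]; exact p.zero_mem
    exact (hp'.mem_or_mem this).resolve_right (hcon p hp)
  have h2 : sInf (minimalPrimes A) = nilradical A := by
    rw [minimalPrimes, Ideal.sInf_minimalPrimes, nilradical]
    rfl
  rw [h2, nilradical_eq_zero] at h1
  exact h1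

/-- A prime disjoint from the non-zero-divisors of a reduced ring with finitely many minimal
primes is a minimal prime. -/
theorem mem_minimalPrimes_of_disjoint_nonZeroDivisors (hmin : (minimalPrimes A).Finite)
    (q : Ideal A) [hq : q.IsPrime] (hdisj : Disjoint (nonZeroDivisors A : Set A) (q : Set A)) :
    q ∈ minimalPrimes A := by
  classical
  have hsub : (q : Set A) ⊆ ⋃ p ∈ (hmin.toFinset : Set (Ideal A)), (id p : Ideal A) := by
    intro x hx
    have hxn : x ∉ nonZeroDivisors A := fun h => Set.disjoint_left.mp hdisj h hx
    obtain ⟨p, hp, hxp⟩ := exists_mem_minimalPrimes_of_notMem_nonZeroDivisors hxn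
    simp only [Set.mem_iUnion]
    exact ⟨p, by simpa using hp, hxp⟩
  have hprime : ∀ i ∈ hmin.toFinset, i ≠ (⊥ : Ideal A) → i ≠ (⊥ : Ideal A) →
      (id i : Ideal A).IsPrime := by
    intro i hi _ _
    have : i ∈ minimalPrimes A := by simpa using hi
    exact this.1.1
  obtain ⟨p, hp, hqp⟩ := (Ideal.subset_union_prime (s := hmin.toFinset) (f := id) ⊥ ⊥ hprime).mp hsub
  have hp' : p ∈ minimalPrimes A := by simpa using hp
  have hpq : p ≤ q := hp'.2 ⟨hq, bot_le⟩ hqp
  have : q = p := le_antisymm hqp hpq
  rw [this]; exact hp'

end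

section

variable (A : Type u) [CommRing A] [IsReduced A] (K : Type u) [CommRing K] [Algebra A K]
  [IsFractionRing A K]

theorem comap_mem_minimalPrimes (hmin : (minimalPrimes A).Finite) (P : Ideal K) [hP : P.IsPrime] :
    P.comap (algebraMap A K) ∈ minimalPrimes A := by
  have h := (IsLocalization.isPrime_iff_isPrime_disjoint (nonZeroDivisors A) K P).mp hP
  haveI := h.1
  exact mem_minimalPrimes_of_disjoint_nonZeroDivisors hmin _ h.2

theorem eq_of_comap_eq (P Q : Ideal K) (h : P.comap (algebraMap A K) = Q.comap (algebraMap A K)) :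
    P = Q := by
  have h1 := IsLocalization.map_under (nonZeroDivisors A) K P
  have h2 := IsLocalization.map_under (nonZeroDivisors A) K Q
  rw [← h1, ← h2]
  exact congrArg _ h

include A in
theorem isReduced_of_isFractionRing : IsReduced K :=
  isReduced_localizationPreserves (nonZeroDivisors A) K inferInstance

theorem finite_primeSpectrum (hmin : (minimalPrimes A).Finite) : Finite (PrimeSpectrum K) := by
  haveI : Finite (minimalPrimes A) := hmin.to_subtype
  let g : PrimeSpectrum K → minimalPrimes A := fun P =>
    ⟨P.asIdeal.comap (algebraMap A K), comap_mem_minimalPrimes A K hmin P.asIdeal⟩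
  apply Finite.of_injective g
  intro P Q h
  have h' : P.asIdeal.comap (algebraMap A K) = Q.asIdeal.comap (algebraMap A K) :=
    congrArg Subtype.val h
  exact PrimeSpectrum.ext (eq_of_comap_eq A K _ _ h')

theorem isMaximal_of_isPrime (hmin : (minimalPrimes A).Finite) (P : Ideal K) [hP : P.IsPrime] :
    P.IsMaximal := by
  obtain ⟨M, hM, hPM⟩ := Ideal.exists_le_maximal P hP.ne_top
  haveI := hM.isPrime
  have h1 := comap_mem_minimalPrimes A K hmin P
  have h2 := comap_mem_minimalPrimes A K hmin M
  have h3 : P.comap (algebraMap A K) ≤ M.comap (algebraMap A K) := Ideal.comap_mono hPM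
  have h4 : M.comap (algebraMap A K) ≤ P.comap (algebraMap A K) := h2.2 h1.1 h3
  have : P = M := eq_of_comap_eq A K _ _ (le_antisymm h3 h4)
  rw [this]; exact hM

/-- The total ring of fractions of a reduced ring with finitely many minimal primes is
Artinian. -/
theorem isArtinianRing_of_isFractionRing (hmin : (minimalPrimes A).Finite) : IsArtinianRing K := by
  classical
  haveI := finite_primeSpectrum A K hmin
  haveI : Fintype (PrimeSpectrum K) := Fintype.ofFinite _
  haveI := isReduced_of_isFractionRing A K
  let f : PrimeSpectrum K → Ideal K := fun p => p.asIdeal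
  have hmax : ∀ p, (f p).IsMaximal := fun p => isMaximal_of_isPrime A K hmin p.asIdeal
  have hcop : Pairwise (Function.onFun IsCoprime f) := by
    intro p q hpq
    change IsCoprime (f p) (f q)
    rw [Ideal.isCoprime_iff_sup_eq]
    exact Ideal.IsMaximal.coprime_of_ne (hmax p) (hmax q) (fun h => hpq (PrimeSpectrum.ext h))
  have hinf : ⨅ p, f p = ⊥ := by
    have h1 : ⨅ p, f p = nilradical K := by
      rw [nilradical_eq_sInf]
      apply le_antisymm
      · apply le_sInf
        intro J hJ
        exact iInf_le f ⟨J, hJ⟩
      · apply le_iInf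
        intro p
        exact sInf_le p.isPrime
    rw [h1, nilradical_eq_zero]
    rfl
  let e := Ideal.quotientInfRingEquivPiQuotient f hcop
  haveI : ∀ p, IsArtinianRing (K ⧸ f p) := fun p => by
    haveI := hmax p
    letI := Ideal.Quotient.field (f p)
    infer_instance
  have e1 : K ≃+* (K ⧸ ⨅ p, f p) :=
    (RingEquiv.quotientBot K).symm.trans (Ideal.quotEquivOfEq hinf.symm)
  exact (e1.trans e).symm.isArtinianRing

end

end Groth.Agent.Lib.Helper3.TotalFrac
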