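import Groth.Agent.Lib.Helper3.UnramSplit

/-!
# Étale-local structure of unramified ring maps (helper3)

Stacks 00UX / 00UY: after an étale base change an unramified map splits as
`R' ⊗ S ≅ A × B` with `R' → A` surjective.
-/

set_option autoImplicit false
set_option linter.style.haveILetI false
set_option linter.unusedSectionVars false

universe u

namespace Groth.Agent.Lib.Helper3

open TensorProduct

section BaseChange

variable {R : Type*} [CommRing R] {S : Type*} [CommRing S] [Algebra R S]

/-- Unramifiedness at a prime is stable under base change. -/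
theorem isUnramifiedAt_baseChange [Algebra.FiniteType R S] (R' : Type*) [CommRing R']
    [Algebra R R'] (q : Ideal S) [q.IsPrime] [Algebra.IsUnramifiedAt R q]
    (q' : Ideal (R' ⊗[R] S)) [q'.IsPrime]
    (hq' : q'.comap (Algebra.TensorProduct.includeRight : S →ₐ[R] R' ⊗[R] S).toRingHom = q) :
    Algebra.IsUnramifiedAt R' q' := by
  obtain ⟨g, hgq, hg⟩ := Algebra.exists_formallyUnramified_of_isUnramifiedAt (R := R) q
  have h1 : Algebra.FormallyUnramified R' (R' ⊗[R] Localization.Away g) := inferInstance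
  have h2 : Algebra.FormallyUnramified R' (Localization.Away ((1 : R') ⊗ₜ[R] g)) :=
    .of_equiv (IsLocalization.Away.tensorProductEquivTMulRight R R' g (Localization.Away g))
  rw [← Algebra.basicOpen_subset_unramifiedLocus_iff] at h2
  refine @h2 ⟨q', inferInstance⟩ ?_
  change (1 : R') ⊗ₜ[R] g ∉ q'
  intro hmem
  apply hgq
  rw [← hq']
  exact hmem

end BaseChange

section StepI

/-- Step I: an étale neighbourhood of `p = q ∩ R` trivialising the residue field extension at `q`,
in the strong form that `R₁ → (R₁ ⊗ S)/q₁` is surjective. -/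
theorem exists_etale_residue_trivial (R : Type u) [CommRing R] (S : Type u) [CommRing S]
    [Algebra R S] [Algebra.FiniteType R S] (q : Ideal S) [q.IsPrime]
    [Algebra.IsUnramifiedAt R q] :
    ∃ (R₁ : Type u) (_ : CommRing R₁) (_ : Algebra R R₁) (_ : Algebra.Etale R R₁)
      (q₁ : Ideal (R₁ ⊗[R] S)) (_ : q₁.IsPrime),
      q₁.comap (Algebra.TensorProduct.includeRight : S →ₐ[R] R₁ ⊗[R] S).toRingHom = q ∧
        ∀ x : R₁ ⊗[R] S, ∃ a : R₁, x - algebraMap R₁ (R₁ ⊗[R] S) a ∈ q₁ := by
  obtain ⟨f, hfq, P, φ, hφ⟩ :=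
    Algebra.IsUnramifiedAt.exists_hasStandardEtaleSurjectionOn (R := R) q
  let Sf := Localization.Away f
  let ψ : P.Ring ⊗[R] S →ₐ[R] Sf :=
    Algebra.TensorProduct.lift φ (IsScalarTower.toAlgHom R S Sf) (fun _ _ => Commute.all _ _)
  have hdisj : Disjoint (Submonoid.powers f : Set S) (q : Set S) := by
    rwa [Ideal.disjoint_powers_iff_notMem_of_isPrime]
  let Qf : Ideal Sf := q.map (algebraMap S Sf)
  haveI hQf : Qf.IsPrime :=
    IsLocalization.isPrime_of_isPrime_disjoint (Submonoid.powers f) Sf q inferInstance hdisj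
  have hQfc : Qf.comap (algebraMap S Sf) = q :=
    IsLocalization.under_map_of_isPrime_disjoint (Submonoid.powers f) Sf inferInstance hdisj
  refine ⟨P.Ring, inferInstance, inferInstance, inferInstance, Qf.comap ψ.toRingHom,
    inferInstance, ?_, ?_⟩
  · ext x
    rw [Ideal.mem_comap, Ideal.mem_comap, ← hQfc, Ideal.mem_comap]
    have : ψ.toRingHom ((Algebra.TensorProduct.includeRight : S →ₐ[R] P.Ring ⊗[R] S).toRingHom x)
        = algebraMap S Sf x := by
      simp [ψ]
    rw [this]
  · intro x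
    obtain ⟨a, ha⟩ := hφ (ψ x)
    refine ⟨a, ?_⟩
    rw [Ideal.mem_comap]
    have : ψ.toRingHom (x - algebraMap P.Ring (P.Ring ⊗[R] S) a) = 0 := by
      change ψ (x - algebraMap P.Ring (P.Ring ⊗[R] S) a) = 0
      rw [map_sub, Algebra.TensorProduct.algebraMap_apply, Algebra.algebraMap_self,
        RingHom.id_apply]
      simp [ψ, ha]
    rw [this]
    exact zero_mem _

end StepI

section StepII

/-- The property "`R → S/q` is surjective" is stable under base change. -/
theorem exists_sub_algebraMap_mem_baseChange {R : Type*} [CommRing R] {S : Type*} [CommRing S]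
    [Algebra R S] (q : Ideal S) (hres : ∀ x : S, ∃ a : R, x - algebraMap R S a ∈ q)
    (R' : Type*) [CommRing R'] [Algebra R R'] (q' : Ideal (R' ⊗[R] S))
    (hq' : q'.comap (Algebra.TensorProduct.includeRight : S →ₐ[R] R' ⊗[R] S).toRingHom = q)
    (x : R' ⊗[R] S) : ∃ a : R', x - algebraMap R' (R' ⊗[R] S) a ∈ q' := by
  induction x using TensorProduct.induction_on with
  | zero => exact ⟨0, by simp⟩
  | tmul a' s =>
    obtain ⟨b, hb⟩ := hres s
    refine ⟨a' * algebraMap R R' b, ?_⟩
    have h1 : (1 : R') ⊗ₜ[R] (s - algebraMap R S b) ∈ q' := by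
      rw [← hq'] at hb
      exact hb
    have h2 : a' ⊗ₜ[R] s - algebraMap R' (R' ⊗[R] S) (a' * algebraMap R R' b) =
        (a' ⊗ₜ[R] (1 : S)) * ((1 : R') ⊗ₜ[R] (s - algebraMap R S b)) := by
      rw [Algebra.TensorProduct.algebraMap_apply, Algebra.algebraMap_self, RingHom.id_apply,
        Algebra.TensorProduct.tmul_mul_tmul, mul_one, one_mul, TensorProduct.tmul_sub,
        Algebra.algebraMap_eq_smul_one, Algebra.algebraMap_eq_smul_one, mul_smul_comm, mul_one,
        TensorProduct.smul_tmul]
    rw [h2]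
    exact q'.mul_mem_left _ h1
  | add x y hx hy =>
    obtain ⟨a, ha⟩ := hx
    obtain ⟨b, hb⟩ := hy
    refine ⟨a + b, ?_⟩
    have : x + y - algebraMap R' (R' ⊗[R] S) (a + b) =
        (x - algebraMap R' (R' ⊗[R] S) a) + (y - algebraMap R' (R' ⊗[R] S) b) := by
      rw [map_add]; ring
    rw [this]
    exact q'.add_mem ha hb

/-- Step II: after an étale base change, `q` is the only prime over `p` in a finite clopen part. -/
theorem exists_etale_split_finite (R : Type u) [CommRing R] (S : Type u) [CommRing S]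
    [Algebra R S] [Algebra.FiniteType R S] (q : Ideal S) [q.IsPrime]
    [Algebra.IsUnramifiedAt R q] (hres : ∀ x : S, ∃ a : R, x - algebraMap R S a ∈ q) :
    ∃ (R₂ : Type u) (_ : CommRing R₂) (_ : Algebra R R₂) (_ : Algebra.Etale R R₂)
      (q₂ : Ideal (R₂ ⊗[R] S)) (_ : q₂.IsPrime),
      q₂.comap (Algebra.TensorProduct.includeRight : S →ₐ[R] R₂ ⊗[R] S).toRingHom = q ∧
      (∀ x : R₂ ⊗[R] S, ∃ a : R₂, x - algebraMap R₂ (R₂ ⊗[R] S) a ∈ q₂) ∧
      ∃ e : R₂ ⊗[R] S, IsIdempotentElem e ∧ e ∉ q₂ ∧ Module.Finite R₂ (Localization.Away e) ∧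
        ∀ P'' : Ideal (R₂ ⊗[R] S), P''.IsPrime → P''.LiesOver (q₂.under R₂) → e ∉ P'' →
          P'' = q₂ := by
  haveI : q.LiesOver (q.under R) := ⟨rfl⟩
  haveI : Algebra.QuasiFiniteAt R q := inferInstance
  obtain ⟨R', _, _, _, P, _, _, e, he, P', _, hP'P, hP'q, heP', -, hfin, huniq⟩ :=
    Algebra.exists_etale_isIdempotentElem_forall_liesOver_eq (R := R) (S := S) (q.under R) q
  refine ⟨R', inferInstance, inferInstance, inferInstance, P', inferInstance, hP'q,
    exists_sub_algebraMap_mem_baseChange q hres R' P' hP'q, e, he, heP', hfin, ?_⟩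
  intro P'' hP'' hP''over heP''
  have : P''.LiesOver P := by
    rw [P'.over_def P]; exact hP''over
  exact huniq P'' hP'' this heP''

end StepII

section StepIII

open IsLocalRing in
/-- Step III (Nakayama): a finite algebra with a unique prime `Q` over `p`, unramified at `Q` and
with `R → A/Q` surjective, is a quotient of `R` after inverting some `r ∉ p`. -/
theorem exists_notMem_forall_mul_eq_algebraMap {R A : Type*} [CommRing R] [CommRing A]
    [Algebra R A] [Module.Finite R A] (p : Ideal R) [p.IsPrime] (Q : Ideal A) [Q.IsPrime]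
    [Q.LiesOver p] [Algebra.IsUnramifiedAt R Q] (hQ : p.primesOver A = {Q})
    (hres : ∀ x : A, ∃ a : R, x - algebraMap R A a ∈ Q) :
    ∃ r : R, r ∉ p ∧ ∀ x : A, ∃ a : R, algebraMap R A r * x = algebraMap R A a := by
  classical
  letI := Localization.AtPrime.algebraOfLiesOver p Q
  have H : Function.Surjective (algebraMap p.ResidueField Q.ResidueField) := by
    have hA : ∀ y : A, algebraMap A Q.ResidueField y ∈
        (algebraMap p.ResidueField Q.ResidueField).fieldRange := by
      intro y
      obtain ⟨a, ha⟩ := hres y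
      have h0 : algebraMap A Q.ResidueField (y - algebraMap R A a) = 0 :=
        Ideal.algebraMap_residueField_eq_zero.mpr ha
      rw [map_sub, sub_eq_zero] at h0
      rw [h0, RingHom.mem_fieldRange]
      refine ⟨algebraMap R p.ResidueField a, ?_⟩
      rw [← IsScalarTower.algebraMap_apply, ← IsScalarTower.algebraMap_apply]
    intro x
    obtain ⟨x, rfl⟩ := IsLocalRing.residue_surjective x
    obtain ⟨y, ⟨s, hs⟩, rfl⟩ := IsLocalization.exists_mk'_eq Q.primeCompl x
    have h1 : residue (Localization.AtPrime Q) (IsLocalization.mk' _ y ⟨s, hs⟩) =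
        algebraMap A Q.ResidueField y * (algebraMap A Q.ResidueField s)⁻¹ := by
      have hs0 : algebraMap A Q.ResidueField s ≠ 0 := by
        rw [Ne, Ideal.algebraMap_residueField_eq_zero]
        exact hs
      rw [eq_mul_inv_iff_mul_eq₀ hs0, IsScalarTower.algebraMap_apply A (Localization.AtPrime Q),
        IsScalarTower.algebraMap_apply A (Localization.AtPrime Q) Q.ResidueField y,
        IsLocalRing.ResidueField.algebraMap_eq, ← map_mul, IsLocalization.mk'_spec]
    rw [h1]
    exact (RingHom.mem_fieldRange.mp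
      (mul_mem (hA y) (inv_mem (hA s))))
  have hsurj := Localization.localRingHom_surjective_of_primesOver_eq_singleton hQ H
  have key : ∀ x : A, ∃ a, ∃ b ∉ p, algebraMap R A a = x * algebraMap R A b := by
    intro x
    have := (IsLocalization.mk'_surjective p.primeCompl).exists.mp (hsurj (algebraMap _ _ x))
    simp only [Localization.localRingHom_mk', Prod.exists, Subtype.exists,
      Ideal.mem_primeCompl_iff, IsLocalization.mk'_eq_iff_eq_mul, exists_prop, ← map_mul,
      IsLocalization.eq_iff_exists Q.primeCompl] at this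
    obtain ⟨a, b, hbp, c, hcq, hc⟩ := this
    obtain ⟨d, hd, e, he⟩ :=
      Ideal.exists_notMem_dvd_algebraMap_of_primesOver_eq_singleton hQ _ hcq
    exact ⟨d * a, d * b, ‹p.IsPrime›.mul_notMem hd hbp, by grind⟩
  choose a b hbp e using key
  obtain ⟨s, hs⟩ := Module.Finite.fg_top (R := R) (M := A)
  refine ⟨∏ i ∈ s, b i, prod_mem (S := p.primeCompl) (fun _ _ => hbp _), ?_⟩
  intro x
  have hx : x ∈ Submodule.span R (s : Set A) := hs ▸ Submodule.mem_top
  induction hx using Submodule.span_induction with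
  | mem y hy =>
    refine ⟨(∏ i ∈ s.erase y, b i) * a y, ?_⟩
    rw [← Finset.prod_erase_mul s b hy, map_mul, map_mul, e y]
    ring
  | zero => exact ⟨0, by simp⟩
  | add y z _ _ hy hz =>
    obtain ⟨a₁, h₁⟩ := hy
    obtain ⟨a₂, h₂⟩ := hz
    exact ⟨a₁ + a₂, by rw [mul_add, h₁, h₂, map_add]⟩
  | smul c y _ hy =>
    obtain ⟨a₁, h₁⟩ := hy
    exact ⟨c * a₁, by rw [mul_smul_comm, h₁, map_mul, Algebra.smul_def]⟩

/-- Step III for a clopen finite part of `S`. -/
theorem exists_notMem_forall_mul_sub_mem_span {R S : Type*} [CommRing R] [CommRing S]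
    [Algebra R S] (q : Ideal S) [q.IsPrime] [Algebra.IsUnramifiedAt R q]
    (hres : ∀ x : S, ∃ a : R, x - algebraMap R S a ∈ q) (e : S) (he : IsIdempotentElem e)
    (heq : e ∉ q) (hfin : Module.Finite R (Localization.Away e))
    (huniq : ∀ P'' : Ideal S, P''.IsPrime → P''.LiesOver (q.under R) → e ∉ P'' → P'' = q) :
    ∃ r : R, r ∉ q.under R ∧ ∀ x : S, ∃ a : R,
      algebraMap R S r * x - algebraMap R S a ∈ Ideal.span ({1 - e} : Set S) := by
  set L : Ideal S := Ideal.span ({1 - e} : Set S) with hL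
  let A := S ⧸ L
  haveI : IsLocalization.Away e A := IsLocalization.Away.quotient_of_isIdempotentElem he
  haveI : Module.Finite R A :=
    Module.Finite.equiv ((IsLocalization.algEquiv (Submonoid.powers e) (Localization.Away e)
      A).restrictScalars R).toLinearEquiv
  have h1e : 1 - e ∈ q := by
    have : e * (1 - e) ∈ q := by
      rw [mul_sub, mul_one, he.eq, sub_self]; exact zero_mem _
    exact (‹q.IsPrime›.mem_or_mem this).resolve_left heq
  have hLq : L ≤ q := by
    rw [hL, Ideal.span_le, Set.singleton_subset_iff]; exact h1e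
  have hker : RingHom.ker (Ideal.Quotient.mk L) ≤ q := by rwa [Ideal.mk_ker]
  let Q : Ideal A := q.map (Ideal.Quotient.mk L)
  haveI hQprime : Q.IsPrime := Ideal.map_isPrime_of_surjective Ideal.Quotient.mk_surjective hker
  have hQc : Q.comap (Ideal.Quotient.mk L) = q := by
    rw [Ideal.comap_map_of_surjective' _ Ideal.Quotient.mk_surjective, sup_eq_left]
    exact hker
  haveI hQover : Q.LiesOver (q.under R) := by
    constructor
    rw [← hQc]
    rfl
  haveI hQq : Q.LiesOver q := ⟨hQc.symm⟩
  haveI : Algebra.IsUnramifiedAt S Q := by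
    haveI : Algebra.FormallyUnramified S A := .quotient _
    exact Algebra.FormallyUnramified.comp S A (Localization.AtPrime Q)
  haveI : Algebra.IsUnramifiedAt R Q := Algebra.IsUnramifiedAt.comp q Q
  have hprimes : (q.under R).primesOver A = {Q} := by
    ext P
    constructor
    · rintro ⟨hP, hPover⟩
      have h1 : (P.comap (Ideal.Quotient.mk L)).IsPrime := Ideal.comap_isPrime _ _
      have h2 : (P.comap (Ideal.Quotient.mk L)).LiesOver (q.under R) := by
        constructor
        rw [hPover.over]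
        rfl
      have h3 : e ∉ P.comap (Ideal.Quotient.mk L) := by
        intro hmem
        rw [Ideal.mem_comap] at hmem
        have hmke : Ideal.Quotient.mk L e = 1 := by
          rw [← map_one (Ideal.Quotient.mk L), eq_comm, Ideal.Quotient.eq]
          exact Ideal.subset_span rfl
        rw [hmke] at hmem
        exact hP.ne_top ((Ideal.eq_top_iff_one _).mpr hmem)
      have h4 := huniq _ h1 h2 h3
      rw [Set.mem_singleton_iff, ← Ideal.map_comap_of_surjective _ Ideal.Quotient.mk_surjective P,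
        h4]
    · rintro rfl
      exact ⟨hQprime, hQover⟩
  have hresA : ∀ x : A, ∃ a : R, x - algebraMap R A a ∈ Q := by
    intro x
    obtain ⟨x, rfl⟩ := Ideal.Quotient.mk_surjective x
    obtain ⟨a, ha⟩ := hres x
    refine ⟨a, ?_⟩
    have : Ideal.Quotient.mk L x - algebraMap R A a = Ideal.Quotient.mk L (x - algebraMap R S a) := by
      rw [map_sub]; rfl
    rw [this]
    exact Ideal.mem_map_of_mem _ ha
  obtain ⟨r, hr, hrA⟩ := exists_notMem_forall_mul_eq_algebraMap (q.under R) Q hprimes hresA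
  refine ⟨r, hr, fun x => ?_⟩
  obtain ⟨a, ha⟩ := hrA (Ideal.Quotient.mk L x)
  refine ⟨a, ?_⟩
  rw [← Ideal.Quotient.eq, map_mul]
  exact ha

end StepIII

section Final

/-- Splitting a ring along an idempotent, as algebras, with the explicit formula. -/
theorem exists_algEquiv_prod_of_isIdempotentElem {R S : Type*} [CommRing R] [CommRing S]
    [Algebra R S] {e : S} (he : IsIdempotentElem e) :
    ∃ φ : S ≃ₐ[R] (S ⧸ Ideal.span ({1 - e} : Set S)) × (S ⧸ Ideal.span ({e} : Set S)),
      ∀ x, φ x = (Ideal.Quotient.mk _ x, Ideal.Quotient.mk _ x) := by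
  let f : S →ₐ[R] (S ⧸ Ideal.span ({1 - e} : Set S)) × (S ⧸ Ideal.span ({e} : Set S)) :=
    AlgHom.prod (Ideal.Quotient.mkₐ R _) (Ideal.Quotient.mkₐ R _)
  have he' : e * (1 - e) = 0 := by rw [mul_sub, mul_one, he.eq, sub_self]
  refine ⟨AlgEquiv.ofBijective f ⟨?_, ?_⟩, fun x => rfl⟩
  · rw [injective_iff_map_eq_zero]
    intro x hx
    have h1 : Ideal.Quotient.mk (Ideal.span ({1 - e} : Set S)) x = 0 := congrArg Prod.fst hx
    have h2 : Ideal.Quotient.mk (Ideal.span ({e} : Set S)) x = 0 := congrArg Prod.snd hx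
    rw [Ideal.Quotient.eq_zero_iff_mem, Ideal.mem_span_singleton'] at h1 h2
    obtain ⟨a, ha⟩ := h1
    obtain ⟨b, hb⟩ := h2
    have : x = x * e + x * (1 - e) := by ring
    rw [this]
    nth_rw 1 [← ha]
    nth_rw 1 [← hb]
    linear_combination (a + b) * he'
  · rintro ⟨x, y⟩
    obtain ⟨x, rfl⟩ := Ideal.Quotient.mk_surjective x
    obtain ⟨y, rfl⟩ := Ideal.Quotient.mk_surjective y
    refine ⟨x * e + y * (1 - e), ?_⟩
    apply Prod.ext
    · change Ideal.Quotient.mk _ (x * e + y * (1 - e)) = Ideal.Quotient.mk _ x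
      rw [Ideal.Quotient.eq, Ideal.mem_span_singleton']
      exact ⟨y - x, by ring⟩
    · change Ideal.Quotient.mk _ (x * e + y * (1 - e)) = Ideal.Quotient.mk _ y
      rw [Ideal.Quotient.eq, Ideal.mem_span_singleton']
      exact ⟨x - y, by ring⟩

/-- The conclusion of the étale-local structure theorem at `q` (S9452). -/
def UnramSplitAt (R : Type u) [CommRing R] (S : Type u) [CommRing S] [Algebra R S]
    (q : Ideal S) [q.IsPrime] : Prop :=
  ∃ (R' : Type u) (_ : CommRing R') (_ : Algebra R R') (_ : Algebra.Etale R R') (p' : Ideal R')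
    (_ : p'.IsPrime) (_ : p'.LiesOver (q.under R)) (A : Type u) (_ : CommRing A) (_ : Algebra R' A)
    (B : Type u) (_ : CommRing B) (_ : Algebra R' B) (e : (R' ⊗[R] S) ≃ₐ[R'] (A × B)),
    Function.Surjective (algebraMap R' A) ∧ (p'.map (algebraMap R' A)).IsPrime ∧
      (p'.map (algebraMap R' A)).comap (algebraMap R' A) = p' ∧
      (p'.map (algebraMap R' A)).comap (((RingHom.fst A B).comp e.toRingHom).comp
        (Algebra.TensorProduct.includeRight : S →ₐ[R] R' ⊗[R] S).toRingHom) = q

/-- Transitivity of `UnramSplitAt` along an étale base change. -/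
theorem UnramSplitAt.of_baseChange (R : Type u) [CommRing R] (S : Type u) [CommRing S]
    [Algebra R S] (q : Ideal S) [q.IsPrime] (R₁ : Type u) [CommRing R₁] [Algebra R R₁]
    [Algebra.Etale R R₁] (q₁ : Ideal (R₁ ⊗[R] S)) [q₁.IsPrime]
    (hq₁ : q₁.comap (Algebra.TensorProduct.includeRight : S →ₐ[R] R₁ ⊗[R] S).toRingHom = q)
    (h : UnramSplitAt R₁ (R₁ ⊗[R] S) q₁) : UnramSplitAt R S q := by
  obtain ⟨R', _, _, _, p', _, hp', A, _, _, B, _, _, e₁, hsurj, hprime, hcomap, hq⟩ := h
  letI : Algebra R R' := ((algebraMap R₁ R').comp (algebraMap R R₁)).toAlgebra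
  haveI : IsScalarTower R R₁ R' := IsScalarTower.of_algebraMap_eq' rfl
  haveI : Algebra.Etale R R' := Algebra.Etale.comp R R₁ R'
  have hover : p'.LiesOver (q.under R) := by
    constructor
    have h1 : p'.under R = (p'.under R₁).under R := by
      rw [Ideal.under_under]
    rw [h1, ← hp'.over, ← hq₁]
    ext x
    simp only [Ideal.under, Ideal.mem_comap]
    have : algebraMap R₁ (R₁ ⊗[R] S) (algebraMap R R₁ x) =
        (Algebra.TensorProduct.includeRight : S →ₐ[R] R₁ ⊗[R] S).toRingHom (algebraMap R S x) := by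
      rw [← IsScalarTower.algebraMap_apply]
      exact ((Algebra.TensorProduct.includeRight : S →ₐ[R] R₁ ⊗[R] S).commutes x).symm
    rw [this]
  let e : (R' ⊗[R] S) ≃ₐ[R'] (A × B) :=
    (Algebra.TensorProduct.cancelBaseChange R R₁ R' R' S).symm.trans e₁
  refine ⟨R', inferInstance, inferInstance, inferInstance, p', inferInstance, hover, A,
    inferInstance, inferInstance, B, inferInstance, inferInstance, e, hsurj, hprime, hcomap, ?_⟩
  rw [← hq₁, ← hq, Ideal.comap_comap]
  congr 1

/-- Final step: if a clopen part `D(e) ∋ q` of `Spec S` becomes a closed subscheme of `Spec R`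
after inverting `r ∉ p`, then the étale-local structure theorem holds at `q` with `R' = R_r`. -/
theorem UnramSplitAt.of_idempotent_aux (R : Type u) [CommRing R] (S : Type u) [CommRing S]
    [Algebra R S] (q : Ideal S) [q.IsPrime] (e : S) (he : IsIdempotentElem e) (heq : e ∉ q)
    (r : R) (hr : r ∉ q.under R)
    (hrx : ∀ x : S, ∃ a : R,
      algebraMap R S r * x - algebraMap R S a ∈ Ideal.span ({1 - e} : Set S))
    (R' : Type u) [CommRing R'] [Algebra R R'] [IsLocalization.Away r R'] [Algebra.Etale R R'] :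
    UnramSplitAt R S q := by
  set p := q.under R with hp
  have hdisj : Disjoint (Submonoid.powers r : Set R) (p : Set R) := by
    rwa [Ideal.disjoint_powers_iff_notMem_of_isPrime]
  let p' : Ideal R' := p.map (algebraMap R R')
  haveI hp'prime : p'.IsPrime :=
    IsLocalization.isPrime_of_isPrime_disjoint (Submonoid.powers r) R' p inferInstance hdisj
  haveI hp'over : p'.LiesOver p :=
    IsLocalization.liesOver_map_of_isPrime_disjoint (Submonoid.powers r) R' hdisj
  let e' : R' ⊗[R] S := (1 : R') ⊗ₜ[R] e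
  have he' : IsIdempotentElem e' := by
    change (1 : R') ⊗ₜ[R] e * (1 : R') ⊗ₜ[R] e = _
    rw [Algebra.TensorProduct.tmul_mul_tmul, mul_one, he.eq]
  set L' : Ideal (R' ⊗[R] S) := Ideal.span ({1 - e'} : Set (R' ⊗[R] S)) with hL'
  obtain ⟨φ, hφ⟩ := exists_algEquiv_prod_of_isIdempotentElem (R := R') he'
  have hru : IsUnit (algebraMap R R' r) := IsLocalization.Away.algebraMap_isUnit r
  -- the image of `1 ⊗ s` in `A` comes from `R'`
  have hone : ∀ s : S, ∃ a' : R', Ideal.Quotient.mk L' ((1 : R') ⊗ₜ[R] s) = algebraMap R' ((R' ⊗[R] S) ⧸ L') a' ∧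
      (s ∈ q → a' ∈ p') := by
    intro s
    obtain ⟨a, ha⟩ := hrx s
    obtain ⟨c, hc⟩ := Ideal.mem_span_singleton'.mp ha
    obtain ⟨u, hu⟩ := hru.exists_left_inv
    refine ⟨u * algebraMap R R' a, ?_, ?_⟩
    · have h1 : (1 : R') ⊗ₜ[R] (algebraMap R S r * s - algebraMap R S a) ∈ L' := by
        rw [← hc, hL']
        have : (1 : R') ⊗ₜ[R] (c * (1 - e)) = ((1 : R') ⊗ₜ[R] c) * (1 - e') := by
          change _ = ((1 : R') ⊗ₜ[R] c) * (1 - (1 : R') ⊗ₜ[R] e)
          rw [mul_sub, mul_one, TensorProduct.tmul_sub, mul_sub, mul_one,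
            Algebra.TensorProduct.tmul_mul_tmul, mul_one]
        rw [this]
        exact Ideal.mul_mem_left _ _ (Ideal.subset_span rfl)
      have h2 : (1 : R') ⊗ₜ[R] (algebraMap R S r * s - algebraMap R S a) =
          algebraMap R' (R' ⊗[R] S) (algebraMap R R' r) * ((1 : R') ⊗ₜ[R] s) -
            algebraMap R' (R' ⊗[R] S) (algebraMap R R' a) := by
        rw [TensorProduct.tmul_sub, Algebra.TensorProduct.algebraMap_apply,
          Algebra.TensorProduct.algebraMap_apply, Algebra.algebraMap_self, RingHom.id_apply,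
          RingHom.id_apply, Algebra.TensorProduct.tmul_mul_tmul, mul_one, one_mul,
          Algebra.algebraMap_eq_smul_one (A := S) a, Algebra.algebraMap_eq_smul_one (A := R') a,
          Algebra.algebraMap_eq_smul_one (A := R') r, ← Algebra.smul_def,
          TensorProduct.smul_tmul, TensorProduct.smul_tmul]
      rw [h2] at h1
      have h3 := (Ideal.Quotient.eq (I := L')).mpr h1
      rw [map_mul] at h3
      have h4 : Ideal.Quotient.mk L' (algebraMap R' (R' ⊗[R] S) (algebraMap R R' r)) =
          algebraMap R' ((R' ⊗[R] S) ⧸ L') (algebraMap R R' r) := rfl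
      have h5 : Ideal.Quotient.mk L' (algebraMap R' (R' ⊗[R] S) (algebraMap R R' a)) =
          algebraMap R' ((R' ⊗[R] S) ⧸ L') (algebraMap R R' a) := rfl
      rw [h4, h5] at h3
      rw [map_mul, ← h3, ← mul_assoc, ← map_mul, hu, map_one, one_mul]
    · intro hs
      apply Ideal.mul_mem_left
      apply Ideal.mem_map_of_mem
      -- `a • 1 ∈ q`
      have h1e : 1 - e ∈ q := by
        have : e * (1 - e) ∈ q := by
          rw [mul_sub, mul_one, he.eq, sub_self]; exact zero_mem _
        exact (‹q.IsPrime›.mem_or_mem this).resolve_left heq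
      have h6 : algebraMap R S r * s - algebraMap R S a ∈ q := by
        rw [← hc]; exact q.mul_mem_left _ h1e
      have h7 : algebraMap R S a ∈ q := by
        have := q.sub_mem (q.mul_mem_left (algebraMap R S r) hs) h6
        rwa [sub_sub_cancel] at this
      exact h7
  have hsurj : Function.Surjective (algebraMap R' ((R' ⊗[R] S) ⧸ L')) := by
    intro y
    obtain ⟨y, rfl⟩ := Ideal.Quotient.mk_surjective y
    induction y using TensorProduct.induction_on with
    | zero => exact ⟨0, by simp⟩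
    | tmul a' s =>
      obtain ⟨b', hb', -⟩ := hone s
      refine ⟨a' * b', ?_⟩
      have : a' ⊗ₜ[R] s = algebraMap R' (R' ⊗[R] S) a' * ((1 : R') ⊗ₜ[R] s) := by
        rw [Algebra.TensorProduct.algebraMap_apply, Algebra.algebraMap_self, RingHom.id_apply,
          Algebra.TensorProduct.tmul_mul_tmul, mul_one, one_mul]
      rw [this, map_mul (Ideal.Quotient.mk L'), hb', map_mul]
      rfl
    | add x y hx hy =>
      obtain ⟨a, ha⟩ := hx
      obtain ⟨b, hb⟩ := hy
      exact ⟨a + b, by rw [map_add, ha, hb, map_add]⟩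
  -- the map to the local ring at `q`
  let Sq := Localization.AtPrime q
  have hrS : algebraMap R S r ∉ q := hr
  have hunit : ∀ y : Submonoid.powers r, IsUnit ((Algebra.ofId R Sq) (y : R)) := by
    rintro ⟨_, n, rfl⟩
    rw [map_pow]
    refine IsUnit.pow n ?_
    change IsUnit (algebraMap R Sq r)
    rw [IsScalarTower.algebraMap_apply R S Sq]
    exact IsLocalization.map_units Sq (⟨algebraMap R S r, hrS⟩ : q.primeCompl)
  let θ₀ : R' →ₐ[R] Sq := IsLocalization.liftAlgHom (M := Submonoid.powers r) hunit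
  let θ : R' ⊗[R] S →ₐ[R] Sq :=
    Algebra.TensorProduct.lift θ₀ (IsScalarTower.toAlgHom R S Sq) (fun _ _ => Commute.all _ _)
  have hθ₀ : ∀ b : R, θ₀ (algebraMap R R' b) = algebraMap R Sq b := fun b => θ₀.commutes b
  have hθe : θ e' = 1 := by
    have h1 : θ e' = algebraMap S Sq e := by simp [θ, e']
    have h2 : IsUnit (algebraMap S Sq e) :=
      IsLocalization.map_units Sq (⟨e, heq⟩ : q.primeCompl)
    have h3 : algebraMap S Sq e * algebraMap S Sq e = algebraMap S Sq e := by
      rw [← map_mul, he.eq]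
    rw [h1]
    exact h2.mul_left_cancel (by rw [h3, mul_one])
  have hθL : ∀ x ∈ L', θ.toRingHom x = 0 := by
    intro x hx
    rw [hL', Ideal.mem_span_singleton'] at hx
    obtain ⟨c, rfl⟩ := hx
    change θ (c * (1 - e')) = 0
    rw [map_mul, map_sub, map_one, hθe, sub_self, mul_zero]
  let θb : (R' ⊗[R] S) ⧸ L' →+* Sq := Ideal.Quotient.lift L' θ.toRingHom hθL
  have hθb_alg : ∀ b : R, θb (algebraMap R' ((R' ⊗[R] S) ⧸ L') (algebraMap R R' b)) =
      algebraMap R Sq b := by
    intro b
    change θ (algebraMap R' (R' ⊗[R] S) (algebraMap R R' b)) = _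
    rw [Algebra.TensorProduct.algebraMap_apply, Algebra.algebraMap_self, RingHom.id_apply]
    simp [θ, hθ₀]
  have hθb_one : ∀ s : S, θb (Ideal.Quotient.mk L' ((1 : R') ⊗ₜ[R] s)) = algebraMap S Sq s := by
    intro s
    change θ ((1 : R') ⊗ₜ[R] s) = _
    simp [θ]
  have hmemp : ∀ b : R, algebraMap R Sq b ∈ IsLocalRing.maximalIdeal Sq ↔ b ∈ p := by
    intro b
    rw [IsScalarTower.algebraMap_apply R S Sq, IsLocalization.AtPrime.to_map_mem_maximal_iff Sq q]
    rfl
  have hker : RingHom.ker (algebraMap R' ((R' ⊗[R] S) ⧸ L')) ≤ p' := by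
    intro x hx
    obtain ⟨b, t, rfl⟩ := IsLocalization.exists_mk'_eq (Submonoid.powers r) x
    rw [RingHom.mem_ker] at hx
    have h1 : algebraMap R' ((R' ⊗[R] S) ⧸ L') (algebraMap R R' b) = 0 := by
      rw [← IsLocalization.mk'_spec R' b t, map_mul, hx, zero_mul]
    have h2 := hθb_alg b
    rw [h1, map_zero] at h2
    have hb : b ∈ p := by
      rw [← hmemp, ← h2]
      exact zero_mem _
    rw [IsLocalization.mk'_mem_map_algebraMap_iff (Submonoid.powers r)]
    exact ⟨1, one_mem _, by rwa [one_mul]⟩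
  have hprime : (p'.map (algebraMap R' ((R' ⊗[R] S) ⧸ L'))).IsPrime :=
    Ideal.map_isPrime_of_surjective hsurj hker
  have hcomap : (p'.map (algebraMap R' ((R' ⊗[R] S) ⧸ L'))).comap
      (algebraMap R' ((R' ⊗[R] S) ⧸ L')) = p' := by
    rw [Ideal.comap_map_of_surjective' _ hsurj, sup_eq_left]
    exact hker
  have hmapmax : ∀ y ∈ p'.map (algebraMap R' ((R' ⊗[R] S) ⧸ L')),
      θb y ∈ IsLocalRing.maximalIdeal Sq := by
    intro y hy
    have hle : p'.map (algebraMap R' ((R' ⊗[R] S) ⧸ L')) ≤
        (IsLocalRing.maximalIdeal Sq).comap θb := by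
      rw [Ideal.map_le_iff_le_comap, Ideal.map_le_iff_le_comap]
      intro b hb
      rw [Ideal.mem_comap, Ideal.mem_comap, Ideal.mem_comap, hθb_alg, hmemp]
      exact hb
    exact hle hy
  refine ⟨R', inferInstance, inferInstance, inferInstance, p', inferInstance, hp'over,
    (R' ⊗[R] S) ⧸ L', inferInstance, inferInstance, (R' ⊗[R] S) ⧸ Ideal.span ({e'} : Set _),
    inferInstance, inferInstance, φ, hsurj, hprime, hcomap, ?_⟩
  ext s
  rw [Ideal.mem_comap]
  have hval : (((RingHom.fst ((R' ⊗[R] S) ⧸ L') _).comp φ.toRingHom).comp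
      (Algebra.TensorProduct.includeRight : S →ₐ[R] R' ⊗[R] S).toRingHom) s =
      Ideal.Quotient.mk L' ((1 : R') ⊗ₜ[R] s) := by
    change (φ ((1 : R') ⊗ₜ[R] s)).1 = _
    rw [hφ]
  rw [hval]
  constructor
  · intro hmem
    have := hmapmax _ hmem
    rw [hθb_one, IsLocalization.AtPrime.to_map_mem_maximal_iff Sq q] at this
    exact this
  · intro hs
    obtain ⟨a', ha', hq⟩ := hone s
    rw [ha']
    exact Ideal.mem_map_of_mem _ (hq hs)

theorem UnramSplitAt.of_idempotent (R : Type u) [CommRing R] (S : Type u) [CommRing S]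
    [Algebra R S] (q : Ideal S) [q.IsPrime] (e : S) (he : IsIdempotentElem e) (heq : e ∉ q)
    (r : R) (hr : r ∉ q.under R)
    (hrx : ∀ x : S, ∃ a : R,
      algebraMap R S r * x - algebraMap R S a ∈ Ideal.span ({1 - e} : Set S)) :
    UnramSplitAt R S q :=
  haveI : Algebra.Etale R (Localization.Away r) := Algebra.Etale.of_isLocalizationAway r
  UnramSplitAt.of_idempotent_aux R S q e he heq r hr hrx (Localization.Away r)

/-- **Étale-local structure of unramified maps at a prime** (Stacks 00UX). -/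
theorem unramSplitAt_of_isUnramifiedAt (R : Type u) [CommRing R] (S : Type u) [CommRing S]
    [Algebra R S] [Algebra.FiniteType R S] (q : Ideal S) [q.IsPrime]
    [Algebra.IsUnramifiedAt R q] : UnramSplitAt R S q := by
  -- Step I
  obtain ⟨R₁, _, _, _, q₁, _, hq₁, hres₁⟩ := exists_etale_residue_trivial R S q
  refine UnramSplitAt.of_baseChange R S q R₁ q₁ hq₁ ?_
  haveI : Algebra.IsUnramifiedAt R₁ q₁ := isUnramifiedAt_baseChange R₁ q q₁ hq₁
  -- Step II
  obtain ⟨R₂, _, _, _, q₂, _, hq₂, hres₂, e, he, heq, hfin, huniq⟩ :=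
    exists_etale_split_finite R₁ (R₁ ⊗[R] S) q₁ hres₁
  refine UnramSplitAt.of_baseChange R₁ (R₁ ⊗[R] S) q₁ R₂ q₂ hq₂ ?_
  haveI : Algebra.IsUnramifiedAt R₂ q₂ := isUnramifiedAt_baseChange R₂ q₁ q₂ hq₂
  -- Step III
  obtain ⟨r, hr, hrx⟩ := exists_notMem_forall_mul_sub_mem_span q₂ hres₂ e he heq hfin huniq
  exact UnramSplitAt.of_idempotent R₂ (R₂ ⊗[R₁] (R₁ ⊗[R] S)) q₂ e he heq r hr hrx

end Final

end Groth.Agent.Lib.Helper3
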