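import Groth.Agent.Lib.Helper3.UnramLocal

/-!
# Étale-local structure of unramified ring maps over a prime of the base (helper3)

Stacks 00UY: for `R → S` unramified and `p ⊂ R` prime, after an étale base change
`R' ⊗ S ≅ A₁ × ⋯ × Aₙ × B` with `R' → Aᵢ` surjective, `p'Aᵢ` prime over `p'`, and no prime of `B`
over `p'`.  The induction is on the degree of the fibre over `p`.
-/

set_option autoImplicit false
set_option linter.style.haveILetI false
set_option linter.unusedSectionVars false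

universe u

namespace Groth.Agent.Lib.Helper3

open TensorProduct

section FibDeg

/-- The degree of the fibre of `S` over the prime `p` of `R`. -/
noncomputable def fibDeg (R : Type*) [CommRing R] (S : Type*) [CommRing S] [Algebra R S]
    (p : Ideal R) [p.IsPrime] : ℕ :=
  Module.finrank p.ResidueField (p.Fiber S)

variable {R : Type*} [CommRing R] {S : Type*} [CommRing S] [Algebra R S]

theorem fibDeg_baseChange (R' : Type*) [CommRing R'] [Algebra R R'] (p : Ideal R) [p.IsPrime]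
    (p' : Ideal R') [p'.IsPrime] [p'.LiesOver p] :
    fibDeg R' (R' ⊗[R] S) p' = fibDeg R S p := by
  letI := Localization.AtPrime.algebraOfLiesOver p p'
  let e1 : p'.ResidueField ⊗[R'] (R' ⊗[R] S) ≃ₗ[p'.ResidueField] p'.ResidueField ⊗[R] S :=
    TensorProduct.AlgebraTensorModule.cancelBaseChange R R' p'.ResidueField p'.ResidueField S
  let e2 : p'.ResidueField ⊗[p.ResidueField] (p.ResidueField ⊗[R] S) ≃ₗ[p'.ResidueField]
      p'.ResidueField ⊗[R] S :=
    TensorProduct.AlgebraTensorModule.cancelBaseChange R p.ResidueField p'.ResidueField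
      p'.ResidueField S
  unfold fibDeg Ideal.Fiber
  rw [e1.finrank_eq, ← e2.finrank_eq, Module.finrank_baseChange]

theorem fibDeg_congr {T : Type*} [CommRing T] [Algebra R T] (e : S ≃ₐ[R] T) (p : Ideal R)
    [p.IsPrime] : fibDeg R S p = fibDeg R T p := by
  unfold fibDeg Ideal.Fiber
  exact (TensorProduct.AlgebraTensorModule.congr (LinearEquiv.refl p.ResidueField p.ResidueField)
    e.toLinearEquiv).finrank_eq

theorem fibDeg_prod (A B : Type*) [CommRing A] [CommRing B] [Algebra R A] [Algebra R B]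
    (p : Ideal R) [p.IsPrime] [Module.Finite p.ResidueField (p.Fiber A)]
    [Module.Finite p.ResidueField (p.Fiber B)] :
    fibDeg R (A × B) p = fibDeg R A p + fibDeg R B p := by
  unfold fibDeg Ideal.Fiber
  rw [(TensorProduct.prodRight R p.ResidueField p.ResidueField A B).finrank_eq,
    Module.finrank_prod]

theorem fibDeg_pos (A : Type*) [CommRing A] [Algebra R A] (p : Ideal R) [p.IsPrime]
    [Module.Finite p.ResidueField (p.Fiber A)] (Q : Ideal A) [Q.IsPrime] [Q.LiesOver p] :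
    0 < fibDeg R A p := by
  unfold fibDeg
  rw [Module.finrank_pos_iff]
  rw [← PrimeSpectrum.nonempty_iff_nontrivial]
  exact ⟨PrimeSpectrum.primesOverOrderIsoFiber R A p ⟨Q, inferInstance, inferInstance⟩⟩

end FibDeg

section Pieces

/-- Re-bracketing a product indexed by `Option ι`. -/
def optionProdAlgEquiv (R : Type*) [CommRing R] {ι : Type*} (X : Option ι → Type*)
    [∀ o, CommRing (X o)] [∀ o, Algebra R (X o)] (B : Type*) [CommRing B] [Algebra R B] :
    (X none × ((∀ i, X (some i)) × B)) ≃ₐ[R] ((∀ o, X o) × B) where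
  toFun x := (fun o => match o with
    | none => x.1
    | some i => x.2.1 i, x.2.2)
  invFun y := (y.1 none, (fun i => y.1 (some i), y.2))
  left_inv x := rfl
  right_inv y := by
    refine Prod.ext ?_ rfl
    funext o
    cases o <;> rfl
  map_mul' x y := by
    refine Prod.ext ?_ rfl
    funext o
    cases o <;> rfl
  map_add' x y := by
    refine Prod.ext ?_ rfl
    funext o
    cases o <;> rfl
  commutes' r := by
    refine Prod.ext ?_ rfl
    funext o
    cases o <;> rfl

end Pieces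

section Over

/-- Normal form of the conclusion of the étale-local structure theorem over `p` (S9449). -/
def UnramSplitOver (R : Type u) [CommRing R] (S : Type u) [CommRing S] [Algebra R S]
    (p : Ideal R) [p.IsPrime] : Prop :=
  ∃ (R' : Type u) (_ : CommRing R') (_ : Algebra R R') (_ : Algebra.Etale R R') (p' : Ideal R')
    (_ : p'.IsPrime) (_ : p'.LiesOver p) (ι : Type) (_ : Fintype ι) (K : ι → Ideal R')
    (B : Type u) (_ : CommRing B) (_ : Algebra R' B),
    Nonempty ((R' ⊗[R] S) ≃ₐ[R'] ((∀ i, R' ⧸ K i) × B)) ∧ (∀ i, K i ≤ p') ∧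
      ∀ (q : Ideal B) [q.IsPrime], q.comap (algebraMap R' B) ≠ p'

theorem UnramSplitOver.of_forall_ne (R : Type u) [CommRing R] (S : Type u) [CommRing S]
    [Algebra R S] (p : Ideal R) [p.IsPrime]
    (h : ∀ (q : Ideal S) [q.IsPrime], q.comap (algebraMap R S) ≠ p) : UnramSplitOver R S p := by
  refine ⟨R, inferInstance, inferInstance, inferInstance, p, inferInstance,
    ⟨(Ideal.comap_id p).symm⟩, Empty, inferInstance, fun i => i.elim, S, inferInstance,
    inferInstance, ⟨?_⟩, fun i => i.elim, h⟩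
  let f : S →ₐ[R] ((∀ i : Empty, R ⧸ (i.elim : Ideal R)) × S) :=
    AlgHom.prod (AlgHom.pi (fun i => i.elim)) (AlgHom.id R S)
  have hf : Function.Bijective f := by
    constructor
    · intro x y hxy
      exact congrArg Prod.snd hxy
    · rintro ⟨g, s⟩
      exact ⟨s, Prod.ext (Subsingleton.elim _ _) rfl⟩
  exact (Algebra.TensorProduct.lid R S).trans (AlgEquiv.ofBijective f hf)

theorem UnramSplitOver.of_split (R : Type u) [CommRing R] (S : Type u) [CommRing S]
    [Algebra R S] (p : Ideal R) [p.IsPrime] (R₁ : Type u) [CommRing R₁] [Algebra R R₁]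
    [Algebra.Etale R R₁] (p₁ : Ideal R₁) [p₁.IsPrime] [p₁.LiesOver p] (K₀ : Ideal R₁)
    (hK₀ : K₀ ≤ p₁) (B₁ : Type u) [CommRing B₁] [Algebra R₁ B₁]
    (e₁ : (R₁ ⊗[R] S) ≃ₐ[R₁] ((R₁ ⧸ K₀) × B₁)) (h : UnramSplitOver R₁ B₁ p₁) :
    UnramSplitOver R S p := by
  obtain ⟨R₂, _, _, _, p₂, _, hp₂, ι, _, K, B, _, _, ⟨e₂⟩, hK, hB⟩ := h
  letI : Algebra R R₂ := ((algebraMap R₁ R₂).comp (algebraMap R R₁)).toAlgebra
  haveI : IsScalarTower R R₁ R₂ := IsScalarTower.of_algebraMap_eq' rfl
  haveI : Algebra.Etale R R₂ := Algebra.Etale.comp R R₁ R₂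
  haveI : p₂.LiesOver p := Ideal.LiesOver.trans p₂ p₁ p
  let K' : Option ι → Ideal R₂ := fun o => o.elim (K₀.map (algebraMap R₁ R₂)) K
  let c1 : R₂ ⊗[R] S ≃ₐ[R₂] R₂ ⊗[R₁] (R₁ ⊗[R] S) :=
    (Algebra.TensorProduct.cancelBaseChange R R₁ R₂ R₂ S).symm
  let c2 : R₂ ⊗[R₁] (R₁ ⊗[R] S) ≃ₐ[R₂] R₂ ⊗[R₁] ((R₁ ⧸ K₀) × B₁) :=
    Algebra.TensorProduct.congr AlgEquiv.refl e₁
  let c3 : R₂ ⊗[R₁] ((R₁ ⧸ K₀) × B₁) ≃ₐ[R₂] (R₂ ⊗[R₁] (R₁ ⧸ K₀)) × (R₂ ⊗[R₁] B₁) :=
    Algebra.TensorProduct.prodRight R₁ R₂ R₂ (R₁ ⧸ K₀) B₁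
  let c4 : ((R₂ ⊗[R₁] (R₁ ⧸ K₀)) × (R₂ ⊗[R₁] B₁)) ≃ₐ[R₂]
      ((R₂ ⧸ K' none) × ((∀ i, R₂ ⧸ K' (some i)) × B)) :=
    AlgEquiv.prodCongr (Algebra.TensorProduct.quotIdealMapEquivTensorQuot R₂ K₀).symm e₂
  let c5 := optionProdAlgEquiv R₂ (fun o => R₂ ⧸ K' o) B
  refine ⟨R₂, inferInstance, inferInstance, inferInstance, p₂, inferInstance, inferInstance,
    Option ι, inferInstance, K', B, inferInstance, inferInstance,
    ⟨(((c1.trans c2).trans c3).trans c4).trans c5⟩, ?_, hB⟩
  rintro (_ | i)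
  · change K₀.map (algebraMap R₁ R₂) ≤ p₂
    rw [Ideal.map_le_iff_le_comap]
    have : p₂.comap (algebraMap R₁ R₂) = p₁ := (hp₂.over).symm
    rw [this]
    exact hK₀
  · exact hK i

theorem unramSplitOver_of_unramified : ∀ (d : ℕ) (R : Type u) [CommRing R] (S : Type u)
    [CommRing S] [Algebra R S] [Algebra.Unramified R S] (p : Ideal R) [p.IsPrime],
    fibDeg R S p = d → UnramSplitOver R S p := by
  intro d
  induction d using Nat.strong_induction_on with
  | _ d IH =>
  intro R _ S _ _ _ p _ hd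
  by_cases hne : (p.primesOver S).Nonempty
  · obtain ⟨q, hq, hqover⟩ := hne
    haveI := hq
    haveI := hqover
    have hqp : q.under R = p := hqover.over.symm
    haveI : Algebra.IsUnramifiedAt R q :=
      (Algebra.unramified_iff_forall.mp inferInstance) ⟨q, hq⟩
    obtain ⟨R₁, _, _, _, p₁, _, hp₁, A, _, _, B₁, _, _, e₁, hsurj, hprime, hcomap, -⟩ :=
      unramSplitAt_of_isUnramifiedAt R S q
    haveI : p₁.LiesOver p := hqp ▸ hp₁
    have hsurj' : Function.Surjective (Algebra.ofId R₁ A) := hsurj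
    set K₀ : Ideal R₁ := RingHom.ker (Algebra.ofId R₁ A) with hK₀def
    have hK₀ : K₀ ≤ p₁ := by
      intro x hx
      rw [← hcomap, Ideal.mem_comap]
      have : algebraMap R₁ A x = 0 := hx
      rw [this]
      exact zero_mem _
    let e₁' : (R₁ ⊗[R] S) ≃ₐ[R₁] ((R₁ ⧸ K₀) × B₁) :=
      e₁.trans (AlgEquiv.prodCongr (Ideal.quotientKerAlgEquivOfSurjective hsurj').symm
        AlgEquiv.refl)
    -- `B₁` is unramified over `R₁`
    let π : (R₁ ⊗[R] S) →ₐ[R₁] B₁ := (AlgHom.snd R₁ A B₁).comp e₁.toAlgHom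
    have hπ : Function.Surjective π := by
      intro b
      obtain ⟨x, hx⟩ := e₁.surjective (0, b)
      exact ⟨x, by change (e₁ x).2 = b; rw [hx]⟩
    haveI : Algebra.FormallyUnramified R₁ B₁ := Algebra.FormallyUnramified.of_surjective π hπ
    haveI : Algebra.FiniteType R₁ B₁ := Algebra.FiniteType.of_surjective π hπ
    haveI : Algebra.Unramified R₁ B₁ := {}
    -- the degree drops
    have hlt : fibDeg R₁ B₁ p₁ < d := by
      have h1 : fibDeg R₁ (R₁ ⊗[R] S) p₁ = d := by rw [fibDeg_baseChange R₁ p p₁, hd]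
      rw [fibDeg_congr e₁' p₁, fibDeg_prod] at h1
      have hker : RingHom.ker (Ideal.Quotient.mk K₀) ≤ p₁ := by rwa [Ideal.mk_ker]
      haveI : (p₁.map (Ideal.Quotient.mk K₀)).IsPrime :=
        Ideal.map_isPrime_of_surjective Ideal.Quotient.mk_surjective hker
      haveI : (p₁.map (Ideal.Quotient.mk K₀)).LiesOver p₁ := by
        constructor
        change p₁ = (p₁.map (Ideal.Quotient.mk K₀)).comap (Ideal.Quotient.mk K₀)
        rw [Ideal.comap_map_of_surjective' _ Ideal.Quotient.mk_surjective, eq_comm, sup_eq_left]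
        exact hker
      have h2 := fibDeg_pos (R₁ ⧸ K₀) p₁ (p₁.map (Ideal.Quotient.mk K₀))
      omega
    exact UnramSplitOver.of_split R S p R₁ p₁ K₀ hK₀ B₁ e₁' (IH _ hlt R₁ B₁ p₁ rfl)
  · refine UnramSplitOver.of_forall_ne R S p ?_
    intro q hq hcomap
    exact hne ⟨q, hq, ⟨hcomap.symm⟩⟩

/-- **Étale-local structure of unramified maps over a prime of the base** (Stacks 00UY). -/
theorem exists_etale_prod_decomposition_of_unramified (R : Type u) [CommRing R] (S : Type u)
    [CommRing S] [Algebra R S] [Algebra.Unramified R S] (p : Ideal R) [p.IsPrime] :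
    ∃ (R' : Type u) (_ : CommRing R') (_ : Algebra R R') (_ : Algebra.Etale R R') (p' : Ideal R')
      (_ : p'.IsPrime) (_ : p'.LiesOver p) (n : ℕ) (A : Fin n → Type u) (_ : ∀ i, CommRing (A i))
      (_ : ∀ i, Algebra R' (A i)) (B : Type u) (_ : CommRing B) (_ : Algebra R' B),
      Nonempty ((R' ⊗[R] S) ≃ₐ[R'] ((∀ i, A i) × B)) ∧
        (∀ i, Function.Surjective (algebraMap R' (A i)) ∧
          (p'.map (algebraMap R' (A i))).IsPrime ∧
          (p'.map (algebraMap R' (A i))).comap (algebraMap R' (A i)) = p') ∧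
        ∀ (q : Ideal B) [q.IsPrime], q.comap (algebraMap R' B) ≠ p' := by
  obtain ⟨R', _, _, _, p', _, _, ι, _, K, B, _, _, ⟨e⟩, hK, hB⟩ :=
    unramSplitOver_of_unramified _ R S p rfl
  let σ := Fintype.equivFin ι
  refine ⟨R', inferInstance, inferInstance, inferInstance, p', inferInstance, inferInstance,
    Fintype.card ι, fun j => R' ⧸ K (σ.symm j), inferInstance, inferInstance, B, inferInstance,
    inferInstance,
    ⟨e.trans (AlgEquiv.prodCongr (AlgEquiv.piCongrLeft' R' (fun i => R' ⧸ K i) σ) AlgEquiv.refl)⟩,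
    ?_, hB⟩
  intro j
  have hker : RingHom.ker (Ideal.Quotient.mk (K (σ.symm j))) ≤ p' := by
    rw [Ideal.mk_ker]; exact hK _
  refine ⟨Ideal.Quotient.mk_surjective,
    Ideal.map_isPrime_of_surjective (f := Ideal.Quotient.mk (K (σ.symm j)))
      Ideal.Quotient.mk_surjective hker, ?_⟩
  change (p'.map (Ideal.Quotient.mk (K (σ.symm j)))).comap (Ideal.Quotient.mk (K (σ.symm j))) = p'
  rw [Ideal.comap_map_of_surjective' _ Ideal.Quotient.mk_surjective, sup_eq_left]
  exact hker

end Over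

end Groth.Agent.Lib.Helper3
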