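import Groth.Agent.Lib.Helper3.QFSplit
import Groth.Agent.Lib.Helper3.HenselRoot

/-!
# Unramified algebras over strictly Henselian local rings split (helper3)
-/

set_option autoImplicit false

namespace Groth.Agent.Lib.Helper3

universe u

open IsLocalRing

/-- A finite unramified local algebra over a local ring with separably closed residue field is a
quotient of the base. -/
theorem algebraMap_surjective_of_finite_unramified_of_isSepClosed {R A : Type*} [CommRing R]
    [IsLocalRing R] [IsSepClosed (ResidueField R)] [CommRing A] [IsLocalRing A] [Algebra R A]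
    [Module.Finite R A] [Algebra.FormallyUnramified R A] :
    Function.Surjective (algebraMap R A) := by
  have hint : Algebra.IsIntegral R A := Algebra.IsIntegral.of_finite R A
  have hle : (maximalIdeal R).map (algebraMap R A) ≤ maximalIdeal A := by
    have h1 := map_maximalIdeal_le_jacobson_bot (R := R) (B := A)
    rwa [IsLocalRing.jacobson_eq_maximalIdeal ⊥ bot_ne_top] at h1
  have hloc : IsLocalHom (algebraMap R A) := ((local_hom_TFAE (algebraMap R A)).out 0 2).mpr hle
  have hmap : (maximalIdeal R).map (algebraMap R A) = maximalIdeal A :=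
    Algebra.FormallyUnramified.map_maximalIdeal
  have hbij := IsSepClosed.algebraMap_bijective (ResidueField R) (ResidueField A)
  have hle' : (⊤ : Submodule R A) ≤ LinearMap.range (Algebra.linearMap R A) := by
    apply Submodule.le_of_le_smul_of_le_jacobson_bot Module.Finite.fg_top
      (IsLocalRing.maximalIdeal_le_jacobson ⊥)
    intro a _
    obtain ⟨y, hy⟩ := hbij.2 (residue A a)
    obtain ⟨r, rfl⟩ := residue_surjective y
    rw [ResidueField.algebraMap_residue] at hy
    have hmem : a - algebraMap R A r ∈ maximalIdeal A := by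
      rw [← residue_eq_zero_iff, map_sub, hy, sub_self]
    have : a = algebraMap R A r + (a - algebraMap R A r) := by ring
    rw [this]
    refine Submodule.add_mem_sup ⟨r, rfl⟩ ?_
    rw [Ideal.smul_top_eq_map, hmap]
    exact hmem
  intro a
  obtain ⟨r, hr⟩ := hle' (Submodule.mem_top (x := a))
  exact ⟨r, hr⟩

/-- Splitting a ring along an idempotent, as algebras. -/
theorem nonempty_algEquiv_prod_of_isIdempotentElem {R S : Type*} [CommRing R] [CommRing S]
    [Algebra R S] {e : S} (he : IsIdempotentElem e) :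
    Nonempty (S ≃ₐ[R] (S ⧸ Ideal.span ({1 - e} : Set S)) × (S ⧸ Ideal.span ({e} : Set S))) := by
  let f : S →ₐ[R] (S ⧸ Ideal.span ({1 - e} : Set S)) × (S ⧸ Ideal.span ({e} : Set S)) :=
    AlgHom.prod (Ideal.Quotient.mkₐ R _) (Ideal.Quotient.mkₐ R _)
  have he' : e * (1 - e) = 0 := by rw [mul_sub, mul_one, he.eq, sub_self]
  refine ⟨AlgEquiv.ofBijective f ⟨?_, ?_⟩⟩
  · rw [injective_iff_map_eq_zero]
    intro x hx
    have h1 : Ideal.Quotient.mk (Ideal.span ({1 - e} : Set S)) x = 0 := congrArg Prod.fst hx
    have h2 : Ideal.Quotient.mk (Ideal.span ({e} : Set S)) x = 0 := congrArg Prod.snd hx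
    rw [Ideal.Quotient.eq_zero_iff_mem, Ideal.mem_span_singleton'] at h1 h2
    obtain ⟨a, ha⟩ := h1
    obtain ⟨b, hb⟩ := h2
    have : x = x * e + x * (1 - e) := by ring
    rw [this]
    nth_rw 1 [← ha]
    nth_rw 1 [← hb]
    linear_combination (a + b) * he'
  · rintro ⟨x, y⟩
    obtain ⟨x, rfl⟩ := Ideal.Quotient.mk_surjective x
    obtain ⟨y, rfl⟩ := Ideal.Quotient.mk_surjective y
    refine ⟨x * e + y * (1 - e), ?_⟩
    apply Prod.ext
    · change Ideal.Quotient.mk _ (x * e + y * (1 - e)) = Ideal.Quotient.mk _ x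
      rw [Ideal.Quotient.eq, Ideal.mem_span_singleton']
      exact ⟨y - x, by ring⟩
    · change Ideal.Quotient.mk _ (x * e + y * (1 - e)) = Ideal.Quotient.mk _ y
      rw [Ideal.Quotient.eq, Ideal.mem_span_singleton']
      exact ⟨x - y, by ring⟩

theorem exists_pi_quotient_prod_of_unramified (R : Type u) [CommRing R] [HenselianLocalRing R]
    [IsSepClosed (ResidueField R)] (S : Type u) [CommRing S] [Algebra R S]
    [Algebra.Unramified R S] :
    ∃ (ι : Type u) (_ : Fintype ι) (A : ι → Type u) (_ : ∀ i, CommRing (A i))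
      (_ : ∀ i, Algebra R (A i)) (B : Type u) (_ : CommRing B) (_ : Algebra R B),
      (∀ i, Function.Surjective (algebraMap R (A i))) ∧
      Ideal.map (algebraMap R B) (maximalIdeal R) = ⊤ ∧
      Nonempty (S ≃ₐ[R] ((∀ i, A i) × B)) := by
  classical
  obtain ⟨e, he, hfin, htop⟩ := exists_idempotent_split_of_quasiFinite R S
  obtain ⟨E⟩ := nonempty_algEquiv_prod_of_isIdempotentElem (R := R) he
  have hunr : Algebra.FormallyUnramified R (S ⧸ Ideal.span ({1 - e} : Set S)) :=
    Algebra.FormallyUnramified.of_surjective (Ideal.Quotient.mkₐ R _) Ideal.Quotient.mk_surjective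
  obtain ⟨ι, hι, A, hA, hloc, ⟨φ⟩⟩ :=
    exists_ringEquiv_pi_isLocalRing_of_finite R (S ⧸ Ideal.span ({1 - e} : Set S))
  let algA : ∀ i, Algebra R (A i) := fun i =>
    ((Pi.evalRingHom A i).comp (φ.toRingHom.comp (algebraMap R _))).toAlgebra
  let φA : (S ⧸ Ideal.span ({1 - e} : Set S)) ≃ₐ[R] (∀ i, A i) :=
    { φ with commutes' := fun r => rfl }
  refine ⟨ι, hι, A, hA, algA, S ⧸ Ideal.span ({e} : Set S), inferInstance, inferInstance, ?_,
    htop, ⟨E.trans (AlgEquiv.prodCongr φA AlgEquiv.refl)⟩⟩
  intro i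
  let π : (S ⧸ Ideal.span ({1 - e} : Set S)) →ₐ[R] A i := (Pi.evalAlgHom R A i).comp φA.toAlgHom
  have hπ : Function.Surjective π := by
    intro a
    refine ⟨φA.symm (Pi.single i a), ?_⟩
    simp [π]
  have h1 : Module.Finite R (A i) := Module.Finite.of_surjective π.toLinearMap hπ
  have h2 : Algebra.FormallyUnramified R (A i) := Algebra.FormallyUnramified.of_surjective π hπ
  exact algebraMap_surjective_of_finite_unramified_of_isSepClosed

end Groth.Agent.Lib.Helper3
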