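import Groth.Agent.Lib.Helper3.EtGammaExact
import Groth.Agent.Lib.Helper3.IntegralHensSplit
import Mathlib.RingTheory.KrullDimension.Zero
import Mathlib.Order.Disjointed

/-!
# Schemes all of whose points are closed: clopen bases, henselian stalks, splitting of coverings
-/

set_option linter.style.haveILetI false
set_option linter.unusedSectionVars false
set_option autoImplicit false

universe u

open CategoryTheory CategoryTheory.Limits AlgebraicGeometry Opposite TopologicalSpace

namespace Groth.Agent.Lib.Helper3.ZeroDimEtale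

open Groth.Agent.Lib.Helper3

/-- Disjoint refinement in a compact space with a basis of clopen sets. -/
theorem exists_disjoint_refinement {α : Type*} [TopologicalSpace α] [CompactSpace α]
    (hbasis : ∀ (x : α) (U : Opens α), x ∈ U →
      ∃ C : Opens α, x ∈ C ∧ C ≤ U ∧ IsClosed (C : Set α))
    (P : Opens α → Prop) (hP : ∀ U V : Opens α, V ≤ U → P U → P V)
    (hloc : ∀ x : α, ∃ U : Opens α, x ∈ U ∧ P U) :
    ∃ (n : ℕ) (D : Fin n → Opens α), (∀ i j, i ≠ j → Disjoint (D i) (D j)) ∧
      (⨆ i, D i = ⊤) ∧ ∀ i, P (D i) := by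
  classical
  choose U hxU hPU using hloc
  choose C hxC hCU hCcl using fun x => hbasis x (U x) (hxU x)
  let c : α → Clopens α := fun x => ⟨C x, hCcl x, (C x).2⟩
  obtain ⟨t, ht⟩ := isCompact_univ.elim_finite_subcover (fun x => (C x : Set α))
    (fun x => (C x).2) (fun x _ => Set.mem_iUnion.mpr ⟨x, hxC x⟩)
  obtain ⟨g, hgle, hgsup, hgdisj⟩ := Fintype.exists_disjointed_le (fun x : t => c x.1)
  let e := Fintype.equivFin t
  refine ⟨Fintype.card t, fun k => (g (e.symm k)).toOpens, ?_, ?_, ?_⟩
  · intro i j hij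
    have h1 : Disjoint (g (e.symm i)) (g (e.symm j)) := hgdisj (e.symm.injective.ne hij)
    rw [disjoint_iff] at h1 ⊢
    apply Opens.ext
    have h2 := congrArg (fun s : Clopens α => (s : Set α)) h1
    exact h2
  · rw [eq_top_iff]
    intro x _
    have hx : x ∈ ⋃ i ∈ t, (C i : Set α) := ht (Set.mem_univ x)
    have h3 : x ∈ ((Finset.univ.sup fun x : t => c x.1 : Clopens α) : Set α) := by
      simp only [Set.mem_iUnion] at hx
      obtain ⟨y, hy, hxy⟩ := hx
      have : c y ≤ Finset.univ.sup fun x : t => c x.1 :=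
        Finset.le_sup (f := fun x : t => c x.1) (Finset.mem_univ ⟨y, hy⟩)
      exact this hxy
    rw [← hgsup] at h3
    have h4 : ∀ (s : Finset t), x ∈ ((s.sup g : Clopens α) : Set α) → ∃ y ∈ s, x ∈ (g y : Set α) := by
      intro s
      induction s using Finset.induction_on with
      | empty => intro h; exact absurd h (by simp)
      | insert a s _ ih =>
        intro h
        rw [Finset.sup_insert] at h
        rcases h with h | h
        · exact ⟨a, Finset.mem_insert_self _ _, h⟩
        · obtain ⟨y, hy, hxy⟩ := ih h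
          exact ⟨y, Finset.mem_insert_of_mem hy, hxy⟩
    obtain ⟨y, -, hxy⟩ := h4 _ h3
    refine Opens.mem_iSup.mpr ⟨e y, ?_⟩
    change x ∈ (g (e.symm (e y)) : Set α)
    rw [Equiv.symm_apply_apply]
    exact hxy
  · intro k
    refine hP (U (e.symm k).1) _ ?_ (hPU _)
    intro x hx
    exact hCU _ (hgle (e.symm k) hx)

variable {S : Scheme.{u}}

/-- If all points of `S` are closed, the maximal ideal of every local ring of `S` is nil. -/
theorem isNilpotent_of_mem_maximalIdeal_stalk (h1 : ∀ s : S, IsClosed ({s} : Set S)) (s : S)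
    (a : S.presheaf.stalk s) (ha : a ∈ IsLocalRing.maximalIdeal (S.presheaf.stalk s)) :
    IsNilpotent a := by
  have huniq : ∃! I : Ideal (S.presheaf.stalk s), I.IsPrime := by
    refine ⟨IsLocalRing.maximalIdeal _, (IsLocalRing.maximalIdeal.isMaximal _).isPrime, ?_⟩
    intro I hI
    let p : Spec (S.presheaf.stalk s) := ⟨I, hI⟩
    have hp : S.fromSpecStalk s p ⤳ s := by
      have : S.fromSpecStalk s p ∈ Set.range (S.fromSpecStalk s) := ⟨p, rfl⟩
      rw [Scheme.range_fromSpecStalk] at this
      exact this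
    have hp' : S.fromSpecStalk s p = s := by
      have h2 : s ∈ closure ({S.fromSpecStalk s p} : Set S) := specializes_iff_mem_closure.mp hp
      rw [(h1 _).closure_eq] at h2
      exact (Set.mem_singleton_iff.mp h2).symm
    have hinj : Function.Injective (S.fromSpecStalk s) :=
      (S.fromSpecStalk s).isEmbedding.injective
    have hpc : p = IsLocalRing.closedPoint (S.presheaf.stalk s) :=
      hinj (hp'.trans Scheme.fromSpecStalk_closedPoint.symm)
    exact congrArg PrimeSpectrum.asIdeal hpc
  have h3 := ((Ring.krullDimLE_zero_and_isLocalRing_tfae (S.presheaf.stalk s)).out 1 2 rfl rfl).mp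
    huniq a
  exact h3.mpr ((IsLocalRing.mem_maximalIdeal a).mp ha)

/-- If all points of `S` are closed, the local rings of `S` are henselian. -/
theorem henselianLocalRing_stalk (h1 : ∀ s : S, IsClosed ({s} : Set S)) (s : S) :
    HenselianLocalRing (S.presheaf.stalk s) := by
  haveI : HenselianRing (S.presheaf.stalk s) (IsLocalRing.maximalIdeal (S.presheaf.stalk s)) :=
    henselianRing_of_nil _ (isNilpotent_of_mem_maximalIdeal_stalk h1 s)
  exact IntegralHensSplit.henselianLocalRing_of_henselianRing_maximalIdeal' _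

/-- If all points of `S` are closed, basic opens are closed. -/
theorem isClosed_basicOpen (h1 : ∀ s : S, IsClosed ({s} : Set S)) (f : Γ(S, ⊤)) :
    IsClosed (S.basicOpen f : Set S) := by
  rw [← isOpen_compl_iff, isOpen_iff_forall_mem_open]
  intro x hx
  have hx' : ¬ IsUnit (S.presheaf.germ ⊤ x trivial f) := by
    rwa [← Scheme.mem_basicOpen_top]
  have hmem : S.presheaf.germ ⊤ x trivial f ∈ IsLocalRing.maximalIdeal (S.presheaf.stalk x) :=
    (IsLocalRing.mem_maximalIdeal _).mpr hx'
  obtain ⟨n, hn⟩ := isNilpotent_of_mem_maximalIdeal_stalk h1 x _ hmem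
  have hn' : S.presheaf.germ ⊤ x trivial (f ^ (n + 1)) = S.presheaf.germ ⊤ x trivial 0 := by
    rw [map_pow, pow_succ, hn, zero_mul, map_zero]
  obtain ⟨W, hxW, iU, iV, hW⟩ := S.presheaf.germ_eq (U := ⊤) (V := ⊤) x trivial trivial _ _ hn'
  refine ⟨W, ?_, W.2, hxW⟩
  intro y hyW hyf
  have h2 : S.basicOpen (S.presheaf.map iU.op (f ^ (n + 1))) = W ⊓ S.basicOpen (f ^ (n + 1)) :=
    Scheme.basicOpen_res _ _ _
  rw [hW, map_zero, Scheme.basicOpen_zero, S.basicOpen_pow f (Nat.succ_pos n)] at h2
  have : y ∈ W ⊓ S.basicOpen f := ⟨hyW, hyf⟩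
  rw [← h2] at this
  exact this

/-- An affine scheme all of whose points are closed with separably closed residue fields
splits all étale coverings. -/
theorem splitsCoverings [IsAffine S] (h1 : ∀ s : S, IsClosed ({s} : Set S))
    (h2 : ∀ s : S, IsSepClosed (S.residueField s)) : EtGammaExact.SplitsCoverings S := by
  intro R hR
  refine exists_disjoint_refinement ?_ (fun U => R (EtGammaExact.toTop S U)) ?_ ?_
  · intro x U hxU
    obtain ⟨_, ⟨_, ⟨f, rfl⟩, rfl⟩, hxf, hfU⟩ :=
      (isBasis_basicOpen S).exists_subset_of_mem_open hxU U.2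
    exact ⟨S.basicOpen f, hxf, hfU, isClosed_basicOpen h1 f⟩
  · intro U V hVU hU
    have h3 : EtGammaExact.toTop S V = (EtZar.zarToEt S).map (homOfLE hVU) ≫
        EtGammaExact.toTop S U := EtGammaExact.hom_zarToEt_ext S _ _
    rw [h3]
    exact R.downward_closed hU _
  · intro s
    haveI := henselianLocalRing_stalk h1 s
    haveI := h2 s
    exact EtGammaExact.exists_open_mem_sieve S s R hR

end Groth.Agent.Lib.Helper3.ZeroDimEtale
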